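import Mathlib.GroupTheory.Nilpotent
import Mathlib.GroupTheory.PGroup
import Mathlib.GroupTheory.Sylow
import Mathlib.GroupTheory.QuotientGroup.Basic
import Mathlib.GroupTheory.Subgroup.Centralizer
import Cfsg.Prelude.Def_Solvable

/-!
# Basic facts on the `p`-core, the `p'`-core and the Fitting subgroup

Everything is stated for `Cfsg.pCore`, `Cfsg.pPrimeCore`, `Cfsg.fittingSubgroup`.
-/

set_option autoImplicit false
set_option linter.style.haveILetI false

namespace Cfsg.Agent.Lib.Cores

open Subgroup Cfsg

variable {G : Type*} [Group G]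

/-! ### Joins of families of normal / characteristic subgroups -/

theorem sSup_normal (S : Set (Subgroup G)) (h : ∀ N ∈ S, N.Normal) : (sSup S).Normal := by
  rw [sSup_eq_iSup']
  haveI : ∀ i : S, (i : Subgroup G).Normal := fun i => h i i.2
  exact Subgroup.iSup_normal _

/-- A set of subgroups stable under all automorphisms has a characteristic join. -/
theorem sSup_characteristic (S : Set (Subgroup G))
    (h : ∀ (e : G ≃* G), ∀ N ∈ S, N.map e.toMonoidHom ∈ S) : (sSup S).Characteristic := by
  rw [characteristic_iff_map_le]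
  intro e
  rw [sSup_eq_iSup', Subgroup.map_iSup]
  refine iSup_le fun N => ?_
  rw [← sSup_eq_iSup']
  exact le_sSup (h e N N.2)

/-- The image of a normal subgroup under a surjection is normal. -/
theorem map_normal_of_surjective {H : Type*} [Group H] {f : G →* H} (hf : Function.Surjective f)
    {N : Subgroup G} (hN : N.Normal) : (N.map f).Normal := hN.map f hf

/-! ### Commutators with joins -/

/-- `⁅H, L⁆ ≤ X`, for normal `X`, says that modulo `X` the subgroup `H` centralizes `L`. -/
theorem commutator_le_iff_le_comap_centralizer {X : Subgroup G} [X.Normal] (H L : Subgroup G) :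
    ⁅H, L⁆ ≤ X ↔ H ≤ (centralizer ((L.map (QuotientGroup.mk' X) : Subgroup (G ⧸ X)) :
      Set (G ⧸ X))).comap (QuotientGroup.mk' X) := by
  rw [commutator_le]
  refine forall₂_congr fun g _ => ?_
  rw [mem_comap, mem_centralizer_iff]
  constructor
  · rintro h _ ⟨l, hl, rfl⟩
    have h1 := h l hl
    rw [← QuotientGroup.eq_one_iff, ← QuotientGroup.mk'_apply, map_commutatorElement,
      commutatorElement_eq_one_iff_mul_comm] at h1
    exact h1.symm
  · intro h l hl
    rw [← QuotientGroup.eq_one_iff, ← QuotientGroup.mk'_apply, map_commutatorElement,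
      commutatorElement_eq_one_iff_mul_comm]
    exact (h _ ⟨l, hl, rfl⟩).symm

theorem iSup_commutator_le_iff {ι : Sort*} {X : Subgroup G} [X.Normal] (H : ι → Subgroup G)
    (L : Subgroup G) : ⁅⨆ i, H i, L⁆ ≤ X ↔ ∀ i, ⁅H i, L⁆ ≤ X := by
  simp only [commutator_le_iff_le_comap_centralizer, iSup_le_iff]

theorem commutator_iSup_le_iff {ι : Sort*} {X : Subgroup G} [X.Normal] (H : ι → Subgroup G)
    (L : Subgroup G) : ⁅L, ⨆ i, H i⁆ ≤ X ↔ ∀ i, ⁅L, H i⁆ ≤ X := by
  rw [commutator_comm, iSup_commutator_le_iff]
  exact forall_congr' fun i => by rw [commutator_comm]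

theorem sup_commutator_le_iff {X : Subgroup G} [X.Normal] (H K L : Subgroup G) :
    ⁅H ⊔ K, L⁆ ≤ X ↔ ⁅H, L⁆ ≤ X ∧ ⁅K, L⁆ ≤ X := by
  simp only [commutator_le_iff_le_comap_centralizer, sup_le_iff]

theorem commutator_sup_le_iff {X : Subgroup G} [X.Normal] (H K L : Subgroup G) :
    ⁅L, H ⊔ K⁆ ≤ X ↔ ⁅L, H⁆ ≤ X ∧ ⁅L, K⁆ ≤ X := by
  rw [commutator_comm, sup_commutator_le_iff, commutator_comm H, commutator_comm K]

/-! ### Fitting's theorem for two normal nilpotent subgroups of any group -/

/-- The lower central series of `M`, shifted by one and started with the whole group. -/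
def lcs (M : Subgroup G) : ℕ → Subgroup G
  | 0 => ⊤
  | n + 1 => M.lowerCentralSeries n

theorem lcs_zero (M : Subgroup G) : lcs M 0 = ⊤ := rfl

theorem lcs_succ (M : Subgroup G) (n : ℕ) : lcs M (n + 1) = M.lowerCentralSeries n := rfl

theorem lcs_normal (M : Subgroup G) [M.Normal] (n : ℕ) : (lcs M n).Normal := by
  cases n with
  | zero => exact inferInstanceAs ((⊤ : Subgroup G).Normal)
  | succ n => exact Subgroup.lowerCentralSeries_normal M n

theorem commutator_lcs_le (M : Subgroup G) [M.Normal] (n : ℕ) : ⁅lcs M n, M⁆ ≤ lcs M (n + 1) := by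
  cases n with
  | zero => exact commutator_le_right _ _
  | succ n => exact le_of_eq (Subgroup.lowerCentralSeries_succ M n).symm

theorem lowerCentralSeries_sup_le (M N : Subgroup G) [M.Normal] [N.Normal] (k : ℕ) :
    (M ⊔ N).lowerCentralSeries k ≤ ⨆ i : Fin (k + 2), lcs M i ⊓ lcs N (k + 1 - i) := by
  haveI hM := lcs_normal M
  haveI hN := lcs_normal N
  haveI : ∀ k i, (lcs M i ⊓ lcs N (k + 1 - i)).Normal := fun k i => inferInstance
  induction k with
  | zero =>
    refine sup_le ?_ ?_
    · exact le_iSup_of_le 1 (by simp [lcs])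
    · exact le_iSup_of_le 0 (by simp [lcs])
  | succ k ih =>
    rw [Subgroup.lowerCentralSeries_succ]
    refine (commutator_mono ih le_rfl).trans ?_
    rw [iSup_commutator_le_iff]
    intro i
    rw [commutator_sup_le_iff]
    have hi : (i : ℕ) ≤ k + 1 := Nat.lt_succ_iff.mp i.2
    constructor
    · refine le_iSup_of_le ⟨i + 1, by omega⟩ ?_
      refine le_inf ((commutator_mono inf_le_left le_rfl).trans (commutator_lcs_le M i)) ?_
      have h2 : k + 1 + 1 - (i + 1) = k + 1 - i := by omega
      simp only [h2]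
      exact (commutator_mono inf_le_right le_rfl).trans (commutator_le_left _ _)
    · refine le_iSup_of_le ⟨i, by omega⟩ ?_
      refine le_inf ((commutator_mono inf_le_left le_rfl).trans (commutator_le_left _ _)) ?_
      have h2 : k + 1 + 1 - (i : ℕ) = (k + 1 - i) + 1 := by omega
      simp only [h2]
      exact (commutator_mono inf_le_right le_rfl).trans (commutator_lcs_le N _)

/-- **Fitting's theorem** (any group): the join of two normal nilpotent subgroups is nilpotent. -/
theorem isNilpotent_sup {M N : Subgroup G} (hM : M.Normal) (hN : N.Normal)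
    (h1 : Group.IsNilpotent M) (h2 : Group.IsNilpotent N) :
    Group.IsNilpotent (M ⊔ N : Subgroup G) := by
  rw [isNilpotent_iff_lowerCentralSeries] at h1 h2 ⊢
  obtain ⟨m, hm⟩ := h1
  obtain ⟨n, hn⟩ := h2
  refine ⟨m + n + 1, ?_⟩
  rw [eq_bot_iff]
  refine (lowerCentralSeries_sup_le M N _).trans (iSup_le fun i => ?_)
  rcases Nat.lt_or_ge m i with h | h
  · refine inf_le_left.trans ?_
    obtain ⟨j, hj⟩ : ∃ j, (i : ℕ) = j + 1 := ⟨i - 1, by omega⟩
    rw [hj, lcs_succ, ← hm]
    exact Subgroup.lowerCentralSeries_antitone M (by omega)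
  · refine inf_le_right.trans ?_
    obtain ⟨j, hj⟩ : ∃ j, m + n + 1 + 1 - (i : ℕ) = j + 1 := ⟨m + n + 1 - i, by omega⟩
    rw [hj, lcs_succ, ← hn]
    exact Subgroup.lowerCentralSeries_antitone N (by omega)

/-- A finite set of normal subgroups closed in pairs: induction principle for `sSup`. -/
theorem sSup_induction_of_finite [Finite G] {P : Subgroup G → Prop} (S : Set (Subgroup G))
    (hbot : P ⊥) (hS : ∀ N ∈ S, P N) (hsup : ∀ A B : Subgroup G, P A → P B → P (A ⊔ B)) :
    P (sSup S) := by
  have hfin : S.Finite := Set.toFinite S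
  induction S, hfin using Set.Finite.induction_on with
  | empty => simpa using hbot
  | @insert a s _ _ ih =>
    rw [sSup_insert]
    exact hsup _ _ (hS a (Set.mem_insert _ _)) (ih fun N hN => hS N (Set.mem_insert_of_mem _ hN))

/-! ### The `p`-core -/

theorem pCore_def (p : ℕ) : pCore p G = sSup {N : Subgroup G | N.Normal ∧ IsPGroup p N} := rfl

theorem le_pCore {p : ℕ} {N : Subgroup G} (hN : N.Normal) (hp : IsPGroup p N) : N ≤ pCore p G :=
  le_sSup ⟨hN, hp⟩

theorem pCore_normal (p : ℕ) : (pCore p G).Normal :=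
  sSup_normal _ fun _ h => h.1

instance pCore_normal_inst (p : ℕ) : (pCore p G).Normal := pCore_normal p

theorem pCore_isPGroup (p : ℕ) : IsPGroup p (pCore p G) :=
  Sylow.sSup_of_normal _ (fun _ h => h.2) (fun _ h => h.1)

theorem pCore_le_sylow {p : ℕ} (P : Sylow p G) : pCore p G ≤ (P : Subgroup G) := by
  haveI := pCore_normal (G := G) p
  exact IsPGroup.le_sylow_of_normal (pCore_isPGroup p) P

theorem map_equiv_pCore {H : Type*} [Group H] (e : G ≃* H) (p : ℕ) :
    (pCore p G).map e.toMonoidHom = pCore p H := by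
  refine le_antisymm (le_pCore ((pCore_normal p).map _ e.surjective) ((pCore_isPGroup p).map _)) ?_
  have h := le_pCore (G := G) ((pCore_normal (G := H) p).map e.symm.toMonoidHom e.symm.surjective)
    ((pCore_isPGroup p).map _)
  intro x hx
  refine ⟨e.symm x, h ⟨x, hx, rfl⟩, by simp⟩

theorem pCore_characteristic (p : ℕ) : (pCore p G).Characteristic :=
  characteristic_iff_map_le.2 fun e => (map_equiv_pCore e p).le

/-- Characterization: a subgroup `N` is in `O_p(G)` iff its normal closure is a `p`-group. -/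
theorem le_pCore_iff {p : ℕ} {N : Subgroup G} (hN : N.Normal) :
    N ≤ pCore p G ↔ IsPGroup p N :=
  ⟨fun h => (pCore_isPGroup p).to_le h, le_pCore hN⟩

/-- For `N` normal in `G`, `O_p(N) = N ⊓ O_p(G)`. -/
theorem map_subtype_pCore (p : ℕ) {N : Subgroup G} (hN : N.Normal) :
    (pCore p N).map N.subtype = N ⊓ pCore p G := by
  haveI := pCore_characteristic (G := N) p
  haveI := pCore_normal (G := G) p
  apply le_antisymm
  · refine le_inf (map_subtype_le _) (le_pCore inferInstance ((pCore_isPGroup p).map _))
  · have h : (pCore p G).subgroupOf N ≤ pCore p N :=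
      le_pCore inferInstance ((pCore_isPGroup p).comap_subtype)
    have h2 := Subgroup.map_mono (f := N.subtype) h
    rwa [subgroupOf_map_subtype, inf_comm] at h2

/-- `O_p(G / N) = 1` for `N = O_p(G)`; more generally the image of `O_p(G)` in `G/N` and the
preimage of `O_p(G/N)` when `N` is a `p`-group. -/
theorem comap_mk_pCore (p : ℕ) {N : Subgroup G} [N.Normal] (hN : IsPGroup p N) :
    (pCore p (G ⧸ N)).comap (QuotientGroup.mk' N) = pCore p G := by
  haveI := pCore_normal (G := G ⧸ N) p
  apply le_antisymm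
  · refine le_pCore inferInstance ?_
    exact (pCore_isPGroup p).comap_of_ker_isPGroup _ (by rwa [QuotientGroup.ker_mk'])
  · rw [← map_le_iff_le_comap]
    exact le_pCore ((pCore_normal p).map _ (QuotientGroup.mk'_surjective N))
      ((pCore_isPGroup p).map _)

theorem pCore_quotient_pCore (p : ℕ) : pCore p (G ⧸ pCore p G) = ⊥ := by
  have h := comap_mk_pCore p (pCore_isPGroup (G := G) p)
  have h2 := congrArg (Subgroup.map (QuotientGroup.mk' (pCore p G))) h
  rw [map_comap_eq_self_of_surjective (QuotientGroup.mk'_surjective _)] at h2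
  rw [h2, Subgroup.map_eq_bot_iff, QuotientGroup.ker_mk']

theorem pCore_eq_top_iff (p : ℕ) : pCore p G = ⊤ ↔ IsPGroup p G := by
  constructor
  · intro h
    have := pCore_isPGroup (G := G) p
    rw [h] at this
    exact this.of_equiv topEquiv
  · intro h
    exact top_le_iff.mp (le_pCore inferInstance (h.to_subgroup _))

/-- `O_p(G)` is the intersection of all Sylow `p`-subgroups. -/
theorem pCore_eq_iInf_sylow [Finite G] (p : ℕ) [Fact p.Prime] :
    pCore p G = ⨅ P : Sylow p G, (P : Subgroup G) := by
  apply le_antisymm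
  · exact le_iInf fun P => pCore_le_sylow P
  · have hn : (⨅ P : Sylow p G, (P : Subgroup G)).Normal := by
      refine ⟨fun n hn g => ?_⟩
      rw [mem_iInf] at hn ⊢
      intro P
      have h := hn (g⁻¹ • P)
      rw [Sylow.coe_subgroup_smul, ← SetLike.mem_coe, coe_pointwise_smul, map_inv,
        Set.mem_inv_smul_set_iff] at h
      have h3 : g * n * g⁻¹ ∈ ((P : Subgroup G) : Set G) := by simpa using h
      exact h3
    obtain ⟨P⟩ := (inferInstance : Nonempty (Sylow p G))
    exact le_pCore hn (P.isPGroup'.to_le (iInf_le _ P))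

/-! ### The `p'`-core -/

theorem pPrimeCore_def (p : ℕ) :
    pPrimeCore p G = sSup {N : Subgroup G | N.Normal ∧ (Nat.card N).Coprime p} := rfl

theorem le_pPrimeCore {p : ℕ} {N : Subgroup G} (hN : N.Normal) (hp : (Nat.card N).Coprime p) :
    N ≤ pPrimeCore p G :=
  le_sSup ⟨hN, hp⟩

theorem pPrimeCore_normal (p : ℕ) : (pPrimeCore p G).Normal :=
  sSup_normal _ fun _ h => h.1

instance pPrimeCore_normal_inst (p : ℕ) : (pPrimeCore p G).Normal := pPrimeCore_normal p

/-- The order of the join of two subgroups, one of them normal, divides the product of orders. -/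
theorem card_sup_dvd (M N : Subgroup G) (hM : M.Normal) :
    Nat.card (M ⊔ N : Subgroup G) ∣ Nat.card M * Nat.card N := by
  rw [← relIndex_bot_left, ← relIndex_mul_relIndex ⊥ M (M ⊔ N) bot_le le_sup_left,
    relIndex_sup_left, relIndex_bot_left]
  exact Nat.mul_dvd_mul_left _ (relIndex_dvd_card M N)

theorem pPrimeCore_coprime [Finite G] (p : ℕ) : (Nat.card (pPrimeCore p G)).Coprime p := by
  have h : (pPrimeCore p G).Normal ∧ (Nat.card (pPrimeCore p G)).Coprime p := by
    refine sSup_induction_of_finite (P := fun N => N.Normal ∧ (Nat.card N).Coprime p) _ ?_ ?_ ?_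
    · exact ⟨inferInstance, by simp⟩
    · exact fun N hN => hN
    · rintro A B ⟨hA, hA'⟩ ⟨hB, hB'⟩
      exact ⟨sup_normal A B, (Nat.Coprime.mul_left hA' hB').coprime_dvd_left (card_sup_dvd A B hA)⟩
  exact h.2

theorem map_equiv_pPrimeCore {H : Type*} [Group H] (e : G ≃* H) (p : ℕ) :
    (pPrimeCore p G).map e.toMonoidHom = pPrimeCore p H := by
  rw [pPrimeCore_def, pPrimeCore_def, sSup_eq_iSup', sSup_eq_iSup', Subgroup.map_iSup]
  apply le_antisymm
  · refine iSup_le fun N => ?_
    rw [← sSup_eq_iSup']
    refine le_sSup ⟨N.2.1.map _ e.surjective, ?_⟩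
    rw [← Nat.card_congr (N.1.equivMapOfInjective e.toMonoidHom e.injective).toEquiv]
    exact N.2.2
  · refine iSup_le fun N => ?_
    refine le_iSup_of_le ⟨(N.1).map e.symm.toMonoidHom, N.2.1.map _ e.symm.surjective, ?_⟩ ?_
    · rw [← Nat.card_congr (N.1.equivMapOfInjective e.symm.toMonoidHom e.symm.injective).toEquiv]
      exact N.2.2
    · intro x hx
      exact ⟨e.symm x, ⟨x, hx, rfl⟩, by simp⟩

theorem pPrimeCore_characteristic (p : ℕ) : (pPrimeCore p G).Characteristic :=
  characteristic_iff_map_le.2 fun e => (map_equiv_pPrimeCore e p).le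

theorem le_pPrimeCore_iff [Finite G] {p : ℕ} {N : Subgroup G} (hN : N.Normal) :
    N ≤ pPrimeCore p G ↔ (Nat.card N).Coprime p :=
  ⟨fun h => (pPrimeCore_coprime p).coprime_dvd_left (card_dvd_of_le h), le_pPrimeCore hN⟩

/-- For `N` normal in `G`, `O_{p'}(N) = N ⊓ O_{p'}(G)`. -/
theorem map_subtype_pPrimeCore [Finite G] (p : ℕ) {N : Subgroup G} (hN : N.Normal) :
    (pPrimeCore p N).map N.subtype = N ⊓ pPrimeCore p G := by
  haveI := pPrimeCore_characteristic (G := N) p
  apply le_antisymm
  · refine le_inf (map_subtype_le _) (le_pPrimeCore inferInstance ?_)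
    rw [card_map_of_injective N.subtype_injective]
    exact pPrimeCore_coprime p
  · have h : (pPrimeCore p G).subgroupOf N ≤ pPrimeCore p N := by
      refine le_pPrimeCore inferInstance ?_
      refine (pPrimeCore_coprime (G := G) p).coprime_dvd_left ?_
      rw [← card_map_of_injective N.subtype_injective, subgroupOf_map_subtype]
      exact card_dvd_of_le inf_le_left
    have h2 := Subgroup.map_mono (f := N.subtype) h
    rwa [subgroupOf_map_subtype, inf_comm] at h2

theorem comap_mk_pPrimeCore [Finite G] (p : ℕ) {N : Subgroup G} [N.Normal]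
    (hN : (Nat.card N).Coprime p) :
    (pPrimeCore p (G ⧸ N)).comap (QuotientGroup.mk' N) = pPrimeCore p G := by
  apply le_antisymm
  · refine le_pPrimeCore inferInstance ?_
    have h : Nat.card ((pPrimeCore p (G ⧸ N)).comap (QuotientGroup.mk' N)) =
        Nat.card N * Nat.card (pPrimeCore p (G ⧸ N)) :=
      QuotientGroup.card_preimage_mk N (pPrimeCore p (G ⧸ N) : Set (G ⧸ N))
    rw [h]
    exact Nat.Coprime.mul_left hN (pPrimeCore_coprime p)
  · rw [← map_le_iff_le_comap]
    refine le_pPrimeCore ((pPrimeCore_normal p).map _ (QuotientGroup.mk'_surjective N)) ?_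
    exact (pPrimeCore_coprime p).coprime_dvd_left (card_map_dvd _ _)

theorem pPrimeCore_quotient_pPrimeCore [Finite G] (p : ℕ) :
    pPrimeCore p (G ⧸ pPrimeCore p G) = ⊥ := by
  have h := comap_mk_pPrimeCore p (pPrimeCore_coprime (G := G) p)
  have h2 := congrArg (Subgroup.map (QuotientGroup.mk' (pPrimeCore p G))) h
  rw [map_comap_eq_self_of_surjective (QuotientGroup.mk'_surjective _)] at h2
  rw [h2, Subgroup.map_eq_bot_iff, QuotientGroup.ker_mk']

theorem pPrimeCore_eq_top_iff [Finite G] (p : ℕ) :
    pPrimeCore p G = ⊤ ↔ (Nat.card G).Coprime p := by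
  constructor
  · intro h
    have := pPrimeCore_coprime (G := G) p
    rwa [h, Nat.card_congr topEquiv.toEquiv] at this
  · intro h
    refine top_le_iff.mp (le_pPrimeCore inferInstance ?_)
    rwa [Nat.card_congr topEquiv.toEquiv]

/-- `O_p(G)` and `O_{p'}(G)` meet trivially. -/
theorem pCore_inf_pPrimeCore [Finite G] (p : ℕ) [hp : Fact p.Prime] :
    pCore p G ⊓ pPrimeCore p G = ⊥ := by
  obtain ⟨n, hn⟩ := IsPGroup.iff_card.mp (pCore_isPGroup (G := G) p)
  refine (disjoint_of_coprime_natCard ?_).eq_bot
  rw [hn]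
  exact (Nat.Coprime.pow_right n (pPrimeCore_coprime p)).symm

/-! ### The Fitting subgroup -/

theorem fittingSubgroup_def :
    fittingSubgroup G = sSup {N : Subgroup G | N.Normal ∧ Group.IsNilpotent N} := rfl

theorem le_fittingSubgroup {N : Subgroup G} (hN : N.Normal) (h : Group.IsNilpotent N) :
    N ≤ fittingSubgroup G :=
  le_sSup ⟨hN, h⟩

theorem fittingSubgroup_normal : (fittingSubgroup G).Normal :=
  sSup_normal _ fun _ h => h.1

instance fittingSubgroup_normal_inst : (fittingSubgroup G).Normal := fittingSubgroup_normal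

/-- **Fitting's theorem**: the Fitting subgroup of a finite group is nilpotent. -/
theorem fittingSubgroup_isNilpotent [Finite G] : Group.IsNilpotent (fittingSubgroup G) := by
  have h : (fittingSubgroup G).Normal ∧ Group.IsNilpotent (fittingSubgroup G) := by
    refine sSup_induction_of_finite (P := fun N => N.Normal ∧ Group.IsNilpotent N) _ ?_ ?_ ?_
    · exact ⟨inferInstance, inferInstance⟩
    · exact fun N hN => hN
    · rintro A B ⟨hA, hA'⟩ ⟨hB, hB'⟩
      exact ⟨sup_normal A B, isNilpotent_sup hA hB hA' hB'⟩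
  exact h.2

theorem le_fittingSubgroup_iff [Finite G] {N : Subgroup G} (hN : N.Normal) :
    N ≤ fittingSubgroup G ↔ Group.IsNilpotent N := by
  refine ⟨fun h => ?_, le_fittingSubgroup hN⟩
  haveI := fittingSubgroup_isNilpotent (G := G)
  exact Group.isNilpotent_congr (subgroupOfEquivOfLe h) |>.mp inferInstance

theorem isNilpotent_map_equiv {H : Type*} [Group H] {f : G →* H} (hf : Function.Injective f)
    (N : Subgroup G) : Group.IsNilpotent (N.map f) ↔ Group.IsNilpotent N :=
  (Group.isNilpotent_congr (N.equivMapOfInjective f hf)).symm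

theorem map_equiv_fittingSubgroup {H : Type*} [Group H] (e : G ≃* H) :
    (fittingSubgroup G).map e.toMonoidHom = fittingSubgroup H := by
  rw [fittingSubgroup_def, fittingSubgroup_def, sSup_eq_iSup', sSup_eq_iSup', Subgroup.map_iSup]
  apply le_antisymm
  · refine iSup_le fun N => ?_
    rw [← sSup_eq_iSup']
    exact le_sSup ⟨N.2.1.map _ e.surjective, (isNilpotent_map_equiv e.injective _).2 N.2.2⟩
  · refine iSup_le fun N => ?_
    refine le_iSup_of_le ⟨(N.1).map e.symm.toMonoidHom, N.2.1.map _ e.symm.surjective,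
      (isNilpotent_map_equiv e.symm.injective _).2 N.2.2⟩ ?_
    intro x hx
    exact ⟨e.symm x, ⟨x, hx, rfl⟩, by simp⟩

theorem fittingSubgroup_characteristic : (fittingSubgroup G).Characteristic :=
  characteristic_iff_map_le.2 fun e => (map_equiv_fittingSubgroup e).le

/-- For `N` normal in `G`, `F(N) = N ⊓ F(G)`. -/
theorem map_subtype_fittingSubgroup [Finite G] {N : Subgroup G} (hN : N.Normal) :
    (fittingSubgroup N).map N.subtype = N ⊓ fittingSubgroup G := by
  haveI := fittingSubgroup_characteristic (G := N)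
  haveI := fittingSubgroup_isNilpotent (G := N)
  haveI := fittingSubgroup_isNilpotent (G := G)
  apply le_antisymm
  · refine le_inf (map_subtype_le _) (le_fittingSubgroup inferInstance ?_)
    exact (isNilpotent_map_equiv N.subtype_injective _).2 inferInstance
  · have h : (fittingSubgroup G).subgroupOf N ≤ fittingSubgroup N := by
      refine le_fittingSubgroup inferInstance ?_
      rw [← isNilpotent_map_equiv N.subtype_injective, subgroupOf_map_subtype]
      exact Group.isNilpotent_congr (subgroupOfEquivOfLe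
        (inf_le_left : fittingSubgroup G ⊓ N ≤ fittingSubgroup G)) |>.mp inferInstance
    have h2 := Subgroup.map_mono (f := N.subtype) h
    rwa [subgroupOf_map_subtype, inf_comm] at h2

theorem pCore_isNilpotent [Finite G] (p : ℕ) [Fact p.Prime] : Group.IsNilpotent (pCore p G) :=
  (pCore_isPGroup p).isNilpotent

theorem pCore_le_fittingSubgroup [Finite G] (p : ℕ) [Fact p.Prime] :
    pCore p G ≤ fittingSubgroup G :=
  le_fittingSubgroup (pCore_normal p) (pCore_isNilpotent p)

/-- A subgroup of a finite group containing a Sylow `p`-subgroup for every prime `p` is everything. -/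
theorem eq_top_of_sylow_le [Finite G] {K : Subgroup G}
    (h : ∀ (p : ℕ) [Fact p.Prime], ∃ P : Sylow p G, (P : Subgroup G) ≤ K) : K = ⊤ := by
  rw [← index_eq_one, Nat.eq_one_iff_not_exists_prime_dvd]
  intro p hp hdvd
  haveI := Fact.mk hp
  obtain ⟨P, hP⟩ := h p
  exact P.not_dvd_index (hdvd.trans (index_dvd_of_le hP))

/-- A normal nilpotent subgroup of a finite group is in the join of the `p`-cores. -/
theorem le_iSup_pCore_of_isNilpotent [Finite G] {N : Subgroup G} (hN : N.Normal)
    (h : Group.IsNilpotent N) : N ≤ ⨆ p : Nat.Primes, pCore (p : ℕ) G := by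
  have h1 : (⨆ p : Nat.Primes, pCore (p : ℕ) G).subgroupOf N = ⊤ := by
    refine eq_top_of_sylow_le fun p hp => ?_
    obtain ⟨P⟩ := (inferInstance : Nonempty (Sylow p N))
    refine ⟨P, ?_⟩
    haveI : P.Normal := inferInstance
    haveI : (P : Subgroup N).Characteristic := Sylow.characteristic_of_normal P inferInstance
    rw [subgroupOf, ← map_le_iff_le_comap]
    refine le_trans ?_ (le_iSup (fun p : Nat.Primes => pCore (p : ℕ) G) ⟨p, hp.out⟩)
    exact le_pCore inferInstance (P.isPGroup'.map _)
  rwa [subgroupOf_eq_top] at h1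

/-- The Fitting subgroup of a finite group is the join of its `p`-cores. -/
theorem fittingSubgroup_eq_iSup_pCore [Finite G] :
    fittingSubgroup G = ⨆ p : Nat.Primes, pCore (p : ℕ) G := by
  apply le_antisymm
  · exact le_iSup_pCore_of_isNilpotent fittingSubgroup_normal fittingSubgroup_isNilpotent
  · refine iSup_le fun p => ?_
    haveI := Fact.mk p.2
    exact pCore_le_fittingSubgroup _

theorem fittingSubgroup_eq_top_iff [Finite G] : fittingSubgroup G = ⊤ ↔ Group.IsNilpotent G := by
  rw [← top_le_iff, le_fittingSubgroup_iff inferInstance]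
  exact Group.isNilpotent_top

end Cfsg.Agent.Lib.Cores
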