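import Mathlib

/-!
Nilpotent groups: nontrivial normal subgroups meet the centre; maximal normal abelian subgroups are
self-centralizing.
-/

set_option autoImplicit false

namespace Cfsg.Agent.Lib.NormalAbelian

universe u

variable {G : Type u} [Group G]

/-- In a nilpotent group every nontrivial normal subgroup meets the centre nontrivially. -/
theorem normal_inf_center_ne_bot [Group.IsNilpotent G] (N : Subgroup G) [hN : N.Normal]
    (hne : N ≠ ⊥) : N ⊓ Subgroup.center G ≠ ⊥ := by
  classical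
  -- least n with N ⊓ Z_n ≠ 1
  have hex : ∃ n : ℕ, N ⊓ Subgroup.upperCentralSeries G n ≠ ⊥ := by
    obtain ⟨n, hn⟩ := Group.IsNilpotent.nilpotent (G := G)
    exact ⟨n, by rw [hn, inf_top_eq]; exact hne⟩
  let n := Nat.find hex
  have hn : N ⊓ Subgroup.upperCentralSeries G n ≠ ⊥ := Nat.find_spec hex
  have hmin : ∀ m, m < n → N ⊓ Subgroup.upperCentralSeries G m = ⊥ := fun m hm => by
    have := Nat.find_min hex hm
    simpa using this
  cases hk : n with
  | zero =>
    rw [hk] at hn
    exact absurd (by simp) hn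
  | succ k =>
    have hbot := hmin k (by omega)
    rw [hk] at hn
    have hle : N ⊓ Subgroup.upperCentralSeries G (k + 1) ≤ N ⊓ Subgroup.center G := by
      intro x hx
      refine ⟨hx.1, Subgroup.mem_center_iff.mpr fun g => ?_⟩
      have hxk : x * g * x⁻¹ * g⁻¹ ∈ Subgroup.upperCentralSeries G k :=
        Subgroup.mem_upperCentralSeries_succ_iff.mp hx.2 g
      -- commutator x g x⁻¹ g⁻¹ in Z_k and in N
      have hN1 : x * g * x⁻¹ * g⁻¹ ∈ N := by
        have h1 : g * x⁻¹ * g⁻¹ ∈ N := hN.conj_mem _ (N.inv_mem hx.1) g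
        have h2 : x * (g * x⁻¹ * g⁻¹) ∈ N := N.mul_mem hx.1 h1
        simpa [mul_assoc] using h2
      have hmem : x * g * x⁻¹ * g⁻¹ ∈ N ⊓ Subgroup.upperCentralSeries G k := ⟨hN1, hxk⟩
      rw [hbot, Subgroup.mem_bot] at hmem
      have h3 : x * g = g * x := by
        have := mul_eq_one_iff_eq_inv.mp hmem
        rw [inv_inv] at this
        exact mul_inv_eq_iff_eq_mul.mp this
      exact h3.symm
    intro hb
    exact hn (le_bot_iff.mp (hb ▸ hle))

/-- Version for two normal subgroups `A < C`: there is an element of `C` outside `A`, central modulo `A`. -/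
theorem exists_mem_not_mem_central_mod [Group.IsNilpotent G] {A C : Subgroup G}
    (hA : A.Normal) (hC : C.Normal) (hAC : ¬ C ≤ A) :
    ∃ x ∈ C, x ∉ A ∧ ∀ g : G, x * g * x⁻¹ * g⁻¹ ∈ A := by
  have : Group.IsNilpotent (G ⧸ A) := Group.nilpotent_quotient_of_nilpotent A
  let N := C.map (QuotientGroup.mk' A)
  have hN : N.Normal := hC.map _ (QuotientGroup.mk'_surjective A)
  have hNe : N ≠ ⊥ := by
    intro h
    rw [Subgroup.map_eq_bot_iff, QuotientGroup.ker_mk'] at h
    exact hAC h
  have h := normal_inf_center_ne_bot N hNe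
  obtain ⟨y, hy, hy1⟩ : ∃ y : G ⧸ A, y ∈ N ⊓ Subgroup.center (G ⧸ A) ∧ y ≠ 1 := by
    obtain ⟨y, hy⟩ := Subgroup.ne_bot_iff_exists_ne_one.mp h
    exact ⟨y.1, y.2, fun e => hy (Subtype.ext e)⟩
  obtain ⟨x, hx, hxy⟩ := hy.1
  refine ⟨x, hx, ?_, ?_⟩
  · intro hxA
    apply hy1
    rw [← hxy]
    exact (QuotientGroup.eq_one_iff x).mpr hxA
  · intro g
    have hc := Subgroup.mem_center_iff.mp hy.2 (QuotientGroup.mk' A g)
    rw [← hxy] at hc
    rw [← QuotientGroup.eq_one_iff]
    have : (QuotientGroup.mk' A) (x * g * x⁻¹ * g⁻¹) = 1 := by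
      simp only [map_mul, map_inv]
      rw [← hc]
      group
    exact this

/-- If `A` is normal and abelian and `x` centralizes `A` and is central modulo `A`, then
`A ⊔ ⟨x⟩` is normal and abelian. -/
theorem sup_zpowers_normal_abelian {A : Subgroup G} (hA : A.Normal) (hAc : IsMulCommutative A)
    {x : G} (hx : x ∈ Subgroup.centralizer (A : Set G))
    (hxA : ∀ g : G, x * g * x⁻¹ * g⁻¹ ∈ A) :
    (A ⊔ Subgroup.zpowers x).Normal ∧ IsMulCommutative ↥(A ⊔ Subgroup.zpowers x) := by
  constructor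
  · refine Subgroup.Normal.mk fun y hy g => ?_
    obtain ⟨a, ha, z, hz, rfl⟩ := Subgroup.mem_sup_of_normal_left.mp hy
    have h1 : g * a * g⁻¹ ∈ A ⊔ Subgroup.zpowers x :=
      (le_sup_left : A ≤ _) (hA.conj_mem a ha g)
    obtain ⟨k, rfl⟩ := Subgroup.mem_zpowers_iff.mp hz
    have hxg : g * x * g⁻¹ ∈ A ⊔ Subgroup.zpowers x := by
      -- g x g⁻¹ = (g x g⁻¹ x⁻¹) x ; and g x g⁻¹ x⁻¹ = (x g x⁻¹ g⁻¹)⁻¹
      have h2 : (x * g * x⁻¹ * g⁻¹)⁻¹ * x ∈ A ⊔ Subgroup.zpowers x :=
        Subgroup.mul_mem _ ((le_sup_left : A ≤ _) (A.inv_mem (hxA g)))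
          ((le_sup_right : Subgroup.zpowers x ≤ _) (Subgroup.mem_zpowers x))
      have h3 : (x * g * x⁻¹ * g⁻¹)⁻¹ * x = g * x * g⁻¹ := by group
      rwa [h3] at h2
    have h4 : g * x ^ k * g⁻¹ ∈ A ⊔ Subgroup.zpowers x := by
      rw [← conj_zpow]
      exact Subgroup.zpow_mem _ hxg k
    have h5 : g * (a * x ^ k) * g⁻¹ = (g * a * g⁻¹) * (g * x ^ k * g⁻¹) := by group
    rw [h5]
    exact Subgroup.mul_mem _ h1 h4
  · refine IsMulCommutative.of_comm ?_
    have hcomm : ∀ y ∈ A ⊔ Subgroup.zpowers x, ∀ z ∈ A ⊔ Subgroup.zpowers x, y * z = z * y := by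
      have hcl : A ⊔ Subgroup.zpowers x = Subgroup.closure ((A : Set G) ∪ {x}) := by
        rw [Subgroup.closure_union, Subgroup.closure_eq, Subgroup.zpowers_eq_closure]
      have hcomm' : ∀ y ∈ ((A : Set G) ∪ {x}), ∀ z ∈ ((A : Set G) ∪ {x}), y * z = z * y := by
        rintro y (hy | hy) z (hz | hz)
        · have := (isMulCommutative_iff.mp hAc) ⟨y, hy⟩ ⟨z, hz⟩
          exact congrArg Subtype.val this
        · rw [Set.mem_singleton_iff.mp hz]
          exact Subgroup.mem_centralizer_iff.mp hx y hy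
        · rw [Set.mem_singleton_iff.mp hy]
          exact (Subgroup.mem_centralizer_iff.mp hx z hz).symm
        · rw [Set.mem_singleton_iff.mp hy, Set.mem_singleton_iff.mp hz]
      have hle : Subgroup.closure ((A : Set G) ∪ {x}) ≤
          Subgroup.centralizer ((Subgroup.closure ((A : Set G) ∪ {x}) : Subgroup G) : Set G) := by
        rw [Subgroup.centralizer_closure, Subgroup.closure_le]
        intro y hy
        refine Subgroup.mem_centralizer_iff.mpr fun z hz => ?_
        exact hcomm' z hz y hy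
      intro y hy z hz
      rw [hcl] at hy hz
      exact (Subgroup.mem_centralizer_iff.mp (hle hz) y hy)
    intro a b
    exact Subtype.ext (hcomm a.1 a.2 b.1 b.2)

/-- In a nilpotent group, a maximal normal abelian subgroup is its own centralizer. -/
theorem centralizer_eq_of_maximal_normal_abelian [Group.IsNilpotent G] {A : Subgroup G}
    (hA : A.Normal) (hAc : IsMulCommutative A)
    (hmax : ∀ B : Subgroup G, B.Normal → IsMulCommutative B → A ≤ B → B ≤ A) :
    Subgroup.centralizer (A : Set G) = A := by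
  have hle : A ≤ Subgroup.centralizer (A : Set G) :=
    Subgroup.le_centralizer_iff_isMulCommutative.mpr hAc
  refine le_antisymm ?_ hle
  by_contra hcon
  have hCn : (Subgroup.centralizer (A : Set G)).Normal := inferInstance
  obtain ⟨x, hx, hxA, hcx⟩ := exists_mem_not_mem_central_mod hA hCn hcon
  obtain ⟨h1, h2⟩ := sup_zpowers_normal_abelian hA hAc hx hcx
  have h3 := hmax _ h1 h2 le_sup_left
  exact hxA (h3 ((le_sup_right : Subgroup.zpowers x ≤ _) (Subgroup.mem_zpowers x)))

/-- In a finite nilpotent group, every normal abelian subgroup lies in a self-centralizing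
normal abelian subgroup. -/
theorem exists_normal_abelian_selfCentralizing_ge [Finite G] [Group.IsNilpotent G] (B : Subgroup G)
    (hB : B.Normal) (hBc : IsMulCommutative B) :
    ∃ A : Subgroup G, B ≤ A ∧ A.Normal ∧ IsMulCommutative A ∧
      Subgroup.centralizer (A : Set G) = A ∧
      ∀ C : Subgroup G, C.Normal → IsMulCommutative C → A ≤ C → C ≤ A := by
  obtain ⟨A, hBA, hA⟩ := (Set.toFinite {A : Subgroup G | A.Normal ∧ IsMulCommutative A}).exists_le_maximal
    (a := B) ⟨hB, hBc⟩
  have hmax : ∀ C : Subgroup G, C.Normal → IsMulCommutative C → A ≤ C → C ≤ A :=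
    fun C hC hCc hAC => hA.2 ⟨hC, hCc⟩ hAC
  exact ⟨A, hBA, hA.1.1, hA.1.2,
    centralizer_eq_of_maximal_normal_abelian hA.1.1 hA.1.2 hmax, hmax⟩

/-- A finite nilpotent group has a self-centralizing normal abelian subgroup. -/
theorem exists_normal_abelian_selfCentralizing [Finite G] [Group.IsNilpotent G] :
    ∃ A : Subgroup G, A.Normal ∧ IsMulCommutative A ∧ Subgroup.centralizer (A : Set G) = A := by
  obtain ⟨A, -, h1, h2, h3, -⟩ := exists_normal_abelian_selfCentralizing_ge (⊥ : Subgroup G)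
    inferInstance inferInstance
  exact ⟨A, h1, h2, h3⟩

end Cfsg.Agent.Lib.NormalAbelian
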