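import Mathlib

/-!
# Carmichael's presentation of the alternating groups

`A_(m+2)` is generated by the 3-cycles `x_i = (i, m, m+1)` (`i < m`) with defining relations
`x_i ^ 3 = 1`, `(x_i * x_j) ^ 2 = 1` for `i ≠ j`.

Main results:
* `card_closure_le` : in any group, elements with these relations generate a group of order at most `(m+2)!/2`;
* `closure_cyc` : the 3-cycles generate the alternating group;
* `exists_hom` : such elements of a group `G` are the images of the 3-cycles under a homomorphism from the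
  alternating group;
* `nonempty_closure_equiv` : for `m ≥ 3` and not all `x_i` trivial, the group generated is isomorphic to `A_(m+2)`.
-/

set_option autoImplicit false

namespace Cfsg.Agent.Lib.AltCarmichael

open Subgroup

variable {G : Type*} [Group G]

section identities

variable {a b c : G}

theorem inv_of_cube (ha : a ^ 3 = 1) : a⁻¹ = a * a := by
  rw [inv_eq_iff_mul_eq_one, ← ha, pow_succ, pow_two, mul_assoc]

theorem mul_eq_inv (hab : (a * b) ^ 2 = 1) : a * b = b⁻¹ * a⁻¹ := by
  rw [← mul_inv_rev, eq_inv_iff_mul_eq_one, ← pow_two, hab]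

theorem aba (hab : (a * b) ^ 2 = 1) : a * b * a = b⁻¹ := by
  rw [mul_eq_inv hab]; group

theorem swap_rel (hab : (a * b) ^ 2 = 1) : (b * a) ^ 2 = 1 := by
  have h := aba hab
  have : b * a * (b * a) = b * (a * b * a) := by group
  rw [pow_two, this, h, mul_inv_cancel]

theorem id1 (ha : a ^ 3 = 1) (hab : (a * b) ^ 2 = 1) : a * b * (a ^ 2)⁻¹ = b⁻¹ := by
  have h : (a ^ 2)⁻¹ = a := by
    rw [inv_eq_iff_mul_eq_one, ← ha, ← pow_succ]
  rw [h, aba hab]

theorem id2 (ha : a ^ 3 = 1) (hb : b ^ 3 = 1) (hab : (a * b) ^ 2 = 1) :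
    a ^ 2 * b * b * a⁻¹ = b := by
  have h1 : a ^ 2 = a⁻¹ := by rw [inv_of_cube ha, pow_two]
  have h2 : a⁻¹ * b * b * a⁻¹ = (a * b * a)⁻¹ := by
    rw [mul_assoc a⁻¹ b b, ← inv_of_cube hb]; group
  rw [h1, h2, aba hab, inv_inv]

theorem id3 (ha : a ^ 3 = 1) (hb : b ^ 3 = 1) (hab : (a * b) ^ 2 = 1) :
    a ^ 2 * b * a * (a ^ 2 * b)⁻¹ = b⁻¹ := by
  have h1 : a ^ 2 = a⁻¹ := by rw [inv_of_cube ha, pow_two]
  have h2 : b * a = a⁻¹ * b⁻¹ := mul_eq_inv (swap_rel hab)
  have h3 : a⁻¹ * a⁻¹ = a := by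
    rw [← mul_inv_rev, ← inv_of_cube ha, inv_inv]
  have h4 : b⁻¹ * b⁻¹ = b := by
    rw [← mul_inv_rev, ← inv_of_cube hb, inv_inv]
  calc a ^ 2 * b * a * (a ^ 2 * b)⁻¹ = a⁻¹ * (b * a) * b⁻¹ * a := by rw [h1]; group
    _ = (a⁻¹ * a⁻¹) * (b⁻¹ * b⁻¹) * a := by rw [h2]; group
    _ = b⁻¹ := by rw [h3, h4, aba hab]

theorem id4 (ha : a ^ 3 = 1) (hb : b ^ 3 = 1) (hc : (b * c) ^ 2 = 1) (hab : (a * b) ^ 2 = 1)
    (hac : (a * c) ^ 2 = 1) : a ^ 2 * b * c * (a ^ 2 * b)⁻¹ = c * b⁻¹ := by
  have h1 : a ^ 2 = a⁻¹ := by rw [inv_of_cube ha, pow_two]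
  have h2 : b * c = c⁻¹ * b⁻¹ := mul_eq_inv hc
  have h4 : b⁻¹ * b⁻¹ = b := by
    rw [← mul_inv_rev, ← inv_of_cube hb, inv_inv]
  have h5 : b * a = a⁻¹ * b⁻¹ := mul_eq_inv (swap_rel hab)
  have h6 : a⁻¹ * c⁻¹ = c * a := (mul_eq_inv (swap_rel hac)).symm
  calc a ^ 2 * b * c * (a ^ 2 * b)⁻¹ = a⁻¹ * (b * c) * b⁻¹ * a := by rw [h1]; group
    _ = a⁻¹ * c⁻¹ * (b⁻¹ * b⁻¹) * a := by rw [h2]; group
    _ = (a⁻¹ * c⁻¹) * (b * a) := by rw [h4]; group
    _ = c * b⁻¹ := by rw [h6, h5]; group

end identities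

/-- The relations of Carmichael's presentation for the first `m` members of a sequence. -/
structure Rel (m : ℕ) (x : ℕ → G) : Prop where
  cube : ∀ i < m, x i ^ 3 = 1
  sq : ∀ i < m, ∀ j < m, i ≠ j → (x i * x j) ^ 2 = 1

/-- The subgroup generated by the first `m` members of a sequence. -/
def gen (m : ℕ) (x : ℕ → G) : Subgroup G := closure {g | ∃ i < m, g = x i}

theorem gen_def (m : ℕ) (x : ℕ → G) : gen m x = closure {g | ∃ i < m, g = x i} := rfl

theorem mem_gen {m : ℕ} {x : ℕ → G} {i : ℕ} (hi : i < m) : x i ∈ gen m x :=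
  subset_closure ⟨i, hi, rfl⟩

theorem Rel.mono {m n : ℕ} {x : ℕ → G} (h : Rel n x) (hmn : m ≤ n) : Rel m x :=
  ⟨fun i hi => h.cube i (by omega), fun i hi j hj hij => h.sq i (by omega) j (by omega) hij⟩

/-- The coset representatives. -/
def rep (m : ℕ) (x : ℕ → G) (k : ℕ) : G :=
  if k = 0 then 1 else if k = 1 then x m else if k = 2 then x m ^ 2 else x m ^ 2 * x (k - 3)

theorem rep_zero (m : ℕ) (x : ℕ → G) : rep m x 0 = 1 := rfl
theorem rep_one (m : ℕ) (x : ℕ → G) : rep m x 1 = x m := rfl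
theorem rep_two (m : ℕ) (x : ℕ → G) : rep m x 2 = x m ^ 2 := rfl
theorem rep_add (m : ℕ) (x : ℕ → G) (k : ℕ) : rep m x (k + 3) = x m ^ 2 * x k := by
  unfold rep
  rw [if_neg (by omega), if_neg (by omega), if_neg (by omega), Nat.add_sub_cancel]

theorem step {m : ℕ} {x : ℕ → G} (h : Rel (m + 1) x) (k : ℕ) (hk : k < m + 3) (i : ℕ) (hi : i < m + 1) :
    ∃ l < m + 3, rep m x k * x i * (rep m x l)⁻¹ ∈ gen m x := by
  have hx : x m ^ 3 = 1 := h.cube m (by omega)
  rcases Nat.lt_or_ge k 3 with hk3 | hk3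
  · interval_cases k
    · rcases Nat.lt_or_ge i m with him | him
      · refine ⟨0, by omega, ?_⟩
        rw [rep_zero, inv_one, mul_one, one_mul]
        exact mem_gen him
      · obtain rfl : i = m := by omega
        refine ⟨1, by omega, ?_⟩
        rw [rep_zero, rep_one, one_mul, mul_inv_cancel]
        exact one_mem _
    · rcases Nat.lt_or_ge i m with him | him
      · refine ⟨2, by omega, ?_⟩
        rw [rep_one, rep_two, id1 hx (h.sq m (by omega) i (by omega) (by omega))]
        exact inv_mem (mem_gen him)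
      · obtain rfl : i = m := by omega
        refine ⟨2, by omega, ?_⟩
        rw [rep_one, rep_two, ← pow_two, mul_inv_cancel]
        exact one_mem _
    · rcases Nat.lt_or_ge i m with him | him
      · refine ⟨i + 3, by omega, ?_⟩
        rw [rep_two, rep_add, mul_inv_cancel]
        exact one_mem _
      · obtain rfl : i = m := by omega
        refine ⟨0, by omega, ?_⟩
        rw [rep_two, rep_zero, inv_one, mul_one, ← pow_succ, hx]
        exact one_mem _
  · obtain ⟨j, rfl⟩ : ∃ j, k = j + 3 := ⟨k - 3, by omega⟩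
    have hj : j < m := by omega
    have hmj := h.sq m (by omega) j (by omega) (by omega)
    rcases Nat.lt_or_ge i m with him | him
    · by_cases hij : i = j
      · subst hij
        refine ⟨1, by omega, ?_⟩
        rw [rep_add, rep_one, id2 hx (h.cube i (by omega)) hmj]
        exact mem_gen him
      · refine ⟨j + 3, by omega, ?_⟩
        rw [rep_add, id4 hx (h.cube j (by omega)) (h.sq j (by omega) i (by omega) (Ne.symm hij)) hmj
          (h.sq m (by omega) i (by omega) (by omega))]
        exact mul_mem (mem_gen him) (inv_mem (mem_gen hj))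
    · obtain rfl : i = m := by omega
      refine ⟨j + 3, by omega, ?_⟩
      rw [rep_add, id3 hx (h.cube j (by omega)) hmj]
      exact inv_mem (mem_gen hj)

theorem gen_succ_le {m : ℕ} {x : ℕ → G} (h : Rel (m + 1) x) {g : G} (hg : g ∈ gen (m + 1) x) :
    ∃ k < m + 3, g * (rep m x k)⁻¹ ∈ gen m x := by
  have key : ∀ g : G, (∃ k < m + 3, g * (rep m x k)⁻¹ ∈ gen m x) → ∀ i < m + 1,
      ∃ k < m + 3, g * x i * (rep m x k)⁻¹ ∈ gen m x := by
    rintro g ⟨k, hk, hgk⟩ i hi
    obtain ⟨l, hl, hkl⟩ := step h k hk i hi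
    refine ⟨l, hl, ?_⟩
    have : g * x i * (rep m x l)⁻¹ = (g * (rep m x k)⁻¹) * (rep m x k * x i * (rep m x l)⁻¹) := by group
    rw [this]
    exact mul_mem hgk hkl
  rw [gen_def] at hg
  induction hg using Subgroup.closure_induction_right with
  | one => exact ⟨0, by omega, by rw [rep_zero, inv_one, mul_one]; exact one_mem _⟩
  | mul_right g _ s hs ih =>
    obtain ⟨i, hi, rfl⟩ := hs
    exact key g ih i hi
  | mul_inv_cancel g _ s hs ih =>
    obtain ⟨i, hi, rfl⟩ := hs
    have h1 := key _ (key g ih i hi) i hi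
    rw [mul_assoc g, ← inv_of_cube (h.cube i hi)] at h1
    exact h1

theorem card_gen_succ_le {m : ℕ} {x : ℕ → G} (h : Rel (m + 1) x) [Finite (gen m x)] :
    Finite (gen (m + 1) x) ∧ Nat.card (gen (m + 1) x) ≤ (m + 3) * Nat.card (gen m x) := by
  let f : Fin (m + 3) × gen m x → G := fun p => p.2 * rep m x p.1
  have hsub : ((gen (m + 1) x : Subgroup G) : Set G) ⊆ Set.range f := by
    intro g hg
    obtain ⟨k, hk, hgk⟩ := gen_succ_le h hg
    refine ⟨(⟨k, hk⟩, ⟨_, hgk⟩), ?_⟩
    show g * (rep m x k)⁻¹ * rep m x k = g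
    rw [inv_mul_cancel_right]
  have hfin : (Set.range f).Finite := Set.finite_range f
  refine ⟨(hfin.subset hsub).to_subtype, ?_⟩
  calc Nat.card (gen (m + 1) x) ≤ Nat.card (Set.range f) := Nat.card_mono hfin hsub
    _ ≤ Nat.card (Fin (m + 3) × gen m x) := Finite.card_range_le f
    _ = (m + 3) * Nat.card (gen m x) := by simp

theorem card_gen_one {x : ℕ → G} (h : Rel 1 x) : Finite (gen 1 x) ∧ Nat.card (gen 1 x) ≤ 3 := by
  have h0 : gen 1 x = zpowers (x 0) := by
    rw [gen_def, zpowers_eq_closure]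
    congr 1
    ext g
    constructor
    · rintro ⟨i, hi, rfl⟩
      obtain rfl : i = 0 := by omega
      rfl
    · rintro rfl
      exact ⟨0, by omega, rfl⟩
  have hc := h.cube 0 (by omega)
  have hpos : 0 < orderOf (x 0) := orderOf_pos_iff.mpr (isOfFinOrder_iff_pow_eq_one.mpr ⟨3, by omega, hc⟩)
  rw [h0]
  constructor
  · exact Nat.finite_of_card_ne_zero (by rw [Nat.card_zpowers]; omega)
  · rw [Nat.card_zpowers]
    exact orderOf_le_of_pow_eq_one (by omega) hc

/-- Elements satisfying the relations of Carmichael's presentation generate a group of order at most `(m+2)!/2`. -/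
theorem card_gen_le {x : ℕ → G} : ∀ {m : ℕ}, Rel (m + 1) x →
    Finite (gen (m + 1) x) ∧ 2 * Nat.card (gen (m + 1) x) ≤ (m + 3).factorial := by
  intro m
  induction m with
  | zero =>
    intro h
    obtain ⟨h1, h2⟩ := card_gen_one h
    refine ⟨h1, ?_⟩
    have h6 : (0 + 3).factorial = 6 := rfl
    rw [h6]
    have h7 : Nat.card (gen (0 + 1) x) = Nat.card (gen 1 x) := rfl
    omega
  | succ m ih =>
    intro h
    obtain ⟨h1, h2⟩ := ih (h.mono (by omega))
    obtain ⟨h3, h4⟩ := card_gen_succ_le h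
    refine ⟨h3, ?_⟩
    calc 2 * Nat.card (gen (m + 1 + 1) x) ≤ 2 * ((m + 1 + 3) * Nat.card (gen (m + 1) x)) :=
          Nat.mul_le_mul_left 2 h4
      _ = (m + 1 + 3) * (2 * Nat.card (gen (m + 1) x)) := by ring
      _ ≤ (m + 1 + 3) * (m + 3).factorial := Nat.mul_le_mul_left _ h2
      _ = (m + 1 + 3).factorial := by
          rw [show m + 1 + 3 = (m + 3) + 1 by omega]
          exact (Nat.factorial_succ (m + 3)).symm

/-! ### The three-cycles `(i, m, m+1)` -/

/-- The 3-cycle `(i, m, m+1)` of `Fin (m+2)`: the product of the transpositions `(i, m)` and `(m, m+1)`. -/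
def cyc (m : ℕ) (i : ℕ) : Equiv.Perm (Fin (m + 2)) :=
  Equiv.swap (Fin.ofNat (m + 2) i) (Fin.ofNat (m + 2) m) *
    Equiv.swap (Fin.ofNat (m + 2) m) (Fin.ofNat (m + 2) (m + 1))

theorem cyc_def (m i : ℕ) : cyc m i = Equiv.swap (Fin.ofNat (m + 2) i) (Fin.ofNat (m + 2) m) *
    Equiv.swap (Fin.ofNat (m + 2) m) (Fin.ofNat (m + 2) (m + 1)) := rfl

theorem ofNat_ne {m i j : ℕ} (hi : i < m + 2) (hj : j < m + 2) (hij : i ≠ j) :
    Fin.ofNat (m + 2) i ≠ Fin.ofNat (m + 2) j := by
  intro h
  have := congrArg Fin.val h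
  simp only [Fin.ofNat, Nat.mod_eq_of_lt hi, Nat.mod_eq_of_lt hj] at this
  exact hij this

theorem swap_conj {α : Type*} [DecidableEq α] {a b c : α} (hac : a ≠ c) (hbc : b ≠ c) :
    Equiv.swap a b * Equiv.swap b c * Equiv.swap a b = Equiv.swap a c := by
  have h := Equiv.swap_apply_apply (Equiv.swap a b) b c
  rw [Equiv.swap_apply_right, Equiv.swap_apply_of_ne_of_ne hac.symm hbc.symm, Equiv.swap_inv] at h
  exact h.symm

theorem three_cube {α : Type*} [DecidableEq α] {a b c : α} (hab : a ≠ b) (hac : a ≠ c) (hbc : b ≠ c) :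
    (Equiv.swap a b * Equiv.swap b c) ^ 3 = 1 := by
  have h1 := swap_conj hac hbc
  have h2 : Equiv.swap b c * Equiv.swap a b * Equiv.swap b c = Equiv.swap a c := by
    have := swap_conj (a := c) (b := b) (c := a) hac.symm hab.symm
    rw [Equiv.swap_comm c b, Equiv.swap_comm b a, Equiv.swap_comm c a] at this
    exact this
  have : (Equiv.swap a b * Equiv.swap b c) ^ 3 =
      (Equiv.swap a b * Equiv.swap b c * Equiv.swap a b) *
        (Equiv.swap b c * Equiv.swap a b * Equiv.swap b c) := by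
    simp only [pow_succ, pow_zero, one_mul, mul_assoc]
  rw [this, h1, h2, Equiv.swap_mul_self]

theorem two_sq {α : Type*} [DecidableEq α] {i j a b : α} (hij : i ≠ j) (_hia : i ≠ a) (hib : i ≠ b)
    (hja : j ≠ a) (hjb : j ≠ b) (hab : a ≠ b) :
    (Equiv.swap i a * Equiv.swap a b * (Equiv.swap j a * Equiv.swap a b)) ^ 2 = 1 := by
  -- `(i a)(a b)(j a)(a b) = (i a)(j b)`
  have h2 : Equiv.swap a b * Equiv.swap j a * Equiv.swap a b = Equiv.swap j b := by
    have := swap_conj (a := b) (b := a) (c := j) hjb.symm hja.symm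
    rw [Equiv.swap_comm b a, Equiv.swap_comm a j, Equiv.swap_comm b j] at this
    exact this
  have h3 : Equiv.swap i a * Equiv.swap a b * (Equiv.swap j a * Equiv.swap a b) =
      Equiv.swap i a * Equiv.swap j b := by
    rw [← h2]; simp only [mul_assoc]
  have h4 : Equiv.swap i a * Equiv.swap j b * Equiv.swap i a = Equiv.swap j b := by
    have := Equiv.swap_apply_apply (Equiv.swap i a) j b
    rw [Equiv.swap_apply_of_ne_of_ne hij.symm hja, Equiv.swap_apply_of_ne_of_ne hib.symm hab.symm,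
      Equiv.swap_inv] at this
    exact this.symm
  rw [h3, pow_two, ← mul_assoc, h4, Equiv.swap_mul_self]

theorem cyc_mem (m i : ℕ) (hi : i < m) : cyc m i ∈ alternatingGroup (Fin (m + 2)) := by
  rw [Equiv.Perm.mem_alternatingGroup, cyc_def, map_mul,
    Equiv.Perm.sign_swap (ofNat_ne (by omega) (by omega) (by omega)),
    Equiv.Perm.sign_swap (ofNat_ne (by omega) (by omega) (by omega))]
  rfl

theorem rel_cyc (m : ℕ) : Rel m (cyc m) where
  cube i hi := three_cube (ofNat_ne (by omega) (by omega) (by omega)) (ofNat_ne (by omega) (by omega) (by omega))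
    (ofNat_ne (by omega) (by omega) (by omega))
  sq i hi j hj hij := two_sq (ofNat_ne (by omega) (by omega) (by omega))
    (ofNat_ne (by omega) (by omega) (by omega)) (ofNat_ne (by omega) (by omega) (by omega))
    (ofNat_ne (by omega) (by omega) (by omega)) (ofNat_ne (by omega) (by omega) (by omega))
    (ofNat_ne (by omega) (by omega) (by omega))

/-- Star transpositions generate the symmetric group. -/
theorem star_closure {α : Type*} [Finite α] [DecidableEq α] (H : Subgroup (Equiv.Perm α)) (a : α)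
    (h : ∀ b, b ≠ a → Equiv.swap a b ∈ H) : H = ⊤ := by
  rw [eq_top_iff, ← Equiv.Perm.closure_isSwap, closure_le]
  rintro _ ⟨x, y, hxy, rfl⟩
  show Equiv.swap x y ∈ H
  by_cases hx : x = a
  · subst hx; exact h y (Ne.symm hxy)
  by_cases hy : y = a
  · subst hy; rw [Equiv.swap_comm]; exact h x hxy
  have := swap_conj (a := x) (b := a) (c := y) hxy (Ne.symm hy)
  rw [← this, Equiv.swap_comm x a]
  exact mul_mem (mul_mem (h x hx) (h y hy)) (h x hx)

/-- The 3-cycles `(i, m, m+1)` generate the alternating group. -/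
theorem gen_cyc (m : ℕ) (_hm : 1 ≤ m) : gen m (cyc m) = alternatingGroup (Fin (m + 2)) := by
  classical
  have hle : gen m (cyc m) ≤ alternatingGroup (Fin (m + 2)) := by
    rw [gen_def, closure_le]
    rintro _ ⟨i, hi, rfl⟩
    exact cyc_mem m i hi
  set S := gen m (cyc m) with hS
  set τ : Equiv.Perm (Fin (m + 2)) := Equiv.swap (Fin.ofNat (m + 2) m) (Fin.ofNat (m + 2) (m + 1)) with hτ
  have hττ : τ * τ = 1 := Equiv.swap_mul_self _ _
  -- conjugation by `τ` inverts the generators
  have hconj : ∀ i < m, τ * cyc m i * τ = (cyc m i)⁻¹ := by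
    intro i hi
    rw [cyc_def, mul_inv_rev, Equiv.swap_inv, Equiv.swap_inv, ← hτ]
    rw [mul_assoc, mul_assoc, hττ, mul_one]
  have hconjS : ∀ g ∈ S, τ * g * τ ∈ S := by
    intro g hg
    rw [hS, gen_def] at hg
    induction hg using Subgroup.closure_induction with
    | one => rw [mul_one, hττ]; exact one_mem _
    | mem g hg =>
      obtain ⟨i, hi, rfl⟩ := hg
      rw [hconj i hi]
      exact inv_mem (mem_gen hi)
    | mul g k _ _ hg hk =>
      have : τ * (g * k) * τ = (τ * g * τ) * (τ * k * τ) := by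
        calc τ * (g * k) * τ = τ * g * 1 * k * τ := by group
          _ = τ * g * (τ * τ) * k * τ := by rw [hττ]
          _ = (τ * g * τ) * (τ * k * τ) := by group
      rw [this]
      exact mul_mem hg hk
    | inv g _ hg =>
      have hτi : τ⁻¹ = τ := Equiv.swap_inv _ _
      have : τ * g⁻¹ * τ = (τ * g * τ)⁻¹ := by
        rw [mul_inv_rev, mul_inv_rev, hτi, mul_assoc]
      rw [this]
      exact inv_mem hg
  -- `S ∪ S τ` is a subgroup
  let H : Subgroup (Equiv.Perm (Fin (m + 2))) :=
    { carrier := {g | g ∈ S ∨ g * τ ∈ S}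
      one_mem' := Or.inl (one_mem _)
      mul_mem' := by
        rintro g k (hg | hg) (hk | hk)
        · exact Or.inl (mul_mem hg hk)
        · exact Or.inr (by rw [mul_assoc]; exact mul_mem hg hk)
        · right
          have : g * k * τ = (g * τ) * (τ * k * τ) := by
            calc g * k * τ = g * 1 * k * τ := by group
              _ = g * (τ * τ) * k * τ := by rw [hττ]
              _ = (g * τ) * (τ * k * τ) := by group
          rw [this]
          exact mul_mem hg (hconjS k hk)
        · left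
          have : g * k = (g * τ) * (τ * (k * τ) * τ) := by
            calc g * k = g * 1 * k * 1 := by group
              _ = g * (τ * τ) * k * (τ * τ) := by rw [hττ]
              _ = (g * τ) * (τ * (k * τ) * τ) := by group
          rw [this]
          exact mul_mem hg (hconjS _ hk)
      inv_mem' := by
        rintro g (hg | hg)
        · exact Or.inl (inv_mem hg)
        · right
          have hτi : τ⁻¹ = τ := Equiv.swap_inv _ _
          have : g⁻¹ * τ = τ * (g * τ)⁻¹ * τ := by
            rw [mul_inv_rev, hτi]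
            calc g⁻¹ * τ = 1 * g⁻¹ * τ := by group
              _ = (τ * τ) * g⁻¹ * τ := by rw [hττ]
              _ = τ * (τ * g⁻¹) * τ := by group
          rw [this]
          exact hconjS _ (inv_mem hg) }
  have hHmem : ∀ g, g ∈ H ↔ (g ∈ S ∨ g * τ ∈ S) := fun g => Iff.rfl
  have hτH : τ ∈ H := by rw [hHmem, hττ]; exact Or.inr (one_mem _)
  have hH : H = ⊤ := by
    apply star_closure H (Fin.ofNat (m + 2) m)
    intro b hb
    obtain ⟨b, hb'⟩ := b
    have hbv : (⟨b, hb'⟩ : Fin (m + 2)) = Fin.ofNat (m + 2) b := by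
      apply Fin.ext
      simp [Fin.ofNat, Nat.mod_eq_of_lt hb']
    rw [hbv]
    rcases Nat.lt_trichotomy b m with h | h | h
    · have h1 : cyc m b * τ = Equiv.swap (Fin.ofNat (m + 2) b) (Fin.ofNat (m + 2) m) := by
        rw [cyc_def, mul_assoc, ← hτ, hττ, mul_one]
      rw [Equiv.swap_comm, ← h1]
      exact mul_mem (Or.inl (mem_gen h)) hτH
    · exfalso
      apply hb
      rw [hbv, h]
    · obtain rfl : b = m + 1 := by omega
      exact hτH
  apply le_antisymm hle
  intro g hg
  have hgH : g ∈ H := by rw [hH]; exact mem_top g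
  rcases hgH with h | h
  · exact h
  · exfalso
    have h1 := hle h
    have h2 := mul_mem (inv_mem hg) h1
    rw [inv_mul_cancel_left, Equiv.Perm.mem_alternatingGroup, hτ,
      Equiv.Perm.sign_swap (ofNat_ne (by omega) (by omega) (by omega))] at h2
    exact absurd h2 (by decide)

/-- Carmichael: elements of `G` with the relations are images of the 3-cycles under a homomorphism. -/
theorem exists_hom {m : ℕ} (hm : 1 ≤ m) {x : ℕ → G} (h : Rel m x) :
    ∃ φ : alternatingGroup (Fin (m + 2)) →* G, ∀ (i : ℕ) (hi : i < m), φ ⟨cyc m i, cyc_mem m i hi⟩ = x i := by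
  classical
  obtain ⟨k, rfl⟩ : ∃ k, m = k + 1 := ⟨m - 1, by omega⟩
  -- the pairs
  let c : ℕ → alternatingGroup (Fin (k + 1 + 2)) := fun i =>
    if hi : i < k + 1 then ⟨cyc (k + 1) i, cyc_mem (k + 1) i hi⟩ else 1
  have hc : ∀ i (hi : i < k + 1), c i = ⟨cyc (k + 1) i, cyc_mem (k + 1) i hi⟩ := fun i hi => dif_pos hi
  let y : ℕ → alternatingGroup (Fin (k + 1 + 2)) × G := fun i => (c i, x i)
  have hcrel := rel_cyc (k + 1)
  have hy : Rel (k + 1) y := by
    constructor
    · intro i hi
      refine Prod.ext ?_ (h.cube i hi)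
      show c i ^ 3 = 1
      rw [hc i hi]
      exact Subtype.ext (hcrel.cube i hi)
    · intro i hi j hj hij
      refine Prod.ext ?_ (h.sq i hi j hj hij)
      show (c i * c j) ^ 2 = 1
      rw [hc i hi, hc j hj]
      exact Subtype.ext (hcrel.sq i hi j hj hij)
  obtain ⟨hfin, hcard⟩ := card_gen_le hy
  let π : gen (k + 1) y →* alternatingGroup (Fin (k + 1 + 2)) :=
    (MonoidHom.fst _ _).comp (gen (k + 1) y).subtype
  have hsurj : Function.Surjective π := by
    have hrange : π.range.map (alternatingGroup (Fin (k + 1 + 2))).subtype = gen (k + 1) (cyc (k + 1)) := by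
      apply le_antisymm
      · rw [gen_cyc (k + 1) (by omega)]
        rintro _ ⟨g, -, rfl⟩
        exact g.2
      · rw [gen_def, closure_le]
        rintro _ ⟨i, hi, rfl⟩
        refine ⟨c i, ⟨⟨y i, mem_gen hi⟩, rfl⟩, ?_⟩
        rw [hc i hi]; rfl
    rw [gen_cyc (k + 1) (by omega)] at hrange
    rw [← MonoidHom.range_eq_top, eq_top_iff]
    intro g _
    have : (g : Equiv.Perm (Fin (k + 1 + 2))) ∈ π.range.map (alternatingGroup (Fin (k + 1 + 2))).subtype := by
      rw [hrange]; exact g.2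
    obtain ⟨g', hg', hgg⟩ := this
    have : g' = g := Subtype.ext hgg
    rwa [← this]
  have hcardA : 2 * Nat.card (alternatingGroup (Fin (k + 1 + 2))) = (k + 3).factorial := by
    have : Nontrivial (Fin (k + 1 + 2)) := ⟨⟨0, 1, by simp⟩⟩
    rw [Nat.card_eq_fintype_card, two_mul_card_alternatingGroup, Fintype.card_perm, Fintype.card_fin]
  have hle : Nat.card (gen (k + 1) y) ≤ Nat.card (alternatingGroup (Fin (k + 1 + 2))) := by omega
  have hinj : Function.Injective π := by
    have hb : Function.Bijective π :=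
      (Nat.bijective_iff_surjective_and_card π).mpr
        ⟨hsurj, le_antisymm hle (Nat.card_le_card_of_surjective π hsurj)⟩
    exact hb.1
  let e : gen (k + 1) y ≃* alternatingGroup (Fin (k + 1 + 2)) := MulEquiv.ofBijective π ⟨hinj, hsurj⟩
  refine ⟨((MonoidHom.snd _ _).comp (gen (k + 1) y).subtype).comp e.symm.toMonoidHom, ?_⟩
  intro i hi
  have : e.symm ⟨cyc (k + 1) i, cyc_mem (k + 1) i hi⟩ = ⟨y i, mem_gen hi⟩ := by
    rw [MulEquiv.symm_apply_eq]
    exact (hc i hi).symm
  show (e.symm ⟨cyc (k + 1) i, cyc_mem (k + 1) i hi⟩).1.2 = x i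
  rw [this]

/-- If moreover `m ≥ 3` and some `x_i` (`i < m`) is non-trivial, the group generated by the `x_i` is isomorphic to
the alternating group of degree `m + 2`. -/
theorem nonempty_gen_equiv {m : ℕ} (hm : 3 ≤ m) {x : ℕ → G} (h : Rel m x) (hne : ∃ i < m, x i ≠ 1) :
    Nonempty (gen m x ≃* alternatingGroup (Fin (m + 2))) := by
  classical
  obtain ⟨φ, hφ⟩ := exists_hom (by omega) h
  have hsimple : IsSimpleGroup (alternatingGroup (Fin (m + 2))) :=
    alternatingGroup.isSimpleGroup (by rw [Nat.card_eq_fintype_card, Fintype.card_fin]; omega)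
  have hinj : Function.Injective φ := by
    rw [← MonoidHom.ker_eq_bot_iff]
    rcases (inferInstance : φ.ker.Normal).eq_bot_or_eq_top with hb | ht
    · exact hb
    · exfalso
      obtain ⟨i, hi, hxi⟩ := hne
      apply hxi
      rw [← hφ i hi]
      have : (⟨cyc m i, cyc_mem m i hi⟩ : alternatingGroup (Fin (m + 2))) ∈ φ.ker := by
        rw [ht]; exact mem_top _
      exact this
  have hrange : φ.range = gen m x := by
    have h1 : φ.range = ((⊤ : Subgroup (alternatingGroup (Fin (m + 2)))).map φ) := MonoidHom.range_eq_map φ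
    have h2 : (⊤ : Subgroup (alternatingGroup (Fin (m + 2)))) =
        Subgroup.closure {g : alternatingGroup (Fin (m + 2)) | ∃ (i : ℕ) (hi : i < m),
          g = ⟨cyc m i, cyc_mem m i hi⟩} := by
      symm
      rw [eq_top_iff]
      intro g _
      have hg : (g : Equiv.Perm (Fin (m + 2))) ∈ gen m (cyc m) := by
        rw [gen_cyc m (by omega)]; exact g.2
      have h3 : gen m (cyc m) ≤ (Subgroup.closure {g : alternatingGroup (Fin (m + 2)) | ∃ (i : ℕ) (hi : i < m),
          g = ⟨cyc m i, cyc_mem m i hi⟩}).map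
            (alternatingGroup (Fin (m + 2))).subtype := by
        rw [gen_def, closure_le]
        rintro _ ⟨i, hi, rfl⟩
        exact ⟨⟨cyc m i, cyc_mem m i hi⟩, subset_closure ⟨i, hi, rfl⟩, rfl⟩
      obtain ⟨g', hg', hgg⟩ := h3 hg
      have : g' = g := Subtype.ext hgg
      rwa [← this]
    rw [h1, h2, MonoidHom.map_closure, gen_def]
    congr 1
    ext g
    constructor
    · rintro ⟨_, ⟨i, hi, rfl⟩, rfl⟩
      exact ⟨i, hi, hφ i hi⟩
    · rintro ⟨i, hi, rfl⟩
      exact ⟨_, ⟨i, hi, rfl⟩, hφ i hi⟩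
  rw [← hrange]
  exact ⟨(MonoidHom.ofInjective hinj).symm⟩

end Cfsg.Agent.Lib.AltCarmichael
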