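import Cfsg.Agent.Lib.KleinGen
import Mathlib.SetTheory.Cardinal.Finite
import Mathlib.GroupTheory.Subgroup.Center
import Mathlib.Tactic.Ring

/-!
The order formula `|K| |C_K(V)|² = |C_K(a)| |C_K(b)| |C_K(ab)|` for a four-group `V = ⟨a, b⟩` (or two
commuting involutory automorphisms) acting on a group `K` of odd order.  Elementary: neither
solvability nor Sylow theory is used.
-/

set_option autoImplicit false

namespace Cfsg.Agent.Lib.KleinOrder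

open Cfsg.Agent.Lib.KleinGen

variable {G : Type*} [Group G]

/-- `|H| = |fixed points| * |inverted elements|` for an involutory endomorphism of a group of odd
order. -/
theorem card_eq_fix_mul_inv (H : Subgroup G) (hodd : Odd (Nat.card H)) (φ : G →* G)
    (hφ : ∀ g, φ (φ g) = g) (hH : ∀ h ∈ H, φ h ∈ H) :
    Nat.card H = Nat.card {h : G // h ∈ H ∧ φ h = h} * Nat.card {h : G // h ∈ H ∧ φ h = h⁻¹} := by
  rw [← Nat.card_prod]
  symm
  refine Nat.card_eq_of_bijective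
    (fun x : {h : G // h ∈ H ∧ φ h = h} × {h : G // h ∈ H ∧ φ h = h⁻¹} =>
      (⟨x.1.1 * x.2.1, H.mul_mem x.1.2.1 x.2.2.1⟩ : H)) ⟨?_, ?_⟩
  · rintro ⟨⟨c, hc, hc'⟩, ⟨k, hk, hk'⟩⟩ ⟨⟨d, hd, hd'⟩, ⟨l, hl, hl'⟩⟩ e
    have e1 : c * k = d * l := congrArg Subtype.val e
    have e2 : c * k⁻¹ = d * l⁻¹ := by
      have := congrArg φ e1
      rwa [map_mul, map_mul, hc', hd', hk', hl'] at this
    have e3 : k * k = l * l := by
      have h1 : d⁻¹ * c = l * k⁻¹ := by rw [inv_mul_eq_iff_eq_mul, ← mul_assoc, ← e1]; group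
      have h2 : d⁻¹ * c = l⁻¹ * k := by rw [inv_mul_eq_iff_eq_mul, ← mul_assoc, ← e2]; group
      have h3 : l * k⁻¹ = l⁻¹ * k := by rw [← h1, h2]
      calc k * k = l * (l⁻¹ * k) * k := by group
        _ = l * (l * k⁻¹) * k := by rw [h3]
        _ = l * l := by group
    have e4 : k = l := eq_of_mul_self_eq hodd hk hl e3
    subst e4
    have e5 : c = d := mul_right_cancel e1
    subst e5
    rfl
  · rintro ⟨h, hh⟩
    obtain ⟨c, hc, k, hk, h1, h2, h3⟩ := exists_fixed_mul_inverted H hodd φ hφ hH hh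
    exact ⟨⟨⟨c, hc, h1⟩, ⟨k, hk, h2⟩⟩, Subtype.ext h3.symm⟩

/-- The elements inverted by `φ` are uniquely `e * l * e` with `e` fixed and `l` inverted by `ψ`
(both inverted by `φ`). -/
theorem card_inv_eq (H : Subgroup G) (hodd : Odd (Nat.card H)) (φ ψ : G →* G)
    (hψ : ∀ g, ψ (ψ g) = g) (hc : ∀ g, φ (ψ g) = ψ (φ g))
    (hφH : ∀ h ∈ H, φ h ∈ H) (hψH : ∀ h ∈ H, ψ h ∈ H) :
    Nat.card {h : G // h ∈ H ∧ φ h = h⁻¹} =
      Nat.card {h : G // h ∈ H ∧ φ h = h⁻¹ ∧ ψ h = h} *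
        Nat.card {h : G // h ∈ H ∧ φ h = h⁻¹ ∧ ψ h = h⁻¹} := by
  -- uniqueness of the midpoint
  have huniq : ∀ k ∈ H, ∀ d ∈ H, ∀ e ∈ H, d * k⁻¹ * d = e * k⁻¹ * e → d = e := by
    intro k hk d hd e he hde
    obtain ⟨n, hn⟩ := exists_sqrt_exponent H hodd
    have hm : k ^ n ∈ H := H.pow_mem hk n
    have hmm : k ^ n * k ^ n = k := (hn k hk).1
    set m := k ^ n with hmdef
    have h1 : ∀ x ∈ H, m⁻¹ * x * m⁻¹ ∈ H := fun x hx =>
      H.mul_mem (H.mul_mem (H.inv_mem hm) hx) (H.inv_mem hm)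
    have h3 : ∀ x : G, (m⁻¹ * x * m⁻¹) * (m⁻¹ * x * m⁻¹) = m⁻¹ * (x * k⁻¹ * x) * m⁻¹ := by
      intro x
      rw [← hmm]; group
    have h5 := eq_of_mul_self_eq hodd (h1 d hd) (h1 e he) (by rw [h3, h3, hde])
    have h6 : m * (m⁻¹ * d * m⁻¹) * m = m * (m⁻¹ * e * m⁻¹) * m := by rw [h5]
    have h7 : m * (m⁻¹ * e * m⁻¹) * m = e := by group
    have h8 : m * (m⁻¹ * d * m⁻¹) * m = d := by group
    rw [← h7, ← h6, h8]
  rw [← Nat.card_prod]
  symm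
  have hmem : ∀ e l : G, (e ∈ H ∧ φ e = e⁻¹ ∧ ψ e = e) → (l ∈ H ∧ φ l = l⁻¹ ∧ ψ l = l⁻¹) →
      e * l * e ∈ H ∧ φ (e * l * e) = (e * l * e)⁻¹ := by
    intro e l he hl
    refine ⟨H.mul_mem (H.mul_mem he.1 hl.1) he.1, ?_⟩
    rw [map_mul, map_mul, he.2.1, hl.2.1]; group
  refine Nat.card_eq_of_bijective
    (fun x : {h : G // h ∈ H ∧ φ h = h⁻¹ ∧ ψ h = h} × {h : G // h ∈ H ∧ φ h = h⁻¹ ∧ ψ h = h⁻¹} =>
      (⟨x.1.1 * x.2.1 * x.1.1, hmem _ _ x.1.2 x.2.2⟩ : {h : G // h ∈ H ∧ φ h = h⁻¹})) ⟨?_, ?_⟩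
  · rintro ⟨⟨e, he⟩, ⟨l, hl⟩⟩ ⟨⟨e', he'⟩, ⟨l', hl'⟩⟩ heq
    have e1 : e * l * e = e' * l' * e' := congrArg Subtype.val heq
    have e2 : e * l⁻¹ * e = e' * l'⁻¹ * e' := by
      have := congrArg ψ e1
      rwa [map_mul, map_mul, map_mul, map_mul, he.2.2, he'.2.2, hl.2.2, hl'.2.2] at this
    have hx : e * l * e ∈ H := (hmem e l he hl).1
    have e3 : e * e = e' * e' := by
      refine huniq _ hx _ (H.mul_mem he.1 he.1) _ (H.mul_mem he'.1 he'.1) ?_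
      have a1 : e * e * (e * l * e)⁻¹ * (e * e) = e * l⁻¹ * e := by group
      have a2 : e' * e' * (e' * l' * e')⁻¹ * (e' * e') = e' * l'⁻¹ * e' := by group
      rw [a1]
      rw [e1, a2, e2]
    have e4 : e = e' := eq_of_mul_self_eq hodd he.1 he'.1 e3
    subst e4
    have e5 : l = l' := mul_left_cancel (mul_right_cancel e1)
    subst e5
    rfl
  · rintro ⟨k, hk, hφk⟩
    obtain ⟨n, hn⟩ := exists_sqrt_exponent H hodd
    have hm : k ^ n ∈ H := H.pow_mem hk n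
    have hmm : k ^ n * k ^ n = k := (hn k hk).1
    set m := k ^ n with hmdef
    have hψk : ψ k ∈ H := hψH k hk
    have hp : m⁻¹ * ψ k * m⁻¹ ∈ H := H.mul_mem (H.mul_mem (H.inv_mem hm) hψk) (H.inv_mem hm)
    set p := m⁻¹ * ψ k * m⁻¹ with hpdef
    have hpp : p ^ n * p ^ n = p := (hn p hp).1
    have hq : p ^ n ∈ H := H.pow_mem hp n
    have hd : m * p ^ n * m ∈ H := H.mul_mem (H.mul_mem hm hq) hm
    have hdk : (m * p ^ n * m) * k⁻¹ * (m * p ^ n * m) = ψ k := by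
      have : (m * p ^ n * m) * k⁻¹ * (m * p ^ n * m) = m * (p ^ n * p ^ n) * m := by
        rw [← hmm]; group
      rw [this, hpp, hpdef]; group
    set d := m * p ^ n * m with hddef
    have hψd : ψ d = d := by
      refine huniq k hk _ (hψH d hd) _ hd ?_
      have h1 : ψ d * (ψ k)⁻¹ * ψ d = k := by
        rw [← map_inv, ← map_mul, ← map_mul, hdk, hψ]
      have h2 : ψ d * k⁻¹ * ψ d = ψ d * (ψ d * (ψ k)⁻¹ * ψ d)⁻¹ * ψ d := by rw [h1]
      rw [h2, hdk]; group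
    have hφd : φ d = d⁻¹ := by
      have h1 : φ d * k * φ d = (ψ k)⁻¹ := by
        have : φ (d * k⁻¹ * d) = φ d * k * φ d := by
          rw [map_mul, map_mul, map_inv, hφk, inv_inv]
        rw [← this, hdk, hc, hφk, map_inv]
      have h2 : (φ d)⁻¹ * k⁻¹ * (φ d)⁻¹ = ψ k := by
        have : (φ d)⁻¹ * k⁻¹ * (φ d)⁻¹ = (φ d * k * φ d)⁻¹ := by group
        rw [this, h1, inv_inv]
      have h3 := huniq k hk _ (H.inv_mem (hφH d hd)) _ hd (by rw [h2, hdk])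
      exact inv_eq_iff_eq_inv.mp h3
    have he : d ^ n ∈ H := H.pow_mem hd n
    have hee : d ^ n * d ^ n = d := (hn d hd).1
    have hψe : ψ (d ^ n) = d ^ n := by rw [map_pow, hψd]
    have hφe : φ (d ^ n) = (d ^ n)⁻¹ := by rw [map_pow, hφd, inv_pow]
    set e := d ^ n with hedef
    have hψl : ψ (e⁻¹ * k * e⁻¹) = (e⁻¹ * k * e⁻¹)⁻¹ := by
      have h2 : ψ (e⁻¹ * k * e⁻¹) = e⁻¹ * ψ k * e⁻¹ := by rw [map_mul, map_mul, map_inv, hψe]
      rw [h2, ← hdk, ← hee]; group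
    have hφl : φ (e⁻¹ * k * e⁻¹) = (e⁻¹ * k * e⁻¹)⁻¹ := by
      rw [map_mul, map_mul, map_inv, hφe, hφk]; group
    refine ⟨⟨⟨e, he, hφe, hψe⟩, ⟨e⁻¹ * k * e⁻¹,
      H.mul_mem (H.mul_mem (H.inv_mem he) hk) (H.inv_mem he), hφl, hψl⟩⟩, Subtype.ext ?_⟩
    simp only []
    group

/-- The order formula for two commuting involutory endomorphisms leaving invariant a subgroup `H`
of odd order. -/
theorem card_klein_aux (H : Subgroup G) (hodd : Odd (Nat.card H)) (φ ψ : G →* G)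
    (hφ : ∀ g, φ (φ g) = g) (hψ : ∀ g, ψ (ψ g) = g) (hc : ∀ g, φ (ψ g) = ψ (φ g))
    (hφH : ∀ h ∈ H, φ h ∈ H) (hψH : ∀ h ∈ H, ψ h ∈ H) :
    Nat.card H * Nat.card {h : G // h ∈ H ∧ φ h = h ∧ ψ h = h} ^ 2 =
      Nat.card {h : G // h ∈ H ∧ φ h = h} * Nat.card {h : G // h ∈ H ∧ ψ h = h} *
        Nat.card {h : G // h ∈ H ∧ φ (ψ h) = h} := by
  have hfin : Finite H := Nat.finite_of_card_ne_zero (fun h => by
    rw [h] at hodd; exact absurd hodd (by decide))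
  -- subgroups of fixed points
  let Hψ : Subgroup G :=
    { carrier := {h | h ∈ H ∧ ψ h = h}
      mul_mem' := fun ha hb => ⟨H.mul_mem ha.1 hb.1, by rw [map_mul, ha.2, hb.2]⟩
      one_mem' := ⟨H.one_mem, map_one ψ⟩
      inv_mem' := fun ha => ⟨H.inv_mem ha.1, by rw [map_inv, ha.2]⟩ }
  let Hc : Subgroup G :=
    { carrier := {h | h ∈ H ∧ φ (ψ h) = h}
      mul_mem' := fun {a b} ha hb => ⟨H.mul_mem ha.1 hb.1, by rw [map_mul, map_mul, ha.2, hb.2]⟩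
      one_mem' := ⟨H.one_mem, by rw [map_one, map_one]⟩
      inv_mem' := fun {a} ha => ⟨H.inv_mem ha.1, by rw [map_inv, map_inv, ha.2]⟩ }
  have hψle : Hψ ≤ H := fun x hx => hx.1
  have hcle : Hc ≤ H := fun x hx => hx.1
  have hoddψ : Odd (Nat.card Hψ) := hodd.of_dvd_nat (Subgroup.card_dvd_of_le hψle)
  have hoddc : Odd (Nat.card Hc) := hodd.of_dvd_nat (Subgroup.card_dvd_of_le hcle)
  have e1 := card_eq_fix_mul_inv H hodd φ hφ hφH
  have e2 := card_inv_eq H hodd φ ψ hψ hc hφH hψH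
  have e3 := card_eq_fix_mul_inv Hψ hoddψ φ hφ (fun h hh => ⟨hφH h hh.1, by rw [← hc, hh.2]⟩)
  have e4 := card_eq_fix_mul_inv Hc hoddc φ hφ (fun h hh => ⟨hφH h hh.1, by
    have : φ (ψ (φ h)) = φ (φ (ψ h)) := by rw [hc h]
    rw [this]; exact congrArg φ hh.2⟩)
  have c1 : Nat.card {h : G // h ∈ Hψ ∧ φ h = h} =
      Nat.card {h : G // h ∈ H ∧ φ h = h ∧ ψ h = h} :=
    Nat.card_congr (Equiv.subtypeEquivRight fun h =>
      ⟨fun x => ⟨x.1.1, x.2, x.1.2⟩, fun x => ⟨⟨x.1, x.2.2⟩, x.2.1⟩⟩)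
  have c2 : Nat.card {h : G // h ∈ Hψ ∧ φ h = h⁻¹} =
      Nat.card {h : G // h ∈ H ∧ φ h = h⁻¹ ∧ ψ h = h} :=
    Nat.card_congr (Equiv.subtypeEquivRight fun h =>
      ⟨fun x => ⟨x.1.1, x.2, x.1.2⟩, fun x => ⟨⟨x.1, x.2.2⟩, x.2.1⟩⟩)
  have c3 : Nat.card {h : G // h ∈ Hc ∧ φ h = h} =
      Nat.card {h : G // h ∈ H ∧ φ h = h ∧ ψ h = h} :=
    Nat.card_congr (Equiv.subtypeEquivRight fun h =>
      ⟨fun x => ⟨x.1.1, x.2, by
        have h1 : φ (ψ h) = h := x.1.2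
        rw [hc, x.2] at h1; exact h1⟩,
       fun x => ⟨⟨x.1, by rw [x.2.2, x.2.1]⟩, x.2.1⟩⟩)
  have c4 : Nat.card {h : G // h ∈ Hc ∧ φ h = h⁻¹} =
      Nat.card {h : G // h ∈ H ∧ φ h = h⁻¹ ∧ ψ h = h⁻¹} :=
    Nat.card_congr (Equiv.subtypeEquivRight fun h =>
      ⟨fun x => ⟨x.1.1, x.2, by
        have h1 : φ (ψ h) = h := x.1.2
        rw [hc, x.2, map_inv] at h1
        rw [← inv_inj, inv_inv]; exact h1⟩,
       fun x => ⟨⟨x.1, by rw [x.2.2, map_inv, x.2.1, inv_inv]⟩, x.2.1⟩⟩)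
  have d1 : Nat.card Hψ = Nat.card {h : G // h ∈ H ∧ ψ h = h} := rfl
  have d2 : Nat.card Hc = Nat.card {h : G // h ∈ H ∧ φ (ψ h) = h} := rfl
  rw [c1, c2] at e3
  rw [c3, c4] at e4
  rw [← d1, ← d2, e3, e4, e1, e2]
  ring

/-- **Order formula.** A four-group `⟨a, b⟩` normalises a subgroup `K` of odd order:
`|K| |C_K(a, b)|² = |C_K(a)| |C_K(b)| |C_K(ab)|`. -/
theorem card_klein {a b : G} (K : Subgroup G) (hodd : Odd (Nat.card K)) (ha : a * a = 1)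
    (hb : b * b = 1) (hab : a * b = b * a) (haK : ∀ k ∈ K, a * k * a⁻¹ ∈ K)
    (hbK : ∀ k ∈ K, b * k * b⁻¹ ∈ K) :
    Nat.card K * Nat.card (K ⊓ Subgroup.centralizer {a} ⊓ Subgroup.centralizer {b} : Subgroup G) ^ 2 =
      Nat.card (K ⊓ Subgroup.centralizer {a} : Subgroup G) *
        Nat.card (K ⊓ Subgroup.centralizer {b} : Subgroup G) *
          Nat.card (K ⊓ Subgroup.centralizer {a * b} : Subgroup G) := by
  have key : ∀ x g : G, x * g * x⁻¹ = g ↔ g ∈ Subgroup.centralizer ({x} : Set G) := by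
    intro x g
    rw [Subgroup.mem_centralizer_singleton_iff, mul_inv_eq_iff_eq_mul]
    exact eq_comm
  have h := card_klein_aux K hodd (MulAut.conj a).toMonoidHom (MulAut.conj b).toMonoidHom
    (fun g => by
      change a * (a * g * a⁻¹) * a⁻¹ = g
      have : a⁻¹ = a := inv_eq_of_mul_eq_one_left ha
      calc a * (a * g * a⁻¹) * a⁻¹ = (a * a) * g * (a * a)⁻¹ := by group
        _ = g := by rw [ha]; group)
    (fun g => by
      change b * (b * g * b⁻¹) * b⁻¹ = g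
      calc b * (b * g * b⁻¹) * b⁻¹ = (b * b) * g * (b * b)⁻¹ := by group
        _ = g := by rw [hb]; group)
    (fun g => by
      change a * (b * g * b⁻¹) * a⁻¹ = b * (a * g * a⁻¹) * b⁻¹
      calc a * (b * g * b⁻¹) * a⁻¹ = (a * b) * g * (a * b)⁻¹ := by group
        _ = b * (a * g * a⁻¹) * b⁻¹ := by rw [hab]; group)
    haK hbK
  have k1 : Nat.card {h : G // h ∈ K ∧ (MulAut.conj a).toMonoidHom h = h ∧
      (MulAut.conj b).toMonoidHom h = h} =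
      Nat.card (K ⊓ Subgroup.centralizer {a} ⊓ Subgroup.centralizer {b} : Subgroup G) :=
    Nat.card_congr (Equiv.subtypeEquivRight fun g =>
      ⟨fun x => ⟨⟨x.1, (key a g).1 x.2.1⟩, (key b g).1 x.2.2⟩,
       fun x => ⟨x.1.1, (key a g).2 x.1.2, (key b g).2 x.2⟩⟩)
  have k2 : Nat.card {h : G // h ∈ K ∧ (MulAut.conj a).toMonoidHom h = h} =
      Nat.card (K ⊓ Subgroup.centralizer {a} : Subgroup G) :=
    Nat.card_congr (Equiv.subtypeEquivRight fun g =>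
      ⟨fun x => ⟨x.1, (key a g).1 x.2⟩, fun x => ⟨x.1, (key a g).2 x.2⟩⟩)
  have k3 : Nat.card {h : G // h ∈ K ∧ (MulAut.conj b).toMonoidHom h = h} =
      Nat.card (K ⊓ Subgroup.centralizer {b} : Subgroup G) :=
    Nat.card_congr (Equiv.subtypeEquivRight fun g =>
      ⟨fun x => ⟨x.1, (key b g).1 x.2⟩, fun x => ⟨x.1, (key b g).2 x.2⟩⟩)
  have k4 : Nat.card {h : G // h ∈ K ∧ (MulAut.conj a).toMonoidHom
      ((MulAut.conj b).toMonoidHom h) = h} =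
      Nat.card (K ⊓ Subgroup.centralizer {a * b} : Subgroup G) :=
    Nat.card_congr (Equiv.subtypeEquivRight fun g => by
      have e : (MulAut.conj a).toMonoidHom ((MulAut.conj b).toMonoidHom g) =
          (a * b) * g * (a * b)⁻¹ := by
        change a * (b * g * b⁻¹) * a⁻¹ = _
        group
      rw [e]
      exact ⟨fun x => ⟨x.1, (key (a * b) g).1 x.2⟩, fun x => ⟨x.1, (key (a * b) g).2 x.2⟩⟩)
  rw [k1, k2, k3, k4] at h
  exact h

end Cfsg.Agent.Lib.KleinOrder
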