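import Mathlib.GroupTheory.Commutator.Basic
import Mathlib.GroupTheory.Subgroup.Centralizer
import Mathlib.GroupTheory.Index
import Mathlib.GroupTheory.Perm.Cycle.Type
import Mathlib.Tactic

/-!
# Coprime action on an abelian group (Fitting's decomposition)

* `norm φ v = ∏ a, φ a v` for an action `φ : A →* MulAut V` on a commutative group.
* `fixed_mul_comm` : `V = C_V(A) [V, A]` and `C_V(A) ∩ [V, A] = 1` for coprime actions,
  both for `φ : A →* MulAut V` and for subgroups `A V : Subgroup G`.
-/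

set_option autoImplicit false
set_option linter.style.haveILetI false

open scoped commutatorElement

namespace Cfsg.Agent.Lib.CoprimeAbelian

section Action

variable {A V : Type*} [Group A] [CommGroup V]

/-- The norm homomorphism `v ↦ ∏ a, φ a v` of an action of a finite group on an abelian group. -/
noncomputable def norm [Fintype A] (φ : A →* MulAut V) : V →* V where
  toFun v := ∏ a : A, φ a v
  map_one' := by simp
  map_mul' x y := by simp [Finset.prod_mul_distrib]

theorem norm_apply [Fintype A] (φ : A →* MulAut V) (v : V) : norm φ v = ∏ a : A, φ a v := rfl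

theorem norm_fixed [Fintype A] (φ : A →* MulAut V) (v : V) (b : A) :
    φ b (norm φ v) = norm φ v := by
  rw [norm_apply, map_prod]
  refine Fintype.prod_equiv (Equiv.mulLeft b) _ _ ?_
  intro a
  simp [map_mul]

theorem norm_act [Fintype A] (φ : A →* MulAut V) (v : V) (b : A) :
    norm φ (φ b v) = norm φ v := by
  rw [norm_apply, norm_apply]
  refine Fintype.prod_equiv (Equiv.mulRight b) _ _ ?_
  intro a
  simp [map_mul]

theorem norm_of_fixed [Fintype A] (φ : A →* MulAut V) (v : V) (hv : ∀ a, φ a v = v) :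
    norm φ v = v ^ Fintype.card A := by
  rw [norm_apply]
  simp [hv]

/-- An element of a finite group whose `n`-th power is trivial, `n` coprime to the order, is
trivial. -/
theorem eq_one_of_pow_coprime {W : Type*} [Group W] {n : ℕ}
    (hn : n.Coprime (Nat.card W)) (w : W) (hw : w ^ n = 1) : w = 1 := by
  have h1 : orderOf w ∣ n := orderOf_dvd_of_pow_eq_one hw
  have h2 : orderOf w ∣ Nat.card W := orderOf_dvd_natCard w
  have h3 : orderOf w ∣ 1 := by
    rw [← hn]
    exact Nat.dvd_gcd h1 h2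
  rw [Nat.dvd_one] at h3
  exact orderOf_eq_one_iff.mp h3

/-- If `v ^ n ∈ H` with `n` coprime to the group order, then `v ∈ H`. -/
theorem mem_of_pow_mem_coprime {W : Type*} [Group W] {n : ℕ}
    (hn : n.Coprime (Nat.card W)) (H : Subgroup W) (w : W) (hw : w ^ n ∈ H) : w ∈ H := by
  have h2 : orderOf w ∣ Nat.card W := orderOf_dvd_natCard w
  have h3 : n.Coprime (orderOf w) := Nat.Coprime.coprime_dvd_right h2 hn
  obtain ⟨m, hm⟩ := exists_pow_eq_self_of_coprime h3
  rw [← hm]
  exact H.pow_mem hw m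

/-- Uniqueness: a fixed element in the subgroup generated by the `φ a u / u` is trivial. -/
theorem eq_one_of_fixed_of_mem_closure [Finite A]
    (φ : A →* MulAut V) (hcop : (Nat.card A).Coprime (Nat.card V)) (v : V)
    (hv : ∀ a, φ a v = v)
    (hmem : v ∈ Subgroup.closure {w : V | ∃ a u, w = φ a u * u⁻¹}) : v = 1 := by
  classical
  haveI := Fintype.ofFinite A
  have h1 : norm φ v = 1 := by
    have hle : Subgroup.closure {w : V | ∃ a u, w = φ a u * u⁻¹} ≤ (norm φ).ker := by
      rw [Subgroup.closure_le]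
      rintro w ⟨a, u, rfl⟩
      rw [SetLike.mem_coe, MonoidHom.mem_ker, map_mul, norm_act, map_inv, mul_inv_cancel]
    exact hle hmem
  rw [norm_of_fixed φ v hv, ← Nat.card_eq_fintype_card] at h1
  exact eq_one_of_pow_coprime hcop v h1

/-- Existence: any element is in the product of the fixed points and the subgroup generated by
the `φ a u / u`. -/
theorem exists_fixed_mul [Finite A]
    (φ : A →* MulAut V) (hcop : (Nat.card A).Coprime (Nat.card V)) (v : V) :
    ∃ c w : V, (∀ a, φ a c = c) ∧ w ∈ Subgroup.closure {w : V | ∃ a u, w = φ a u * u⁻¹} ∧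
      c * w = v := by
  classical
  haveI := Fintype.ofFinite A
  let C : Subgroup V :=
    { carrier := {c | ∀ a, φ a c = c}
      one_mem' := fun a => map_one _
      mul_mem' := by
        intro x y hx hy a
        rw [map_mul, hx a, hy a]
      inv_mem' := by
        intro x hx a
        rw [map_inv, hx a] }
  let D : Subgroup V := Subgroup.closure {w : V | ∃ a u, w = φ a u * u⁻¹}
  have h1 : v ^ Nat.card A ∈ C ⊔ D := by
    rw [Subgroup.mem_sup]
    refine ⟨norm φ v, fun a => norm_fixed φ v a, (norm φ v)⁻¹ * v ^ Nat.card A, ?_, by simp⟩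
    rw [← inv_mem_iff, mul_inv_rev, inv_inv, mul_comm, Nat.card_eq_fintype_card,
      norm_apply, ← Finset.card_univ, ← Finset.prod_const, ← Finset.prod_inv_distrib,
      ← Finset.prod_mul_distrib]
    exact Subgroup.prod_mem _ (fun a _ => Subgroup.subset_closure ⟨a, v, rfl⟩)
  have h2 := mem_of_pow_mem_coprime hcop (C ⊔ D) v h1
  rw [Subgroup.mem_sup] at h2
  obtain ⟨c, hc, w, hw, hcw⟩ := h2
  exact ⟨c, w, hc, hw, hcw⟩

end Action

section Subgroups

variable {G : Type*} [Group G]

/-- Fitting's lemma, uniqueness part: `C_V(A) ∩ [V, A] = 1` for a coprime action on an abelian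
group. -/
theorem inf_commutator_eq_bot (A V : Subgroup G) [Finite A]
    (hV : ∀ x ∈ V, ∀ y ∈ V, x * y = y * x)
    (hAV : A ≤ Subgroup.normalizer (V : Set G)) (hcop : (Nat.card A).Coprime (Nat.card V)) :
    (V ⊓ Subgroup.centralizer (A : Set G)) ⊓ ⁅V, A⁆ = ⊥ := by
  letI : CommGroup V := { (inferInstance : Group V) with
    mul_comm := fun x y => Subtype.ext (hV x x.2 y y.2) }
  let φ : A →* MulAut V := (Subgroup.normalizerMonoidHom V).comp (Subgroup.inclusion hAV)
  have hφ : ∀ (a : A) (v : V), ((φ a v : V) : G) = a * v * (a : G)⁻¹ := fun a v => rfl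
  rw [eq_bot_iff]
  rintro v ⟨⟨hv, hvc⟩, hvm⟩
  rw [Subgroup.mem_bot]
  have hle : ⁅V, A⁆ ≤ (Subgroup.closure {w : V | ∃ a u, w = φ a u * u⁻¹}).map V.subtype := by
    rw [Subgroup.commutator_le]
    intro v hv a ha
    rw [Subgroup.mem_map]
    refine ⟨(φ ⟨a, ha⟩ ⟨v, hv⟩ * (⟨v, hv⟩ : V)⁻¹)⁻¹,
      Subgroup.inv_mem _ (Subgroup.subset_closure ⟨⟨a, ha⟩, ⟨v, hv⟩, rfl⟩), ?_⟩
    rw [Subgroup.coe_subtype, Subgroup.coe_inv, Subgroup.coe_mul, hφ, commutatorElement_def]
    simp [mul_assoc]
  obtain ⟨w, hw, hwv⟩ := hle hvm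
  have hfix : ∀ a, φ a w = w := by
    intro a
    apply Subtype.ext
    rw [hφ]
    have h1 : (w : G) = v := hwv
    rw [h1]
    have h2 := Subgroup.mem_centralizer_iff.mp hvc a a.2
    rw [h2, mul_inv_cancel_right]
  have h3 := eq_one_of_fixed_of_mem_closure φ hcop w hfix hw
  rw [← hwv, h3, map_one]

/-- Fitting's lemma, existence part: `V = C_V(A) [V, A]` for a coprime action on an abelian
group. -/
theorem sup_commutator_eq (A V : Subgroup G) [Finite A]
    (hV : ∀ x ∈ V, ∀ y ∈ V, x * y = y * x)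
    (hAV : A ≤ Subgroup.normalizer (V : Set G)) (hcop : (Nat.card A).Coprime (Nat.card V)) :
    (V ⊓ Subgroup.centralizer (A : Set G)) ⊔ ⁅V, A⁆ = V := by
  letI : CommGroup V := { (inferInstance : Group V) with
    mul_comm := fun x y => Subtype.ext (hV x x.2 y y.2) }
  let φ : A →* MulAut V := (Subgroup.normalizerMonoidHom V).comp (Subgroup.inclusion hAV)
  have hφ : ∀ (a : A) (v : V), ((φ a v : V) : G) = a * v * (a : G)⁻¹ := fun a v => rfl
  apply le_antisymm
  · apply sup_le inf_le_left
    rw [Subgroup.commutator_le]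
    intro v hv a ha
    rw [commutatorElement_def, mul_assoc, mul_assoc]
    apply V.mul_mem hv
    have := (hAV ha v⁻¹).mp (V.inv_mem hv)
    rwa [SetLike.mem_coe, mul_assoc] at this
  · intro v hv
    obtain ⟨c, w, hc, hw, hcw⟩ := exists_fixed_mul φ hcop ⟨v, hv⟩
    have hv' : v = (c : G) * w := by
      rw [← Subgroup.coe_mul, hcw]
    rw [hv']
    apply Subgroup.mul_mem
    · apply Subgroup.mem_sup_left
      refine Subgroup.mem_inf.mpr ⟨c.2, ?_⟩
      rw [Subgroup.mem_centralizer_iff]
      intro a ha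
      have h1 := congrArg Subtype.val (hc ⟨a, ha⟩)
      rw [hφ] at h1
      exact mul_inv_eq_iff_eq_mul.mp h1
    · apply Subgroup.mem_sup_right
      have hle : (Subgroup.closure {w : V | ∃ a u, w = φ a u * u⁻¹}) ≤ ⁅V, A⁆.comap V.subtype := by
        rw [Subgroup.closure_le]
        rintro w ⟨a, u, rfl⟩
        rw [SetLike.mem_coe, Subgroup.mem_comap, Subgroup.coe_subtype, Subgroup.coe_mul, hφ,
          Subgroup.coe_inv, ← inv_mem_iff]
        have h2 : ((a : G) * u * (a : G)⁻¹ * (u : G)⁻¹)⁻¹ = ⁅(u : G), (a : G)⁆ := by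
          rw [commutatorElement_def]; group
        rw [h2]
        exact Subgroup.commutator_mem_commutator u.2 a.2
      exact hle hw

/-- A coprime action on an abelian group that fixes every element of prime order is trivial. -/
theorem le_centralizer_of_prime_order (A V : Subgroup G) [Finite A] [Finite V]
    (hV : ∀ x ∈ V, ∀ y ∈ V, x * y = y * x)
    (hAV : A ≤ Subgroup.normalizer (V : Set G)) (hcop : (Nat.card A).Coprime (Nat.card V))
    (hΩ : ∀ v ∈ V, (orderOf v).Prime → ∀ a ∈ A, a * v = v * a) :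
    A ≤ Subgroup.centralizer (V : Set G) := by
  have h1 := inf_commutator_eq_bot A V hV hAV hcop
  have h2 := sup_commutator_eq A V hV hAV hcop
  have hle : ⁅V, A⁆ ≤ V := by
    calc ⁅V, A⁆ ≤ _ := le_sup_right
      _ = V := h2
  have h3 : ⁅V, A⁆ = ⊥ := by
    by_contra hne
    haveI : Finite (⁅V, A⁆ : Subgroup G) := Finite.Set.subset (V : Set G) hle
    haveI : Nontrivial (⁅V, A⁆ : Subgroup G) := (Subgroup.nontrivial_iff_ne_bot _).mpr hne
    obtain ⟨p, hp, hpd⟩ := Nat.exists_prime_and_dvd (n := Nat.card (⁅V, A⁆ : Subgroup G))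
      (Finite.one_lt_card (α := (⁅V, A⁆ : Subgroup G))).ne'
    haveI : Fact p.Prime := ⟨hp⟩
    obtain ⟨c, hc⟩ := exists_prime_orderOf_dvd_card' p hpd
    have hc' : orderOf (c : G) = p := by rw [Subgroup.orderOf_coe, hc]
    have hcV : (c : G) ∈ V := hle c.2
    have h4 : (c : G) ∈ (V ⊓ Subgroup.centralizer (A : Set G)) ⊓ ⁅V, A⁆ := by
      refine Subgroup.mem_inf.mpr ⟨Subgroup.mem_inf.mpr ⟨hcV, ?_⟩, c.2⟩
      rw [Subgroup.mem_centralizer_iff]
      exact hΩ c hcV (hc' ▸ hp)
    rw [h1, Subgroup.mem_bot] at h4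
    rw [h4, orderOf_one] at hc'
    exact hp.one_lt.ne hc'
  rw [Subgroup.commutator_eq_bot_iff_le_centralizer] at h3
  exact Subgroup.le_centralizer_iff.mp h3

end Subgroups

end Cfsg.Agent.Lib.CoprimeAbelian
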