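import Mathlib
import Cfsg.Agent.Blocks.SylowIn

/-!
A `p`-group `A` acting on a finite group `H` of order prime to `p`: invariant Sylow subgroups,
their conjugacy under the fixed points of `A`, fixed points in cosets. Everything is elementary
(a `p`-group acting on a finite set of cardinality prime to `p` has a fixed point).
-/

set_option autoImplicit false

namespace Cfsg.Agent.Lib.PGroupCoprimeAction

open scoped Pointwise

section Abstract

variable {A H : Type*} [Group A] [Group H] [Finite H] [MulDistribMulAction A H]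
  {p : ℕ} [Fact p.Prime] {q : ℕ} [Fact q.Prime]

/-- A `p`-group acting on a finite group of order prime to `p` fixes some Sylow `q`-subgroup. -/
theorem exists_sylow_smul_eq (hA : IsPGroup p A) (hH : ¬ p ∣ Nat.card H) (q : ℕ) [Fact q.Prime] :
    ∃ S : Sylow q H, ∀ a : A, a • S = S := by
  have h1 : ¬ p ∣ Nat.card (Sylow q H) := by
    intro h
    obtain ⟨S⟩ : Nonempty (Sylow q H) := Sylow.nonempty
    exact hH ((h.trans (Sylow.card_dvd_index S)).trans (Subgroup.index_dvd_card _))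
  obtain ⟨S, hS⟩ := hA.nonempty_fixed_point_of_prime_not_dvd_card (Sylow q H) h1
  exact ⟨S, fun a => hS a⟩

omit [Finite H] in
/-- If a `p`-group `A` acting on `H` (of order prime to `p`) stabilizes a left coset `h N` of a subgroup `N`,
then it fixes an element of this coset. (Here: `N` any subgroup, `h N` stable under `A`.) -/
theorem exists_fixed_mem_coset (hA : IsPGroup p A) (hH : ¬ p ∣ Nat.card H) (N : Subgroup H) (h : H)
    (hst : ∀ a : A, ∀ x : H, h⁻¹ * x ∈ N → h⁻¹ * (a • x) ∈ N) :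
    ∃ c : H, h⁻¹ * c ∈ N ∧ ∀ a : A, a • c = c := by
  let X : Type _ := {x : H // h⁻¹ * x ∈ N}
  let _ : MulAction A X :=
    { smul := fun a x => ⟨a • (x : H), hst a x x.2⟩
      one_smul := fun x => Subtype.ext (one_smul A (x : H))
      mul_smul := fun a b x => Subtype.ext (mul_smul a b (x : H)) }
  have hc : Nat.card X = Nat.card N := by
    refine Nat.card_congr ⟨fun x => ⟨h⁻¹ * x, x.2⟩, fun n => ⟨h * n, ?_⟩, ?_, ?_⟩
    · rw [inv_mul_cancel_left]; exact n.2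
    · intro x; exact Subtype.ext (mul_inv_cancel_left h (x : H))
    · intro n; exact Subtype.ext (inv_mul_cancel_left h (n : H))
  have hX : ¬ p ∣ Nat.card X := by
    rw [hc]
    exact fun hd => hH (hd.trans (Subgroup.card_subgroup_dvd_card N))
  obtain ⟨x, hx⟩ := hA.nonempty_fixed_point_of_prime_not_dvd_card X hX
  exact ⟨x, x.2, fun a => congrArg Subtype.val (hx a)⟩

/-- Two `A`-invariant Sylow `q`-subgroups of `H` are conjugate by a fixed point of `A`. -/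
theorem exists_fixed_smul_eq (hA : IsPGroup p A) (hH : ¬ p ∣ Nat.card H) {S T : Sylow q H}
    (hS : ∀ a : A, a • S = S) (hT : ∀ a : A, a • T = T) :
    ∃ c : H, (∀ a : A, a • c = c) ∧ c • S = T := by
  obtain ⟨h, hh⟩ := MulAction.exists_smul_eq H S T
  have hkey : ∀ (a : A) (x : H) (P : Sylow q H), a • (x • P) = (a • x) • (a • P) := by
    intro a x P
    apply Sylow.ext
    rw [Sylow.pointwise_smul_def, Sylow.coe_subgroup_smul, Sylow.coe_subgroup_smul,
      Sylow.pointwise_smul_def]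
    ext y
    constructor
    · rintro ⟨z, ⟨w, hw, rfl⟩, rfl⟩
      refine ⟨a • w, ⟨w, hw, rfl⟩, ?_⟩
      change (a • x) * (a • w) * (a • x)⁻¹ = a • (x * w * x⁻¹)
      rw [smul_mul', smul_mul', smul_inv']
    · rintro ⟨z, ⟨w, hw, rfl⟩, rfl⟩
      refine ⟨x * w * x⁻¹, ⟨w, hw, rfl⟩, ?_⟩
      change a • (x * w * x⁻¹) = (a • x) * (a • w) * (a • x)⁻¹
      rw [smul_mul', smul_mul', smul_inv']
  obtain ⟨c, hc, hcf⟩ := exists_fixed_mem_coset hA hH (MulAction.stabilizer H S) h (by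
    intro a x hx
    rw [MulAction.mem_stabilizer_iff, mul_smul, inv_smul_eq_iff] at hx ⊢
    rw [hh] at hx ⊢
    have := hkey a x S
    rw [hx, hT a, hS a] at this
    exact this.symm)
  refine ⟨c, hcf, ?_⟩
  rw [MulAction.mem_stabilizer_iff, mul_smul, inv_smul_eq_iff] at hc
  rw [hc, hh]

end Abstract

section Ambient

variable {G : Type*} [Group G] [Finite G] {p : ℕ} [Fact p.Prime] {A H : Subgroup G}

/-- Conjugation action of a subgroup `A` on a subgroup `H` it normalizes. -/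
@[reducible] def conjAction {G : Type*} [Group G] (A H : Subgroup G) (hAH : ∀ b ∈ A, ∀ u ∈ H, b * u * b⁻¹ ∈ H) :
    MulDistribMulAction A H where
  smul b u := ⟨b * u * (b : G)⁻¹, hAH b b.2 u u.2⟩
  one_smul u := Subtype.ext (by change (1 : G) * u * (1 : G)⁻¹ = u; simp)
  mul_smul b c u := Subtype.ext (by
    change ((b : G) * c) * u * ((b : G) * c)⁻¹ = b * (c * u * (c : G)⁻¹) * (b : G)⁻¹
    group)
  smul_mul b u v := Subtype.ext (by
    change (b : G) * (u * v) * (b : G)⁻¹ = (b * u * (b : G)⁻¹) * (b * v * (b : G)⁻¹)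
    group)
  smul_one b := Subtype.ext (by change (b : G) * 1 * (b : G)⁻¹ = 1; simp)

/-- A `p`-subgroup `A` normalizing `H` of order prime to `p` normalizes some Sylow `q`-subgroup of `H`. -/
theorem exists_invariant_sylow (hA : IsPGroup p A) (hH : ¬ p ∣ Nat.card H)
    (hAH : ∀ b ∈ A, ∀ u ∈ H, b * u * b⁻¹ ∈ H) (q : ℕ) [Fact q.Prime] :
    ∃ S : Subgroup G, (∃ T : Sylow q H, (T : Subgroup H).map H.subtype = S) ∧
      ∀ b ∈ A, ∀ u ∈ S, b * u * b⁻¹ ∈ S := by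
  let _ := conjAction A H hAH
  obtain ⟨T, hT⟩ := exists_sylow_smul_eq (A := A) (H := H) hA hH q
  refine ⟨_, ⟨T, rfl⟩, ?_⟩
  rintro b hb _ ⟨t, ht, rfl⟩
  have h1 : (⟨b, hb⟩ : A) • t ∈ ((⟨b, hb⟩ : A) • T : Sylow q H) := ⟨t, ht, rfl⟩
  rw [hT] at h1
  exact ⟨_, h1, rfl⟩

/-- Every `A`-invariant `q`-subgroup of `H` lies in an `A`-invariant Sylow `q`-subgroup of `H`
(`A` a `p`-subgroup normalizing `H`, the order of `H` prime to `p`). -/
theorem exists_invariant_sylow_ge (hA : IsPGroup p A) (hH : ¬ p ∣ Nat.card H)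
    (hAH : ∀ b ∈ A, ∀ u ∈ H, b * u * b⁻¹ ∈ H) {q : ℕ} [Fact q.Prime] {R : Subgroup G}
    (hRH : R ≤ H) (hR : IsPGroup q R) (hAR : ∀ b ∈ A, ∀ u ∈ R, b * u * b⁻¹ ∈ R) :
    ∃ S : Subgroup G, (∃ T : Sylow q H, (T : Subgroup H).map H.subtype = S) ∧
      (∀ b ∈ A, ∀ u ∈ S, b * u * b⁻¹ ∈ S) ∧ R ≤ S := by
  let P : Subgroup G → Prop := fun S => R ≤ S ∧ S ≤ H ∧ IsPGroup q S ∧ ∀ b ∈ A, ∀ u ∈ S, b * u * b⁻¹ ∈ S
  obtain ⟨S, ⟨hRS, hSH, hSq, hAS⟩, hSmax⟩ :=
    (Set.toFinite {S | P S}).exists_maximal ⟨R, le_rfl, hRH, hR, hAR⟩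
  refine ⟨S, ?_, hAS, hRS⟩
  rw [Blocks.SylowIn.exists_sylow_map_eq_iff]
  refine ⟨hSH, hSq, fun Q hQH hQ hSQ => ?_⟩
  apply Blocks.SylowIn.eq_of_normalizer_inf_le hQ hSQ
  -- the normalizer of `S` in `H`
  have hN : ∀ b ∈ A, ∀ u ∈ Subgroup.normalizer (S : Set G) ⊓ H,
      b * u * b⁻¹ ∈ Subgroup.normalizer (S : Set G) ⊓ H := by
    intro b hb u hu
    rw [Subgroup.mem_inf] at hu ⊢
    refine ⟨?_, hAH b hb u hu.2⟩
    have hbN : b ∈ Subgroup.normalizer (S : Set G) := by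
      rw [Subgroup.mem_normalizer_iff]
      intro x
      refine ⟨fun hx => hAS b hb x hx, fun hx => ?_⟩
      have h1 := hAS b⁻¹ (A.inv_mem hb) _ hx
      have h2 : b⁻¹ * (b * x * b⁻¹) * b⁻¹⁻¹ = x := by group
      rwa [h2] at h1
    exact mul_mem (mul_mem hbN hu.1) (inv_mem hbN)
  have hNcard : ¬ p ∣ Nat.card ↥(Subgroup.normalizer (S : Set G) ⊓ H) :=
    fun h => hH (h.trans (Subgroup.card_dvd_of_le inf_le_right))
  obtain ⟨T, hT, hAT⟩ := exists_invariant_sylow hA hNcard hN q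
  rw [Blocks.SylowIn.exists_sylow_map_eq_iff] at hT
  obtain ⟨hTN, hTq, hTmax⟩ := hT
  have hSN : S ≤ Subgroup.normalizer (S : Set G) ⊓ H := le_inf Subgroup.le_normalizer hSH
  have hSmem : ∀ U : Subgroup G, U ≤ Subgroup.normalizer (S : Set G) ⊓ H → IsPGroup q U → IsPGroup q ↥(U ⊔ S) :=
    fun U hU hUq => hUq.to_sup_of_normal_right' hSq (hU.trans inf_le_left)
  have hST : S ≤ T := by
    have := hTmax (T ⊔ S) (sup_le hTN hSN) (hSmem T hTN hTq) le_sup_left
    rw [← this]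
    exact le_sup_right
  have hTS : T ≤ S := hSmax ⟨hRS.trans hST, hTN.trans inf_le_right, hTq, hAT⟩ hST
  have hTS' : T = S := le_antisymm hTS hST
  -- `N_Q(S)` is a `q`-subgroup of the normalizer of `S` containing the Sylow subgroup `S = T`
  have h3 : Subgroup.normalizer (S : Set G) ⊓ Q ≤ Subgroup.normalizer (S : Set G) ⊓ H :=
    inf_le_inf_left _ hQH
  have h4 := hTmax _ h3 (hQ.to_le inf_le_right) (by rw [hTS']; exact le_inf Subgroup.le_normalizer hSQ)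
  rw [h4, hTS']

/-- Two `A`-invariant Sylow `q`-subgroups of `H` are conjugate by an element of `C_H(A)`
(`A` a `p`-subgroup normalizing `H`, the order of `H` prime to `p`). -/
theorem exists_centralizer_conj (hA : IsPGroup p A) (hH : ¬ p ∣ Nat.card H)
    (hAH : ∀ b ∈ A, ∀ u ∈ H, b * u * b⁻¹ ∈ H) {q : ℕ} [Fact q.Prime] {S T : Subgroup G}
    (hS : ∃ P : Sylow q H, (P : Subgroup H).map H.subtype = S)
    (hT : ∃ P : Sylow q H, (P : Subgroup H).map H.subtype = T)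
    (hAS : ∀ b ∈ A, ∀ u ∈ S, b * u * b⁻¹ ∈ S) (hAT : ∀ b ∈ A, ∀ u ∈ T, b * u * b⁻¹ ∈ T) :
    ∃ c ∈ H ⊓ Subgroup.centralizer (A : Set G), S.map (MulAut.conj c).toMonoidHom = T := by
  let _ := conjAction A H hAH
  obtain ⟨P, rfl⟩ := hS
  obtain ⟨Q, rfl⟩ := hT
  have hinv : ∀ P : Sylow q H, (∀ b ∈ A, ∀ u ∈ (P : Subgroup H).map H.subtype,
      b * u * b⁻¹ ∈ (P : Subgroup H).map H.subtype) → ∀ a : A, a • P = P := by
    intro P hP a
    apply Sylow.ext
    rw [Sylow.pointwise_smul_def]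
    have hle : ∀ a : A, a • (P : Subgroup H) ≤ P := by
      rintro a _ ⟨x, hx, rfl⟩
      obtain ⟨y, hy, hy'⟩ := hP a a.2 x ⟨x, hx, rfl⟩
      have : a • x = y := Subtype.ext hy'.symm
      change a • x ∈ (P : Subgroup H)
      rw [this]
      exact hy
    refine le_antisymm (hle a) ?_
    have := Subgroup.pointwise_smul_le_pointwise_smul_iff (a := a) |>.mpr (hle a⁻¹)
    rwa [smul_inv_smul] at this
  obtain ⟨c, hc, hcP⟩ := exists_fixed_smul_eq (A := A) (H := H) hA hH (hinv P hAS) (hinv Q hAT)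
  refine ⟨c, Subgroup.mem_inf.mpr ⟨c.2, ?_⟩, ?_⟩
  · rw [Subgroup.mem_centralizer_iff]
    intro b hb
    have h1 : b * (c : G) * b⁻¹ = c := congrArg Subtype.val (hc ⟨b, hb⟩)
    rw [mul_inv_eq_iff_eq_mul] at h1
    exact h1
  · rw [← hcP, Sylow.coe_subgroup_smul]
    ext x
    constructor
    · rintro ⟨_, ⟨y, hy, rfl⟩, rfl⟩
      exact ⟨c * y * c⁻¹, ⟨y, hy, rfl⟩, rfl⟩
    · rintro ⟨_, ⟨y, hy, rfl⟩, rfl⟩
      exact ⟨y, ⟨y, hy, rfl⟩, rfl⟩

omit [Finite G] in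
/-- Fixed points in cosets: if `A` (a `p`-group) normalizes `N` and `H`, `N ≤ H`, `H` of order prime to `p`, `h ∈ H`
and `A` stabilizes the coset `h N`, then the coset contains an element centralizing `A`. -/
theorem exists_centralizer_mem_coset (hA : IsPGroup p A) (hH : ¬ p ∣ Nat.card H)
    (hAH : ∀ b ∈ A, ∀ u ∈ H, b * u * b⁻¹ ∈ H) {N : Subgroup G}
    (hAN : ∀ b ∈ A, ∀ u ∈ N, b * u * b⁻¹ ∈ N) {h : G} (hh : h ∈ H)
    (hst : ∀ b ∈ A, h⁻¹ * (b * h * b⁻¹) ∈ N) :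
    ∃ c ∈ H ⊓ Subgroup.centralizer (A : Set G), h⁻¹ * c ∈ N := by
  let _ := conjAction A H hAH
  obtain ⟨c, hc, hcA⟩ := exists_fixed_mem_coset (A := A) (H := H) hA hH (N.subgroupOf H) ⟨h, hh⟩ (by
    intro a x hx
    rw [Subgroup.mem_subgroupOf] at hx ⊢
    change h⁻¹ * (x : G) ∈ N at hx
    change h⁻¹ * ((a : G) * x * (a : G)⁻¹) ∈ N
    have h1 := hAN a a.2 _ hx
    have h2 := N.mul_mem (hst a a.2) h1
    have h3 : h⁻¹ * ((a : G) * h * (a : G)⁻¹) * ((a : G) * (h⁻¹ * x) * (a : G)⁻¹) =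
      h⁻¹ * ((a : G) * x * (a : G)⁻¹) := by group
    rwa [h3] at h2)
  refine ⟨c, Subgroup.mem_inf.mpr ⟨c.2, ?_⟩, ?_⟩
  · rw [Subgroup.mem_centralizer_iff]
    intro b hb
    have h1 : b * (c : G) * b⁻¹ = c := congrArg Subtype.val (hcA ⟨b, hb⟩)
    rw [mul_inv_eq_iff_eq_mul] at h1
    exact h1
  · rw [Subgroup.mem_subgroupOf] at hc
    exact hc

end Ambient

end Cfsg.Agent.Lib.PGroupCoprimeAction
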