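import Mathlib.GroupTheory.Complement
import Mathlib.GroupTheory.Index
import Mathlib.GroupTheory.QuotientGroup.Basic
import Mathlib.GroupTheory.OrderOfElement
import Mathlib.GroupTheory.Sylow

/-!
Normal Hall subgroups: a normal subgroup whose order is coprime to its index is characteristic,
and it contains every element (subgroup) of order dividing its order.
-/

set_option autoImplicit false

namespace Cfsg.Agent.Lib.NormalHall

open Subgroup

/-- An element whose order is coprime to the index of the normal subgroup `N` lies in `N`. -/
theorem mem_of_orderOf_coprime_index {G : Type*} [Group G] (N : Subgroup G) [N.Normal]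
    (x : G) (hx : (orderOf x).Coprime N.index) : x ∈ N := by
  have h1 : orderOf (QuotientGroup.mk' N x) ∣ orderOf x := orderOf_map_dvd _ x
  have h2 : orderOf (QuotientGroup.mk' N x) ∣ N.index := by
    rw [Subgroup.index]
    exact orderOf_dvd_natCard _
  have h3 : orderOf (QuotientGroup.mk' N x) = 1 := by
    exact Nat.eq_one_of_dvd_coprimes hx h1 h2
  rw [orderOf_eq_one_iff] at h3
  exact (QuotientGroup.eq_one_iff x).mp h3

/-- A subgroup whose order is coprime to the index of the normal subgroup `N` lies in `N`. -/
theorem le_of_card_coprime_index {G : Type*} [Group G] (N : Subgroup G) [N.Normal]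
    (K : Subgroup G) (hK : (Nat.card K).Coprime N.index) : K ≤ N := by
  intro x hx
  apply mem_of_orderOf_coprime_index N x
  apply Nat.Coprime.coprime_dvd_left _ hK
  have h : orderOf (⟨x, hx⟩ : K) = orderOf x := orderOf_mk x hx
  rw [← h]
  exact orderOf_dvd_natCard _

/-- In a finite group a normal subgroup of order coprime to its index is characteristic. -/
theorem characteristic_of_coprime {G : Type*} [Group G] [Finite G] (N : Subgroup G) [N.Normal]
    (hN : (Nat.card N).Coprime N.index) : N.Characteristic := by
  rw [Subgroup.characteristic_iff_map_le]
  intro φ
  apply le_of_card_coprime_index N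
  rw [Subgroup.card_map_of_injective φ.injective]
  exact hN

/-- A normal Hall subgroup `N` of a normal subgroup `M` of a finite group `G` is normal in `G`. -/
theorem normal_map_subtype_of_coprime {G : Type*} [Group G] [Finite G] (M : Subgroup G) [M.Normal]
    (N : Subgroup M) [N.Normal] (hN : (Nat.card N).Coprime N.index) :
    (N.map M.subtype).Normal := by
  have := characteristic_of_coprime N hN
  infer_instance

/-- A normal subgroup of a finite group which has the order of the index of `H`, with `H` a Hall
subgroup, is a complement of `H`. -/
theorem isComplement'_of_card_eq_index {G : Type*} [Group G] [Finite G] (N H : Subgroup G)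
    (hcard : Nat.card N = H.index) (hH : (Nat.card H).Coprime H.index) : IsComplement' N H := by
  apply Subgroup.isComplement'_of_coprime
  · rw [hcard, mul_comm, Subgroup.card_mul_index]
  · rw [hcard]; exact hH.symm

end Cfsg.Agent.Lib.NormalHall
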