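import Mathlib

/-!
# Elementary facts on coprime action inside a finite group

`A` and `H` are subgroups of a group `G`, `A` normalising `H`, with coprime orders.

* `le_centralizer_of_commutator_le`: if `[H, A] ≤ K ≤ H` and `A` centralises `K` then `A`
  centralises `H` (stability of a chain of length 2, no solvability needed).
* `commute_of_chain`: stability of a finite chain.
* `exists_normal_index_prime`: a nontrivial finite `p`-group has a normal subgroup of index `p`;
* `le_centralizer_of_omega`: for odd `p`, a `p'`-group acting on a `p`-group `H` and centralising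
  all elements `x` of `H` with `x ^ p = 1` centralises `H` (Gorenstein 5.3.10).
-/

set_option autoImplicit false

namespace Cfsg.Agent.Lib.CoprimeStab

open Subgroup
open scoped commutatorElement

variable {G : Type*} [Group G]

/-- Elementwise form of the stability of a chain. If `x * a * x⁻¹ * a⁻¹` commutes with `a`, lies in
a subgroup `H` and the order of `a` is coprime to the order of `H`, then `x` and `a` commute. -/
theorem commute_of_commutator_commute {H : Subgroup G} {x a : G}
    (hcop : (orderOf a).Coprime (Nat.card H)) (hxa : ⁅x, a⁆ ∈ H) (hc : Commute ⁅x, a⁆ a) :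
    Commute x a := by
  have h1 : x * a * x⁻¹ = ⁅x, a⁆ * a := by
    rw [commutatorElement_def]; group
  have h2 : ⁅x, a⁆ ^ (orderOf a) = 1 := by
    have h3 : (x * a * x⁻¹) ^ (orderOf a) = 1 := by
      rw [conj_pow, pow_orderOf_eq_one]; group
    rw [h1, hc.mul_pow, pow_orderOf_eq_one, mul_one] at h3
    exact h3
  have h4 : orderOf ⁅x, a⁆ ∣ Nat.card H := by
    rw [← Subgroup.orderOf_mk ⁅x, a⁆ hxa]
    exact orderOf_dvd_natCard _
  have h6 : orderOf ⁅x, a⁆ ∣ 1 := by
    have := Nat.dvd_gcd (orderOf_dvd_of_pow_eq_one h2) h4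
    rwa [Nat.Coprime.gcd_eq_one hcop] at this
  have h7 : ⁅x, a⁆ = 1 := by
    rw [← orderOf_eq_one_iff]; exact Nat.dvd_one.mp h6
  exact commutatorElement_eq_one_iff_commute.mp h7

/-- The order of an element of a subgroup divides the order of the subgroup. -/
theorem orderOf_dvd_natCard_of_mem {H : Subgroup G} {x : G} (hx : x ∈ H) :
    orderOf x ∣ Nat.card H := by
  rw [← Subgroup.orderOf_mk x hx]
  exact orderOf_dvd_natCard _

/-- If `[H, A] ≤ K ≤ H` and `A` centralises `K` (coprime orders), then `A` centralises `H`. -/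
theorem le_centralizer_of_commutator_le {H A K : Subgroup G}
    (hcop : (Nat.card A).Coprime (Nat.card H)) (hK : K ≤ H) (h1 : ⁅H, A⁆ ≤ K)
    (h2 : A ≤ centralizer (K : Set G)) : A ≤ centralizer (H : Set G) := by
  intro a ha
  rw [mem_centralizer_iff]
  intro x hx
  have hxa : ⁅x, a⁆ ∈ K := h1 (commutator_mem_commutator hx ha)
  have hca : (orderOf a).Coprime (Nat.card H) :=
    Nat.Coprime.coprime_dvd_left (orderOf_dvd_natCard_of_mem ha) hcop
  have hc : Commute ⁅x, a⁆ a := (mem_centralizer_iff.mp (h2 ha)) _ hxa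
  exact commute_of_commutator_commute hca (hK hxa) hc

/-- Elementwise stability of a chain: `a` of order coprime to `|H|`, `c 0 = H`, `c n = 1`, and
`[c i, a] ≤ c (i + 1)`. -/
theorem commute_of_chain {H : Subgroup G} {a : G}
    (hcop : (orderOf a).Coprime (Nat.card H)) (n : ℕ) (c : Fin (n + 1) → Subgroup G)
    (hc : ∀ i, c i ≤ H) (hcn : c (Fin.last n) = ⊥)
    (htriv : ∀ i : Fin n, ∀ x ∈ c i.castSucc, ⁅x, a⁆ ∈ c i.succ) :
    ∀ i, ∀ x ∈ c i, Commute x a := by
  intro i
  induction i using Fin.reverseInduction with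
  | last =>
    intro x hx
    rw [hcn, mem_bot] at hx
    subst hx
    exact Commute.one_left a
  | cast i ih =>
    intro x hx
    have h1 := htriv i x hx
    exact commute_of_commutator_commute hcop (hc _ h1) (ih _ h1)

/-- A nontrivial finite `p`-group has a normal subgroup of index `p` containing all `p`-th powers
and all commutators. -/
theorem exists_normal_index_prime (P : Type*) [Group P] [Finite P] [Nontrivial P] {p : ℕ}
    [hp : Fact p.Prime] (hP : IsPGroup p P) :
    ∃ M : Subgroup P, M.Normal ∧ M.index = p ∧ (∀ x : P, x ^ p ∈ M) ∧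
      ∀ x y : P, ⁅x, y⁆ ∈ M := by
  obtain ⟨n, hn⟩ := IsPGroup.iff_card.mp hP
  have hn0 : n ≠ 0 := by
    rintro rfl
    rw [pow_zero] at hn
    have := Finite.one_lt_card (α := P)
    omega
  obtain ⟨m, rfl⟩ := Nat.exists_eq_succ_of_ne_zero hn0
  obtain ⟨M, hM⟩ := Sylow.exists_subgroup_card_pow_prime (G := P) p (n := m)
    (by rw [hn]; exact pow_dvd_pow p (Nat.le_succ m))
  have hidx : M.index = p := by
    have h1 := M.card_mul_index
    rw [hM, hn, pow_succ] at h1
    exact Nat.eq_of_mul_eq_mul_left (pow_pos hp.out.pos m) h1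
  have hMn : M.Normal := by
    apply Subgroup.normal_of_index_eq_minFac_card
    rw [hidx, hn, Nat.pow_minFac (Nat.succ_ne_zero m), hp.out.minFac_eq]
  refine ⟨M, hMn, hidx, ?_, ?_⟩
  · intro x
    have := Subgroup.pow_index_mem M x
    rwa [hidx] at this
  · intro x y
    have hcard : Nat.card (P ⧸ M) = p := by rw [← Subgroup.index_eq_card]; exact hidx
    have hcyc : IsCyclic (P ⧸ M) := isCyclic_of_prime_card hcard
    rw [← QuotientGroup.eq_one_iff, ← QuotientGroup.mk'_apply, map_commutatorElement,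
      commutatorElement_eq_one_iff_mul_comm]
    exact (IsCyclic.isMulCommutative (α := P ⧸ M)).is_comm.comm _ _

/-- Powers of a product in class two: if `y * x = z * (x * y)` with `z` commuting with `x`, `y`. -/
theorem mul_pow_class_two {x y z : G} (h : y * x = z * (x * y)) (hx : Commute z x)
    (hy : Commute z y) (n : ℕ) : (x * y) ^ n = z ^ (n.choose 2) * (x ^ n * y ^ n) := by
  have h1 : ∀ n : ℕ, y ^ n * x = z ^ n * (x * y ^ n) := by
    intro n
    induction n with
    | zero => simp
    | succ n ih =>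
      calc y ^ (n + 1) * x = y ^ n * (y * x) := by rw [pow_succ]; group
        _ = (y ^ n * z) * (x * y) := by rw [h]; group
        _ = (z * y ^ n) * (x * y) := by rw [(hy.pow_right n).eq]
        _ = z * (y ^ n * x) * y := by group
        _ = z * (z ^ n * (x * y ^ n)) * y := by rw [ih]
        _ = z ^ (n + 1) * (x * y ^ (n + 1)) := by
          rw [pow_succ' z, pow_succ y]; group
  induction n with
  | zero => simp
  | succ n ih =>
    have h2 : x ^ n * z ^ n = z ^ n * x ^ n := ((hx.pow_pow n n).eq).symm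
    calc (x * y) ^ (n + 1) = (x * y) ^ n * (x * y) := pow_succ _ _
      _ = z ^ (n.choose 2) * (x ^ n * y ^ n) * (x * y) := by rw [ih]
      _ = z ^ (n.choose 2) * x ^ n * (y ^ n * x) * y := by group
      _ = z ^ (n.choose 2) * x ^ n * (z ^ n * (x * y ^ n)) * y := by rw [h1]
      _ = z ^ (n.choose 2) * (x ^ n * z ^ n) * (x * y ^ n) * y := by group
      _ = z ^ (n.choose 2) * (z ^ n * x ^ n) * (x * y ^ n) * y := by rw [h2]
      _ = (z ^ (n.choose 2) * z ^ n) * ((x ^ n * x) * (y ^ n * y)) := by group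
      _ = z ^ ((n + 1).choose 2) * (x ^ (n + 1) * y ^ (n + 1)) := by
        have h3 : (n + 1).choose 2 = n.choose 2 + n := by
          rw [Nat.choose_succ_succ' n 1, Nat.choose_one_right, add_comm]
        rw [h3, ← pow_add, ← pow_succ, ← pow_succ]

/-- In class two and odd `p`: if `x ^ p` commutes with `y` and `[y, x]` commutes with `x`, `y`
then `(x * y) ^ p = x ^ p * y ^ p`. -/
theorem mul_pow_prime_of_class_two {p : ℕ} (hp : p.Prime) (hp2 : p ≠ 2) {x y : G}
    (hx : Commute ⁅y, x⁆ x) (hy : Commute ⁅y, x⁆ y) (hxp : Commute (x ^ p) y) :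
    (x * y) ^ p = x ^ p * y ^ p := by
  have h : y * x = ⁅y, x⁆ * (x * y) := by rw [commutatorElement_def]; group
  have hz : ⁅y, x⁆ ^ p = 1 := by
    have h1 : ∀ n : ℕ, y * x ^ n = ⁅y, x⁆ ^ n * (x ^ n * y) := by
      intro n
      induction n with
      | zero => simp
      | succ n ih =>
        calc y * x ^ (n + 1) = (y * x ^ n) * x := by rw [pow_succ]; group
          _ = ⁅y, x⁆ ^ n * x ^ n * (y * x) := by rw [ih]; group
          _ = ⁅y, x⁆ ^ n * x ^ n * (⁅y, x⁆ * (x * y)) := by rw [← h]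
          _ = ⁅y, x⁆ ^ n * (x ^ n * ⁅y, x⁆) * (x * y) := by group
          _ = ⁅y, x⁆ ^ n * (⁅y, x⁆ * x ^ n) * (x * y) := by rw [(hx.pow_right n).eq]
          _ = ⁅y, x⁆ ^ (n + 1) * (x ^ (n + 1) * y) := by
            rw [pow_succ, pow_succ x]; group
    have h2 := h1 p
    rw [hxp.eq] at h2
    exact (right_eq_mul.mp h2)
  rw [mul_pow_class_two h hx hy]
  have h2p : 2 < p := lt_of_le_of_ne hp.two_le (Ne.symm hp2)
  obtain ⟨k, hk⟩ := hp.dvd_choose_self (k := 2) (by norm_num) h2p
  rw [hk, pow_mul, hz, one_pow, one_mul]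

/-- In a finite `p`-group `H ≠ 1` of `G` normalised by `A`, there is a proper subgroup `K < H`
normalised by `A` and by `H` which contains all commutators and `p`-th powers of elements of
`H`. -/
theorem exists_agemo_lt [Finite G] {p : ℕ} [hp : Fact p.Prime] {H : Subgroup G} (A : Subgroup G)
    (hH : IsPGroup p H) (hne : H ≠ ⊥) (hA : A ≤ normalizer (H : Set G)) :
    ∃ K : Subgroup G, K < H ∧ A ≤ normalizer (K : Set G) ∧ (∀ x ∈ H, x ^ p ∈ K) ∧
      ⁅H, H⁆ ≤ K := by
  let S : Set G := {g | (∃ x ∈ H, g = x ^ p) ∨ ∃ x ∈ H, ∃ y ∈ H, g = ⁅x, y⁆}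
  have hSH : Subgroup.closure S ≤ H := by
    rw [closure_le]
    rintro g (⟨x, hx, rfl⟩ | ⟨x, hx, y, hy, rfl⟩)
    · exact H.pow_mem hx p
    · rw [SetLike.mem_coe, commutatorElement_def]
      exact H.mul_mem (H.mul_mem (H.mul_mem hx hy) (H.inv_mem hx)) (H.inv_mem hy)
  refine ⟨Subgroup.closure S, lt_of_le_of_ne hSH ?_, ?_, ?_, ?_⟩
  · intro heq
    have hnt : Nontrivial H := (Subgroup.nontrivial_iff_ne_bot H).mpr hne
    obtain ⟨M, hMn, hMi, hMp, hMc⟩ := exists_normal_index_prime H hH
    have h1 : Subgroup.closure S ≤ M.map H.subtype := by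
      rw [closure_le]
      rintro g (⟨x, hx, rfl⟩ | ⟨x, hx, y, hy, rfl⟩)
      · exact ⟨⟨x, hx⟩ ^ p, hMp _, rfl⟩
      · exact ⟨⁅⟨x, hx⟩, ⟨y, hy⟩⁆, hMc _ _, rfl⟩
    rw [heq] at h1
    have h2 : M = ⊤ := by
      rw [eq_top_iff]
      rintro ⟨x, hx⟩ -
      obtain ⟨y, hy, hyx⟩ := h1 hx
      have : y = ⟨x, hx⟩ := Subtype.ext hyx
      rwa [← this]
    rw [h2, index_top] at hMi
    exact hp.out.one_lt.ne hMi
  · intro a ha
    have hconj : ∀ b ∈ A, ∀ g ∈ S, b * g * b⁻¹ ∈ S := by
      intro b hb g hg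
      have hbH : ∀ x ∈ H, b * x * b⁻¹ ∈ H := fun x hx => (mem_normalizer_iff.mp (hA hb) x).mp hx
      rcases hg with ⟨x, hx, rfl⟩ | ⟨x, hx, y, hy, rfl⟩
      · exact Or.inl ⟨b * x * b⁻¹, hbH x hx, by rw [conj_pow]⟩
      · exact Or.inr ⟨b * x * b⁻¹, hbH x hx, b * y * b⁻¹, hbH y hy, conjugate_commutatorElement ..⟩
    have hcl : ∀ b ∈ A, ∀ g ∈ Subgroup.closure S, b * g * b⁻¹ ∈ Subgroup.closure S := by
      intro b hb g hg
      have h1 : Subgroup.closure S ≤ (Subgroup.closure S).comap (MulAut.conj b).toMonoidHom := by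
        rw [closure_le]
        intro s hs
        exact Subgroup.subset_closure (hconj b hb s hs)
      exact h1 hg
    rw [mem_normalizer_iff]
    intro g
    refine ⟨fun hg => hcl a ha g hg, fun hg => ?_⟩
    have := hcl a⁻¹ (A.inv_mem ha) _ hg
    have h3 : a⁻¹ * (a * g * a⁻¹) * a⁻¹⁻¹ = g := by group
    rwa [h3] at this
  · intro x hx
    exact Subgroup.subset_closure (Or.inl ⟨x, hx, rfl⟩)
  · rw [commutator_le]
    intro x hx y hy
    exact Subgroup.subset_closure (Or.inr ⟨x, hx, y, hy, rfl⟩)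

/-- For odd `p`, a `p'`-group `A` normalising a `p`-group `H` and centralising all elements
`x ∈ H` with `x ^ p = 1` centralises `H`. -/
theorem le_centralizer_of_omega [Finite G] (p : ℕ) [hp : Fact p.Prime] (hp2 : p ≠ 2)
    (A : Subgroup G) (hcop : (Nat.card A).Coprime p) (H : Subgroup G) (hH : IsPGroup p H)
    (hA : A ≤ normalizer (H : Set G))
    (hfix : ∀ x ∈ H, x ^ p = 1 → ∀ a ∈ A, Commute x a) : A ≤ centralizer (H : Set G) := by
  obtain ⟨n, hn⟩ : ∃ n, Nat.card H = n := ⟨_, rfl⟩
  induction n using Nat.strong_induction_on generalizing H with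
  | _ n ih =>
    subst hn
    have hcopH : (Nat.card A).Coprime (Nat.card H) := by
      obtain ⟨k, hk⟩ := IsPGroup.iff_card.mp hH
      rw [hk]
      exact Nat.Coprime.pow_right k hcop
    -- the result for proper `A`-invariant subgroups
    have key : ∀ K : Subgroup G, K < H → A ≤ normalizer (K : Set G) →
        A ≤ centralizer (K : Set G) := by
      intro K hK hAK
      refine ih (Nat.card K) ?_ K (hH.to_le hK.le) hAK (fun x hx => hfix x (hK.le hx)) rfl
      exact lt_of_le_of_ne (Subgroup.card_le_of_le hK.le)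
        (fun h => hK.ne (Subgroup.eq_of_le_of_card_ge hK.le h.ge))
    have hcomm : ⁅H, A⁆ ≤ H := le_normalizer_iff_commutator_le_left.mp hA
    by_cases hlt : ⁅H, A⁆ < H
    · refine le_centralizer_of_commutator_le hcopH hcomm le_rfl (key _ hlt ?_)
      exact normalizer_commutator_ge_right ..
    by_cases hbot : H = ⊥
    · subst hbot
      intro a _
      rw [mem_centralizer_iff]
      intro x hx
      have : x = 1 := by simpa using hx
      rw [this, one_mul, mul_one]
    obtain ⟨K, hKlt, hAK, hKp, hKc⟩ := exists_agemo_lt A hH hbot hA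
    have hAcK := key K hKlt hAK
    -- `K` is central in `H`
    have hKH : ⁅H, K⁆ = ⊥ := by
      have h1 : ⁅⁅A, K⁆, H⁆ = ⊥ := by
        rw [commutator_eq_bot_iff_le_centralizer.mpr hAcK, commutator_bot_left]
      have h2 : ⁅⁅K, H⁆, A⁆ = ⊥ := by
        rw [eq_bot_iff]
        have h3 : ⁅K, H⁆ ≤ K := (commutator_mono hKlt.le le_rfl).trans hKc
        refine (commutator_mono h3 le_rfl).trans ?_
        rw [commutator_comm, commutator_eq_bot_iff_le_centralizer.mpr hAcK]
      have h4 := commutator_commutator_eq_bot_of_rotate (H₁ := H) (H₂ := A) (H₃ := K) h1 h2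
      rwa [eq_of_le_of_not_lt hcomm hlt] at h4
    have hcen : ∀ k ∈ K, ∀ h ∈ H, Commute k h := by
      intro k hk h hh
      have h5 := commutator_eq_bot_iff_le_centralizer.mp hKH hh
      exact mem_centralizer_iff.mp h5 k hk
    have hKA : ∀ k ∈ K, ∀ a ∈ A, Commute k a := by
      intro k hk a ha
      exact mem_centralizer_iff.mp (hAcK ha) k hk
    -- `A` centralises `[H, A]`
    refine le_centralizer_of_commutator_le hcopH hcomm le_rfl ?_
    rw [le_centralizer_iff, commutator_le]
    intro x hx a ha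
    have hy : a * x⁻¹ * a⁻¹ ∈ H := (mem_normalizer_iff.mp (hA ha) _).mp (H.inv_mem hx)
    have hxy : ⁅x, a⁆ = x * (a * x⁻¹ * a⁻¹) := by rw [commutatorElement_def]; group
    have hc : ⁅a * x⁻¹ * a⁻¹, x⁆ ∈ K := hKc (commutator_mem_commutator hy hx)
    have hpow : ⁅x, a⁆ ^ p = 1 := by
      rw [hxy, mul_pow_prime_of_class_two hp.out hp2 (hcen _ hc _ hx) (hcen _ hc _ hy)
        (hcen _ (hKp x hx) _ hy), conj_pow, inv_pow]
      have h6 : a * (x ^ p)⁻¹ * a⁻¹ = (x ^ p)⁻¹ := by
        have h7 := (hKA _ (hKp x hx) a ha).inv_left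
        rw [← h7.eq]; group
      rw [h6, mul_inv_cancel]
    have hmem : ⁅x, a⁆ ∈ H := hcomm (commutator_mem_commutator hx ha)
    rw [mem_centralizer_iff]
    intro b hb
    exact ((hfix _ hmem hpow b hb).eq).symm

end Cfsg.Agent.Lib.CoprimeStab
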