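import Mathlib

set_option autoImplicit false

namespace Cfsg.Agent.Lib.ThompsonPQ

open Subgroup

/-- An element `x` of order coprime to the order of the subgroup `U`, normalizing `U`, with
`[u, x]` commuting with `x` for all `u ∈ U`, centralizes `U`. -/
theorem commute_of_commutator_commute {G : Type*} [Group G] [Finite G] {U : Subgroup G} {x : G}
    (hx : (orderOf x).Coprime (Nat.card U)) (hn : x ∈ normalizer (U : Set G))
    (hc : ∀ u ∈ U, Commute (x⁻¹ * u * x * u⁻¹) x) : ∀ u ∈ U, Commute u x := by
  intro u hu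
  set c := x⁻¹ * u * x * u⁻¹ with hcdef
  have hcx : Commute c x := hc u hu
  have hcU : c ∈ U := by
    have h1 : x⁻¹ * u * x ∈ U := by
      have := (Subgroup.mem_normalizer_iff.mp (inv_mem hn) u).mp hu
      simpa using this
    exact U.mul_mem h1 (U.inv_mem hu)
  have hconj : ∀ n : ℕ, (x⁻¹) ^ n * u * x ^ n = c ^ n * u := by
    intro n
    induction n with
    | zero => simp
    | succ n ih =>
      have h1 : x⁻¹ * u * x = c * u := by rw [hcdef]; group
      have h2 : x⁻¹ * c ^ n = c ^ n * x⁻¹ := ((hcx.pow_left n).inv_right).symm.eq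
      calc (x⁻¹) ^ (n + 1) * u * x ^ (n + 1) = x⁻¹ * ((x⁻¹) ^ n * u * x ^ n) * x := by
            rw [pow_succ', pow_succ]; group
        _ = x⁻¹ * (c ^ n * u) * x := by rw [ih]
        _ = (x⁻¹ * c ^ n) * u * x := by group
        _ = (c ^ n * x⁻¹) * u * x := by rw [h2]
        _ = c ^ n * (x⁻¹ * u * x) := by group
        _ = c ^ n * (c * u) := by rw [h1]
        _ = c ^ (n + 1) * u := by rw [pow_succ]; group
  have h3 := hconj (orderOf x)
  rw [inv_pow, pow_orderOf_eq_one, inv_one, one_mul, mul_one] at h3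
  have h4 : c ^ orderOf x = 1 := by
    have : c ^ orderOf x * u = 1 * u := by rw [← h3, one_mul]
    exact mul_right_cancel this
  have h5 : c ^ Nat.card U = 1 := by
    have := pow_card_eq_one' (x := (⟨c, hcU⟩ : U))
    exact congrArg Subtype.val this
  have h6 : c = 1 := by
    have h7 : orderOf c ∣ Nat.gcd (orderOf x) (Nat.card U) :=
      Nat.dvd_gcd (orderOf_dvd_of_pow_eq_one h4) (orderOf_dvd_of_pow_eq_one h5)
    rw [hx] at h7
    exact orderOf_eq_one_iff.mp (Nat.dvd_one.mp h7)
  have h8 : x⁻¹ * u * x = u := by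
    have : x⁻¹ * u * x * u⁻¹ = 1 := by rw [← hcdef, h6]
    exact mul_inv_eq_one.mp this
  show u * x = x * u
  calc u * x = x * (x⁻¹ * u * x) := by group
    _ = x * u := by rw [h8]

/-- Subgroup version: if `Q` has order coprime to `U`, normalizes `U` and `[U, Q, Q] = 1`
then `[U, Q] = 1`. -/
theorem commutator_eq_bot_of_coprime {G : Type*} [Group G] [Finite G] {U Q : Subgroup G}
    (hc : (Nat.card Q).Coprime (Nat.card U)) (hn : Q ≤ normalizer (U : Set G))
    (h : ⁅⁅U, Q⁆, Q⁆ = ⊥) : ⁅U, Q⁆ = ⊥ := by
  rw [commutator_eq_bot_iff_le_centralizer] at h ⊢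
  intro u hu
  rw [mem_centralizer_iff]
  intro x hx
  refine (commute_of_commutator_commute (U := U) (x := x) ?_ (hn hx) ?_ u hu).eq.symm
  · exact Nat.Coprime.coprime_dvd_left (by
      have := orderOf_dvd_natCard (⟨x, hx⟩ : Q)
      rwa [Subgroup.orderOf_mk] at this) hc
  · intro v hv
    have h1 : x⁻¹ * v * x * v⁻¹ ∈ ⁅U, Q⁆ := by
      rw [commutator_comm]
      have := commutator_mem_commutator (inv_mem hx) hv
      simpa [commutatorElement_def] using this
    exact ((mem_centralizer_iff.mp (h h1)) x hx).symm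

/-- **Thompson's `P × Q` lemma** (`A × B` lemma). -/
theorem thompson_p_times_q {G : Type*} [Group G] [Finite G] (p : ℕ) [Fact p.Prime]
    (P Q U : Subgroup G) (hP : IsPGroup p P) (hQ : (Nat.card Q).Coprime p) (hU : IsPGroup p U)
    (hPQ : P ≤ Subgroup.centralizer (Q : Set G))
    (hPU : P ≤ Subgroup.normalizer (U : Set G)) (hQU : Q ≤ Subgroup.normalizer (U : Set G))
    (hC : U ⊓ Subgroup.centralizer (P : Set G) ≤ Subgroup.centralizer (Q : Set G)) :
    Q ≤ Subgroup.centralizer (U : Set G) := by
  -- the series `U, [U, P], [U, P, P], …`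
  obtain ⟨R, R0, Rs⟩ : ∃ R : ℕ → Subgroup G, R 0 = U ∧ ∀ n, R (n + 1) = ⁅R n, P⁆ :=
    ⟨fun n => Nat.rec U (fun _ V => ⁅V, P⁆) n, rfl, fun n => rfl⟩
  have hPQ' : ⁅P, Q⁆ = ⊥ := commutator_eq_bot_iff_le_centralizer.mpr hPQ
  have RQn : ∀ n : ℕ, Q ≤ normalizer (((R n : Subgroup G)) : Set G) := by
    intro n
    induction n with
    | zero => rw [R0]; exact hQU
    | succ n ih =>
      rw [Rs, le_normalizer_iff_commutator_le_right, commutator_le]
      intro x hx y hy
      have hyx : x * y * x⁻¹ ∈ ⁅R n, P⁆ := by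
        have h1 : (⁅R n, P⁆).map (MulAut.conj x).toMonoidHom = ⁅R n, P⁆ := by
          rw [map_commutator]
          congr 1
          · ext z
            constructor
            · rintro ⟨w, hw, rfl⟩
              exact (Subgroup.mem_normalizer_iff.mp (ih hx) w).mp hw
            · intro hz
              refine ⟨x⁻¹ * z * x, ?_, by simp [MulAut.conj_apply, mul_assoc]⟩
              have := (Subgroup.mem_normalizer_iff.mp (ih (inv_mem hx)) z).mp hz
              simpa using this
          · ext z
            constructor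
            · rintro ⟨w, hw, rfl⟩
              have := (mem_centralizer_iff.mp (hPQ hw)) x hx
              have h2 : x * w * x⁻¹ = w := by rw [this]; group
              show x * w * x⁻¹ ∈ P
              rw [h2]; exact hw
            · intro hz
              refine ⟨z, hz, ?_⟩
              have := (mem_centralizer_iff.mp (hPQ hz)) x hx
              show x * z * x⁻¹ = z
              rw [this]; group
        rw [← h1]
        exact ⟨y, hy, rfl⟩
      rw [commutatorElement_def]
      exact mul_mem hyx (inv_mem hy)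
  have RU : ∀ n, R n ≤ U := by
    intro n
    induction n with
    | zero => exact R0.le
    | succ n ih =>
      rw [Rs]
      exact (commutator_mono ih le_rfl).trans (le_normalizer_iff_commutator_le_left.mp hPU)
  -- the series reaches `⊥`
  have hend : ∃ n, R n = ⊥ := by
    have hsup : IsPGroup p (P ⊔ U : Subgroup G) := IsPGroup.to_sup_of_normal_right' hP hU hPU
    have hnil : Group.IsNilpotent (P ⊔ U : Subgroup G) := hsup.isNilpotent
    have hle : ∀ n, R n ≤ (Subgroup.lowerCentralSeries (P ⊔ U) n) := by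
      intro n
      induction n with
      | zero => rw [R0, Subgroup.lowerCentralSeries_zero]; exact le_sup_right
      | succ n ih =>
        rw [Rs, Subgroup.lowerCentralSeries_succ]
        exact commutator_mono ih le_sup_left
    obtain ⟨n, hn⟩ := (Subgroup.isNilpotent_iff_lowerCentralSeries (P ⊔ U)).mp hnil
    exact ⟨n, le_bot_iff.mp ((hle n).trans hn.le)⟩
  obtain ⟨N, hN⟩ := hend
  -- descending induction
  have hdesc : ∀ k, k ≤ N → ⁅R (N - k), Q⁆ = ⊥ := by
    intro k
    induction k with
    | zero => intro _; rw [Nat.sub_zero, hN]; exact commutator_bot_left _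
    | succ k ih =>
      intro hk
      have ih' := ih (by omega)
      have hs : N - k = (N - (k + 1)) + 1 := by omega
      rw [hs, Rs] at ih'
      set V := R (N - (k + 1)) with hV
      -- `[V, P, Q] = 1`, `[P, Q, V] = 1` give `[Q, V, P] = 1`
      have h1 : ⁅⁅P, Q⁆, V⁆ = ⊥ := by rw [hPQ']; exact commutator_bot_left _
      have h2 : ⁅⁅Q, V⁆, P⁆ = ⊥ := commutator_commutator_eq_bot_of_rotate ih' h1
      have h3 : ⁅V, Q⁆ ≤ U ⊓ centralizer (P : Set G) := by
        apply le_inf
        · exact (le_normalizer_iff_commutator_le_left.mp (RQn _)).trans (RU _)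
        · rw [← commutator_eq_bot_iff_le_centralizer, commutator_comm V Q]
          exact h2
      have h4 : ⁅⁅V, Q⁆, Q⁆ = ⊥ := commutator_eq_bot_iff_le_centralizer.mpr (h3.trans hC)
      apply commutator_eq_bot_of_coprime _ (RQn _) h4
      obtain ⟨m, hm⟩ := IsPGroup.iff_card.mp (IsPGroup.to_le hU (RU (N - (k + 1))))
      rw [hm]
      exact Nat.Coprime.pow_right m hQ
  have := hdesc N le_rfl
  rw [Nat.sub_self, R0, commutator_comm] at this
  exact commutator_eq_bot_iff_le_centralizer.mp this

end Cfsg.Agent.Lib.ThompsonPQ
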