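import Mathlib
import Cfsg.Prelude.Def_Transfer

/-!
# Maximal normal elementary abelian subgroups of p-groups, p odd

* `commutator_top_lt`: in a nilpotent group, `⁅N, ⊤⁆ < N` for a nontrivial normal subgroup `N`.
* `mul_pow_of_swap`: the power formula `(x y)^n = x^n y^n c^(n choose 2)` when `y x = x y c`, `c` central.
* `mem_of_maximal` (Alperin): if `p` is odd, `P` a finite `p`-group and `A` maximal among the normal
  elementary abelian subgroups of `P`, then every `x ∈ C_P(A)` with `x ^ p = 1` lies in `A`.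
-/

set_option autoImplicit false

namespace Cfsg.Agent.Lib.NormalElementary

open Subgroup
open scoped commutatorElement

variable {P : Type*} [Group P]

theorem commutator_top_lt [Group.IsNilpotent P] (N : Subgroup P) [N.Normal] (hN : N ≠ ⊥) :
    ⁅N, (⊤ : Subgroup P)⁆ < N := by
  refine lt_of_le_of_ne (commutator_le_left N ⊤) ?_
  intro h
  obtain ⟨n, hn⟩ := Subgroup.nilpotent_iff_lowerCentralSeries.1 ‹Group.IsNilpotent P›
  have key : ∀ k : ℕ, N ≤ (⊤ : Subgroup P).lowerCentralSeries k := by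
    intro k
    induction k with
    | zero => exact le_top
    | succ k ih =>
      rw [Subgroup.lowerCentralSeries_succ, ← h]
      exact commutator_mono ih le_rfl
  have := key n
  rw [hn] at this
  exact hN (le_bot_iff.1 this)

theorem mul_pow_of_swap {x y c : P} (h : y * x = x * y * c) (hx : Commute c x) (hy : Commute c y)
    (n : ℕ) : (x * y) ^ n = x ^ n * y ^ n * c ^ (n.choose 2) := by
  have hyn : ∀ n : ℕ, y ^ n * x = x * y ^ n * c ^ n := by
    intro n
    induction n with
    | zero => simp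
    | succ n ih =>
      have h1 : Commute (c ^ n) y := hy.pow_left n
      calc y ^ (n + 1) * x = y * (y ^ n * x) := by rw [pow_succ']; group
        _ = (y * x) * (y ^ n * c ^ n) := by rw [ih]; group
        _ = x * y * (c * y ^ n) * c ^ n := by rw [h]; group
        _ = x * y * (y ^ n * c) * c ^ n := by rw [(hy.pow_right n).eq]
        _ = x * y ^ (n + 1) * c ^ (n + 1) := by rw [pow_succ' y, pow_succ' c]; group
  induction n with
  | zero => simp
  | succ n ih =>
    have hcx : Commute (c ^ (n.choose 2)) (x * y) :=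
      ((hx.pow_left _).mul_right (hy.pow_left _))
    have hcy : Commute (c ^ n) y := hy.pow_left n
    calc (x * y) ^ (n + 1) = (x * y) ^ n * (x * y) := pow_succ _ _
      _ = x ^ n * y ^ n * (c ^ (n.choose 2) * (x * y)) := by rw [ih]; group
      _ = x ^ n * y ^ n * ((x * y) * c ^ (n.choose 2)) := by rw [hcx.eq]
      _ = x ^ n * (y ^ n * x) * y * c ^ (n.choose 2) := by group
      _ = x ^ n * x * y ^ n * (c ^ n * y) * c ^ (n.choose 2) := by rw [hyn]; group
      _ = x ^ n * x * y ^ n * (y * c ^ n) * c ^ (n.choose 2) := by rw [hcy.eq]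
      _ = x ^ (n + 1) * y ^ (n + 1) * c ^ ((n + 1).choose 2) := by
        rw [Nat.choose_succ_succ' n 1, Nat.choose_one_right, pow_add c, pow_succ x, pow_succ y]
        group

/-- If `y x = x y c` with `c` commuting with `x`, `y` and `c ^ p = 1`, `p` an odd prime, then
`(x y)^p = x^p y^p`. -/
theorem mul_pow_prime_of_swap {x y c : P} {p : ℕ} (hp : p ≠ 2) [Fact p.Prime]
    (h : y * x = x * y * c) (hx : Commute c x) (hy : Commute c y) (hc : c ^ p = 1) :
    (x * y) ^ p = x ^ p * y ^ p := by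
  rw [mul_pow_of_swap h hx hy]
  have hdvd : p ∣ p.choose 2 := by
    have hpp : p.Prime := Fact.out
    refine hpp.dvd_choose_self (by norm_num) ?_
    exact lt_of_le_of_ne hpp.two_le (Ne.symm hp)
  obtain ⟨k, hk⟩ := hdvd
  rw [hk, pow_mul, hc, one_pow, mul_one]

/-- In a finite `p`-group two non-commuting elements `u, v`: the subgroup generated by `u` and a conjugate
`v * u * v⁻¹` is strictly smaller than the one generated by `u` and `v`. -/
theorem card_closure_pair_lt [Finite P] {p : ℕ} [Fact p.Prime] (hP : IsPGroup p P) {u v : P}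
    (huv : ¬ Commute u v) :
    Nat.card (closure ({u, v * u * v⁻¹} : Set P)) < Nat.card (closure ({u, v} : Set P)) := by
  set H : Subgroup P := closure ({u, v} : Set P) with hH
  have huH : u ∈ H := subset_closure (by simp)
  have hvH : v ∈ H := subset_closure (by simp)
  -- work inside `H`
  let u' : H := ⟨u, huH⟩
  let v' : H := ⟨v, hvH⟩
  have : Group.IsNilpotent H := (hP.to_subgroup H).isNilpotent
  have hne : zpowers u' ≠ ⊤ := by
    intro htop
    apply huv
    have : v' ∈ zpowers u' := by rw [htop]; trivial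
    obtain ⟨k, hk⟩ := mem_zpowers_iff.1 this
    have hk' : u ^ k = v := by
      have := congrArg (Subtype.val) hk
      simpa [u', v'] using this
    rw [← hk']
    exact (Commute.refl u).zpow_right k
  obtain ⟨M, hM, hle⟩ := (eq_top_or_exists_le_coatom (zpowers u')).resolve_left hne
  have hMn : M.Normal :=
    NormalizerCondition.normal_of_coatom M Group.normalizerCondition_of_isNilpotent hM
  have huM : u' ∈ M := hle (mem_zpowers u')
  have hconj : v' * u' * v'⁻¹ ∈ M := hMn.conj_mem u' huM v'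
  have hle2 : closure ({u, v * u * v⁻¹} : Set P) ≤ M.map H.subtype := by
    rw [closure_le]
    rintro w (rfl | hw)
    · exact ⟨u', huM, rfl⟩
    · rw [Set.mem_singleton_iff] at hw
      subst hw
      exact ⟨v' * u' * v'⁻¹, hconj, rfl⟩
  have hlt : M.map H.subtype < H := by
    refine lt_of_le_of_ne (map_subtype_le M) ?_
    intro h
    apply hM.1
    rw [eq_top_iff]
    intro w _
    have hw : (w : P) ∈ M.map H.subtype := by rw [h]; exact w.2
    obtain ⟨w', hw', hww⟩ := hw
    have : w' = w := Subtype.ext hww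
    rwa [← this]
  refine lt_of_le_of_lt (Subgroup.card_le_of_le hle2) ?_
  have h1 : (M.map H.subtype : Set P) ⊂ (H : Set P) := hlt
  exact Set.ncard_lt_ncard h1 (Set.toFinite _)

/-- Key step for Alperin's lemma. -/
theorem inv_mul_mem_aux [Finite P] {p : ℕ} [Fact p.Prime] (hp : p ≠ 2) (hP : IsPGroup p P)
    (A N L : Subgroup P) (hNA : N ≤ centralizer (A : Set P)) (hA : ∀ a ∈ A, a ^ p = 1)
    [N.Normal] (hNL : ∀ u ∈ N, ∀ v ∈ N, u⁻¹ * (v * u * v⁻¹) ∈ L)
    (hL : ∀ x ∈ L, x ^ p = 1 → x ∈ A) :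
    ∀ n : ℕ, ∀ u ∈ N, ∀ v ∈ N, u ^ p = 1 → v ^ p = 1 → u⁻¹ * v ∈ L →
      Nat.card (closure ({u, v} : Set P)) ≤ n → u⁻¹ * v ∈ A := by
  intro n
  induction n with
  | zero =>
    intro u _ v _ _ _ _ hcard
    have : 0 < Nat.card (closure ({u, v} : Set P)) := Nat.card_pos
    omega
  | succ n ih =>
    intro u hu v hv hup hvp huvL hcard
    by_cases hcomm : Commute u v
    · refine hL _ huvL ?_
      rw [(hcomm.inv_left).mul_pow, inv_pow, hup, hvp, inv_one, one_mul]
    · have hlt := card_closure_pair_lt hP hcomm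
      have hw : v * u * v⁻¹ ∈ N := N.mul_mem (N.mul_mem hv hu) (N.inv_mem hv)
      have hwp : (v * u * v⁻¹) ^ p = 1 := by
        rw [conj_pow, hup]; group
      have hc : u⁻¹ * (v * u * v⁻¹) ∈ A :=
        ih u hu _ hw hup hwp (hNL u hu v hv) (by omega)
      set c : P := u⁻¹ * (v * u * v⁻¹) with hcdef
      have hcu : Commute c u := ((mem_centralizer_iff.1 (hNA hu)) c hc)
      have hcv : Commute c v := ((mem_centralizer_iff.1 (hNA hv)) c hc)
      have hcp : c ^ p = 1 := hA c hc
      -- `v u = u c v = u v c`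
      have hswap : v * u⁻¹ = u⁻¹ * v * c⁻¹ := by
        have h1 : v * u = u * v * c := by
          have : u * c * v = v * u := by rw [hcdef]; group
          rw [← this, mul_assoc, hcv.eq, ← mul_assoc]
        have h2 : u * (v * u⁻¹) = v * c⁻¹ := by
          have h3 : u * v = v * u * c⁻¹ := by rw [h1]; group
          calc u * (v * u⁻¹) = (u * v) * u⁻¹ := by group
            _ = v * u * c⁻¹ * u⁻¹ := by rw [h3]
            _ = v * (u * c⁻¹) * u⁻¹ := by group
            _ = v * (c⁻¹ * u) * u⁻¹ := by rw [(hcu.inv_left).eq]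
            _ = v * c⁻¹ := by group
        calc v * u⁻¹ = u⁻¹ * (u * (v * u⁻¹)) := by group
          _ = u⁻¹ * v * c⁻¹ := by rw [h2]; group
      refine hL _ huvL ?_
      rw [mul_pow_prime_of_swap hp hswap (hcu.inv_inv) (hcv.inv_left) (by rw [inv_pow, hcp, inv_one]),
        inv_pow, hup, hvp, inv_one, one_mul]

/-- **Alperin.** Let `p` be odd, `P` a finite `p`-group and `A` maximal among the normal elementary abelian
subgroups of `P`. Then every element of order dividing `p` of `C_P(A)` lies in `A`. -/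
theorem mem_of_maximal [Finite P] {p : ℕ} [Fact p.Prime] (hp : p ≠ 2) (hP : IsPGroup p P)
    (A : Subgroup P) [hAn : A.Normal] (hA : IsElementaryAbelian p A)
    (hmax : ∀ B : Subgroup P, B.Normal → IsElementaryAbelian p B → A ≤ B → B ≤ A)
    {x : P} (hx : x ∈ centralizer (A : Set P)) (hxp : x ^ p = 1) : x ∈ A := by
  have : Group.IsNilpotent P := hP.isNilpotent
  by_contra hxA
  -- the set of bad normal subgroups of `P`
  let S : Set (Subgroup P) :=
    {N | N.Normal ∧ N ≤ centralizer (A : Set P) ∧ ∃ y ∈ N, y ^ p = 1 ∧ y ∉ A}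
  have hSne : S.Nonempty :=
    ⟨centralizer (A : Set P), inferInstance, le_rfl, x, hx, hxp, hxA⟩
  obtain ⟨N, hN⟩ := (Set.toFinite S).exists_minimal hSne
  obtain ⟨hNS, hNmin⟩ := hN
  obtain ⟨hNn, hNle, y, hyN, hyp, hyA⟩ := hNS
  have := hNn
  have hNbot : N ≠ ⊥ := by
    rintro rfl
    exact hyA (by rw [mem_bot.1 hyN]; exact A.one_mem)
  set L : Subgroup P := ⁅N, (⊤ : Subgroup P)⁆ with hLdef
  have hLlt : L < N := commutator_top_lt N hNbot
  have : L.Normal := by rw [hLdef]; infer_instance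
  have hL : ∀ z ∈ L, z ^ p = 1 → z ∈ A := by
    intro z hz hzp
    by_contra hzA
    have : L ∈ S := ⟨inferInstance, hLlt.le.trans hNle, z, hz, hzp, hzA⟩
    exact absurd (hNmin this hLlt.le) (not_le_of_gt hLlt)
  have hNLg : ∀ u ∈ N, ∀ g : P, u⁻¹ * (g * u * g⁻¹) ∈ L := by
    intro u hu g
    have h1 : ⁅u⁻¹, g⁆ ∈ L := commutator_mem_commutator (N.inv_mem hu) (mem_top g)
    have h2 : u⁻¹ * (g * u * g⁻¹) = ⁅u⁻¹, g⁆ := by rw [commutatorElement_def]; group
    rw [h2]; exact h1
  -- every conjugate of `y` is congruent to `y` modulo `A`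
  have hyconj : ∀ g : P, y⁻¹ * (g * y * g⁻¹) ∈ A := by
    intro g
    have hgy : g * y * g⁻¹ ∈ N := hNn.conj_mem y hyN g
    refine inv_mul_mem_aux hp hP A N L hNle hA.2 (fun u hu v _ => hNLg u hu v) hL _ y hyN
      (g * y * g⁻¹) hgy hyp ?_ (hNLg y hyN g) le_rfl
    rw [conj_pow, hyp]; group
  have hAcomm : ∀ a ∈ A, ∀ b ∈ A, a * b = b * a := by
    intro a ha b hb
    have := hA.1.is_comm.comm (⟨a, ha⟩ : A) ⟨b, hb⟩
    simpa using congrArg Subtype.val this
  have hyA' : ∀ a ∈ A, Commute a y := fun a ha => (mem_centralizer_iff.1 (hNle hyN)) a ha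
  -- `B = A ⊔ ⟨y⟩`
  let B : Subgroup P := A ⊔ zpowers y
  have hBmem : ∀ b ∈ B, ∃ a ∈ A, ∃ k : ℤ, b = a * y ^ k := by
    intro b hb
    obtain ⟨a, ha, z, hz, rfl⟩ := Subgroup.mem_sup_of_normal_left.1 hb
    obtain ⟨k, rfl⟩ := mem_zpowers_iff.1 hz
    exact ⟨a, ha, k, rfl⟩
  have hBn : B.Normal := by
    constructor
    intro b hb g
    obtain ⟨a, ha, k, rfl⟩ := hBmem b hb
    have h1 : g * y * g⁻¹ = y * (y⁻¹ * (g * y * g⁻¹)) := by group
    have h2 : g * y * g⁻¹ ∈ B := by
      rw [h1]
      exact B.mul_mem ((le_sup_right : zpowers y ≤ B) (mem_zpowers y))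
        ((le_sup_left : A ≤ B) (hyconj g))
    have h3 : g * (a * y ^ k) * g⁻¹ = (g * a * g⁻¹) * (g * y * g⁻¹) ^ k := by
      rw [conj_zpow]; group
    rw [h3]
    exact B.mul_mem ((le_sup_left : A ≤ B) (hAn.conj_mem a ha g)) (B.zpow_mem h2 k)
  have hBcomm : IsElementaryAbelian p B := by
    refine ⟨⟨⟨?_⟩⟩, ?_⟩
    · rintro ⟨b, hb⟩ ⟨c, hc⟩
      obtain ⟨a, ha, k, rfl⟩ := hBmem b hb
      obtain ⟨a', ha', k', rfl⟩ := hBmem c hc
      apply Subtype.ext
      show a * y ^ k * (a' * y ^ k') = a' * y ^ k' * (a * y ^ k)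
      have e1 : Commute (a * y ^ k) (a' * y ^ k') := by
        refine Commute.mul_left (Commute.mul_right ?_ ?_) (Commute.mul_right ?_ ?_)
        · exact hAcomm a ha a' ha'
        · exact (hyA' a ha).zpow_right k'
        · exact ((hyA' a' ha').zpow_right k).symm
        · exact ((Commute.refl y).zpow_left k).zpow_right k'
      exact e1.eq
    · intro b hb
      obtain ⟨a, ha, k, rfl⟩ := hBmem b hb
      rw [((hyA' a ha).zpow_right k).mul_pow, hA.2 a ha, one_mul, ← zpow_natCast, ← zpow_mul,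
        mul_comm, zpow_mul, zpow_natCast, hyp, one_zpow]
  exact hyA (hmax B hBn hBcomm le_sup_left ((le_sup_right : zpowers y ≤ B) (mem_zpowers y)))

/-- Above every normal elementary abelian subgroup of a finite group there is a maximal one. -/
theorem exists_maximal_ge [Finite P] (p : ℕ) (A₀ : Subgroup P) (hn : A₀.Normal)
    (hA₀ : IsElementaryAbelian p A₀) :
    ∃ A : Subgroup P, A₀ ≤ A ∧ A.Normal ∧ IsElementaryAbelian p A ∧
      ∀ B : Subgroup P, B.Normal → IsElementaryAbelian p B → A ≤ B → B ≤ A := by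
  let S : Set (Subgroup P) := {B | A₀ ≤ B ∧ B.Normal ∧ IsElementaryAbelian p B}
  obtain ⟨A, hA⟩ := (Set.toFinite S).exists_maximal ⟨A₀, le_rfl, hn, hA₀⟩
  obtain ⟨⟨h1, h2, h3⟩, hmax⟩ := hA
  refine ⟨A, h1, h2, h3, ?_⟩
  intro B hB hBe hAB
  exact hmax ⟨h1.trans hAB, hB, hBe⟩ hAB

end Cfsg.Agent.Lib.NormalElementary
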