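import Mathlib
import Cfsg.Prelude.Def_Solvable

set_option autoImplicit false
open Cfsg

namespace Cfsg.Agent.Lib.HallHigman

variable {G : Type*} [Group G]

/-- The join of a set of normal subgroups is normal. -/
theorem sSup_normal (S : Set (Subgroup G)) (hS : ∀ N ∈ S, N.Normal) : (sSup S).Normal := by
  rw [sSup_eq_iSup]
  have : ∀ N : Subgroup G, (⨆ (_ : N ∈ S), N).Normal := by
    intro N
    by_cases hN : N ∈ S
    · simpa [hN] using hS N hN
    · simp [hN]
  infer_instance

theorem card_mul_relIndex' {H K : Subgroup G} (h : H ≤ K) :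
    Nat.card H * H.relIndex K = Nat.card K := by
  have := Subgroup.relIndex_mul_relIndex ⊥ H K bot_le h
  rwa [Subgroup.relIndex_bot_left, Subgroup.relIndex_bot_left] at this

theorem pow_card_of_mem {H : Subgroup G} {x : G} (hx : x ∈ H) : x ^ Nat.card H = 1 := by
  have h1 : (⟨x, hx⟩ : H) ^ Nat.card H = 1 := pow_card_eq_one'
  exact congrArg Subtype.val h1

theorem pCore_normal (p : ℕ) : (Cfsg.pCore p G).Normal :=
  sSup_normal _ fun _ hN => hN.1

theorem pPrimeCore_normal (p : ℕ) : (Cfsg.pPrimeCore p G).Normal :=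
  sSup_normal _ fun _ hN => hN.1

theorem le_pCore {p : ℕ} {N : Subgroup G} (hN : N.Normal) (h : IsPGroup p N) :
    N ≤ Cfsg.pCore p G :=
  le_sSup ⟨hN, h⟩

theorem le_pPrimeCore {p : ℕ} {N : Subgroup G} (hN : N.Normal) (h : (Nat.card N).Coprime p) :
    N ≤ Cfsg.pPrimeCore p G :=
  le_sSup ⟨hN, h⟩

theorem pCore_isPGroup [Finite G] (p : ℕ) [Fact p.Prime] : IsPGroup p (Cfsg.pCore p G) :=
  Sylow.sSup_of_normal _ (fun _ h => h.2) (fun _ h => h.1)

/-- In a finite group the order of the `p'`-core is prime to `p`. -/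
theorem pPrimeCore_coprime [Finite G] (p : ℕ) : (Nat.card (Cfsg.pPrimeCore p G)).Coprime p := by
  -- a maximal element of the set
  classical
  let S : Set (Subgroup G) := {N : Subgroup G | N.Normal ∧ (Nat.card N).Coprime p}
  have hfin : S.Finite := Set.toFinite S
  have hne : S.Nonempty := ⟨⊥, inferInstance, by simp⟩
  have hsup : ∀ M ∈ S, ∀ N ∈ S, M ⊔ N ∈ S := by
    rintro M ⟨hM, hM'⟩ N ⟨hN, hN'⟩
    have := hM
    have := hN
    refine ⟨inferInstance, ?_⟩
    have h1 : Nat.card (M ⊔ N : Subgroup G) ∣ Nat.card M * Nat.card N := by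
      have h2 := card_mul_relIndex' (H := N) (K := M ⊔ N) le_sup_right
      have h3 : N.relIndex (M ⊔ N) ∣ Nat.card M := by
        rw [Subgroup.relIndex_sup_right]
        exact Subgroup.relIndex_dvd_card N M
      rw [← h2, mul_comm]
      exact Nat.mul_dvd_mul h3 dvd_rfl
    exact Nat.Coprime.coprime_dvd_left h1 (Nat.Coprime.mul_left hM' hN')
  obtain ⟨M, hM⟩ := hfin.exists_maximal hne
  have : Cfsg.pPrimeCore p G = M := by
    apply le_antisymm
    · apply sSup_le
      intro N hN
      exact le_sup_right.trans (hM.2 (hsup M hM.1 N hN) le_sup_left)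
    · exact le_sSup hM.1
  rw [this]
  exact hM.1.2

/-- Hall–Higman Lemma 1.2.3, in a general form: `G` is finite with trivial `p'`-core, and normal
sections have normal subsections that are `p`-groups or `p'`-groups. -/
theorem centralizer_pCore_le_of_sep [Finite G] (p : ℕ) [Fact p.Prime]
    (h : Cfsg.pPrimeCore p G = ⊥)
    (hsep : ∀ N K : Subgroup G, N.Normal → K.Normal → N < K →
      ∃ L : Subgroup G, L.Normal ∧ N < L ∧ L ≤ K ∧
        ((∃ m : ℕ, N.relIndex L = p ^ m) ∨ (N.relIndex L).Coprime p)) :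
    Subgroup.centralizer (Cfsg.pCore p G : Set G) ≤ Cfsg.pCore p G := by
  have hQn : (Cfsg.pCore p G).Normal := pCore_normal p
  have hQp := pCore_isPGroup (G := G) p
  set Q := Cfsg.pCore p G with hQ
  set C := Subgroup.centralizer (Q : Set G) with hC
  have hCn : C.Normal := inferInstance
  by_contra hnot
  have hlt : C ⊓ Q < C := lt_of_le_of_ne inf_le_left (fun he => hnot (inf_eq_left.mp he))
  obtain ⟨L, hLn, hZL, hLC, hL⟩ := hsep (C ⊓ Q) C inferInstance inferInstance hlt
  have := hLn
  set Z := C ⊓ Q with hZ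
  have hZn : Z.Normal := inferInstance
  have hZp : IsPGroup p Z := hQp.to_le inf_le_right
  obtain ⟨k, hk⟩ := (IsPGroup.iff_card).mp hZp
  have hcard : Nat.card Z * Z.relIndex L = Nat.card L := card_mul_relIndex' hZL.le
  rcases hL with ⟨m, hm⟩ | hcop
  · have hLp : IsPGroup p L := by
      apply IsPGroup.of_card (n := k + m)
      rw [← hcard, hk, hm, pow_add]
    exact absurd (le_inf hLC (le_pCore hLn hLp)) (not_le_of_gt hZL)
  · -- complement
    have hcop' : (Nat.card (Z.subgroupOf L)).Coprime (Z.subgroupOf L).index := by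
      have h1 : Nat.card (Z.subgroupOf L) = Nat.card Z :=
        Nat.card_congr (Subgroup.subgroupOfEquivOfLe hZL.le).toEquiv
      rw [h1, hk]
      exact (Nat.Coprime.pow_right k hcop).symm
    obtain ⟨R, hR⟩ := Subgroup.exists_right_complement'_of_coprime hcop'
    have hRcard : Nat.card R = Z.relIndex L := by
      have := hR.card_mul_card
      rw [← (Z.subgroupOf L).card_mul_index] at this
      exact Nat.eq_of_mul_eq_mul_left Nat.card_pos this
    -- `R` is normal in `G`
    let R' := R.map L.subtype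
    have hR'L : R' ≤ L := Subgroup.map_subtype_le R
    have hR'card : Nat.card R' = Z.relIndex L := by
      rw [← hRcard]
      exact Nat.card_congr (R.equivMapOfInjective L.subtype L.subtype_injective).toEquiv.symm
    have hR'n : R'.Normal := by
      refine ⟨fun r hr g => ?_⟩
      have h1 : g * r * g⁻¹ ∈ L := hLn.conj_mem r (hR'L hr) g
      obtain ⟨⟨z, y⟩, hzy⟩ := (hR.existsUnique ⟨g * r * g⁻¹, h1⟩).exists
      have hz : (z : L).1 ∈ Z := z.2
      have hy : (y : L).1 ∈ R' := ⟨y.1, y.2, rfl⟩
      have hzy' : (z : L).1 * (y : L).1 = g * r * g⁻¹ := congrArg Subtype.val hzy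
      have hcomm : Commute (z : L).1 (y : L).1 := by
        have h2 : (y : L).1 ∈ C := hLC (hR'L hy)
        exact (Subgroup.mem_centralizer_iff.mp h2) _ (Subgroup.mem_inf.mp hz).2
      have hpow : (g * r * g⁻¹) ^ (Nat.card R') = 1 := by
        rw [conj_pow]
        rw [pow_card_of_mem hr]; simp
      have hypow : (y : L).1 ^ (Nat.card R') = 1 := pow_card_of_mem hy
      rw [← hzy', hcomm.mul_pow, hypow, mul_one] at hpow
      have hz1 : (z : L).1 = 1 := by
        have h3 : orderOf (z : L).1 ∣ Nat.card R' := orderOf_dvd_of_pow_eq_one hpow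
        have h4 : orderOf (z : L).1 ∣ Nat.card Z := by
          have := orderOf_dvd_natCard (⟨_, hz⟩ : Z)
          simpa using this
        have h5 : (Nat.card R').Coprime (Nat.card Z) := by
          rw [hR'card, hk]; exact Nat.Coprime.pow_right k hcop
        have h6 := Nat.eq_one_of_dvd_coprimes h5 h3 h4
        exact orderOf_eq_one_iff.mp h6
      rw [← hzy', hz1, one_mul]
      exact hy
    have hR'le : R' ≤ ⊥ := by
      rw [← h]
      exact le_pPrimeCore hR'n (by rw [hR'card]; exact hcop)
    have : Z.relIndex L = 1 := by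
      rw [← hR'card, le_bot_iff.mp hR'le]; simp
    exact absurd (Subgroup.relIndex_eq_one.mp this) (not_le_of_gt hZL)

/-- A nontrivial normal section of a finite solvable group has a normal subsection that is
a `p`-group or a `p'`-group. -/
theorem sep_of_solvable [Finite G] [Group.IsSolvable G] (p : ℕ) [Fact p.Prime]
    (N K : Subgroup G) (hN : N.Normal) (hK : K.Normal) (hNK : N < K) :
      ∃ L : Subgroup G, L.Normal ∧ N < L ∧ L ≤ K ∧
        ((∃ m : ℕ, N.relIndex L = p ^ m) ∨ (N.relIndex L).Coprime p) := by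
  classical
  let S : Set (Subgroup G) := {L | L.Normal ∧ N < L ∧ L ≤ K}
  have hfin : S.Finite := Set.toFinite S
  have hne : S.Nonempty := ⟨K, hK, hNK, le_rfl⟩
  obtain ⟨L, hL⟩ := hfin.exists_minimal hne
  obtain ⟨⟨hLn, hNL, hLK⟩, hmin⟩ := hL
  have := hLn
  have := hN
  -- the image of `L` in `G ⧸ N`
  let f := QuotientGroup.mk' N
  have hf : Function.Surjective f := QuotientGroup.mk'_surjective N
  let M : Subgroup (G ⧸ N) := L.map f
  have hMn : M.Normal := hLn.map f hf
  have hcomap : M.comap f = L := by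
    rw [Subgroup.comap_map_eq, QuotientGroup.ker_mk', sup_eq_left]
    exact hNL.le
  have hMne : M ≠ ⊥ := by
    intro h0
    apply not_le_of_gt hNL
    rw [← hcomap, h0]
    intro x hx
    simpa [f] using hx
  have key : ∀ T : Subgroup (G ⧸ N), T.Normal → T ≤ M → T ≠ ⊥ → T = M := by
    intro T hT hTM hTne
    have h1 : T.comap f ∈ S := by
      refine ⟨hT.comap f, ?_, ?_⟩
      · refine lt_of_le_of_ne ?_ ?_
        · intro x hx
          rw [Subgroup.mem_comap]
          have : f x = 1 := (QuotientGroup.eq_one_iff x).mpr hx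
          rw [this]; exact T.one_mem
        · intro heq
          apply hTne
          rw [← Subgroup.map_comap_eq_self_of_surjective hf T, ← heq]
          simp [f]
      · exact (Subgroup.comap_mono hTM).trans (by rw [hcomap]; exact hLK)
    have h2 : L ≤ T.comap f := hmin h1 (by rw [← hcomap]; exact Subgroup.comap_mono hTM)
    exact le_antisymm hTM (Subgroup.map_le_iff_le_comap.mpr h2)
  -- `M` is abelian
  have hMab : ⁅M, M⁆ = ⊥ := by
    by_contra h0
    have := hMn
    have h1 := key ⁅M, M⁆ inferInstance (Subgroup.commutator_le_left M M) h0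
    exact (ne_of_lt (Group.IsSolvable.commutator_lt_of_ne_bot hMne)) h1
  have hMcomm : ∀ x ∈ M, ∀ y ∈ M, x * y = y * x := by
    intro x hx y hy
    have := (Subgroup.commutator_eq_bot_iff_le_centralizer.mp hMab) hx
    exact ((Subgroup.mem_centralizer_iff.mp this) y hy).symm
  have : IsMulCommutative M := ⟨⟨fun a b => Subtype.ext (hMcomm _ a.2 _ b.2)⟩⟩
  have hrel : N.relIndex L = Nat.card M := by
    have h1 := Subgroup.relIndex_ker (K := L) f
    rwa [QuotientGroup.ker_mk'] at h1
  refine ⟨L, hLn, hNL, hLK, ?_⟩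
  let P : Sylow p M := default
  have hPn : (P : Subgroup M).Normal := inferInstance
  have := P.characteristic_of_normal hPn
  by_cases hP : (P : Subgroup M) = ⊥
  · right
    rw [hrel]
    have h1 : ¬ p ∣ Nat.card M := by
      intro hd
      exact P.ne_bot_of_dvd_card hd hP
    exact ((Nat.Prime.coprime_iff_not_dvd Fact.out).mpr h1).symm
  · left
    have h1 : ((P : Subgroup M).map M.subtype).Normal := inferInstance
    have h2 := key _ h1 (Subgroup.map_subtype_le _) (by
      intro h0
      exact hP ((Subgroup.map_eq_bot_iff_of_injective _ M.subtype_injective).mp h0))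
    have h3 : IsPGroup p M := by
      rw [← h2]; exact P.isPGroup'.map _
    obtain ⟨m, hm⟩ := IsPGroup.iff_card.mp h3
    exact ⟨m, by rw [hrel, hm]⟩

/-- **Hall–Higman Lemma 1.2.3** for solvable groups. -/
theorem centralizer_pCore_le_of_solvable [Finite G] [Group.IsSolvable G] (p : ℕ) [Fact p.Prime]
    (h : Cfsg.pPrimeCore p G = ⊥) :
    Subgroup.centralizer (Cfsg.pCore p G : Set G) ≤ Cfsg.pCore p G :=
  centralizer_pCore_le_of_sep p h (sep_of_solvable p)

/-- The quotient by the `p'`-core has trivial `p'`-core. -/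
theorem pPrimeCore_quotient_eq_bot [Finite G] (p : ℕ) (N : Subgroup G) [N.Normal]
    (hN : N = Cfsg.pPrimeCore p G) : Cfsg.pPrimeCore p (G ⧸ N) = ⊥ := by
  have hf : Function.Surjective (QuotientGroup.mk' N) := QuotientGroup.mk'_surjective N
  set T := Cfsg.pPrimeCore p (G ⧸ N) with hT
  have hTn : T.Normal := pPrimeCore_normal p
  have hTc : (Nat.card T).Coprime p := pPrimeCore_coprime p
  have hNT : N ≤ T.comap (QuotientGroup.mk' N) := by
    intro x hx
    rw [Subgroup.mem_comap]
    have : QuotientGroup.mk' N x = 1 := (QuotientGroup.eq_one_iff x).mpr hx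
    rw [this]; exact T.one_mem
  have h1 : N.relIndex (T.comap (QuotientGroup.mk' N)) = Nat.card T := by
    have h1 := Subgroup.relIndex_ker (K := T.comap (QuotientGroup.mk' N)) (QuotientGroup.mk' N)
    rwa [QuotientGroup.ker_mk', Subgroup.map_comap_eq_self_of_surjective hf] at h1
  have h2 : (Nat.card (T.comap (QuotientGroup.mk' N))).Coprime p := by
    rw [← card_mul_relIndex' hNT, h1]
    refine Nat.Coprime.mul_left ?_ hTc
    rw [hN]
    exact pPrimeCore_coprime p
  have h3 : T.comap (QuotientGroup.mk' N) ≤ N := by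
    refine (le_pPrimeCore (hTn.comap _) h2).trans hN.ge
  rw [← Subgroup.map_comap_eq_self_of_surjective hf T, le_antisymm h3 hNT]
  simp

/-- The `p`-core of a finite group is contained in every Sylow `p`-subgroup. -/
theorem pCore_le_sylow [Finite G] (p : ℕ) [Fact p.Prime] (P : Sylow p G) :
    Cfsg.pCore p G ≤ P := by
  have := pCore_normal (G := G) p
  exact (pCore_isPGroup (G := G) p).le_sylow_of_normal P

/-- If `C_{G/N}(O_p(G/N)) ≤ O_p(G/N)` for `N = O_{p'}(G)` and a Sylow `p`-subgroup `P` of `G` is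
abelian, then `P N` is normal in `G`. -/
theorem sylow_sup_normal_of_centralizer_le [Finite G] (p : ℕ) [Fact p.Prime]
    (P : Sylow p G) (hP : IsMulCommutative P) (N : Subgroup G) [N.Normal]
    (h : Subgroup.centralizer (Cfsg.pCore p (G ⧸ N) : Set (G ⧸ N)) ≤ Cfsg.pCore p (G ⧸ N)) :
    ((P : Subgroup G) ⊔ N).Normal := by
  have hf : Function.Surjective (QuotientGroup.mk' N) := QuotientGroup.mk'_surjective N
  let R : Sylow p (G ⧸ N) := P.mapSurjective hf
  have hR : (R : Subgroup (G ⧸ N)) = (P : Subgroup G).map (QuotientGroup.mk' N) :=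
    P.coe_mapSurjective hf
  have h1 : Cfsg.pCore p (G ⧸ N) ≤ R := pCore_le_sylow p R
  have h2 : (R : Subgroup (G ⧸ N)) ≤
      Subgroup.centralizer (Cfsg.pCore p (G ⧸ N) : Set (G ⧸ N)) := by
    intro x hx
    rw [Subgroup.mem_centralizer_iff]
    intro y hy
    have hy' : y ∈ (R : Subgroup (G ⧸ N)) := h1 hy
    rw [hR] at hx hy'
    obtain ⟨a, ha, rfl⟩ := hx
    obtain ⟨b, hb, rfl⟩ := hy'
    have hab : b * a = a * b :=
      congrArg Subtype.val (hP.is_comm.comm (⟨b, hb⟩ : P) ⟨a, ha⟩)
    rw [← map_mul, ← map_mul, hab]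
  have h3 : (R : Subgroup (G ⧸ N)) = Cfsg.pCore p (G ⧸ N) := le_antisymm (h2.trans h) h1
  have h4 : (R : Subgroup (G ⧸ N)).Normal := by rw [h3]; exact pCore_normal p
  have h5 : ((R : Subgroup (G ⧸ N)).comap (QuotientGroup.mk' N)).Normal := h4.comap _
  rwa [hR, Subgroup.comap_map_eq, QuotientGroup.ker_mk'] at h5

end Cfsg.Agent.Lib.HallHigman
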