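import Mathlib

/-!
Intersection of a Sylow subgroup with a normal subgroup, the Frattini argument in that form, and
`N = (N ⊓ K) ⊔ (N ⊓ S)` when `N / (N ⊓ K)` is a `p`-group.
-/

set_option autoImplicit false

namespace Cfsg.Agent.Lib.SylowNormalInf

open Subgroup

variable {G : Type*} [Group G] [Finite G] {p : ℕ} [Fact p.Prime]

omit [Finite G] in
theorem card_inf_mul_relIndex (H K : Subgroup G) :
    Nat.card (H ⊓ K : Subgroup G) * H.relIndex K = Nat.card K := by
  have h := Subgroup.relIndex_mul_relIndex (⊥ : Subgroup G) (H ⊓ K) K bot_le inf_le_right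
  rwa [Subgroup.relIndex_bot_left, Subgroup.relIndex_bot_left, Subgroup.inf_relIndex_right] at h

omit [Finite G] in
theorem card_mul_relIndex (H K : Subgroup G) (h : H ≤ K) :
    Nat.card H * H.relIndex K = Nat.card K := by
  have h := Subgroup.relIndex_mul_relIndex (⊥ : Subgroup G) H K bot_le h
  rwa [Subgroup.relIndex_bot_left, Subgroup.relIndex_bot_left] at h

/-- `[HN : H] = [N : H ∩ N]` for `N` normal. -/
theorem relIndex_sup_of_normal (H N : Subgroup G) [N.Normal] :
    H.relIndex (H ⊔ N) = H.relIndex N := by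
  have h1 := card_mul_relIndex H (H ⊔ N) le_sup_left
  have h2 := card_mul_relIndex N (H ⊔ N) le_sup_right
  have h3 := card_inf_mul_relIndex H N
  have h4 := card_inf_mul_relIndex N H
  rw [inf_comm] at h4
  rw [Subgroup.relIndex_sup_right] at h2
  have hpos : 0 < Nat.card H := Nat.card_pos
  apply Nat.eq_of_mul_eq_mul_left hpos
  rw [h1, ← h2, ← h3, ← h4]
  ring

/-- `S ∩ N` has index prime to `p` in `N` for `S` a Sylow `p`-subgroup and `N` normal. -/
theorem not_dvd_relIndex (S : Sylow p G) (N : Subgroup G) [N.Normal] :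
    ¬ p ∣ (S : Subgroup G).relIndex N := by
  rw [← relIndex_sup_of_normal (S : Subgroup G) N]
  intro h
  exact S.not_dvd_index (h.trans (Subgroup.relIndex_dvd_index_of_le le_sup_left))

omit [Finite G] [Fact p.Prime] in
theorem isPGroup_subgroupOf (S : Sylow p G) (N : Subgroup G) :
    IsPGroup p ((S : Subgroup G).subgroupOf N) :=
  S.isPGroup'.comap_of_injective N.subtype N.subtype_injective

/-- Frattini argument: `G = N_G(S ∩ N) N` for `N` normal and `S` a Sylow `p`-subgroup of `G`. -/
theorem normalizer_inf_sup_eq_top (S : Sylow p G) (N : Subgroup G) [N.Normal] :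
    Subgroup.normalizer (((S : Subgroup G) ⊓ N : Subgroup G) : Set G) ⊔ N = ⊤ := by
  have h := Sylow.normalizer_sup_eq_top
    ((isPGroup_subgroupOf S N).toSylow (not_dvd_relIndex S N))
  have h2 : (((isPGroup_subgroupOf S N).toSylow (not_dvd_relIndex S N) : Sylow p N) :
      Subgroup N).map N.subtype = (S : Subgroup G) ⊓ N :=
    Subgroup.subgroupOf_map_subtype _ _
  rwa [h2] at h

/-- If every element of `N` (normal) has a `p`-power power in `K` and `N ⊓ K` is normalised by `N`,
then `N ≤ K ⊔ (S ⊓ N)`. -/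
theorem le_sup_inf (S : Sylow p G) (N K : Subgroup G) [N.Normal] [K.Normal]
    (h : ∀ x ∈ N, ∃ k : ℕ, x ^ p ^ k ∈ K) : N ≤ K ⊔ ((S : Subgroup G) ⊓ N) := by
  have hq : IsPGroup p (N ⧸ K.subgroupOf N) := by
    intro y
    obtain ⟨x, rfl⟩ := QuotientGroup.mk_surjective y
    obtain ⟨k, hk⟩ := h x x.2
    refine ⟨k, ?_⟩
    rw [← QuotientGroup.mk_pow, QuotientGroup.eq_one_iff]
    exact hk
  obtain ⟨n, hn⟩ := IsPGroup.iff_card.mp hq
  have h1 : K.relIndex N = p ^ n := hn
  have h2 : (K ⊔ ((S : Subgroup G) ⊓ N)).relIndex N ∣ p ^ n := by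
    rw [← h1]
    exact Subgroup.relIndex_dvd_of_le_left N le_sup_left
  have h3 : (K ⊔ ((S : Subgroup G) ⊓ N)).relIndex N ∣ (S : Subgroup G).relIndex N := by
    rw [← Subgroup.inf_relIndex_right (S : Subgroup G) N]
    exact Subgroup.relIndex_dvd_of_le_left N le_sup_right
  have hp : p.Prime := Fact.out
  have h4 : (p ^ n).Coprime ((S : Subgroup G).relIndex N) :=
    Nat.Coprime.pow_left n ((Nat.Prime.coprime_iff_not_dvd hp).mpr (not_dvd_relIndex S N))
  rw [← Subgroup.relIndex_eq_one]
  exact Nat.eq_one_of_dvd_coprimes h4 h2 h3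

end Cfsg.Agent.Lib.SylowNormalInf
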