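import Mathlib.GroupTheory.Sylow
import Mathlib.GroupTheory.Frattini
import Mathlib.GroupTheory.Nilpotent
import Mathlib.GroupTheory.PGroup
import Mathlib.Algebra.Module.ZMod
import Mathlib.LinearAlgebra.Basis.VectorSpace
import Mathlib.GroupTheory.Commutator.Basic
import Mathlib.Algebra.Field.ZMod

/-!
# The Frattini subgroup of a finite `p`-group

* `normal_of_coatom`, `index_of_coatom`: maximal subgroups of finite `p`-groups are normal of index `p`.
* `pow_mem_frattini`, `commutator_le_frattini`: `G / Φ(G)` is elementary abelian.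
* `frattini_le`: `Φ(G) ≤ N` as soon as `G / N` is elementary abelian (any finite group `G`).
-/

open Subgroup
open scoped commutatorElement

set_option linter.style.haveILetI false

namespace Cfsg.Agent.Lib.FrattiniPGroup

variable {G : Type*} [Group G]

/-- A maximal subgroup of a finite `p`-group is normal. -/
theorem normal_of_coatom [Finite G] {p : ℕ} [Fact p.Prime] (hG : IsPGroup p G)
    {M : Subgroup G} (hM : IsCoatom M) : M.Normal := by
  haveI := hG.isNilpotent
  exact NormalizerCondition.normal_of_coatom M Group.normalizerCondition_of_isNilpotent hM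

/-- A maximal subgroup of a finite `p`-group has index `p`. -/
theorem index_of_coatom [Finite G] {p : ℕ} [hp : Fact p.Prime] (hG : IsPGroup p G)
    {M : Subgroup G} (hM : IsCoatom M) : M.index = p := by
  obtain ⟨m, hm⟩ := hG.exists_card_eq
  obtain ⟨n, hn⟩ := (hG.to_subgroup M).exists_card_eq
  have hmul := M.card_mul_index
  have hnm : n < m := by
    by_contra hlt
    push Not at hlt
    have h1 : Nat.card G ≤ Nat.card M := by
      rw [hm, hn]; exact Nat.pow_le_pow_right hp.out.pos hlt
    have : M = ⊤ := Subgroup.eq_top_of_le_card M h1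
    exact hM.1 this
  have hdvd : p ^ (n + 1) ∣ Nat.card G := by
    rw [hm]; exact pow_dvd_pow p hnm
  obtain ⟨K, hK, hMK⟩ := Sylow.exists_subgroup_card_pow_succ hdvd hn
  have hlt : M < K := by
    refine lt_of_le_of_ne hMK ?_
    rintro rfl
    rw [hn] at hK
    have := Nat.pow_right_injective hp.out.two_le hK
    omega
  have hKtop : K = ⊤ := hM.2 K hlt
  rw [hKtop, Subgroup.card_top] at hK
  rw [hn, hK, pow_succ] at hmul
  exact Nat.eq_of_mul_eq_mul_left (pow_pos hp.out.pos n) hmul

/-- In a finite `p`-group every `p`-th power lies in the Frattini subgroup. -/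
theorem pow_mem_frattini [Finite G] {p : ℕ} [hp : Fact p.Prime] (hG : IsPGroup p G) (x : G) :
    x ^ p ∈ frattini G := by
  rw [frattini, Order.radical]
  simp only [Subgroup.mem_iInf, Set.mem_ofPred_eq]
  intro M hM
  haveI := normal_of_coatom hG hM
  have h := index_of_coatom hG hM
  have := Subgroup.pow_index_mem M x
  rwa [h] at this

theorem commutator_mem_frattini [Finite G] {p : ℕ} [hp : Fact p.Prime] (hG : IsPGroup p G)
    (x y : G) : ⁅x, y⁆ ∈ frattini G := by
  rw [frattini, Order.radical]
  simp only [Subgroup.mem_iInf, Set.mem_ofPred_eq]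
  intro M hM
  haveI := normal_of_coatom hG hM
  have h := index_of_coatom hG hM
  have hc : Nat.card (G ⧸ M) = p := h
  haveI : IsCyclic (G ⧸ M) := isCyclic_of_prime_card hc
  rw [← QuotientGroup.eq_one_iff]
  have hcomm : ∀ a b : G ⧸ M, a * b = b * a := fun a b =>
    (IsCyclic.commGroup (α := G ⧸ M)).mul_comm a b
  have : ((⁅x, y⁆ : G) : G ⧸ M) = (x : G ⧸ M) * y * (x : G ⧸ M)⁻¹ * (y : G ⧸ M)⁻¹ := rfl
  rw [this, hcomm (x : G ⧸ M) y]
  group

/-- In a finite `p`-group the derived subgroup lies in the Frattini subgroup. -/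
theorem commutator_le_frattini [Finite G] {p : ℕ} [hp : Fact p.Prime] (hG : IsPGroup p G) :
    commutator G ≤ frattini G := by
  rw [commutator_def, Subgroup.commutator_le]
  intro x _ y _
  exact commutator_mem_frattini hG x y

theorem exists_isCompl_addSubgroup {V : Type*} [AddCommGroup V] {p : ℕ} [hp : Fact p.Prime]
    [Module (ZMod p) V] (F : AddSubgroup V) : ∃ K : AddSubgroup V, IsCompl F K := by
  obtain ⟨q, hq⟩ := Submodule.exists_isCompl (K := ZMod p) (AddSubgroup.toZModSubmodule p F)
  refine ⟨(AddSubgroup.toZModSubmodule p).symm q, ?_⟩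
  have h1 := OrderIso.isCompl (AddSubgroup.toZModSubmodule p (M := V)).symm hq
  rwa [OrderIso.symm_apply_apply] at h1

/-- In an elementary abelian group, subgroups have complements (commutative group version). -/
theorem exists_isCompl_of_exponent {V : Type*} [CommGroup V] {p : ℕ} [hp : Fact p.Prime]
    (hpow : ∀ a : V, a ^ p = 1) (F : Subgroup V) : ∃ K : Subgroup V, IsCompl F K := by
  letI : Module (ZMod p) (Additive V) := AddCommGroup.zmodModule (n := p) (fun x => by
    have := hpow x.toMul
    exact this)
  obtain ⟨K, hK⟩ := exists_isCompl_addSubgroup (p := p) (Subgroup.toAddSubgroup F)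
  refine ⟨Subgroup.toAddSubgroup.symm K, ?_⟩
  have h1 := OrderIso.isCompl (Subgroup.toAddSubgroup (G := V)).symm hK
  rwa [OrderIso.symm_apply_apply] at h1

/-- In an elementary abelian group, subgroups have complements. -/
theorem exists_isCompl_of_elementary {V : Type*} [Group V] {p : ℕ} [hp : Fact p.Prime]
    (hcomm : ∀ a b : V, a * b = b * a) (hpow : ∀ a : V, a ^ p = 1) (F : Subgroup V) :
    ∃ K : Subgroup V, IsCompl F K := by
  letI : CommGroup V := { ‹Group V› with mul_comm := hcomm }
  exact exists_isCompl_of_exponent hpow F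

/-- If `G` is finite, `N` is normal and `G / N` is elementary abelian then `Φ(G) ≤ N`. -/
theorem frattini_le [Finite G] {p : ℕ} [hp : Fact p.Prime] (N : Subgroup G) [hN : N.Normal]
    (hcomm : ∀ x y : G, ⁅x, y⁆ ∈ N) (hpow : ∀ x : G, x ^ p ∈ N) : frattini G ≤ N := by
  have hc : ∀ a b : G ⧸ N, a * b = b * a := by
    intro a b
    induction a using QuotientGroup.induction_on with | H a =>
    induction b using QuotientGroup.induction_on with | H b =>
    have h1 := (QuotientGroup.eq_one_iff (N := N) _).mpr (hcomm a b)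
    have h2 : ((⁅a, b⁆ : G) : G ⧸ N) = (a : G ⧸ N) * b * (a : G ⧸ N)⁻¹ * (b : G ⧸ N)⁻¹ := rfl
    rw [h2] at h1
    rw [mul_inv_eq_one, mul_inv_eq_iff_eq_mul] at h1
    exact h1
  have hq : ∀ a : G ⧸ N, a ^ p = 1 := by
    intro a
    induction a using QuotientGroup.induction_on with | H a =>
    exact (QuotientGroup.eq_one_iff (N := N) _).mpr (hpow a)
  obtain ⟨K, hK⟩ := exists_isCompl_of_elementary hc hq ((frattini G).map (QuotientGroup.mk' N))
  have hsup : K.comap (QuotientGroup.mk' N) ⊔ frattini G = ⊤ := by
    have h1 : (K.comap (QuotientGroup.mk' N) ⊔ frattini G).map (QuotientGroup.mk' N) = ⊤ := by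
      rw [Subgroup.map_sup, Subgroup.map_comap_eq_self_of_surjective
        (QuotientGroup.mk'_surjective N), sup_comm, hK.sup_eq_top]
    have h2 : N ≤ K.comap (QuotientGroup.mk' N) ⊔ frattini G := by
      refine le_trans ?_ le_sup_left
      intro x hx
      rw [Subgroup.mem_comap, QuotientGroup.mk'_apply, (QuotientGroup.eq_one_iff (N := N) x).mpr hx]
      exact K.one_mem
    rw [eq_top_iff]
    intro x _
    have h3 : (QuotientGroup.mk' N) x ∈ (K.comap (QuotientGroup.mk' N) ⊔ frattini G).map (QuotientGroup.mk' N) := by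
      rw [h1]; trivial
    obtain ⟨y, hy, hxy⟩ := h3
    have h4 : y⁻¹ * x ∈ N := by
      exact QuotientGroup.eq.mp hxy
    have := mul_mem hy (h2 h4)
    simpa using this
  have htop := frattini_nongenerating hsup
  have hKtop : K = ⊤ := by
    have := congrArg (Subgroup.map (QuotientGroup.mk' N)) htop
    rw [Subgroup.map_comap_eq_self_of_surjective (QuotientGroup.mk'_surjective N),
      Subgroup.map_top_of_surjective _ (QuotientGroup.mk'_surjective N)] at this
    exact this
  have hbot : (frattini G).map (QuotientGroup.mk' N) = ⊥ := by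
    have := hK.inf_eq_bot
    rwa [hKtop, inf_top_eq] at this
  rw [Subgroup.map_eq_bot_iff, QuotientGroup.ker_mk'] at hbot
  exact hbot

end Cfsg.Agent.Lib.FrattiniPGroup
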