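import Mathlib

/-! Product sets of two subgroups and factorized groups `G = HK`. -/

set_option autoImplicit false
open Pointwise

namespace Cfsg.Agent.Lib.ProductSet

variable {G : Type*} [Group G]

/-- `|HK| * |H ∩ K| = |H| * |K|`. -/
theorem card_mul_card_inf (H K : Subgroup G) :
    Nat.card ((H : Set G) * (K : Set G) : Set G) * Nat.card (H ⊓ K : Subgroup G)
      = Nat.card H * Nat.card K := by
  classical
  rw [← Nat.card_prod, ← Nat.card_prod]
  refine Nat.card_congr ?_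
  -- choose for each element of HK a factorization
  have hex : ∀ g : ((H : Set G) * (K : Set G) : Set G), ∃ hk : H × K, (hk.1 : G) * hk.2 = g := by
    rintro ⟨g, h, hh, k, hk, rfl⟩
    exact ⟨(⟨h, hh⟩, ⟨k, hk⟩), rfl⟩
  choose f hf using hex
  refine
    { toFun := fun p => (⟨(f p.1).1 * p.2, H.mul_mem (f p.1).1.2 p.2.2.1⟩,
        ⟨(p.2 : G)⁻¹ * (f p.1).2, K.mul_mem (K.inv_mem p.2.2.2) (f p.1).2.2⟩)
      invFun := fun q =>
        let g : ((H : Set G) * (K : Set G) : Set G) := ⟨(q.1 : G) * q.2, q.1, q.1.2, q.2, q.2.2, rfl⟩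
        (g, ⟨((f g).1 : G)⁻¹ * q.1, H.mul_mem (H.inv_mem (f g).1.2) q.1.2, by
          have h := hf g
          have h2 : ((f g).1 : G)⁻¹ * q.1 = (f g).2 * (q.2 : G)⁻¹ := by
            rw [inv_mul_eq_iff_eq_mul, ← mul_assoc, h]
            simp [g]
          rw [h2]
          exact K.mul_mem (f g).2.2 (K.inv_mem q.2.2)⟩)
      left_inv := ?_
      right_inv := ?_ }
  · rintro ⟨g, z⟩
    have h1 : (((f g).1 : G) * z) * ((z : G)⁻¹ * (f g).2) = g := by
      rw [← hf g]; group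
    ext
    · exact h1
    · have h2 : (⟨(((f g).1 : G) * z) * ((z : G)⁻¹ * (f g).2),
          ⟨_, H.mul_mem (f g).1.2 z.2.1, _, K.mul_mem (K.inv_mem z.2.2) (f g).2.2, rfl⟩⟩ :
          ((H : Set G) * (K : Set G) : Set G)) = g := Subtype.ext h1
      simp only [h2]
      group
  · rintro ⟨h, k⟩
    ext
    · simp
    · have := hf ⟨(h : G) * k, h, h.2, k, k.2, rfl⟩
      simp only [mul_inv_rev, inv_inv, mul_assoc]
      rw [this]
      simp

/-- A factorization `G = HK` as an equality of sets. -/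
theorem coe_mul_eq_univ {H K : Subgroup G} (hHK : ∀ g : G, ∃ h ∈ H, ∃ k ∈ K, g = h * k) :
    ((H : Set G) * (K : Set G)) = Set.univ := by
  ext g
  simp only [Set.mem_univ, iff_true]
  obtain ⟨h, hh, k, hk, rfl⟩ := hHK g
  exact ⟨h, hh, k, hk, rfl⟩

/-- If `G = HK` then `|G| * |H ∩ K| = |H| * |K|`. -/
theorem card_mul_card_inf_of_factorization {H K : Subgroup G}
    (hHK : ∀ g : G, ∃ h ∈ H, ∃ k ∈ K, g = h * k) :
    Nat.card G * Nat.card (H ⊓ K : Subgroup G) = Nat.card H * Nat.card K := by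
  rw [← card_mul_card_inf H K, coe_mul_eq_univ hHK, Nat.card_univ]

/-- If `G = HK` then `G = KH`. -/
theorem factorization_symm {H K : Subgroup G} (hHK : ∀ g : G, ∃ h ∈ H, ∃ k ∈ K, g = h * k) :
    ∀ g : G, ∃ k ∈ K, ∃ h ∈ H, g = k * h := by
  intro g
  obtain ⟨h, hh, k, hk, e⟩ := hHK g⁻¹
  refine ⟨k⁻¹, K.inv_mem hk, h⁻¹, H.inv_mem hh, ?_⟩
  rw [← mul_inv_rev, ← e, inv_inv]

/-- If `G = HK` then for all `x y` there are `h ∈ H`, `k ∈ K` with `x * h = y * k`. -/
theorem exists_mul_eq_mul {H K : Subgroup G} (hHK : ∀ g : G, ∃ h ∈ H, ∃ k ∈ K, g = h * k)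
    (x y : G) : ∃ h ∈ H, ∃ k ∈ K, x * h = y * k := by
  obtain ⟨h, hh, k, hk, e⟩ := hHK (x⁻¹ * y)
  refine ⟨h, hh, k⁻¹, K.inv_mem hk, ?_⟩
  have : y = x * (h * k) := by rw [← e]; group
  rw [this]; group

/-- If `P, Q ≤ R` and `|R| * |P ∩ Q| ≤ |P| * |Q|` then `R = PQ` as sets (finite `R`). -/
theorem coe_eq_mul_of_card_le {P Q R : Subgroup G} [Finite R] (hP : P ≤ R) (hQ : Q ≤ R)
    (h : Nat.card R * Nat.card (P ⊓ Q : Subgroup G) ≤ Nat.card P * Nat.card Q) :
    (R : Set G) = (P : Set G) * (Q : Set G) := by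
  have hsub : ((P : Set G) * (Q : Set G)) ⊆ (R : Set G) := by
    rintro _ ⟨a, ha, b, hb, rfl⟩
    exact R.mul_mem (hP ha) (hQ hb)
  have : Finite P := Finite.Set.subset (R : Set G) hP
  have : Finite (P ⊓ Q : Subgroup G) := Finite.Set.subset (P : Set G) inf_le_left
  have hpos : 0 < Nat.card (P ⊓ Q : Subgroup G) := Nat.card_pos
  rw [← card_mul_card_inf P Q] at h
  have h2 : Nat.card R ≤ Nat.card ((P : Set G) * (Q : Set G) : Set G) :=
    Nat.le_of_mul_le_mul_right h hpos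
  refine (Set.eq_of_subset_of_ncard_le hsub ?_ (Set.toFinite _)).symm
  rw [← Nat.card_coe_set_eq, ← Nat.card_coe_set_eq]
  exact h2

end Cfsg.Agent.Lib.ProductSet
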