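import Mathlib

/-!
# Coprime action: `[K, A, A] = [K, A]` without solvability hypotheses

`A` and `K` are subgroups of a finite group, `A` normalises `K`, and their orders are coprime.
Everything here is elementary (fixed points of `p`-groups), no Schur-Zassenhaus, and no solvability
hypothesis on `A` or `K`.
-/

set_option autoImplicit false

namespace Cfsg.Agent.Lib.CoprimeCommutator

open scoped commutatorElement

variable {G : Type*} [Group G]

/-- If `A` normalises `K` then `⁅K, A⁆ ≤ K`. -/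
theorem commutator_le_left {A K : Subgroup G} (hAK : A ≤ Subgroup.normalizer (K : Set G)) :
    ⁅K, A⁆ ≤ K := by
  rw [Subgroup.commutator_le]
  intro k hk a ha
  rw [commutatorElement_def]
  have h1 : k * a * k⁻¹ * a⁻¹ = k * (a * k⁻¹ * a⁻¹) := by group
  rw [h1]
  exact K.mul_mem hk ((Subgroup.mem_normalizer_iff.mp (hAK ha) _).mp (K.inv_mem hk))

/-- `K` normalises `⁅K, A⁆` (for arbitrary subgroups `K`, `A`). -/
theorem left_le_normalizer_commutator (K A : Subgroup G) :
    K ≤ Subgroup.normalizer ((⁅K, A⁆ : Subgroup G) : Set G) := by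
  have hconj : ∀ g ∈ K, ∀ x ∈ (⁅K, A⁆ : Subgroup G), g * x * g⁻¹ ∈ (⁅K, A⁆ : Subgroup G) := by
    intro g hg x hx
    rw [Subgroup.commutator_def] at hx
    induction hx using Subgroup.closure_induction with
    | mem y hy =>
      obtain ⟨k, hk, a, ha, rfl⟩ := hy
      have h1 : g * ⁅k, a⁆ * g⁻¹ = ⁅g * k, a⁆ * ⁅g, a⁆⁻¹ := by
        simp only [commutatorElement_def]; group
      rw [h1]
      exact Subgroup.mul_mem _ (Subgroup.commutator_mem_commutator (K.mul_mem hg hk) ha)
        (Subgroup.inv_mem _ (Subgroup.commutator_mem_commutator hg ha))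
    | one => simp
    | mul y z _ _ hy hz =>
      have h1 : g * (y * z) * g⁻¹ = (g * y * g⁻¹) * (g * z * g⁻¹) := by group
      rw [h1]; exact Subgroup.mul_mem _ hy hz
    | inv y _ hy =>
      have h1 : g * y⁻¹ * g⁻¹ = (g * y * g⁻¹)⁻¹ := by group
      rw [h1]; exact Subgroup.inv_mem _ hy
  intro g hg
  rw [Subgroup.mem_normalizer_iff]
  intro x
  refine ⟨hconj g hg x, fun h => ?_⟩
  have h2 := hconj g⁻¹ (K.inv_mem hg) _ h
  have h1 : g⁻¹ * (g * x * g⁻¹) * g⁻¹⁻¹ = x := by group
  rwa [h1] at h2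

/-- `A` normalises `⁅K, A⁆` (for arbitrary subgroups `K`, `A`). -/
theorem right_le_normalizer_commutator (K A : Subgroup G) :
    A ≤ Subgroup.normalizer ((⁅K, A⁆ : Subgroup G) : Set G) := by
  rw [Subgroup.commutator_comm]
  exact left_le_normalizer_commutator A K

/-- If a `p`-subgroup `P` normalises a subgroup `N` whose order is prime to `p`, and conjugation by
`P` stabilises the coset `k N`, then `P` centralises an element of that coset. -/
theorem exists_fixed_in_coset [Finite G] (p : ℕ) [Fact p.Prime]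
    (P N : Subgroup G) (hP : IsPGroup p P) (hPN : P ≤ Subgroup.normalizer (N : Set G))
    (hpN : ¬ p ∣ Nat.card N) (k : G) (hk : ∀ a ∈ P, k⁻¹ * (a * k * a⁻¹) ∈ N) :
    ∃ c : G, c ∈ Subgroup.centralizer (P : Set G) ∧ k⁻¹ * c ∈ N := by
  classical
  have hconj : ∀ a ∈ P, ∀ x ∈ N, a * x * a⁻¹ ∈ N := fun a ha x hx =>
    (Subgroup.mem_normalizer_iff.mp (hPN ha) x).mp hx
  let X : Type _ := {x : G // k⁻¹ * x ∈ N}
  let act : MulAction P X :=
    { smul := fun a x => ⟨(a : G) * x.1 * (a : G)⁻¹, by
        have h1 : k⁻¹ * ((a : G) * x.1 * (a : G)⁻¹) =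
            (k⁻¹ * ((a : G) * k * (a : G)⁻¹)) * ((a : G) * (k⁻¹ * x.1) * (a : G)⁻¹) := by group
        rw [h1]
        exact N.mul_mem (hk a a.2) (hconj a a.2 _ x.2)⟩
      one_smul := fun x => Subtype.ext (by
        change ((1 : P) : G) * x.1 * ((1 : P) : G)⁻¹ = x.1
        simp)
      mul_smul := fun a b x => Subtype.ext (by
        change ((a * b : P) : G) * x.1 * ((a * b : P) : G)⁻¹ =
          (a : G) * ((b : G) * x.1 * (b : G)⁻¹) * (a : G)⁻¹
        push_cast
        group) }
  have hcard : Nat.card X = Nat.card N := by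
    refine Nat.card_congr ⟨fun x => ⟨k⁻¹ * x.1, x.2⟩, fun n => ⟨k * n.1, ?_⟩, ?_, ?_⟩
    · rw [inv_mul_cancel_left]; exact n.2
    · intro x; exact Subtype.ext (by simp)
    · intro n; exact Subtype.ext (by simp)
  obtain ⟨c, hc⟩ := hP.nonempty_fixed_point_of_prime_not_dvd_card X (by rwa [hcard])
  refine ⟨c.1, ?_, c.2⟩
  rw [Subgroup.mem_centralizer_iff]
  intro a ha
  have h2 := congrArg Subtype.val (hc ⟨a, ha⟩)
  change a * c.1 * a⁻¹ = c.1 at h2
  exact mul_inv_eq_iff_eq_mul.mp h2

/-- For a `p`-group `P` normalising a `p'`-group `K`: every element of `K` is the product of an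
element of `⁅K, P⁆` and an element of `K` centralised by `P`. -/
theorem exists_commutator_mul_fixed_of_isPGroup [Finite G] (p : ℕ) [Fact p.Prime]
    (P K : Subgroup G) (hP : IsPGroup p P) (hPK : P ≤ Subgroup.normalizer (K : Set G))
    (hpK : ¬ p ∣ Nat.card K) (k : G) (hk : k ∈ K) :
    ∃ m ∈ (⁅K, P⁆ : Subgroup G), ∃ c ∈ K ⊓ Subgroup.centralizer (P : Set G), k = m * c := by
  have hle := commutator_le_left hPK
  obtain ⟨c, hc, hkc⟩ := exists_fixed_in_coset p P ⁅K, P⁆ hP (right_le_normalizer_commutator K P)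
    (fun h => hpK (h.trans (Subgroup.card_dvd_of_le hle))) k (by
      intro a ha
      have h1 : k⁻¹ * (a * k * a⁻¹) = ⁅k⁻¹, a⁆ := by
        simp only [commutatorElement_def]; group
      rw [h1]
      exact Subgroup.commutator_mem_commutator (K.inv_mem hk) ha)
  have hcK : c ∈ K := by
    have h1 : c = k * (k⁻¹ * c) := by group
    rw [h1]; exact K.mul_mem hk (hle hkc)
  refine ⟨k * c⁻¹, ?_, c, ⟨hcK, hc⟩, by group⟩
  have h1 : k * c⁻¹ = c * (k⁻¹ * c)⁻¹ * c⁻¹ := by group
  rw [h1]
  exact (Subgroup.mem_normalizer_iff.mp (left_le_normalizer_commutator K P hcK) _).mp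
    (Subgroup.inv_mem _ hkc)

/-- Induction over the prime power parts: if a property of the elements of a subgroup `A` of a
finite group is closed under products and holds for every element of prime power order, it holds
for all elements of `A`. -/
theorem induction_prime_power [Finite G] (A : Subgroup G) (Q : G → Prop)
    (hone : Q 1) (hmul : ∀ a ∈ A, ∀ b ∈ A, Q a → Q b → Q (a * b))
    (hpp : ∀ (p n : ℕ), p.Prime → ∀ a ∈ A, a ^ (p ^ n) = 1 → Q a) : ∀ a ∈ A, Q a := by
  have hpow : ∀ a ∈ A, Q a → ∀ m : ℕ, Q (a ^ m) := by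
    intro a ha h1 m
    induction m with
    | zero => simpa using hone
    | succ m ih =>
      rw [pow_succ]
      exact hmul _ (A.pow_mem ha m) _ ha ih h1
  have hall : ∀ n : ℕ, 0 < n → ∀ a ∈ A, a ^ n = 1 → Q a := by
    intro n
    induction n using Nat.recOnPosPrimePosCoprime with
    | prime_pow p n hp _ => intro _ a ha h; exact hpp p n hp a ha h
    | zero => intro h; exact absurd h (lt_irrefl _)
    | one =>
      intro _ a ha h
      rw [pow_one] at h
      rw [h]; exact hone
    | coprime x y hx hy hxy ihx ihy =>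
      intro _ a ha h
      have hx0 : 0 < x := by omega
      have hy0 : 0 < y := by omega
      have h1 : Q (a ^ x) := ihy hy0 (a ^ x) (A.pow_mem ha x) (by rw [← pow_mul]; exact h)
      have h2 : Q (a ^ y) :=
        ihx hx0 (a ^ y) (A.pow_mem ha y) (by rw [← pow_mul, mul_comm y x]; exact h)
      obtain ⟨u, hu⟩ : ∃ u : ℕ, x * u ≡ 1 [MOD y] := by
        obtain ⟨u, _, hu⟩ := Nat.exists_mul_mod_eq_one_of_coprime hxy hy
        exact ⟨u, by rw [Nat.ModEq, hu, Nat.mod_eq_of_lt hy]⟩
      obtain ⟨v, hv⟩ : ∃ v : ℕ, y * v ≡ 1 [MOD x] := by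
        obtain ⟨v, _, hv⟩ := Nat.exists_mul_mod_eq_one_of_coprime hxy.symm hx
        exact ⟨v, by rw [Nat.ModEq, hv, Nat.mod_eq_of_lt hx]⟩
      have huv : x * u + y * v ≡ 1 [MOD x * y] := by
        refine (Nat.modEq_and_modEq_iff_modEq_mul hxy).mp ⟨?_, ?_⟩
        · simpa using (Nat.modEq_zero_iff_dvd.mpr (dvd_mul_right x u)).add hv
        · simpa using hu.add (Nat.modEq_zero_iff_dvd.mpr (dvd_mul_right y v))
      have hord : orderOf a ∣ x * y := orderOf_dvd_of_pow_eq_one h
      have ha' : a = (a ^ x) ^ u * (a ^ y) ^ v := by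
        rw [← pow_mul, ← pow_mul, ← pow_add]
        conv_lhs => rw [← pow_one a]
        exact (pow_eq_pow_iff_modEq.mpr (huv.of_dvd hord).symm)
      have h3 := hmul _ (A.pow_mem (A.pow_mem ha x) u) _ (A.pow_mem (A.pow_mem ha y) v)
        (hpow _ (A.pow_mem ha x) h1 u) (hpow _ (A.pow_mem ha y) h2 v)
      rw [← ha'] at h3
      exact h3
  intro a ha
  exact hall (orderOf a) (orderOf_pos a) a ha (pow_orderOf_eq_one a)

/-- Coprime action: `[K, A, A] = [K, A]`, with no solvability hypothesis. -/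
theorem commutator_commutator_eq [Finite G] (A K : Subgroup G)
    (hAK : A ≤ Subgroup.normalizer (K : Set G)) (hcop : (Nat.card A).Coprime (Nat.card K)) :
    ⁅⁅K, A⁆, A⁆ = ⁅K, A⁆ := by
  classical
  have hNK := commutator_le_left hAK
  have hNconjA := right_le_normalizer_commutator K A
  have hMconjA := right_le_normalizer_commutator ⁅K, A⁆ A
  apply le_antisymm (commutator_le_left hNconjA)
  have hgood : ∀ a ∈ A, ∀ k ∈ K, ⁅k, a⁆ ∈ ⁅⁅K, A⁆, A⁆ := by
    apply induction_prime_power A
    · intro k _; simp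
    · intro a ha b _ h1 h2 k hk
      have h3 : ⁅k, a * b⁆ = ⁅k, a⁆ * (a * ⁅k, b⁆ * a⁻¹) := by
        simp only [commutatorElement_def]; group
      rw [h3]
      exact Subgroup.mul_mem _ (h1 k hk)
        ((Subgroup.mem_normalizer_iff.mp (hMconjA ha) _).mp (h2 k hk))
    · intro p n hp a ha hpow k hk
      by_cases ha1 : a = 1
      · subst ha1; simp
      have : Fact p.Prime := ⟨hp⟩
      have hPA : Subgroup.zpowers a ≤ A := by simpa [Subgroup.zpowers_le] using ha
      obtain ⟨m, _, hm⟩ := (Nat.dvd_prime_pow hp).mp (orderOf_dvd_of_pow_eq_one hpow)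
      have hm0 : m ≠ 0 := by
        rintro rfl
        rw [pow_zero, orderOf_eq_one_iff] at hm
        exact ha1 hm
      have hpA : p ∣ Nat.card A := by
        have h2 : orderOf a ∣ Nat.card A := by
          rw [← Nat.card_zpowers]
          exact Subgroup.card_dvd_of_le hPA
        exact (dvd_pow_self p hm0).trans (hm ▸ h2)
      have hpK : ¬ p ∣ Nat.card K := by
        intro h1
        exact hp.one_lt.ne' (Nat.dvd_one.mp (hcop ▸ Nat.dvd_gcd hpA h1))
      have hP : IsPGroup p (Subgroup.zpowers a) :=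
        IsPGroup.of_card (n := m) (by rw [Nat.card_zpowers, hm])
      obtain ⟨x, hx, c, ⟨_, hc⟩, rfl⟩ := exists_commutator_mul_fixed_of_isPGroup p
        (Subgroup.zpowers a) K hP (hPA.trans hAK) hpK k hk
      have hca : a * c = c * a :=
        (Subgroup.mem_centralizer_iff.mp hc) a (Subgroup.mem_zpowers a)
      have h1 : ⁅x * c, a⁆ = ⁅x, a⁆ := by
        have h3 : ⁅x * c, a⁆ = x * (c * a * c⁻¹) * x⁻¹ * a⁻¹ := by
          simp only [commutatorElement_def]; group
        rw [h3, ← hca, commutatorElement_def]; group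
      rw [h1]
      exact Subgroup.commutator_mem_commutator
        (Subgroup.commutator_mono le_rfl hPA hx) ha
  rw [Subgroup.commutator_le]
  intro k hk a ha
  exact hgood a ha k hk

/-- Coprime action: if `A` centralises `⁅K, A⁆` then `A` centralises `K`
(no solvability hypothesis). -/
theorem le_centralizer_of_commutator [Finite G] (A K : Subgroup G)
    (hAK : A ≤ Subgroup.normalizer (K : Set G)) (hcop : (Nat.card A).Coprime (Nat.card K))
    (h : A ≤ Subgroup.centralizer ((⁅K, A⁆ : Subgroup G) : Set G)) :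
    A ≤ Subgroup.centralizer (K : Set G) := by
  have h1 : ⁅⁅K, A⁆, A⁆ = (⊥ : Subgroup G) := by
    rw [Subgroup.commutator_comm]
    exact (Subgroup.commutator_eq_bot_iff_le_centralizer).mpr h
  rw [commutator_commutator_eq A K hAK hcop, Subgroup.commutator_comm] at h1
  exact (Subgroup.commutator_eq_bot_iff_le_centralizer).mp h1

/-- Coprime action: if `A` acts trivially on `K / N` and on `N` (i.e. `⁅K, A⁆ ≤ N` and `A`
centralises `N`) then `A` centralises `K` (no solvability hypothesis). -/
theorem le_centralizer_of_commutator_le [Finite G] (A K N : Subgroup G)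
    (hAK : A ≤ Subgroup.normalizer (K : Set G)) (hcop : (Nat.card A).Coprime (Nat.card K))
    (hN : ⁅K, A⁆ ≤ N) (h : A ≤ Subgroup.centralizer (N : Set G)) :
    A ≤ Subgroup.centralizer (K : Set G) :=
  le_centralizer_of_commutator A K hAK hcop (h.trans (Subgroup.centralizer_le hN))

end Cfsg.Agent.Lib.CoprimeCommutator
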