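import Mathlib
import Cfsg.Prelude.Def_Solvable
import Cfsg.Agent.Lib.Cores
import Cfsg.Agent.Lib.ThompsonPQ
import Cfsg.Agent.Lib.HallHigman

/-!
# The `p'`-core of a `p`-local subgroup of a solvable group

Bender-Glauberman Proposition 1.15: for a `p`-subgroup `P` of the finite solvable group `G`,
`O_{p'}(N_G(P)) ≤ O_{p'}(G)`.
-/

set_option autoImplicit false
set_option linter.style.haveILetI false

namespace Cfsg.Agent.Lib.LocalCore

open Subgroup Cfsg

variable {G : Type*} [Group G]

/-- `|H ⊔ N| = |H| |N|` for `N` normal of order coprime to that of `H`. -/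
theorem card_sup_of_coprime [Finite G] (H N : Subgroup G) [N.Normal]
    (h : (Nat.card H).Coprime (Nat.card N)) :
    Nat.card (H ⊔ N : Subgroup G) = Nat.card H * Nat.card N := by
  have hd : N ⊓ H = ⊥ := (disjoint_of_coprime_natCard h.symm).eq_bot
  have h1 : Nat.card N * N.relIndex (H ⊔ N) = Nat.card (H ⊔ N : Subgroup G) := by
    have := Subgroup.relIndex_mul_relIndex (⊥ : Subgroup G) N (H ⊔ N) bot_le le_sup_right
    simpa using this
  have h2 : N.relIndex H = Nat.card H := by
    have h3 := Subgroup.relIndex_mul_relIndex (⊥ : Subgroup G) (N ⊓ H) H bot_le inf_le_right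
    rw [hd] at h3
    rw [← Subgroup.inf_relIndex_right, hd, relIndex_bot_left]
  rw [← h1, relIndex_sup_right, h2, mul_comm]

/-- Frattini argument modulo a normal `p'`-subgroup: an element conjugating the `p`-subgroup `P`
into `P N` is congruent mod `N` to an element normalizing `P`. -/
theorem exists_mul_mem_normalizer [Finite G] (p : ℕ) [Fact p.Prime] (N P : Subgroup G) [N.Normal]
    (hN : (Nat.card N).Coprime p) (hP : IsPGroup p P) {g : G}
    (hg : ∀ x ∈ P, g * x * g⁻¹ ∈ P ⊔ N) : ∃ n ∈ N, n * g ∈ normalizer (P : Set G) := by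
  classical
  obtain ⟨k, hk⟩ := IsPGroup.iff_card.mp hP
  have hcop : (Nat.card P).Coprime (Nat.card N) := by
    rw [hk]; exact (Nat.Coprime.pow_right k hN).symm
  have hcard := card_sup_of_coprime P N hcop
  -- the two Sylow subgroups of `P ⊔ N`
  set T : Subgroup G := P ⊔ N with hT
  have hPT : P ≤ T := le_sup_left
  set P' : Subgroup G := P.map (MulAut.conj g).toMonoidHom with hP'
  have hP'T : P' ≤ T := by
    rintro _ ⟨x, hx, rfl⟩
    exact hg x hx
  have hsyl : ∀ Q : Subgroup G, Nat.card Q = p ^ k → Q ≤ T →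
      ∃ S : Sylow p T, (S : Subgroup T) = Q.subgroupOf T := by
    intro Q hQ hQT
    have hc : Nat.card (Q.subgroupOf T) = p ^ k := by
      rw [Nat.card_congr (subgroupOfEquivOfLe hQT).toEquiv, hQ]
    have h1 : IsPGroup p (Q.subgroupOf T) := IsPGroup.of_card hc
    have h2 : ¬ p ∣ (Q.subgroupOf T).index := by
      have h3 := (Q.subgroupOf T).card_mul_index
      rw [hc, hcard, hk] at h3
      have hpos : 0 < p ^ k := pow_pos (Fact.out : p.Prime).pos k
      rw [Nat.eq_of_mul_eq_mul_left hpos h3]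
      intro hd
      exact (Fact.out : p.Prime).one_lt.ne' (Nat.dvd_one.mp (hN ▸ Nat.dvd_gcd hd dvd_rfl))
    exact ⟨h1.toSylow h2, rfl⟩
  obtain ⟨S, hS⟩ := hsyl P hk hPT
  obtain ⟨S', hS'⟩ := hsyl P' (by
    rw [hP', card_map_of_injective (MulAut.conj g).injective, hk]) hP'T
  obtain ⟨t, ht⟩ := MulAction.exists_smul_eq T S' S
  -- `t g` normalizes `P`
  have htg : ∀ x ∈ P, (t : G) * (g * x * g⁻¹) * (t : G)⁻¹ ∈ P := by
    intro x hx
    have h1 : (⟨g * x * g⁻¹, hg x hx⟩ : T) ∈ (S' : Subgroup T) := by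
      rw [hS', mem_subgroupOf]
      exact ⟨x, hx, rfl⟩
    have h2 : t * (⟨g * x * g⁻¹, hg x hx⟩ : T) * t⁻¹ ∈ (S : Subgroup T) := by
      rw [← ht]
      rw [Sylow.coe_subgroup_smul, mem_pointwise_smul_iff_inv_smul_mem]
      have : (MulAut.conj t)⁻¹ • (t * (⟨g * x * g⁻¹, hg x hx⟩ : T) * t⁻¹) =
          (⟨g * x * g⁻¹, hg x hx⟩ : T) := by
        rw [MulAut.smul_def, ← map_inv, MulAut.conj_apply]
        group
      rw [this]
      exact h1
    rw [hS, mem_subgroupOf] at h2
    exact h2
  obtain ⟨x, hx, n, hn, hxn⟩ : ∃ x ∈ P, ∃ n ∈ N, x * n = (t : G) := by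
    have h1 : (t : G) ∈ P ⊔ N := t.2
    rw [mem_sup_of_normal_right] at h1
    exact h1
  refine ⟨n, hn, ?_⟩
  have hfin : ∀ y ∈ P, (n * g) * y * (n * g)⁻¹ ∈ P := by
    intro y hy
    have h1 := htg y hy
    have h2 := P.mul_mem (P.mul_mem (P.inv_mem hx) h1) hx
    have h3 : x⁻¹ * ((t : G) * (g * y * g⁻¹) * (t : G)⁻¹) * x = (n * g) * y * (n * g)⁻¹ := by
      rw [← hxn]; group
    rwa [h3] at h2
  rw [mem_normalizer_iff_map_conj_eq]
  refine eq_of_le_of_card_ge ?_ ?_
  · rintro _ ⟨y, hy, rfl⟩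
    exact hfin y hy
  · rw [card_map_of_injective (MulAut.conj (n * g)).injective]

/-- **Bender-Glauberman 1.15(c)**: in a finite solvable group a `p'`-subgroup `K` that is normal in
the normalizer of the `p`-subgroup `P` lies in `O_{p'}(G)`. -/
theorem le_pPrimeCore_of_normalizer [Finite G] [Group.IsSolvable G] (p : ℕ) [Fact p.Prime]
    (P K : Subgroup G) (hP : IsPGroup p P) (hK : (Nat.card K).Coprime p)
    (hKP : K ≤ normalizer (P : Set G)) (hPK : normalizer (P : Set G) ≤ normalizer (K : Set G)) :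
    K ≤ pPrimeCore p G := by
  classical
  obtain ⟨k, hk⟩ := IsPGroup.iff_card.mp hP
  have hcop : (Nat.card P).Coprime (Nat.card K) := by
    rw [hk]; exact (Nat.Coprime.pow_right k hK).symm
  have hPK' : P ≤ normalizer (K : Set G) := le_normalizer.trans hPK
  -- `P` and `K` commute
  have hcomm : P ≤ centralizer (K : Set G) := by
    intro x hx
    rw [mem_centralizer_iff]
    intro y hy
    have h1 : y * x * y⁻¹ * x⁻¹ ∈ P := P.mul_mem ((mem_normalizer_iff.mp (hKP hy) x).mp hx)
      (P.inv_mem hx)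
    have h2 : y * x * y⁻¹ * x⁻¹ ∈ K := by
      have : y * (x * y⁻¹ * x⁻¹) ∈ K :=
        K.mul_mem hy ((mem_normalizer_iff.mp (hPK' hx) _).mp (K.inv_mem hy))
      simpa [mul_assoc] using this
    have h3 : y * x * y⁻¹ * x⁻¹ ∈ P ⊓ K := ⟨h1, h2⟩
    rw [(disjoint_of_coprime_natCard hcop).eq_bot, mem_bot] at h3
    have h4 : y * x = 1 * x * y := by
      rw [← h3]; group
    simpa using h4
  set N := pPrimeCore p G with hN
  haveI hNn : N.Normal := Cores.pPrimeCore_normal p
  have hNc : (Nat.card N).Coprime p := Cores.pPrimeCore_coprime p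
  set f := QuotientGroup.mk' N with hf
  have hfs : Function.Surjective f := QuotientGroup.mk'_surjective N
  have hbot : pPrimeCore p (G ⧸ N) = ⊥ := Cores.pPrimeCore_quotient_pPrimeCore p
  have hcent := HallHigman.centralizer_pCore_le_of_solvable (G := G ⧸ N) p hbot
  set U := pCore p (G ⧸ N) with hU
  haveI hUn : U.Normal := Cores.pCore_normal p
  have hUp : IsPGroup p U := Cores.pCore_isPGroup p
  have hUtop : normalizer (U : Set (G ⧸ N)) = ⊤ := normalizer_eq_top_iff.mpr hUn
  have hKc : (Nat.card (K.map f)).Coprime p := hK.coprime_dvd_left (card_map_dvd _ _)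
  obtain ⟨m, hm⟩ := IsPGroup.iff_card.mp hUp
  have hKU : K.map f ⊓ U = ⊥ := by
    refine (disjoint_of_coprime_natCard ?_).eq_bot
    rw [hm]; exact Nat.Coprime.pow_right m hKc
  have key : K.map f ≤ centralizer (U : Set (G ⧸ N)) := by
    refine ThompsonPQ.thompson_p_times_q p (P.map f) (K.map f) U (hP.map f) hKc hUp ?_ ?_ ?_ ?_
    · rintro _ ⟨x, hx, rfl⟩
      rw [mem_centralizer_iff]
      rintro _ ⟨y, hy, rfl⟩
      rw [← map_mul, ← map_mul, mem_centralizer_iff.mp (hcomm hx) y hy]
    · rw [hUtop]; exact le_top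
    · rw [hUtop]; exact le_top
    · rintro u ⟨huU, huc⟩
      obtain ⟨g, rfl⟩ := hfs u
      have hg : ∀ x ∈ P, g * x * g⁻¹ ∈ P ⊔ N := by
        intro x hx
        have h1 := mem_centralizer_iff.mp huc (f x) ⟨x, hx, rfl⟩
        have h2 : f (x⁻¹ * (g * x * g⁻¹)) = 1 := by
          rw [map_mul, map_mul, map_mul, map_inv, map_inv, ← h1]; group
        have h3 : x⁻¹ * (g * x * g⁻¹) ∈ N := by
          rwa [← QuotientGroup.ker_mk' N, MonoidHom.mem_ker]
        have h4 : g * x * g⁻¹ = x * (x⁻¹ * (g * x * g⁻¹)) := by group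
        rw [h4]
        exact mul_mem_sup hx h3
      obtain ⟨n, hn, hng⟩ := exists_mul_mem_normalizer p N P hNc hP hg
      have hfg : f g = f (n * g) := by
        have : f n = 1 := by
          rwa [← MonoidHom.mem_ker, hf, QuotientGroup.ker_mk']
        rw [map_mul, this, one_mul]
      rw [mem_centralizer_iff]
      rintro _ ⟨y, hy, rfl⟩
      -- the commutator of `f y` and `f g`
      have h1 : f y * f g * (f y)⁻¹ * (f g)⁻¹ ∈ U :=
        U.mul_mem (hUn.conj_mem _ huU _) (U.inv_mem huU)
      have h2 : f y * f g * (f y)⁻¹ * (f g)⁻¹ ∈ K.map f := by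
        refine ⟨y * ((n * g) * y⁻¹ * (n * g)⁻¹), K.mul_mem hy
          ((mem_normalizer_iff.mp (hPK hng) _).mp (K.inv_mem hy)), ?_⟩
        rw [hfg]
        simp only [map_mul, map_inv, mul_assoc]
      have h3 : f y * f g * (f y)⁻¹ * (f g)⁻¹ ∈ K.map f ⊓ U := ⟨h2, h1⟩
      rw [hKU, mem_bot] at h3
      have h4 : f y * f g = 1 * f g * f y := by
        rw [← h3]; group
      simpa using h4
  have h5 : K.map f ≤ K.map f ⊓ U := le_inf le_rfl (key.trans hcent)
  rw [hKU, le_bot_iff, Subgroup.map_eq_bot_iff, hf, QuotientGroup.ker_mk'] at h5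
  exact h5

/-! ### Cores of subgroups, as subgroups of the ambient group -/

theorem subgroupOf_map_subtype_self {X : Subgroup G} (C : Subgroup X) :
    (C.map X.subtype).subgroupOf X = C :=
  comap_map_eq_self_of_injective X.subtype_injective C

/-- `X` normalizes the image in `G` of a normal subgroup of `X`. -/
theorem le_normalizer_map_subtype (X : Subgroup G) (C : Subgroup X) (hC : C.Normal) :
    X ≤ normalizer ((C.map X.subtype : Subgroup G) : Set G) := by
  have h : ((C.map X.subtype).subgroupOf X).Normal := by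
    rw [subgroupOf_map_subtype_self]; exact hC
  exact le_normalizer_of_normal_subgroupOf (map_subtype_le C)

/-- A normalized `p'`-subgroup of `X` lies in `O_{p'}(X)`. -/
theorem le_map_pPrimeCore {p : ℕ} {X K : Subgroup G} (hKX : K ≤ X)
    (hK : (Nat.card K).Coprime p) (hX : X ≤ normalizer (K : Set G)) :
    K ≤ (pPrimeCore p X).map X.subtype := by
  have hn : (K.subgroupOf X).Normal := normal_subgroupOf_of_le_normalizer hX
  have h1 : K.subgroupOf X ≤ pPrimeCore p X := by
    refine Cores.le_pPrimeCore hn ?_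
    rwa [Nat.card_congr (subgroupOfEquivOfLe hKX).toEquiv]
  calc K = (K.subgroupOf X).map X.subtype := by
        rw [subgroupOf_map_subtype, inf_eq_left.mpr hKX]
    _ ≤ _ := Subgroup.map_mono h1

/-- A normalized `p`-subgroup of `X` lies in `O_p(X)`. -/
theorem le_map_pCore {p : ℕ} {X K : Subgroup G} (hKX : K ≤ X)
    (hK : IsPGroup p K) (hX : X ≤ normalizer (K : Set G)) :
    K ≤ (pCore p X).map X.subtype := by
  have hn : (K.subgroupOf X).Normal := normal_subgroupOf_of_le_normalizer hX
  have h1 : K.subgroupOf X ≤ pCore p X :=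
    Cores.le_pCore hn (hK.of_equiv (subgroupOfEquivOfLe hKX).symm)
  calc K = (K.subgroupOf X).map X.subtype := by
        rw [subgroupOf_map_subtype, inf_eq_left.mpr hKX]
    _ ≤ _ := Subgroup.map_mono h1

/-- A normalized nilpotent subgroup of `X` lies in `F(X)`. -/
theorem le_map_fittingSubgroup {X K : Subgroup G} (hKX : K ≤ X)
    (hK : Group.IsNilpotent K) (hX : X ≤ normalizer (K : Set G)) :
    K ≤ (fittingSubgroup X).map X.subtype := by
  have hn : (K.subgroupOf X).Normal := normal_subgroupOf_of_le_normalizer hX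
  have h1 : K.subgroupOf X ≤ fittingSubgroup X := by
    refine Cores.le_fittingSubgroup hn ?_
    exact (Group.isNilpotent_congr (subgroupOfEquivOfLe hKX)).mpr hK
  calc K = (K.subgroupOf X).map X.subtype := by
        rw [subgroupOf_map_subtype, inf_eq_left.mpr hKX]
    _ ≤ _ := Subgroup.map_mono h1

theorem le_normalizer_map_pPrimeCore (p : ℕ) (X : Subgroup G) :
    X ≤ normalizer (((pPrimeCore p X).map X.subtype : Subgroup G) : Set G) :=
  le_normalizer_map_subtype X _ (Cores.pPrimeCore_normal p)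

theorem le_normalizer_map_pCore (p : ℕ) (X : Subgroup G) :
    X ≤ normalizer (((pCore p X).map X.subtype : Subgroup G) : Set G) :=
  le_normalizer_map_subtype X _ (Cores.pCore_normal p)

theorem le_normalizer_map_fittingSubgroup (X : Subgroup G) :
    X ≤ normalizer (((fittingSubgroup X).map X.subtype : Subgroup G) : Set G) :=
  le_normalizer_map_subtype X _ Cores.fittingSubgroup_normal

theorem card_map_subtype {X : Subgroup G} (C : Subgroup X) :
    Nat.card (C.map X.subtype : Subgroup G) = Nat.card C :=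
  card_map_of_injective X.subtype_injective

theorem card_map_pPrimeCore_coprime [Finite G] (p : ℕ) (X : Subgroup G) :
    (Nat.card ((pPrimeCore p X).map X.subtype : Subgroup G)).Coprime p := by
  rw [card_map_subtype]; exact Cores.pPrimeCore_coprime p

theorem isPGroup_map_pCore (p : ℕ) (X : Subgroup G) :
    IsPGroup p ((pCore p X).map X.subtype : Subgroup G) :=
  (Cores.pCore_isPGroup p).map _

/-- **Relative version**: `H`, `L` subgroups of `G`, `L` solvable, and `P ≤ L` a `p`-subgroup which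
`H` normalizes and such that `N_L(P) ≤ H`.  Then `O_{p'}(H) ∩ L ≤ O_{p'}(L)`. -/
theorem pPrimeCoreOf_inf_le [Finite G] (p : ℕ) [Fact p.Prime] (H L P : Subgroup G)
    (hL : Group.IsSolvable L) (hP : IsPGroup p P) (hPL : P ≤ L)
    (hHP : H ≤ normalizer (P : Set G)) (hLP : L ⊓ normalizer (P : Set G) ≤ H) :
    (pPrimeCore p H).map H.subtype ⊓ L ≤ (pPrimeCore p L).map L.subtype := by
  set W := (pPrimeCore p H).map H.subtype with hW
  set K := W ⊓ L with hK
  have hKL : K ≤ L := inf_le_right
  have hWH : W ≤ H := map_subtype_le _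
  have hWn : H ≤ normalizer (W : Set G) := le_normalizer_map_pPrimeCore p H
  have hKc : (Nat.card K).Coprime p :=
    (card_map_pPrimeCore_coprime p H).coprime_dvd_left (card_dvd_of_le inf_le_left)
  have hKP : K ≤ normalizer (P : Set G) := (inf_le_left.trans hWH).trans hHP
  have h1 : K.subgroupOf L ≤ pPrimeCore p L := by
    refine le_pPrimeCore_of_normalizer p (P.subgroupOf L) (K.subgroupOf L)
      (hP.of_equiv (subgroupOfEquivOfLe hPL).symm) ?_ ?_ ?_
    · rwa [Nat.card_congr (subgroupOfEquivOfLe hKL).toEquiv]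
    · rw [← subgroupOf_normalizer_eq hPL]
      exact fun x hx => hKP hx
    · rw [← subgroupOf_normalizer_eq hPL, ← subgroupOf_normalizer_eq hKL]
      intro x hx
      rw [mem_subgroupOf] at hx ⊢
      have hxH : (x : G) ∈ H := hLP ⟨x.2, hx⟩
      exact inf_normalizer_le_normalizer_inf ⟨hWn hxH, le_normalizer x.2⟩
  calc K = (K.subgroupOf L).map L.subtype := by
        rw [subgroupOf_map_subtype, inf_eq_left.mpr hKL]
    _ ≤ _ := Subgroup.map_mono h1

end Cfsg.Agent.Lib.LocalCore
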