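import Mathlib

/-!
# Zsigmondy's theorem (primitive prime divisors of `a ^ n - 1`)
-/

set_option autoImplicit false

namespace Cfsg.Agent.Lib.Zsigmondy

open Polynomial

/-- `r ∣ a ^ m - 1` iff the order of `a` modulo `r` divides `m`. -/
theorem dvd_pow_sub_one_iff {a r : ℕ} (ha : 1 ≤ a) (m : ℕ) :
    r ∣ a ^ m - 1 ↔ orderOf (a : ZMod r) ∣ m := by
  rw [orderOf_dvd_iff_pow_eq_one, ← (ZMod.natCast_eq_zero_iff (a ^ m - 1) r),
    Nat.cast_sub (Nat.one_le_pow _ _ ha)]
  push_cast
  rw [sub_eq_zero]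

/-- The order of a unit modulo a prime divides `r - 1`. -/
theorem orderOf_dvd_pred {a r : ℕ} (hr : r.Prime) (ha : ¬ r ∣ a) :
    orderOf (a : ZMod r) ∣ r - 1 := by
  have := Fact.mk hr
  rw [orderOf_dvd_iff_pow_eq_one]
  apply ZMod.pow_card_sub_one_eq_one
  intro h
  exact ha ((ZMod.natCast_eq_zero_iff a r).1 h)

/-- evaluation of `Φ_{m r^(k+1)}` -/
theorem eval_cyclotomic_pow {r : ℕ} (hr : r.Prime) (m k : ℕ) (x : ℤ) :
    (cyclotomic (m * r ^ (k + 1)) ℤ).eval x = (cyclotomic (m * r) ℤ).eval (x ^ r ^ k) := by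
  induction k generalizing x with
  | zero => simp
  | succ k ih =>
    have h1 : m * r ^ (k + 1 + 1) = (m * r ^ (k + 1)) * r := by ring
    rw [h1, ← cyclotomic_expand_eq_cyclotomic hr
      (Dvd.dvd.mul_left (dvd_pow_self r (Nat.succ_ne_zero k)) m) ℤ, expand_eval, ih]
    congr 1
    rw [← pow_mul, pow_succ']

theorem eval_cyclotomic_mul {r m : ℕ} (hr : r.Prime) (hm : ¬ r ∣ m) (x : ℤ) :
    (cyclotomic m ℤ).eval (x ^ r) = (cyclotomic (m * r) ℤ).eval x * (cyclotomic m ℤ).eval x := by
  rw [← expand_eval, cyclotomic_expand_eq_cyclotomic_mul hr hm, eval_mul]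

theorem key_ineq {b r : ℕ} (hb : 2 ≤ b) (hr : 3 ≤ r) (h : ¬ (r = 3 ∧ b = 2)) (h4 : ¬ (r = 4)) :
    r * (b + 1) + 1 < b ^ r := by
  rcases Nat.lt_or_ge b 3 with hb3 | hb3
  · obtain rfl : b = 2 := by omega
    have hr5 : 5 ≤ r := by
      rcases Nat.lt_or_ge r 5 with h5 | h5
      · exfalso
        have : r = 3 ∨ r = 4 := by omega
        rcases this with h' | h'
        · exact h ⟨h', rfl⟩
        · exact h4 h'
      · exact h5
    clear h h4 hr
    induction r, hr5 using Nat.le_induction with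
    | base => norm_num
    | succ n hn ih => rw [pow_succ]; omega
  · clear h h4
    induction r, hr using Nat.le_induction with
    | base => nlinarith [sq_nonneg (b - 3 : ℤ), pow_succ b 2, sq_nonneg b, mul_pos (show 0 < b by omega) (show 0 < b by omega), mul_le_mul hb3 hb3 (by norm_num) (by omega)]
    | succ n hn ih =>
      rw [pow_succ]
      have h1 : b ^ n * 3 ≤ b ^ n * b := Nat.mul_le_mul_left _ hb3
      have h2 : (n + 1) * (b + 1) = n * (b + 1) + (b + 1) := by ring
      have h3 : b + 1 ≤ n * (b + 1) := Nat.le_mul_of_pos_left _ (by omega)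
      omega

/-- **Zsigmondy's theorem.** -/
theorem exists_prime_orderOf {a n : ℕ} (ha : 2 ≤ a) (hn : 2 ≤ n)
    (h2 : n = 2 → ¬ ∃ k, a + 1 = 2 ^ k) (h6 : ¬ (a = 2 ∧ n = 6)) :
    ∃ r : ℕ, r.Prime ∧ orderOf (a : ZMod r) = n := by
  classical
  by_contra hcon
  push Not at hcon
  set N : ℕ := ((cyclotomic n ℤ).eval (a : ℤ)).natAbs with hN
  have hNgt : a - 1 < N := sub_one_lt_natAbs_cyclotomic_eval (by omega) (by omega)
  have hN2 : 2 ≤ N := by omega
  have hcast : ∀ k : ℕ, (1 : ℝ) < (a : ℝ) ^ (k + 1) := by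
    intro k
    exact one_lt_pow₀ (by exact_mod_cast (by omega : 1 < a)) (Nat.succ_ne_zero k)
  -- every prime divisor of `N`
  have key : ∀ r : ℕ, r.Prime → r ∣ N → ∃ k m : ℕ, n = r ^ (k + 1) * m ∧ ¬ r ∣ m ∧
      orderOf (a : ZMod r) = m ∧ m ∣ r - 1 ∧ 0 < m := by
    intro r hr hrN
    have := Fact.mk hr
    obtain ⟨k, m, hm, hnk⟩ := Nat.exists_eq_pow_mul_and_not_dvd (n := n) (by omega) r hr.ne_one
    have hroot : (cyclotomic (r ^ k * m) (ZMod r)).IsRoot (a : ZMod r) := by
      rw [← hnk]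
      have h1 : (((cyclotomic n ℤ).eval (a : ℤ) : ℤ) : ZMod r) = 0 := by
        rw [ZMod.intCast_zmod_eq_zero_iff_dvd]
        exact Int.natCast_dvd.2 hrN
      rw [IsRoot.def, ← map_cyclotomic_int n (ZMod r)]
      have h3 : (a : ZMod r) = (Int.castRingHom (ZMod r)) (a : ℤ) := by simp
      rw [h3, eval_map_apply]
      simpa using h1
    have : NeZero (m : ZMod r) := ⟨fun h => hm ((ZMod.natCast_eq_zero_iff m r).1 h)⟩
    rw [isRoot_cyclotomic_prime_pow_mul_iff_of_charP] at hroot
    have hord : orderOf (a : ZMod r) = m := hroot.eq_orderOf.symm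
    have hmpos : 0 < m := Nat.pos_of_ne_zero (by rintro rfl; exact hm (dvd_zero r))
    cases k with
    | zero =>
      exfalso
      refine hcon r hr ?_
      rw [hord, hnk]; simp
    | succ k =>
      refine ⟨k, m, hnk, hm, hord, ?_, hmpos⟩
      rw [← hord]
      apply orderOf_dvd_pred hr
      intro hra
      have h0 : (a : ZMod r) = 0 := (ZMod.natCast_eq_zero_iff a r).2 hra
      have := hroot.pow_eq_one
      rw [h0, zero_pow hmpos.ne'] at this
      exact zero_ne_one this
  -- uniqueness of the prime divisor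
  obtain ⟨r, hr, hrN⟩ := Nat.exists_prime_and_dvd (n := N) (by omega)
  have huniq : ∀ s : ℕ, s.Prime → s ∣ N → s = r := by
    intro s hs hsN
    by_contra hne
    obtain ⟨k, m, h1, h2', -, h3, hm0⟩ := key r hr hrN
    obtain ⟨k', m', h1', h2'', -, h3', hm0'⟩ := key s hs hsN
    have hs_m : s ∣ m := by
      have : s ∣ r ^ (k + 1) * m := by
        rw [← h1, h1']; exact Dvd.dvd.mul_right (dvd_pow_self s (Nat.succ_ne_zero k')) m'
      rcases hs.dvd_mul.1 this with h | h
      · exact absurd ((Nat.prime_dvd_prime_iff_eq hs hr).1 (hs.dvd_of_dvd_pow h)) hne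
      · exact h
    have hr_m' : r ∣ m' := by
      have : r ∣ s ^ (k' + 1) * m' := by
        rw [← h1', h1]; exact Dvd.dvd.mul_right (dvd_pow_self r (Nat.succ_ne_zero k)) m
      rcases hr.dvd_mul.1 this with h | h
      · exact absurd ((Nat.prime_dvd_prime_iff_eq hr hs).1 (hr.dvd_of_dvd_pow h)).symm hne
      · exact h
    have hlt1 : s ≤ r - 1 := Nat.le_of_dvd (by have := hr.two_le; omega) (hs_m.trans h3)
    have hlt2 : r ≤ s - 1 := Nat.le_of_dvd (by have := hs.two_le; omega) (hr_m'.trans h3')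
    have := hr.two_le
    have := hs.two_le
    omega
  obtain ⟨k, m, hnk, hrm, hord, hmr, hm0⟩ := key r hr hrN
  -- `N` is a power of `r`
  have hNpow : N = r ^ N.factorization r := by
    refine Nat.eq_pow_of_factorization_eq_single (by omega) ?_
    ext s
    by_cases hsr : s = r
    · subst hsr; simp
    · rw [Finsupp.single_apply, if_neg (Ne.symm hsr)]
      by_contra h
      have hs : s ∈ N.factorization.support := Finsupp.mem_support_iff.2 h
      rw [Nat.support_factorization, Nat.mem_primeFactors] at hs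
      exact hsr (huniq s hs.1 hs.2.1)
  have hNval : ((cyclotomic n ℤ).eval (a : ℤ)) = (N : ℤ) := by
    rw [hN]
    refine (Int.natAbs_of_nonneg ?_).symm
    exact cyclotomic_nonneg n (by exact_mod_cast (by omega : 1 ≤ a))
  -- the case `r = 2`
  rcases Nat.lt_or_ge 2 r with hr2 | hr2
  swap
  · obtain rfl : r = 2 := le_antisymm hr2 hr.two_le
    have hm1 : m = 1 := Nat.dvd_one.1 (by simpa using hmr)
    subst hm1
    have hev : ((cyclotomic n ℤ).eval (a : ℤ)) = (a : ℤ) ^ 2 ^ k + 1 := by
      have := eval_cyclotomic_pow Nat.prime_two 1 k (a : ℤ)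
      rw [show n = 1 * 2 ^ (k + 1) by rw [hnk]; ring, this]
      simp [cyclotomic_two]
    have hNa : N = a ^ 2 ^ k + 1 := by
      have : (N : ℤ) = (a : ℤ) ^ 2 ^ k + 1 := by rw [← hNval, hev]
      exact_mod_cast this
    cases k with
    | zero =>
      apply h2 (by simpa using hnk)
      refine ⟨N.factorization 2, ?_⟩
      rw [← hNpow, hNa]; simp
    | succ k =>
      have hsq : N = (a ^ 2 ^ k) ^ 2 + 1 := by rw [hNa, ← pow_mul, pow_succ]
      have h4 : ¬ 4 ∣ N := by
        rw [hsq]
        intro h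
        have h5 : ((a ^ 2 ^ k) ^ 2 + 1) % 4 = 0 := Nat.mod_eq_zero_of_dvd h
        have h6 : (a ^ 2 ^ k) % 4 < 4 := Nat.mod_lt _ (by norm_num)
        rw [Nat.add_mod, Nat.pow_mod] at h5
        interval_cases (a ^ 2 ^ k) % 4 <;> simp at h5
      have hfac : N.factorization 2 ≤ 1 := by
        by_contra h
        push Not at h
        apply h4
        rw [hNpow]
        exact pow_dvd_pow 2 h
      have hN2' : N ≤ 2 := by
        rw [hNpow]
        calc 2 ^ N.factorization 2 ≤ 2 ^ 1 := Nat.pow_le_pow_right (by norm_num) hfac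
          _ = 2 := by norm_num
      have : 4 ≤ (a ^ 2 ^ k) ^ 2 := by
        have : 2 ≤ a ^ 2 ^ k := le_trans ha (Nat.le_self_pow (by positivity) a)
        nlinarith
      omega
  · -- `r` odd: `N = r`
    have hodd : Odd r := hr.odd_of_ne_two (by omega)
    have hNr : N = r := by
      have hdvd : ((a : ℤ) ^ (r ^ k * m) - 1) * (N : ℤ) ∣ (a : ℤ) ^ n - 1 := by
        have hprop : r ^ k * m ∈ n.properDivisors := by
          rw [Nat.mem_properDivisors]
          refine ⟨⟨r, by rw [hnk]; ring⟩, ?_⟩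
          rw [hnk]
          have : r ^ k * m < r ^ k * m * r := by
            have : 0 < r ^ k * m := Nat.mul_pos (pow_pos hr.pos k) hm0
            nlinarith
          calc r ^ k * m < r ^ k * m * r := this
            _ = r ^ (k + 1) * m := by ring
        have := X_pow_sub_one_mul_cyclotomic_dvd_X_pow_sub_one_of_dvd ℤ hprop
        have h' := eval_dvd (x := (a : ℤ)) this
        simpa [hNval] using h'
      set c : ℕ := a ^ (r ^ k * m) with hc
      have hc1 : 1 < c := Nat.one_lt_pow (Nat.mul_pos (pow_pos hr.pos k) hm0).ne' (by omega)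
      have hcr : a ^ n = c ^ r := by rw [hc, ← pow_mul, hnk]; congr 1; ring
      have hdvd' : (c - 1) * N ∣ c ^ r - 1 := by
        have h1 : (((c - 1) * N : ℕ) : ℤ) ∣ ((c ^ r - 1 : ℕ) : ℤ) := by
          rw [Nat.cast_mul, Nat.cast_sub hc1.le, Nat.cast_sub (Nat.one_le_pow _ _ (by omega)), ← hcr]
          push_cast
          simpa [hc] using hdvd
        exact_mod_cast h1
      have hrc : r ∣ c - 1 := by
        rw [hc, dvd_pow_sub_one_iff (by omega), hord]
        exact Dvd.intro_left _ rfl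
      have hrc' : ¬ r ∣ c := by
        intro h
        have : r ∣ 1 := by
          have h1 : c = (c - 1) + 1 := by omega
          rw [h1] at h
          exact (Nat.dvd_add_right hrc).1 h
        exact hr.one_lt.ne' (Nat.dvd_one.1 this)
      have := Fact.mk hr
      have hlte : padicValNat r (c ^ r - 1 ^ r) = padicValNat r (c - 1) + padicValNat r r :=
        padicValNat.pow_sub_pow hodd hc1 hrc hrc' hr.ne_zero
      rw [one_pow, padicValNat_self] at hlte
      have hle : padicValNat r ((c - 1) * N) ≤ padicValNat r (c ^ r - 1) := by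
        apply (padicValNat_dvd_iff_le (p := r) ?_).1
        · exact (pow_padicValNat_dvd).trans hdvd'
        · have : 1 < c ^ r := Nat.one_lt_pow hr.ne_zero hc1
          omega
      rw [padicValNat.mul (by omega) (by omega), hlte] at hle
      have hle1 : padicValNat r N ≤ 1 := by omega
      have hge1 : 1 ≤ padicValNat r N := one_le_padicValNat_of_dvd (by omega) hrN
      have hfac : N.factorization r = 1 := by
        rw [Nat.factorization_def N hr]; omega
      rw [hNpow, hfac, pow_one]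
    -- the inequality
    set b : ℕ := a ^ r ^ k with hb
    have hb2 : 2 ≤ b := le_trans ha (Nat.le_self_pow (pow_pos hr.pos k).ne' a)
    have hrb : r * (cyclotomic m ℤ).eval (b : ℤ) = (cyclotomic m ℤ).eval ((b : ℤ) ^ r) := by
      rw [eval_cyclotomic_mul hr hrm]
      congr 1
      have h1 := eval_cyclotomic_pow hr m k (a : ℤ)
      rw [show m * r ^ (k + 1) = n by rw [hnk]; ring, hNval, hNr] at h1
      rw [h1, hb]; push_cast; rfl
    have hrbR : (r : ℝ) * (cyclotomic m ℝ).eval (b : ℝ) = (cyclotomic m ℝ).eval ((b : ℝ) ^ r) := by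
      have h1 := congrArg (fun z : ℤ => (z : ℝ)) hrb
      have h2 : ∀ z : ℤ, (((cyclotomic m ℤ).eval z : ℤ) : ℝ) = (cyclotomic m ℝ).eval (z : ℝ) := by
        intro z
        rw [← map_cyclotomic_int m ℝ]
        have := (eval_map_apply (p := cyclotomic m ℤ) (f := Int.castRingHom ℝ) (x := z))
        simpa using this.symm
      simp only [Int.cast_mul, h2] at h1
      simpa using h1
    by_cases hexc : r = 3 ∧ b = 2
    · obtain ⟨rfl, hb2'⟩ := hexc
      have hk : k = 0 := by
        by_contra hk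
        have h1 : a ^ 3 ^ 1 ≤ a ^ 3 ^ k :=
          Nat.pow_le_pow_right (by omega) (Nat.pow_le_pow_right (by norm_num) (by omega))
        rw [← hb, hb2'] at h1
        have : 2 ^ 3 ≤ a ^ 3 := Nat.pow_le_pow_left ha 3
        simp at h1
        omega
      subst hk
      have ha2 : a = 2 := by simpa [hb] using hb2'
      have hm2 : m ∣ 2 := by simpa using hmr
      have hm12 : m = 1 ∨ m = 2 := (Nat.dvd_prime Nat.prime_two).1 hm2
      rcases hm12 with rfl | rfl
      · subst ha2
        have h7 : n = 3 := by simpa using hnk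
        subst h7
        refine hcon 7 (by norm_num) ?_
        rw [orderOf_eq_iff (by norm_num)]
        refine ⟨by decide, ?_⟩
        intro j hj hj0
        interval_cases j <;> decide
      · exact h6 ⟨ha2, by simpa using hnk⟩
    · have hineq := key_ineq hb2 (by omega) hexc (by rintro rfl; revert hr; norm_num)
      have hφ : 0 < m.totient := Nat.totient_pos.2 hm0
      have hb1 : (1 : ℝ) < b := by exact_mod_cast (by omega : 1 < b)
      have hbr1 : (1 : ℝ) < (b : ℝ) ^ r := one_lt_pow₀ hb1 hr.ne_zero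
      have hlow := sub_one_pow_totient_le_cyclotomic_eval (q := (b : ℝ) ^ r) hbr1 m
      have hup := cyclotomic_eval_le_add_one_pow_totient (q := (b : ℝ)) hb1 m
      have hcomp : (r : ℝ) * ((b : ℝ) + 1) ^ m.totient < ((b : ℝ) ^ r - 1) ^ m.totient := by
        have h1 : (r : ℝ) * ((b : ℝ) + 1) < (b : ℝ) ^ r - 1 := by
          have : ((r * (b + 1) + 1 : ℕ) : ℝ) < ((b ^ r : ℕ) : ℝ) := by exact_mod_cast hineq
          push_cast at this
          linarith
        have hr1 : (1 : ℝ) ≤ r := by exact_mod_cast hr.one_le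
        calc (r : ℝ) * ((b : ℝ) + 1) ^ m.totient ≤ (r : ℝ) ^ m.totient * ((b : ℝ) + 1) ^ m.totient := by
              apply mul_le_mul_of_nonneg_right _ (by positivity)
              exact le_self_pow₀ hr1 hφ.ne'
          _ = ((r : ℝ) * ((b : ℝ) + 1)) ^ m.totient := by rw [mul_pow]
          _ < ((b : ℝ) ^ r - 1) ^ m.totient := by
              apply pow_lt_pow_left₀ h1 (by positivity) hφ.ne'
      have : (r : ℝ) * (cyclotomic m ℝ).eval (b : ℝ) ≤ (r : ℝ) * ((b : ℝ) + 1) ^ m.totient :=
        mul_le_mul_of_nonneg_left hup (by positivity)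
      linarith

/-- Divisibility form of Zsigmondy's theorem. -/
theorem exists_primitive {a n : ℕ} (ha : 2 ≤ a) (hn : 2 ≤ n)
    (h2 : n = 2 → ¬ ∃ k, a + 1 = 2 ^ k) (h6 : ¬ (a = 2 ∧ n = 6)) :
    ∃ r : ℕ, r.Prime ∧ (∀ m, r ∣ a ^ m - 1 ↔ n ∣ m) ∧ n ∣ r - 1 ∧ ¬ r ∣ a := by
  obtain ⟨r, hr, hord⟩ := exists_prime_orderOf ha hn h2 h6
  have hra : ¬ r ∣ a := by
    intro h
    have := Fact.mk hr
    have h0 : (a : ZMod r) = 0 := (ZMod.natCast_eq_zero_iff a r).2 h
    have h1 : (a : ZMod r) ^ n = 1 := by rw [← hord]; exact pow_orderOf_eq_one _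
    rw [h0, zero_pow (by omega)] at h1
    exact zero_ne_one h1
  refine ⟨r, hr, fun m => ?_, ?_, hra⟩
  · rw [dvd_pow_sub_one_iff (by omega), hord]
  · rw [← hord]; exact orderOf_dvd_pred hr hra

end Cfsg.Agent.Lib.Zsigmondy
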