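import Mathlib
import Cfsg.Prelude.Def_Local
import Cfsg.Agent.Lib.HallHigman

set_option autoImplicit false
open Cfsg

namespace Cfsg.Agent.Lib.PSolvable

variable {G : Type*} [Group G]

theorem relIndex_dvd_relIndex_of_le_normal {A B C : Subgroup G} [A.Normal] (h : B ≤ C) :
    A.relIndex B ∣ A.relIndex C := by
  have h1 : A.relIndex B = (A.subgroupOf C).relIndex (B.subgroupOf C) := by
    rw [Subgroup.relIndex_subgroupOf h]
  rw [h1]
  exact Subgroup.relIndex_dvd_index_of_normal _ _

/-- A nontrivial normal section of a finite `p`-solvable group has a normal subsection that is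
a `p`-group or a `p'`-group. -/
theorem sep_of_pSolvable (p : ℕ) [Fact p.Prime] (hG : Cfsg.IsPSolvable p G)
    (N K : Subgroup G) (hN : N.Normal) (hK : K.Normal) (hNK : N < K) :
      ∃ L : Subgroup G, L.Normal ∧ N < L ∧ L ≤ K ∧
        ((∃ m : ℕ, N.relIndex L = p ^ m) ∨ (N.relIndex L).Coprime p) := by
  classical
  obtain ⟨n, H, h0, hlast, hmono, hnormal, hfac⟩ := hG
  by_contra hcon
  have key : ∀ i : Fin (n + 1), K ⊓ H i ≤ N := by
    intro i
    induction i using Fin.induction with
    | zero => rw [h0]; simp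
    | succ i ih =>
      by_contra hnot
      apply hcon
      have := hN
      have := hK
      have := hnormal i.succ
      have := hnormal i.castSucc
      refine ⟨N ⊔ (K ⊓ H i.succ), inferInstance, ?_, sup_le hNK.le inf_le_left, ?_⟩
      · exact lt_of_le_of_ne le_sup_left (fun he => hnot (by rw [he]; exact le_sup_right))
      · have hdvd : N.relIndex (N ⊔ (K ⊓ H i.succ)) ∣ (H i.castSucc).relIndex (H i.succ) := by
          rw [Subgroup.relIndex_sup_left]
          have h1 : N.relIndex (K ⊓ H i.succ) ∣ (K ⊓ H i.castSucc).relIndex (K ⊓ H i.succ) :=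
            Subgroup.relIndex_dvd_of_le_left _ ih
          have h2 : (K ⊓ H i.castSucc).relIndex (K ⊓ H i.succ) =
              (H i.castSucc).relIndex (K ⊓ H i.succ) := by
            rw [← Subgroup.inf_relIndex_right (H i.castSucc) (K ⊓ H i.succ)]
            congr 1
            have : H i.castSucc ≤ H i.succ := hmono (Fin.castSucc_lt_succ).le
            rw [inf_comm (H i.castSucc), inf_assoc, inf_eq_right.mpr this]
          rw [h2] at h1
          exact h1.trans (relIndex_dvd_relIndex_of_le_normal inf_le_right)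
        rcases hfac i with ⟨m, hm⟩ | hc
        · left
          rw [hm] at hdvd
          obtain ⟨k, -, hk⟩ := (Nat.dvd_prime_pow Fact.out).mp hdvd
          exact ⟨k, hk⟩
        · right
          exact Nat.Coprime.coprime_dvd_left hdvd hc
  have h1 := key (Fin.last n)
  rw [hlast, inf_top_eq] at h1
  exact absurd h1 (not_le_of_gt hNK)

/-- **Hall–Higman Lemma 1.2.3** for `p`-solvable groups. -/
theorem centralizer_pCore_le_of_pSolvable [Finite G] (p : ℕ) [Fact p.Prime]
    (hG : Cfsg.IsPSolvable p G) (h : Cfsg.pPrimeCore p G = ⊥) :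
    Subgroup.centralizer (Cfsg.pCore p G : Set G) ≤ Cfsg.pCore p G :=
  Cfsg.Agent.Lib.HallHigman.centralizer_pCore_le_of_sep p h (sep_of_pSolvable p hG)

/-- Subgroups of `p`-solvable groups are `p`-solvable. -/
theorem IsPSolvable_of_injective {G' : Type*} [Group G'] (p : ℕ) [Fact p.Prime]
    (hG : Cfsg.IsPSolvable p G) (f : G' →* G) (hf : Function.Injective f) :
    Cfsg.IsPSolvable p G' := by
  obtain ⟨n, H, h0, hlast, hmono, hnormal, hfac⟩ := hG
  refine ⟨n, fun i => (H i).comap f, ?_, ?_, ?_, ?_, ?_⟩
  · show (H 0).comap f = ⊥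
    rw [h0]
    exact (MonoidHom.ker_eq_bot_iff f).mpr hf
  · show (H (Fin.last n)).comap f = ⊤
    rw [hlast]; rfl
  · intro i j hij
    exact Subgroup.comap_mono (hmono hij)
  · intro i
    exact (hnormal i).comap f
  · intro i
    have := hnormal i.castSucc
    have hdvd : ((H i.castSucc).comap f).relIndex ((H i.succ).comap f) ∣
        (H i.castSucc).relIndex (H i.succ) := by
      rw [Subgroup.relIndex_comap]
      exact relIndex_dvd_relIndex_of_le_normal (Subgroup.map_comap_le f _)
    rcases hfac i with ⟨m, hm⟩ | hc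
    · left
      rw [hm] at hdvd
      obtain ⟨k, -, hk⟩ := (Nat.dvd_prime_pow Fact.out).mp hdvd
      exact ⟨k, hk⟩
    · right
      exact Nat.Coprime.coprime_dvd_left hdvd hc

/-- Quotients (homomorphic images) of `p`-solvable groups are `p`-solvable. -/
theorem IsPSolvable_of_surjective {G' : Type*} [Group G'] (p : ℕ) [Fact p.Prime]
    (hG : Cfsg.IsPSolvable p G) (f : G →* G') (hf : Function.Surjective f) :
    Cfsg.IsPSolvable p G' := by
  obtain ⟨n, H, h0, hlast, hmono, hnormal, hfac⟩ := hG
  refine ⟨n, fun i => (H i).map f, ?_, ?_, ?_, ?_, ?_⟩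
  · show (H 0).map f = ⊥
    rw [h0]; simp
  · show (H (Fin.last n)).map f = ⊤
    rw [hlast]
    exact Subgroup.map_top_of_surjective f hf
  · intro i j hij
    exact Subgroup.map_mono (hmono hij)
  · intro i
    exact (hnormal i).map f hf
  · intro i
    have := hnormal i.castSucc
    have hdvd : ((H i.castSucc).map f).relIndex ((H i.succ).map f) ∣
        (H i.castSucc).relIndex (H i.succ) := by
      rw [Subgroup.relIndex_map_map]
      have hle : H i.castSucc ≤ H i.succ := hmono (Fin.castSucc_lt_succ).le
      have h1 : H i.succ ⊔ f.ker = (H i.castSucc ⊔ f.ker) ⊔ H i.succ := by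
        apply le_antisymm
        · exact sup_le le_sup_right (le_sup_right.trans le_sup_left)
        · exact sup_le (sup_le_sup_right hle _) le_sup_left
      rw [h1, Subgroup.relIndex_sup_left]
      exact Subgroup.relIndex_dvd_of_le_left _ le_sup_left
    rcases hfac i with ⟨m, hm⟩ | hc
    · left
      rw [hm] at hdvd
      obtain ⟨k, -, hk⟩ := (Nat.dvd_prime_pow Fact.out).mp hdvd
      exact ⟨k, hk⟩
    · right
      exact Nat.Coprime.coprime_dvd_left hdvd hc

/-- A chain of normal subgroups with `p`-group or `p'`-group factors from `N` up to `⊤`, built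
from single steps. -/
theorem exists_chain_of_sep [Finite G] (p : ℕ)
    (hsep : ∀ N : Subgroup G, N.Normal → N < ⊤ →
      ∃ L : Subgroup G, L.Normal ∧ N < L ∧
        ((∃ m : ℕ, N.relIndex L = p ^ m) ∨ (N.relIndex L).Coprime p))
    (N : Subgroup G) (hN : N.Normal) :
    ∃ (n : ℕ) (H : Fin (n + 1) → Subgroup G),
      H 0 = N ∧ H (Fin.last n) = ⊤ ∧ Monotone H ∧ (∀ i, (H i).Normal) ∧
      ∀ i : Fin n, (∃ m : ℕ, (H i.castSucc).relIndex (H i.succ) = p ^ m) ∨
        ((H i.castSucc).relIndex (H i.succ)).Coprime p := by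
  induction N using WellFoundedGT.induction with
  | ind N ih =>
    by_cases htop : N = ⊤
    · refine ⟨0, fun _ => N, rfl, htop, monotone_const, fun _ => hN, fun i => i.elim0⟩
    · obtain ⟨L, hLn, hNL, hL⟩ := hsep N hN (lt_top_iff_ne_top.mpr htop)
      obtain ⟨n, H, h0, hlast, hmono, hnormal, hfac⟩ := ih L hNL hLn
      refine ⟨n + 1, Fin.cons N H, rfl, ?_, ?_, ?_, ?_⟩
      · rw [← Fin.succ_last, Fin.cons_succ]
        exact hlast
      · rw [Fin.monotone_iff_le_succ]
        intro i
        induction i using Fin.cases with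
        | zero =>
          rw [Fin.castSucc_zero, Fin.cons_zero, Fin.cons_succ, h0]
          exact hNL.le
        | succ i =>
          rw [← Fin.succ_castSucc, Fin.cons_succ, Fin.cons_succ]
          exact hmono (Fin.castSucc_lt_succ).le
      · intro i
        induction i using Fin.cases with
        | zero => rw [Fin.cons_zero]; exact hN
        | succ i => rw [Fin.cons_succ]; exact hnormal i
      · intro i
        induction i using Fin.cases with
        | zero =>
          rw [Fin.castSucc_zero, Fin.cons_zero, Fin.cons_succ, h0]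
          exact hL
        | succ i =>
          rw [← Fin.succ_castSucc, Fin.cons_succ, Fin.cons_succ]
          exact hfac i

/-- Finite solvable groups are `p`-solvable. -/
theorem IsPSolvable_of_solvable [Finite G] [Group.IsSolvable G] (p : ℕ) [Fact p.Prime] :
    Cfsg.IsPSolvable p G := by
  refine exists_chain_of_sep p (fun N hN hlt => ?_) ⊥ inferInstance
  obtain ⟨L, h1, h2, -, h3⟩ :=
    Cfsg.Agent.Lib.HallHigman.sep_of_solvable p N ⊤ hN inferInstance hlt
  exact ⟨L, h1, h2, h3⟩

/-- If `N` is a normal `p`-subgroup or `p'`-subgroup and `G ⧸ N` is `p`-solvable, then `G` is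
`p`-solvable. -/
theorem IsPSolvable_of_quotient [Finite G] (p : ℕ) [Fact p.Prime] (N : Subgroup G) [N.Normal]
    (hN : (∃ m : ℕ, Nat.card N = p ^ m) ∨ (Nat.card N).Coprime p)
    (hQ : Cfsg.IsPSolvable p (G ⧸ N)) :
    Cfsg.IsPSolvable p G := by
  refine exists_chain_of_sep p (fun M hM hlt => ?_) ⊥ inferInstance
  by_cases hNM : N ≤ M
  · -- work in the quotient
    have hf : Function.Surjective (QuotientGroup.mk' N) := QuotientGroup.mk'_surjective N
    have hMc : (M.map (QuotientGroup.mk' N)).comap (QuotientGroup.mk' N) = M := by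
      rw [Subgroup.comap_map_eq, QuotientGroup.ker_mk', sup_eq_left]
      exact hNM
    have hMt : M.map (QuotientGroup.mk' N) < ⊤ := by
      rw [lt_top_iff_ne_top]
      intro h
      apply hlt.ne
      rw [← hMc, h]; rfl
    obtain ⟨L, h1, h2, -, h3⟩ := sep_of_pSolvable p hQ (M.map (QuotientGroup.mk' N)) ⊤
      (hM.map _ hf) inferInstance hMt
    refine ⟨L.comap (QuotientGroup.mk' N), h1.comap _, ?_, ?_⟩
    · rw [← hMc]
      refine lt_of_le_of_ne (Subgroup.comap_mono h2.le) ?_
      intro h
      have h4 := congrArg (Subgroup.map (QuotientGroup.mk' N)) h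
      rw [Subgroup.map_comap_eq_self_of_surjective hf,
        Subgroup.map_comap_eq_self_of_surjective hf] at h4
      exact h2.ne h4
    · have h5 : M.relIndex (L.comap (QuotientGroup.mk' N)) =
          (M.map (QuotientGroup.mk' N)).relIndex L := by
        conv_lhs => rw [← hMc]
        rw [Subgroup.relIndex_comap, Subgroup.map_comap_eq_self_of_surjective hf]
      rw [h5]
      exact h3
  · -- add `N`
    refine ⟨M ⊔ N, inferInstance, ?_, ?_⟩
    · exact lt_of_le_of_ne le_sup_left (fun he => hNM (by rw [he]; exact le_sup_right))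
    · have hdvd : M.relIndex (M ⊔ N) ∣ Nat.card N := by
        rw [Subgroup.relIndex_sup_left]
        exact Subgroup.relIndex_dvd_card M N
      rcases hN with ⟨m, hm⟩ | hc
      · left
        rw [hm] at hdvd
        obtain ⟨k, -, hk⟩ := (Nat.dvd_prime_pow Fact.out).mp hdvd
        exact ⟨k, hk⟩
      · right
        exact Nat.Coprime.coprime_dvd_left hdvd hc

theorem pCore_characteristic (p : ℕ) : (Cfsg.pCore p G).Characteristic := by
  rw [Subgroup.characteristic_iff_map_le]
  intro φ
  rw [Subgroup.map_le_iff_le_comap]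
  apply sSup_le
  rintro N ⟨hN, hNp⟩
  rw [← Subgroup.map_le_iff_le_comap]
  exact Cfsg.Agent.Lib.HallHigman.le_pCore (hN.map _ φ.surjective) (hNp.map _)

theorem pPrimeCore_characteristic (p : ℕ) : (Cfsg.pPrimeCore p G).Characteristic := by
  rw [Subgroup.characteristic_iff_map_le]
  intro φ
  rw [Subgroup.map_le_iff_le_comap]
  apply sSup_le
  rintro N ⟨hN, hNp⟩
  rw [← Subgroup.map_le_iff_le_comap]
  refine Cfsg.Agent.Lib.HallHigman.le_pPrimeCore (hN.map _ φ.surjective) ?_
  rwa [← Nat.card_congr (N.equivMapOfInjective φ.toMonoidHom φ.injective).toEquiv]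

/-- A nontrivial finite `p`-solvable group has nontrivial `p`-core or nontrivial `p'`-core. -/
theorem exists_core_ne_bot [Finite G] [Nontrivial G] (p : ℕ) [Fact p.Prime]
    (hG : Cfsg.IsPSolvable p G) : Cfsg.pCore p G ≠ ⊥ ∨ Cfsg.pPrimeCore p G ≠ ⊥ := by
  obtain ⟨L, hL, h1, -, h2⟩ := sep_of_pSolvable p hG ⊥ ⊤ inferInstance inferInstance bot_lt_top
  rw [Subgroup.relIndex_bot_left] at h2
  rcases h2 with ⟨m, hm⟩ | hc
  · left
    intro h
    exact h1.ne (le_antisymm bot_le
      (h ▸ Cfsg.Agent.Lib.HallHigman.le_pCore hL (IsPGroup.of_card hm)))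
  · right
    intro h
    exact h1.ne (le_antisymm bot_le
      (h ▸ Cfsg.Agent.Lib.HallHigman.le_pPrimeCore hL hc))

/-- Extensions of finite `p`-solvable groups by `p`-solvable groups are `p`-solvable. -/
theorem IsPSolvable_of_extension [Finite G] (p : ℕ) [Fact p.Prime] (N : Subgroup G) [N.Normal]
    (hN : Cfsg.IsPSolvable p N) (hQ : Cfsg.IsPSolvable p (G ⧸ N)) :
    Cfsg.IsPSolvable p G := by
  induction hn : Nat.card N using Nat.strong_induction_on generalizing G with
  | _ n ih =>
  subst hn
  by_cases hbot : N = ⊥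
  · refine IsPSolvable_of_quotient p N (Or.inr ?_) hQ
    rw [hbot]; simp
  · -- a nontrivial characteristic subgroup `K` of `N` that is a `p`-group or `p'`-group
    have : Nontrivial N := (Subgroup.nontrivial_iff_ne_bot N).mpr hbot
    obtain ⟨K, hKc, hKne, hKp⟩ : ∃ K : Subgroup N, K.Characteristic ∧ K ≠ ⊥ ∧
        ((∃ m : ℕ, Nat.card K = p ^ m) ∨ (Nat.card K).Coprime p) := by
      rcases exists_core_ne_bot p hN with h | h
      · exact ⟨_, pCore_characteristic p, h, Or.inl
          (IsPGroup.iff_card.mp (Cfsg.Agent.Lib.HallHigman.pCore_isPGroup p))⟩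
      · exact ⟨_, pPrimeCore_characteristic p, h, Or.inr
          (Cfsg.Agent.Lib.HallHigman.pPrimeCore_coprime p)⟩
    let K' : Subgroup G := K.map N.subtype
    have hK'n : K'.Normal := inferInstance
    have hK'card : Nat.card K' = Nat.card K :=
      Nat.card_congr (K.equivMapOfInjective N.subtype N.subtype_injective).toEquiv.symm
    have hK'N : K' ≤ N := Subgroup.map_subtype_le K
    refine IsPSolvable_of_quotient p K' (by rw [hK'card]; exact hKp) ?_
    have hf : Function.Surjective (QuotientGroup.mk' K') := QuotientGroup.mk'_surjective K'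
    have hNbar : (N.map (QuotientGroup.mk' K')).Normal := Subgroup.Normal.map ‹_› _ hf
    refine ih (Nat.card (N.map (QuotientGroup.mk' K'))) ?_ (N.map (QuotientGroup.mk' K')) ?_ ?_ rfl
    · have h1 := Subgroup.relIndex_ker (K := N) (QuotientGroup.mk' K')
      rw [QuotientGroup.ker_mk'] at h1
      rw [← h1, ← Cfsg.Agent.Lib.HallHigman.card_mul_relIndex' hK'N]
      have h2 : 1 < Nat.card K' := by
        rw [hK'card]
        exact (Subgroup.one_lt_card_iff_ne_bot K).mpr hKne
      have h3 : 0 < K'.relIndex N := Nat.pos_of_ne_zero Subgroup.FiniteIndex.index_ne_zero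
      nlinarith
    · refine IsPSolvable_of_surjective p hN
        ((QuotientGroup.mk' K').subgroupMap N) ?_
      exact MonoidHom.subgroupMap_surjective _ _
    · refine IsPSolvable_of_surjective p hQ
        (QuotientGroup.quotientQuotientEquivQuotient K' N hK'N).symm.toMonoidHom ?_
      exact (QuotientGroup.quotientQuotientEquivQuotient K' N hK'N).symm.surjective

end Cfsg.Agent.Lib.PSolvable
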