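import Mathlib.GroupTheory.QuotientGroup.Basic
import Mathlib.Algebra.Group.Subgroup.Basic

/-!
Sections of a group. `Involves G Y` says that some subgroup of `G` maps onto `Y`, i.e. `Y` is isomorphic to a
section of `G`. Basic API: transitivity, subgroups, quotients, and the form used in the statements,
`∃ K L (hL : (L.subgroupOf K).Normal), Nonempty ((K ⧸ L.subgroupOf K) ≃* Y)`.
-/

set_option autoImplicit false

namespace Cfsg.Agent.Lib.Involves

variable {G Y Z : Type*} [Group G] [Group Y] [Group Z]

set_option linter.dupNamespace false in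
/-- `G` involves `Y`: some subgroup of `G` maps onto `Y` (i.e. `Y` is isomorphic to a section of `G`). -/
def Involves (G Y : Type*) [Group G] [Group Y] : Prop :=
  ∃ (H : Subgroup G) (f : H →* Y), Function.Surjective f

theorem involves_def : Involves G Y ↔ ∃ (H : Subgroup G) (f : H →* Y), Function.Surjective f :=
  Iff.rfl

/-- If `f : A → G` and `g : A → Y` is onto with `ker f ≤ ker g`, then `G` involves `Y`. -/
theorem of_ker_le {A : Type*} [Group A] (f : A →* G) (g : A →* Y) (hg : Function.Surjective g)
    (h : f.ker ≤ g.ker) : Involves G Y := by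
  have hs : Function.Surjective f.rangeRestrict := f.rangeRestrict_surjective
  have hk : f.rangeRestrict.ker ≤ g.ker := by rwa [MonoidHom.ker_rangeRestrict]
  refine ⟨f.range, f.rangeRestrict.liftOfSurjective hs ⟨g, hk⟩, ?_⟩
  intro y
  obtain ⟨a, rfl⟩ := hg y
  exact ⟨f.rangeRestrict a, MonoidHom.liftOfRightInverse_comp_apply _ _ _ ⟨g, hk⟩ a⟩

theorem of_injective_of_surjective {A : Type*} [Group A] (f : A →* G) (hf : Function.Injective f)
    (g : A →* Y) (hg : Function.Surjective g) : Involves G Y :=
  of_ker_le f g hg (by rw [(MonoidHom.ker_eq_bot_iff f).2 hf]; exact bot_le)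

theorem of_surjective (f : G →* Y) (hf : Function.Surjective f) : Involves G Y :=
  of_injective_of_surjective (MonoidHom.id G) Function.injective_id f hf

theorem of_injective (f : Y →* G) (hf : Function.Injective f) : Involves G Y :=
  of_injective_of_surjective f hf (MonoidHom.id Y) Function.surjective_id

theorem refl : Involves G G := of_surjective (MonoidHom.id G) Function.surjective_id

theorem trans (h1 : Involves G Y) (h2 : Involves Y Z) : Involves G Z := by
  obtain ⟨H, f, hf⟩ := h1
  obtain ⟨K, g, hg⟩ := h2
  refine of_injective_of_surjective (A := K.comap f) (H.subtype.comp (K.comap f).subtype)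
    (H.subtype_injective.comp (K.comap f).subtype_injective) (g.comp (f.subgroupComap K)) ?_
  intro z
  obtain ⟨k, rfl⟩ := hg z
  obtain ⟨x, hx⟩ := hf k
  refine ⟨⟨x, ?_⟩, ?_⟩
  · change f x ∈ K
    rw [hx]
    exact k.2
  · change g _ = g k
    congr 1
    exact Subtype.ext hx

theorem of_subgroup {H : Subgroup G} (h : Involves H Y) : Involves G Y :=
  trans (of_injective H.subtype H.subtype_injective) h

theorem of_quotient {N : Subgroup G} [N.Normal] (h : Involves (G ⧸ N) Y) : Involves G Y :=
  trans (of_surjective (QuotientGroup.mk' N) (QuotientGroup.mk'_surjective N)) h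

theorem congr_left {G' : Type*} [Group G'] (e : G ≃* G') : Involves G Y ↔ Involves G' Y :=
  ⟨fun h => trans (of_injective e.toMonoidHom e.injective) h,
    fun h => trans (of_injective e.symm.toMonoidHom e.symm.injective) h⟩

theorem congr_right {Y' : Type*} [Group Y'] (e : Y ≃* Y') : Involves G Y ↔ Involves G Y' :=
  ⟨fun h => trans h (of_surjective e.toMonoidHom e.surjective),
    fun h => trans h (of_surjective e.symm.toMonoidHom e.symm.surjective)⟩

/-- From a subgroup of `H` mapping onto `Y` to the quotient form used in the statements. -/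
theorem exists_quotient_le {H : Subgroup G} (h : Involves H Y) :
    ∃ (K L : Subgroup G) (_ : (L.subgroupOf K).Normal), K ≤ H ∧
      Nonempty ((K ⧸ L.subgroupOf K) ≃* Y) := by
  obtain ⟨K, f, hf⟩ := h
  have hinj : Function.Injective (H.subtype.comp K.subtype) :=
    H.subtype_injective.comp K.subtype_injective
  let e : K ≃* ((K.map H.subtype : Subgroup G)) := K.equivMapOfInjective H.subtype H.subtype_injective
  let f' : (K.map H.subtype : Subgroup G) →* Y := f.comp e.symm.toMonoidHom
  have hf' : Function.Surjective f' := hf.comp e.symm.surjective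
  have hker : ((f'.ker.map (K.map H.subtype).subtype).subgroupOf (K.map H.subtype)) = f'.ker := by
    rw [Subgroup.subgroupOf, Subgroup.comap_map_eq_self_of_injective (Subgroup.subtype_injective _)]
  have hn : ((f'.ker.map (K.map H.subtype).subtype).subgroupOf (K.map H.subtype)).Normal := by
    rw [hker]; infer_instance
  refine ⟨K.map H.subtype, f'.ker.map (K.map H.subtype).subtype, hn, ?_, ⟨?_⟩⟩
  · exact Subgroup.map_subtype_le K
  · exact (QuotientGroup.quotientMulEquivOfEq hker).trans
      (QuotientGroup.quotientKerEquivOfSurjective f' hf')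

/-- The converse of `exists_quotient_le`. -/
theorem of_exists_quotient_le {H : Subgroup G}
    (h : ∃ (K L : Subgroup G) (_ : (L.subgroupOf K).Normal), K ≤ H ∧
      Nonempty ((K ⧸ L.subgroupOf K) ≃* Y)) : Involves H Y := by
  obtain ⟨K, L, hL, hKH, ⟨e⟩⟩ := h
  refine of_injective_of_surjective (Subgroup.inclusion hKH) (Subgroup.inclusion_injective hKH)
    (e.toMonoidHom.comp (QuotientGroup.mk' (L.subgroupOf K))) ?_
  exact e.surjective.comp (QuotientGroup.mk'_surjective _)

theorem involves_subgroup_iff {H : Subgroup G} :
    Involves H Y ↔ ∃ (K L : Subgroup G) (_ : (L.subgroupOf K).Normal), K ≤ H ∧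
      Nonempty ((K ⧸ L.subgroupOf K) ≃* Y) :=
  ⟨exists_quotient_le, of_exists_quotient_le⟩

/-- `Involves` is the notion of section used in the statements. -/
theorem involves_iff : Involves G Y ↔ ∃ (K L : Subgroup G) (_ : (L.subgroupOf K).Normal),
      Nonempty ((K ⧸ L.subgroupOf K) ≃* Y) := by
  constructor
  · intro h
    have h' : Involves (⊤ : Subgroup G) Y := (congr_left Subgroup.topEquiv).2 h
    obtain ⟨K, L, hL, -, he⟩ := exists_quotient_le h'
    exact ⟨K, L, hL, he⟩
  · rintro ⟨K, L, hL, he⟩
    exact of_subgroup (of_exists_quotient_le (H := ⊤) ⟨K, L, hL, le_top, he⟩)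

end Cfsg.Agent.Lib.Involves
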