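import Cfsg.Prelude.Def_Local

set_option autoImplicit false

namespace Cfsg.Agent.Lib.ComponentSolvable

open Subgroup Cfsg

/-- Two applications of a perfect subgroup: `[A, K, K] = 1` implies `[A, K] = 1`. -/
theorem commutator_eq_bot_of_perfect {G : Type*} [Group G] {K A : Subgroup G}
    (hK : Group.IsPerfect K) (h : ⁅⁅A, K⁆, K⁆ = ⊥) : ⁅A, K⁆ = ⊥ := by
  have hKK : ⁅K, K⁆ = K := Subgroup.isPerfect_iff.mp hK
  have h2 : ⁅⁅K, A⁆, K⁆ = ⊥ := by rwa [commutator_comm K A]
  have h3 : ⁅⁅K, K⁆, A⁆ = ⊥ := commutator_commutator_eq_bot_of_rotate h2 h
  rw [hKK, commutator_comm] at h3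
  exact h3

/-- A normal subgroup of a quasisimple group is everything or central. -/
theorem quasisimple_normal_cases {H : Type*} [Group H] (hH : IsQuasisimple H) {N : Subgroup H}
    (hN : N.Normal) : N = ⊤ ∨ N ≤ center H := by
  obtain ⟨hperf, hsimp⟩ := hH
  have hmap : (N.map (QuotientGroup.mk' (center H))).Normal :=
    hN.map _ (QuotientGroup.mk'_surjective _)
  rcases hmap.eq_bot_or_eq_top with h | h
  · right
    rwa [Subgroup.map_eq_bot_iff, QuotientGroup.ker_mk'] at h
  · left
    have h1 : N ⊔ center H = ⊤ := by
      have h2 := congrArg (Subgroup.comap (QuotientGroup.mk' (center H))) h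
      rwa [Subgroup.comap_map_eq, QuotientGroup.ker_mk', Subgroup.comap_top] at h2
    have h2 : _root_.commutator H ≤ N :=
      Subgroup.Normal.commutator_le_of_self_sup_commutative_eq_top h1 inferInstance
    rw [hperf.commutator_eq_top] at h2
    exact top_le_iff.mp h2

/-- A quasisimple group is nontrivial. -/
theorem quasisimple_nontrivial {H : Type*} [Group H] (hH : IsQuasisimple H) : Nontrivial H := by
  have h : Nontrivial (H ⧸ center H) := hH.2.toNontrivial
  by_contra hne
  rw [not_nontrivial_iff_subsingleton] at hne
  exact (not_subsingleton (H ⧸ center H)) (Quotient.instSubsingletonQuotient _)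

/-- A quasisimple group is not solvable. -/
theorem quasisimple_not_solvable {H : Type*} [Group H] (hH : IsQuasisimple H) :
    ¬ Group.IsSolvable H := by
  have := quasisimple_nontrivial hH
  have := hH.1
  exact Group.IsPerfect.not_isSolvable H

/-- The centre of a quasisimple group is proper. -/
theorem quasisimple_center_ne_top {H : Type*} [Group H] (hH : IsQuasisimple H) :
    center H ≠ ⊤ := by
  intro h
  have hn : Nontrivial (H ⧸ center H) := hH.2.toNontrivial
  have hs : Subsingleton (H ⧸ center H) := QuotientGroup.subsingleton_iff.mpr h
  exact not_subsingleton _ hs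

/-- A subnormal subgroup of a quasisimple group is everything or central. -/
theorem quasisimple_subnormal_cases {H : Type*} [Group H] (hH : IsQuasisimple H) {N : Subgroup H}
    (hN : N.IsSubnormal) : N = ⊤ ∨ N ≤ center H := by
  rcases hN.lt_normal with h | ⟨K, hK, hNK, hKtop⟩
  · exact Or.inl h
  · rcases quasisimple_normal_cases hH hK with h | h
    · exact absurd h hKtop.ne
    · exact Or.inr (hNK.trans h)

/-- A solvable normal subgroup of a quasisimple group is central. -/
theorem quasisimple_solvable_normal_le_center {H : Type*} [Group H] (hH : IsQuasisimple H)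
    {N : Subgroup H} (hN : N.Normal) (hs : Group.IsSolvable N) : N ≤ center H := by
  rcases quasisimple_normal_cases hH hN with h | h
  · exfalso
    subst h
    apply quasisimple_not_solvable hH
    exact Group.isSolvable_of_surjective (f := (⊤ : Subgroup H).subtype)
      (fun x => ⟨⟨x, Subgroup.mem_top x⟩, rfl⟩)
  · exact h

/-- A component commutes with every solvable subgroup that it normalizes. -/
theorem commutator_component_solvable_eq_bot {G : Type*} [Group G] {K R : Subgroup G}
    (hK : IsComponent K) (hR : Group.IsSolvable R) (hn : K ≤ normalizer (R : Set G)) :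
    ⁅K, R⁆ = ⊥ := by
  obtain ⟨hsub, hq⟩ := hK
  obtain ⟨n, f, hmono, hnorm, h0, hn'⟩ := Subgroup.IsSubnormal.isSubnormal_iff.mp hsub
  have key : ∀ i, ⁅R ⊓ f i, K⁆ = ⊥ := by
    intro i
    induction i with
    | zero =>
      rw [h0]
      -- `R ⊓ K` is normal in `K` and solvable
      have hnor : (R.subgroupOf K).Normal := by
        constructor
        intro x hx g
        rw [Subgroup.mem_subgroupOf] at hx ⊢
        exact (Subgroup.mem_normalizer_iff.mp (hn g.2) _).mp hx
      have hsol : Group.IsSolvable (R.subgroupOf K) := by
        have := hR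
        exact Group.isSolvable_of_isSolvable_injective
          (f := ((K.subtype).subgroupComap R))
          (fun a b hab => by
            apply Subtype.ext
            apply Subtype.ext
            have := congrArg Subtype.val hab
            exact this)
      have hc := quasisimple_solvable_normal_le_center hq hnor hsol
      rw [commutator_eq_bot_iff_le_centralizer]
      intro x hx
      rw [mem_centralizer_iff]
      intro k hk
      have hx' : (⟨x, hx.2⟩ : K) ∈ center K := hc hx.1
      have := Subgroup.mem_center_iff.mp hx' ⟨k, hk⟩
      exact congrArg Subtype.val this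
    | succ i ih =>
      apply commutator_eq_bot_of_perfect hq.1
      have hKi : K ≤ f i := h0 ▸ hmono (Nat.zero_le i)
      have h1 : ⁅R ⊓ f (i + 1), K⁆ ≤ R ⊓ f i := by
        apply le_inf
        · exact (commutator_mono inf_le_left le_rfl).trans
            (le_normalizer_iff_commutator_le_left.mp hn)
        · have h2 : f (i + 1) ≤ normalizer (f i : Set G) :=
            (normal_subgroupOf_iff_le_normalizer (hmono (Nat.le_succ i))).mp (hnorm i)
          exact (commutator_mono inf_le_right hKi).trans
            (le_normalizer_iff_commutator_le_right.mp h2)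
      exact le_bot_iff.mp ((commutator_mono h1 le_rfl).trans ih.le)
  have := key n
  rwa [hn', inf_top_eq, commutator_comm] at this

/-- The layer centralizes every normal solvable subgroup. -/
theorem layer_le_centralizer_of_normal_solvable {G : Type*} [Group G] {R : Subgroup G}
    (hn : R.Normal) (hR : Group.IsSolvable R) : layer G ≤ centralizer (R : Set G) := by
  apply sSup_le
  intro K hK
  rw [← commutator_eq_bot_iff_le_centralizer]
  exact commutator_component_solvable_eq_bot hK hR (by rw [normalizer_eq_top]; exact le_top)

end Cfsg.Agent.Lib.ComponentSolvable
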