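/-
Permutations of ℕ with finite support as masked swap networks (Benes networks), evaluated by the kernel on big
natural numbers (sets of points are bit masks). One stage `(M, d)` swaps the points `p` and `p + d` for every `p` in the
mask `M`. A network is the product of its stages.
-/
import Mathlib

set_option autoImplicit false

namespace Cfsg.Agent.Lib.PermNet

/-- A network: a list of stages (mask, shift). -/
inductive Net : Type
  | nil : Net
  | cons (M d : ℕ) (L : Net) : Net

/-- Assemble a number from little-endian chunks of 4096 bits. -/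
noncomputable def asm (l : List ℕ) : ℕ :=
  List.rec (motive := fun _ => ℕ) 0 (fun a _ ih => Nat.lor a (Nat.shiftLeft ih 4096)) l

/-- `seq n k = k n`, but the kernel evaluates `n` to a literal first. -/
noncomputable def seq (n : ℕ) (k : ℕ → ℕ) : ℕ := Bool.rec (k n) (k n) (Nat.beq n 0)

theorem seq_eq (n : ℕ) (k : ℕ → ℕ) : seq n k = k n := by
  unfold seq; cases Nat.beq n 0 <;> rfl

/-- The same as `seq` with values in `Bool`. -/
noncomputable def seqB (n : ℕ) (k : ℕ → Bool) : Bool := Bool.rec (k n) (k n) (Nat.beq n 0)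

theorem seqB_eq (n : ℕ) (k : ℕ → Bool) : seqB n k = k n := by
  unfold seqB; cases Nat.beq n 0 <;> rfl

/-- One masked swap applied to a set of points. -/
noncomputable def stage (M d P : ℕ) : ℕ :=
  (fun t => Nat.xor (Nat.xor P t) (Nat.shiftLeft t d)) (Nat.land (Nat.xor (Nat.shiftRight P d) P) M)

/-- Apply a network to a set of points; the first stage acts first. -/
noncomputable def Net.app (L : Net) : ℕ → ℕ :=
  Net.rec (motive := fun _ => ℕ → ℕ) (fun P => P) (fun M d _ ih P => seq (stage M d P) ih) L

@[simp] theorem Net.app_nil (P : ℕ) : Net.nil.app P = P := rfl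

@[simp] theorem Net.app_cons (M d : ℕ) (L : Net) (P : ℕ) :
    (Net.cons M d L).app P = L.app (stage M d P) := by
  show seq (stage M d P) L.app = _
  rw [seq_eq]

/-- Well-formedness of a network on the points `0, …, N - 1`. -/
noncomputable def Net.ok (N : ℕ) (L : Net) : Bool :=
  Net.rec (motive := fun _ => Bool) true
    (fun M d _ ih => and (and (Nat.beq (Nat.land M (Nat.shiftRight M d)) 0)
      (Nat.beq (Nat.shiftRight M (Nat.sub N d)) 0)) ih) L

theorem Net.ok_cons {N M d : ℕ} {L : Net} (h : (Net.cons M d L).ok N = true) :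
    M &&& (M >>> d) = 0 ∧ M >>> (N - d) = 0 ∧ L.ok N = true := by
  have h' : and (and (Nat.beq (Nat.land M (Nat.shiftRight M d)) 0)
      (Nat.beq (Nat.shiftRight M (Nat.sub N d)) 0)) (L.ok N) = true := h
  rw [Bool.and_eq_true, Bool.and_eq_true] at h'
  exact ⟨Nat.eq_of_beq_eq_true h'.1.1, Nat.eq_of_beq_eq_true h'.1.2, h'.2⟩

/-- The point map of a stage. -/
def tau (M d p : ℕ) : ℕ :=
  if M.testBit p then p + d else if d ≤ p ∧ M.testBit (p - d) then p - d else p

theorem testBit_and_shift {M d : ℕ} (h : M &&& (M >>> d) = 0) (p : ℕ) (hp : M.testBit p = true) :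
    M.testBit (p + d) = false := by
  have := congrArg (fun x => Nat.testBit x p) h
  simp only [Nat.testBit_and, Nat.testBit_shiftRight, Nat.zero_testBit, hp, Bool.true_and] at this
  rw [Nat.add_comm]; exact this

theorem tau_tau {M d : ℕ} (h : M &&& (M >>> d) = 0) (p : ℕ) : tau M d (tau M d p) = p := by
  unfold tau
  by_cases h1 : M.testBit p = true
  · have h2 := testBit_and_shift h p h1
    simp [h1, h2]
  · by_cases h3 : d ≤ p ∧ M.testBit (p - d) = true
    · rw [if_neg h1, if_pos h3, if_pos h3.2]
      omega
    · rw [if_neg h1, if_neg h3, if_neg h1, if_neg h3]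

/-- The permutation of a stage (the identity if the mask is not well formed). -/
def stagePerm (M d : ℕ) : Equiv.Perm ℕ :=
  if h : M &&& (M >>> d) = 0 then ⟨tau M d, tau M d, tau_tau h, tau_tau h⟩ else 1

theorem stagePerm_apply {M d : ℕ} (h : M &&& (M >>> d) = 0) (p : ℕ) : stagePerm M d p = tau M d p := by
  unfold stagePerm; rw [dif_pos h]; rfl

theorem testBit_stage {M d : ℕ} (h : M &&& (M >>> d) = 0) (P p : ℕ) :
    (stage M d P).testBit p = P.testBit (stagePerm M d p) := by
  rw [stagePerm_apply h]
  show ((P ^^^ (((P >>> d) ^^^ P) &&& M)) ^^^ ((((P >>> d) ^^^ P) &&& M) <<< d)).testBit p = _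
  simp only [Nat.testBit_xor, Nat.testBit_and, Nat.testBit_shiftLeft, Nat.testBit_shiftRight]
  unfold tau
  by_cases h1 : M.testBit p = true
  · have h4 : (decide (p ≥ d) && M.testBit (p - d)) = false := by
      by_cases hd : d ≤ p
      · have : ¬ (M.testBit (p - d) = true) := by
          intro h5
          have := testBit_and_shift h (p - d) h5
          rw [Nat.sub_add_cancel hd] at this
          rw [this] at h1; exact absurd h1 (by simp)
        simp [this]
      · simp [hd]
    rw [if_pos h1]
    have h6 : (decide (p ≥ d) && ((P.testBit (d + (p - d)) ^^ P.testBit (p - d)) && M.testBit (p - d))) = false := by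
      rw [Bool.and_eq_false_iff] at h4 ⊢
      rcases h4 with h4 | h4
      · left; exact h4
      · right; rw [h4, Bool.and_false]
    rw [h6, h1, Nat.add_comm d p]
    cases P.testBit p <;> cases P.testBit (p + d) <;> rfl
  · rw [if_neg h1]
    have h1' : M.testBit p = false := by simpa using h1
    rw [h1', Bool.and_false, Bool.xor_false]
    by_cases h3 : d ≤ p ∧ M.testBit (p - d) = true
    · rw [if_pos h3, h3.2]
      have : d + (p - d) = p := by omega
      rw [this]
      simp only [ge_iff_le, h3.1, decide_true, Bool.and_true, Bool.true_and]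
      cases P.testBit p <;> cases P.testBit (p - d) <;> rfl
    · rw [if_neg h3]
      have h7 : (decide (p ≥ d) && ((P.testBit (d + (p - d)) ^^ P.testBit (p - d)) && M.testBit (p - d))) = false := by
        by_cases hd : d ≤ p
        · have : M.testBit (p - d) = false := by
            by_contra hc
            exact h3 ⟨hd, by simpa using hc⟩
          rw [this, Bool.and_false, Bool.and_false]
        · simp [hd]
      rw [h7, Bool.xor_false]

/-- The permutation of a network. -/
def Net.perm : Net → Equiv.Perm ℕ
  | .nil => 1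
  | .cons M d L => stagePerm M d * L.perm

theorem Net.perm_nil : Net.nil.perm = 1 := rfl

theorem Net.perm_cons (M d : ℕ) (L : Net) : (Net.cons M d L).perm = stagePerm M d * L.perm := rfl

theorem testBit_app {N : ℕ} {L : Net} (h : L.ok N = true) (P p : ℕ) :
    (L.app P).testBit p = P.testBit (L.perm p) := by
  induction L generalizing P with
  | nil => rfl
  | cons M d L ih =>
    obtain ⟨h1, _, h3⟩ := Net.ok_cons h
    rw [Net.app_cons, ih h3, testBit_stage h1, Net.perm_cons, Equiv.Perm.mul_apply]

theorem lt_of_testBit {M d N p : ℕ} (h : M >>> (N - d) = 0) (hp : M.testBit p = true) : p + d < N := by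
  by_contra hc
  have := congrArg (fun x => Nat.testBit x (p - (N - d))) h
  simp only [Nat.testBit_shiftRight, Nat.zero_testBit] at this
  rw [show N - d + (p - (N - d)) = p by omega, hp] at this
  exact absurd this (by simp)

theorem tau_lt {M d N p : ℕ} (h : M >>> (N - d) = 0) (hp : p < N) : tau M d p < N := by
  unfold tau
  split_ifs with h1 h2
  · exact lt_of_testBit h h1
  · omega
  · exact hp

theorem tau_eq_of_le {M d N p : ℕ} (h : M >>> (N - d) = 0) (hp : N ≤ p) : tau M d p = p := by
  unfold tau
  split_ifs with h1 h2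
  · have := lt_of_testBit h h1; omega
  · have := lt_of_testBit h h2.2; omega
  · rfl

theorem perm_lt {N : ℕ} {L : Net} (h : L.ok N = true) {p : ℕ} (hp : p < N) : L.perm p < N := by
  induction L with
  | nil => exact hp
  | cons M d L ih =>
    obtain ⟨h1, h2, h3⟩ := Net.ok_cons h
    rw [Net.perm_cons, Equiv.Perm.mul_apply, stagePerm_apply h1]
    exact tau_lt h2 (ih h3)

theorem perm_eq_of_le {N : ℕ} {L : Net} (h : L.ok N = true) {p : ℕ} (hp : N ≤ p) : L.perm p = p := by
  induction L with
  | nil => rfl
  | cons M d L ih =>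
    obtain ⟨h1, h2, h3⟩ := Net.ok_cons h
    rw [Net.perm_cons, Equiv.Perm.mul_apply, ih h3, stagePerm_apply h1, tau_eq_of_le h2 hp]

/-- Kernel-fast test of a bit. -/
noncomputable def tb (M p : ℕ) : Bool := Nat.beq (Nat.land (Nat.shiftRight M p) 1) 1

theorem tb_eq (M p : ℕ) : tb M p = M.testBit p := by
  show Nat.beq ((M >>> p) &&& 1) 1 = _
  rw [Nat.and_one_is_mod]
  have h : M.testBit p = decide ((M >>> p) % 2 = 1) := by
    rw [Nat.shiftRight_eq_div_pow]; exact Nat.testBit_eq_decide_div_mod_eq
  rw [h]
  rcases Nat.mod_two_eq_zero_or_one (M >>> p) with h | h <;> rw [h] <;> rfl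

/-- Kernel-fast point map of a stage. -/
noncomputable def ptStage (M d p : ℕ) : ℕ :=
  Bool.rec (Bool.rec p (Bool.rec p (Nat.sub p d) (tb M (Nat.sub p d))) (Nat.ble d p)) (Nat.add p d) (tb M p)

theorem ptStage_eq (M d p : ℕ) : ptStage M d p = tau M d p := by
  unfold ptStage tau
  rw [tb_eq, tb_eq]
  by_cases h1 : M.testBit p = true
  · rw [if_pos h1, h1]; rfl
  · rw [if_neg h1, show M.testBit p = false by simpa using h1]
    show (Bool.rec p (Bool.rec p (p - d) (M.testBit (p - d)) : ℕ) (Nat.ble d p) : ℕ) = _
    by_cases h2 : d ≤ p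
    · rw [Nat.ble_eq_true_of_le h2]
      by_cases h3 : M.testBit (p - d) = true
      · rw [if_pos ⟨h2, h3⟩, h3]
      · rw [if_neg (fun h => h3 h.2), show M.testBit (p - d) = false by simpa using h3]
    · rw [if_neg (fun h => h2 h.1), show Nat.ble d p = false by
        rw [← Bool.not_eq_true]; exact fun h => h2 (Nat.le_of_ble_eq_true h)]

/-- Image of a point under the permutation of a network, kernel-fast. -/
noncomputable def Net.pt (L : Net) : ℕ → ℕ :=
  Net.rec (motive := fun _ => ℕ → ℕ) (fun p => p) (fun M d _ ih p => seq (ih p) (ptStage M d)) L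

theorem Net.pt_eq {N : ℕ} {L : Net} (h : L.ok N = true) (p : ℕ) : L.pt p = L.perm p := by
  induction L with
  | nil => rfl
  | cons M d L ih =>
    obtain ⟨h1, h2, h3⟩ := Net.ok_cons h
    show seq (L.pt p) (ptStage M d) = _
    rw [seq_eq, ptStage_eq, ih h3, Net.perm_cons, Equiv.Perm.mul_apply, stagePerm_apply h1]

/-- Apply a word of networks to a set of points; the first letter acts first. -/
noncomputable def appWord (w : List Net) : ℕ → ℕ :=
  List.rec (motive := fun _ => ℕ → ℕ) (fun P => P) (fun L _ ih P => seq (L.app P) ih) w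

@[simp] theorem appWord_nil (P : ℕ) : appWord [] P = P := rfl

@[simp] theorem appWord_cons (L : Net) (w : List Net) (P : ℕ) :
    appWord (L :: w) P = appWord w (L.app P) := by
  show seq (L.app P) (appWord w) = _
  rw [seq_eq]

/-- The permutation of a word. -/
def wperm (w : List Net) : Equiv.Perm ℕ := (w.map Net.perm).prod

@[simp] theorem wperm_nil : wperm [] = 1 := rfl

@[simp] theorem wperm_cons (L : Net) (w : List Net) : wperm (L :: w) = L.perm * wperm w := by
  simp [wperm]

theorem wperm_append (w w' : List Net) : wperm (w ++ w') = wperm w * wperm w' := by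
  simp [wperm]

/-- All letters of a word are well formed. -/
def WOk (N : ℕ) (w : List Net) : Prop := ∀ L ∈ w, L.ok N = true

theorem WOk.nil (N : ℕ) : WOk N [] := fun _ h => absurd h (by simp)

theorem WOk.cons {N : ℕ} {L : Net} {w : List Net} (h : L.ok N = true) (hw : WOk N w) : WOk N (L :: w) := by
  intro K hK
  rcases List.mem_cons.1 hK with rfl | hK
  · exact h
  · exact hw K hK

theorem WOk.append {N : ℕ} {w w' : List Net} (h : WOk N w) (h' : WOk N w') : WOk N (w ++ w') := by
  intro K hK
  rcases List.mem_append.1 hK with hK | hK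
  · exact h K hK
  · exact h' K hK

theorem testBit_appWord {N : ℕ} {w : List Net} (h : WOk N w) (P p : ℕ) :
    (appWord w P).testBit p = P.testBit (wperm w p) := by
  induction w generalizing P with
  | nil => rfl
  | cons L w ih =>
    rw [appWord_cons, ih (fun K hK => h K (List.mem_cons_of_mem _ hK)),
      testBit_app (h L List.mem_cons_self), wperm_cons, Equiv.Perm.mul_apply]

theorem wperm_lt {N : ℕ} {w : List Net} (h : WOk N w) {p : ℕ} (hp : p < N) : wperm w p < N := by
  induction w with
  | nil => exact hp
  | cons L w ih =>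
    rw [wperm_cons, Equiv.Perm.mul_apply]
    exact perm_lt (h L List.mem_cons_self) (ih (fun K hK => h K (List.mem_cons_of_mem _ hK)))

theorem wperm_eq_of_le {N : ℕ} {w : List Net} (h : WOk N w) {p : ℕ} (hp : N ≤ p) : wperm w p = p := by
  induction w with
  | nil => rfl
  | cons L w ih =>
    rw [wperm_cons, Equiv.Perm.mul_apply, ih (fun K hK => h K (List.mem_cons_of_mem _ hK)),
      perm_eq_of_le (h L List.mem_cons_self) hp]

/-- Image of a point under a word. -/
noncomputable def ptWord (w : List Net) : ℕ → ℕ :=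
  List.rec (motive := fun _ => ℕ → ℕ) (fun p => p) (fun L _ ih p => seq (ih p) L.pt) w

theorem ptWord_eq {N : ℕ} {w : List Net} (h : WOk N w) (p : ℕ) : ptWord w p = wperm w p := by
  induction w with
  | nil => rfl
  | cons L w ih =>
    show seq (ptWord w p) L.pt = _
    rw [seq_eq, ih (fun K hK => h K (List.mem_cons_of_mem _ hK)),
      Net.pt_eq (h L List.mem_cons_self), wperm_cons, Equiv.Perm.mul_apply]

/-! ### Bit planes -/

/-- The set of indices `i < 2^k` whose bit `b` is set. -/
noncomputable def plane (k b : ℕ) : ℕ :=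
  Nat.rec (motive := fun _ => ℕ) 0
    (fun j q => Bool.rec (Nat.lor q (Nat.shiftLeft q (Nat.pow 2 j)))
      (Nat.shiftLeft (Nat.sub (Nat.pow 2 (Nat.pow 2 j)) 1) (Nat.pow 2 j)) (Nat.beq j b)) k

theorem plane_zero (b : ℕ) : plane 0 b = 0 := rfl

theorem plane_succ (k b : ℕ) : plane (k + 1) b =
    if k = b then (2 ^ 2 ^ k - 1) <<< 2 ^ k else plane k b ||| plane k b <<< 2 ^ k := by
  show (Bool.rec (Nat.lor (plane k b) (Nat.shiftLeft (plane k b) (Nat.pow 2 k)))
      (Nat.shiftLeft (Nat.sub (Nat.pow 2 (Nat.pow 2 k)) 1) (Nat.pow 2 k)) (Nat.beq k b) : ℕ) = _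
  by_cases h : k = b
  · subst h
    rw [if_pos rfl, Nat.beq_refl]; rfl
  · rw [if_neg h, show Nat.beq k b = false by
      rw [← Bool.not_eq_true]; exact fun h' => h (Nat.eq_of_beq_eq_true h')]
    rfl

theorem testBit_plane_of_le (k b i : ℕ) (h : 2 ^ k ≤ i) (hb : b < k) : (plane k b).testBit i = false := by
  induction k generalizing i with
  | zero => omega
  | succ k ih =>
    have hpow : 2 ^ (k + 1) = 2 ^ k + 2 ^ k := by rw [pow_succ]; ring
    rw [plane_succ]
    split_ifs with hkb
    · rw [Nat.testBit_shiftLeft, Nat.testBit_two_pow_sub_one]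
      have : ¬ (i - 2 ^ k < 2 ^ k) := by omega
      simp [this]
    · rw [Nat.testBit_or, Nat.testBit_shiftLeft, ih i (by omega) (by omega),
        ih (i - 2 ^ k) (by omega) (by omega)]
      simp

theorem testBit_plane (k b i : ℕ) (h : i < 2 ^ k) (hb : b < k) : (plane k b).testBit i = i.testBit b := by
  induction k generalizing i with
  | zero => omega
  | succ k ih =>
    have hpow : 2 ^ (k + 1) = 2 ^ k + 2 ^ k := by rw [pow_succ]; ring
    rw [plane_succ]
    split_ifs with hkb
    · subst hkb
      rw [Nat.testBit_shiftLeft, Nat.testBit_two_pow_sub_one]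
      by_cases hi : i < 2 ^ k
      · rw [Nat.testBit_lt_two_pow hi]
        have : ¬ (i ≥ 2 ^ k) := by omega
        simp [this]
      · have h1 : i ≥ 2 ^ k := by omega
        have h2 : i - 2 ^ k < 2 ^ k := by omega
        have h3 : i = 2 ^ k + (i - 2 ^ k) := by omega
        rw [h3, Nat.testBit_two_pow_add_eq, Nat.testBit_lt_two_pow h2]
        have h4 : 2 ^ k + (i - 2 ^ k) ≥ 2 ^ k := by omega
        have h5 : 2 ^ k + (i - 2 ^ k) - 2 ^ k < 2 ^ k := by omega
        simp [h4]
        omega
    · rw [Nat.testBit_or, Nat.testBit_shiftLeft]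
      by_cases hi : i < 2 ^ k
      · rw [ih i hi (by omega)]
        have : ¬ (i ≥ 2 ^ k) := by omega
        simp [this]
      · have h1 : i ≥ 2 ^ k := by omega
        have h2 : i - 2 ^ k < 2 ^ k := by omega
        rw [testBit_plane_of_le k b i h1 (by omega), ih (i - 2 ^ k) h2 (by omega)]
        have h3 : i = 2 ^ k + (i - 2 ^ k) := by omega
        conv_rhs => rw [h3]
        rw [Nat.testBit_two_pow_add_gt (by omega)]
        simp [h1]

/-- For one plane: both words act in the same way. -/
noncomputable def checkPlane (k : ℕ) (w w' : List Net) (b : ℕ) : Bool :=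
  seqB (appWord w (plane k b)) fun x => seqB (appWord w' (plane k b)) fun y => Nat.beq x y

theorem checkPlane_eq {k : ℕ} {w w' : List Net} {b : ℕ} (h : checkPlane k w w' b = true) :
    appWord w (plane k b) = appWord w' (plane k b) := by
  unfold checkPlane at h
  rw [seqB_eq, seqB_eq] at h
  exact Nat.eq_of_beq_eq_true h

/-- For the planes `b < m`. -/
noncomputable def checkPlanes (k : ℕ) (w w' : List Net) (m : ℕ) : Bool :=
  Nat.rec (motive := fun _ => Bool) true (fun b ih => and (checkPlane k w w' b) ih) m

theorem checkPlanes_spec {k : ℕ} {w w' : List Net} {m : ℕ} (h : checkPlanes k w w' m = true) :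
    ∀ b < m, checkPlane k w w' b = true := by
  induction m with
  | zero => intro b hb; omega
  | succ m ih =>
    have h' : and (checkPlane k w w' m) (checkPlanes k w w' m) = true := h
    rw [Bool.and_eq_true] at h'
    intro b hb
    rcases Nat.lt_succ_iff_lt_or_eq.1 hb with hb | rfl
    · exact ih h'.2 b hb
    · exact h'.1

/-- Both words act in the same way on all points below `2^k`. -/
noncomputable def checkEq (k : ℕ) (w w' : List Net) : Bool := checkPlanes k w w' k

theorem wperm_eq_of_planes {k : ℕ} {w w' : List Net} (hw : WOk (2 ^ k) w) (hw' : WOk (2 ^ k) w')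
    (h : ∀ b < k, checkPlane k w w' b = true) : wperm w = wperm w' := by
  ext p
  by_cases hp : p < 2 ^ k
  · have h1 := wperm_lt hw hp
    have h2 := wperm_lt hw' hp
    apply Nat.eq_of_testBit_eq
    intro b
    by_cases hb : b < k
    · have h3 := congrArg (fun x => Nat.testBit x p) (checkPlane_eq (h b hb))
      simp only [testBit_appWord hw, testBit_appWord hw'] at h3
      rwa [testBit_plane k b _ h1 hb, testBit_plane k b _ h2 hb] at h3
    · have hk : 2 ^ k ≤ 2 ^ b := Nat.pow_le_pow_right (by norm_num) (by omega)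
      rw [Nat.testBit_lt_two_pow (lt_of_lt_of_le h1 hk), Nat.testBit_lt_two_pow (lt_of_lt_of_le h2 hk)]
  · rw [wperm_eq_of_le hw (by omega), wperm_eq_of_le hw' (by omega)]

theorem wperm_eq_of_checkEq {k : ℕ} {w w' : List Net} (hw : WOk (2 ^ k) w) (hw' : WOk (2 ^ k) w')
    (h : checkEq k w w' = true) : wperm w = wperm w' :=
  wperm_eq_of_planes hw hw' (checkPlanes_spec h)

theorem prod_eq_of_checkEq {k : ℕ} {w w' : List Net} (hw : ∀ L ∈ w, L.ok (2 ^ k) = true)
    (hw' : ∀ L ∈ w', L.ok (2 ^ k) = true) (h : checkEq k w w' = true) :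
    (w.map Net.perm).prod = (w'.map Net.perm).prod :=
  wperm_eq_of_checkEq hw hw' h

theorem wperm_eq_one_of_checkEq {k : ℕ} {w : List Net} (hw : WOk (2 ^ k) w)
    (h : checkEq k w [] = true) : wperm w = 1 :=
  wperm_eq_of_checkEq hw (WOk.nil _) h

end Cfsg.Agent.Lib.PermNet
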