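/-
Orbits, indices and order bounds for permutation representations given by networks (see `PermNet`).
-/
import Mathlib
import Cfsg.Prelude.Def_SporCoxeter
import Cfsg.Agent.Lib.PermNet

set_option autoImplicit false

namespace Cfsg.Agent.Lib.PermNetOrbit

open Cfsg.Agent.Lib.PermNet

/-! ### Words and presented groups -/

/-- The `m`-th power of a word. -/
def wpow (w : List Net) (m : ℕ) : List Net := Nat.rec [] (fun _ ih => w ++ ih) m

theorem wpow_zero (w : List Net) : wpow w 0 = [] := rfl

theorem wpow_succ (w : List Net) (m : ℕ) : wpow w (m + 1) = w ++ wpow w m := rfl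

theorem wperm_wpow (w : List Net) (m : ℕ) : wperm (wpow w m) = wperm w ^ m := by
  induction m with
  | zero => rw [wpow_zero, wperm_nil, pow_zero]
  | succ m ih => rw [wpow_succ, wperm_append, ih, pow_succ']

theorem WOk.wpow {N : ℕ} {w : List Net} (h : WOk N w) (m : ℕ) : WOk N (wpow w m) := by
  induction m with
  | zero => exact WOk.nil N
  | succ m ih => exact h.append ih

/-- The relations of a Coxeter-type presentation hold for `f`. -/
theorem cox_lift_eq_one {α : Type*} [DecidableEq α] {P : Type*} [Group P] (f : α → P)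
    (edges : List (α × ℕ × α)) (extra : List (FreeGroup α))
    (h1 : ∀ x ∈ Cfsg.Spor.coxNodes edges, ∀ y ∈ Cfsg.Spor.coxNodes edges,
      (f x * f y) ^ Cfsg.Spor.coxLabel edges x y = 1)
    (h2 : ∀ r ∈ extra, FreeGroup.lift f r = 1) :
    ∀ r ∈ Cfsg.Spor.coxRelators edges ∪ {r | r ∈ extra}, FreeGroup.lift f r = 1 := by
  rintro r (⟨x, hx, y, hy, rfl⟩ | hr)
  · rw [map_pow, map_mul, FreeGroup.lift_apply_of, FreeGroup.lift_apply_of]
    exact h1 x hx y hy
  · exact h2 r hr

/-! ### Counting bits -/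

/-- Number of set bits among the bits `0, …, 2^k - 1` (for `x < 2^2^k`). -/
noncomputable def pc (k : ℕ) : ℕ → ℕ :=
  Nat.rec (motive := fun _ => ℕ → ℕ) (fun x => x)
    (fun j ih x => Bool.rec
      (seq (Nat.land x (Nat.sub (Nat.pow 2 (Nat.pow 2 j)) 1)) fun y =>
        seq (Nat.shiftRight x (Nat.pow 2 j)) fun z => Nat.add (ih y) (ih z)) 0 (Nat.beq x 0)) k

theorem pc_zero (x : ℕ) : pc 0 x = x := rfl

theorem pc_succ (k x : ℕ) : pc (k + 1) x =
    if x = 0 then 0 else pc k (x % 2 ^ 2 ^ k) + pc k (x >>> 2 ^ k) := by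
  show (Bool.rec (seq (Nat.land x (Nat.sub (Nat.pow 2 (Nat.pow 2 k)) 1)) fun y =>
        seq (Nat.shiftRight x (Nat.pow 2 k)) fun z => Nat.add (pc k y) (pc k z)) 0 (Nat.beq x 0) : ℕ) = _
  by_cases h : x = 0
  · subst h; rw [if_pos rfl]; rfl
  · rw [if_neg h, show Nat.beq x 0 = false by
      rw [← Bool.not_eq_true]; exact fun h' => h (Nat.eq_of_beq_eq_true h')]
    show (seq (Nat.land x (Nat.sub (Nat.pow 2 (Nat.pow 2 k)) 1)) fun y =>
        seq (Nat.shiftRight x (Nat.pow 2 k)) fun z => Nat.add (pc k y) (pc k z)) = _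
    rw [seq_eq, seq_eq]
    show pc k (x &&& (2 ^ 2 ^ k - 1)) + _ = _
    rw [Nat.and_two_pow_sub_one_eq_mod]
    rfl

/-- The set of bits of a number below `n`, as a finite set. -/
def bits (n x : ℕ) : Finset ℕ := (Finset.range n).filter (fun i => x.testBit i = true)

theorem mem_bits {n x i : ℕ} : i ∈ bits n x ↔ i < n ∧ x.testBit i = true := by
  simp [bits]

theorem pc_eq (k x : ℕ) (hx : x < 2 ^ 2 ^ k) : pc k x = (bits (2 ^ k) x).card := by
  induction k generalizing x with
  | zero =>
    rw [pc_zero]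
    have : x = 0 ∨ x = 1 := by
      have : x < 2 := by simpa using hx
      omega
    rcases this with rfl | rfl <;> decide
  | succ k ih =>
    have hpow : 2 ^ (k + 1) = 2 ^ k + 2 ^ k := by rw [pow_succ]; ring
    rw [pc_succ]
    split_ifs with h0
    · subst h0
      symm
      rw [Finset.card_eq_zero]
      ext i; simp [mem_bits]
    · have hlo : x % 2 ^ 2 ^ k < 2 ^ 2 ^ k := Nat.mod_lt _ (by positivity)
      have hhi : x >>> 2 ^ k < 2 ^ 2 ^ k := by
        rw [Nat.shiftRight_eq_div_pow]
        apply Nat.div_lt_of_lt_mul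
        rw [← pow_add, ← hpow]; exact hx
      rw [ih _ hlo, ih _ hhi]
      have hdisj : Disjoint (bits (2 ^ k) (x % 2 ^ 2 ^ k))
          ((bits (2 ^ k) (x >>> 2 ^ k)).map (addLeftEmbedding (2 ^ k))) := by
        rw [Finset.disjoint_left]
        intro i hi hi'
        rw [mem_bits] at hi
        rw [Finset.mem_map] at hi'
        obtain ⟨j, _, hj⟩ := hi'
        simp only [addLeftEmbedding_apply] at hj
        omega
      rw [← Finset.card_map (addLeftEmbedding (2 ^ k)) (s := bits (2 ^ k) (x >>> 2 ^ k)),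
        ← Finset.card_union_of_disjoint hdisj]
      congr 1
      ext i
      rw [Finset.mem_union, Finset.mem_map, mem_bits, mem_bits]
      constructor
      · rintro (⟨h1, h2⟩ | ⟨j, hj, rfl⟩)
        · refine ⟨by omega, ?_⟩
          rw [Nat.testBit_mod_two_pow] at h2
          simp only [Bool.and_eq_true] at h2
          exact h2.2
        · rw [mem_bits] at hj
          simp only [addLeftEmbedding_apply]
          refine ⟨by omega, ?_⟩
          have := hj.2
          rwa [Nat.testBit_shiftRight] at this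
      · rintro ⟨h1, h2⟩
        by_cases hi : i < 2 ^ k
        · left
          refine ⟨hi, ?_⟩
          rw [Nat.testBit_mod_two_pow]
          simp [hi, h2]
        · right
          refine ⟨i - 2 ^ k, ?_, ?_⟩
          · rw [mem_bits]
            refine ⟨by omega, ?_⟩
            rw [Nat.testBit_shiftRight, show 2 ^ k + (i - 2 ^ k) = i by omega]
            exact h2
          · simp only [addLeftEmbedding_apply]; omega

/-! ### Orbits of groups generated by words -/

/-- One round of saturation: add the images of the set under (the inverses of) all words. -/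
noncomputable def satRound (ws : List (List Net)) : ℕ → ℕ :=
  List.rec (motive := fun _ => ℕ → ℕ) (fun V => V)
    (fun w _ ih V => seq (Nat.lor V (appWord w V)) ih) ws

/-- `r` rounds of saturation. -/
noncomputable def sat (ws : List (List Net)) (r : ℕ) : ℕ → ℕ :=
  Nat.rec (motive := fun _ => ℕ → ℕ) (fun V => V) (fun _ ih V => seq (satRound ws V) ih) r

theorem satRound_nil (V : ℕ) : satRound [] V = V := rfl

theorem satRound_cons (w : List Net) (ws : List (List Net)) (V : ℕ) :
    satRound (w :: ws) V = satRound ws (V ||| appWord w V) := by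
  show seq (Nat.lor V (appWord w V)) (satRound ws) = _
  rw [seq_eq]; rfl

theorem sat_zero (ws : List (List Net)) (V : ℕ) : sat ws 0 V = V := rfl

theorem sat_succ (ws : List (List Net)) (r V : ℕ) : sat ws (r + 1) V = sat ws r (satRound ws V) := by
  show seq (satRound ws V) (sat ws r) = _
  rw [seq_eq]

/-- All words of a list are well formed. -/
def WsOk (N : ℕ) (ws : List (List Net)) : Prop := ∀ w ∈ ws, WOk N w

theorem satRound_spec {N : ℕ} {K : Subgroup (Equiv.Perm ℕ)} {ws : List (List Net)} (hws : WsOk N ws)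
    (hK : ∀ w ∈ ws, wperm w ∈ K) {V p : ℕ} (h : (satRound ws V).testBit p = true) :
    ∃ g ∈ K, V.testBit (g p) = true := by
  induction ws generalizing V with
  | nil => exact ⟨1, K.one_mem, h⟩
  | cons w ws ih =>
    rw [satRound_cons] at h
    obtain ⟨g, hg, h'⟩ := ih (fun w' h' => hws w' (List.mem_cons_of_mem _ h'))
      (fun w' h' => hK w' (List.mem_cons_of_mem _ h')) h
    rw [Nat.testBit_or, Bool.or_eq_true, testBit_appWord (hws w List.mem_cons_self)] at h'
    rcases h' with h' | h'
    · exact ⟨g, hg, h'⟩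
    · exact ⟨wperm w * g, K.mul_mem (hK w List.mem_cons_self) hg, h'⟩

theorem sat_spec {N : ℕ} {K : Subgroup (Equiv.Perm ℕ)} {ws : List (List Net)} (hws : WsOk N ws)
    (hK : ∀ w ∈ ws, wperm w ∈ K) (r : ℕ) {V p : ℕ} (h : (sat ws r V).testBit p = true) :
    ∃ g ∈ K, V.testBit (g p) = true := by
  induction r generalizing V with
  | zero => exact ⟨1, K.one_mem, h⟩
  | succ r ih =>
    rw [sat_succ] at h
    obtain ⟨g, hg, h'⟩ := ih h
    obtain ⟨g', hg', h''⟩ := satRound_spec hws hK h'
    exact ⟨g' * g, K.mul_mem hg' hg, h''⟩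

/-- Every point of the saturation of a single point lies in its orbit. -/
theorem sat_point_spec {N : ℕ} {K : Subgroup (Equiv.Perm ℕ)} {ws : List (List Net)} (hws : WsOk N ws)
    (hK : ∀ w ∈ ws, wperm w ∈ K) (r : ℕ) {p₀ p : ℕ} (h : (sat ws r (2 ^ p₀)).testBit p = true) :
    ∃ g ∈ K, g p₀ = p := by
  obtain ⟨g, hg, h'⟩ := sat_spec hws hK r h
  refine ⟨g⁻¹, K.inv_mem hg, ?_⟩
  rw [Nat.testBit_two_pow] at h'
  have : p₀ = g p := by simpa using h'
  rw [this]; simp

/-- The set `U` is stable under all words. -/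
noncomputable def closedB (ws : List (List Net)) (U : ℕ) : Bool :=
  List.rec (motive := fun _ => Bool) true (fun w _ ih => and (Nat.beq (appWord w U) U) ih) ws

theorem closedB_spec {N : ℕ} {ws : List (List Net)} (hws : WsOk N ws) {U : ℕ} (h : closedB ws U = true) :
    ∀ w ∈ ws, ∀ p, U.testBit (wperm w p) = U.testBit p := by
  induction ws with
  | nil => intro w hw; exact absurd hw (by simp)
  | cons w ws ih =>
    have h' : and (Nat.beq (appWord w U) U) (closedB ws U) = true := h
    rw [Bool.and_eq_true] at h'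
    intro v hv p
    rcases List.mem_cons.1 hv with rfl | hv
    · rw [← testBit_appWord (hws v List.mem_cons_self), Nat.eq_of_beq_eq_true h'.1]
    · exact ih (fun w' h' => hws w' (List.mem_cons_of_mem _ h')) h'.2 v hv p

/-- A set stable under generators is stable under the group. -/
theorem testBit_eq_of_closure {S : Set (Equiv.Perm ℕ)} {U : ℕ}
    (h : ∀ g ∈ S, ∀ p, U.testBit (g p) = U.testBit p) {g : Equiv.Perm ℕ} (hg : g ∈ Subgroup.closure S) :
    ∀ p, U.testBit (g p) = U.testBit p := by
  induction hg using Subgroup.closure_induction with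
  | mem x hx => exact h x hx
  | one => intro p; rfl
  | mul x y _ _ hx hy => intro p; rw [Equiv.Perm.mul_apply, hx, hy]
  | inv x _ hx => intro p; rw [← hx (x⁻¹ p)]; simp

/-- The orbit of a point under a group generated by words is the closed set reached by saturation. -/
theorem orbit_eq {N : ℕ} {K : Subgroup (Equiv.Perm ℕ)} {ws : List (List Net)} (hws : WsOk N ws)
    (hK : K = Subgroup.closure {g | ∃ w ∈ ws, wperm w = g}) {r p₀ U : ℕ}
    (hsat : Nat.beq (sat ws r (2 ^ p₀)) U = true) (hcl : closedB ws U = true)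
    (hp₀ : tb U p₀ = true) (p : ℕ) :
    (∃ g ∈ K, g p₀ = p) ↔ U.testBit p = true := by
  have hU : sat ws r (2 ^ p₀) = U := Nat.eq_of_beq_eq_true hsat
  constructor
  · rintro ⟨g, hg, rfl⟩
    subst hK
    rw [testBit_eq_of_closure (S := {g | ∃ w ∈ ws, wperm w = g}) _ hg, ← tb_eq, hp₀]
    rintro g ⟨w, hw, rfl⟩
    exact closedB_spec hws hcl w hw
  · intro h
    rw [← hU] at h
    refine sat_point_spec hws (fun w hw => ?_) r h
    rw [hK]
    exact Subgroup.subset_closure ⟨w, hw, rfl⟩

/-! ### Index of a subgroup from an action -/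

/-- If `G` acts on `ℕ`, `H` fixes `0`, the orbit of `0` contains `0, …, n - 1`, and `H` has index at most `n`, then `H` is
the stabiliser of `0`, it has index `n`, and the orbit of `0` is `{0, …, n - 1}`. -/
theorem index_eq_of_action {G : Type*} [Group G] (H : Subgroup G) (φ : G →* Equiv.Perm ℕ) (n : ℕ)
    (h0 : ∀ h ∈ H, φ h 0 = 0) (htr : ∀ i < n, ∃ g, φ g 0 = i) (hub : H.index ≤ n) (hne : H.index ≠ 0) :
    H.index = n ∧ (∀ g, φ g 0 = 0 ↔ g ∈ H) ∧ (∀ g, φ g 0 < n) := by
  classical
  let S : Subgroup G :=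
    { carrier := {g | φ g 0 = 0}
      mul_mem' := by
        intro a b ha hb
        simp only [Set.mem_ofPred_eq, map_mul, Equiv.Perm.mul_apply] at *
        rw [hb, ha]
      one_mem' := by simp
      inv_mem' := by
        intro a ha
        simp only [Set.mem_ofPred_eq, map_inv] at *
        rw [Equiv.Perm.inv_eq_iff_eq, ha] }
  have hHS : H ≤ S := fun h hh => h0 h hh
  have hmem : ∀ g, g ∈ S ↔ φ g 0 = 0 := fun g => Iff.rfl
  have hdvd : S.index ∣ H.index := Subgroup.index_dvd_of_le hHS
  have hSne : S.index ≠ 0 := fun h => hne (Nat.eq_zero_of_zero_dvd (h ▸ hdvd))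
  have hSle : S.index ≤ n := (Nat.le_of_dvd (Nat.pos_of_ne_zero hne) hdvd).trans hub
  -- the map from cosets of `S` to points
  let ψ : G ⧸ S → ℕ := Quotient.lift (fun g : G => φ g 0) (by
    intro a b hab
    have h1 : a⁻¹ * b ∈ S := QuotientGroup.leftRel_apply.1 hab
    have h2 : φ (a⁻¹ * b) 0 = 0 := h1
    rw [map_mul, map_inv, Equiv.Perm.mul_apply, Equiv.Perm.inv_eq_iff_eq] at h2
    exact h2.symm)
  have hψ : ∀ g : G, ψ (g : G ⧸ S) = φ g 0 := fun g => rfl
  have hinj : Function.Injective ψ := by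
    intro x y
    refine QuotientGroup.induction_on x (fun a => ?_)
    refine QuotientGroup.induction_on y (fun b => ?_)
    intro h
    rw [hψ, hψ] at h
    rw [QuotientGroup.eq, hmem, map_mul, map_inv, Equiv.Perm.mul_apply, Equiv.Perm.inv_eq_iff_eq]
    exact h.symm
  have hfi : S.FiniteIndex := ⟨hSne⟩
  have hfin : Finite (G ⧸ S) := inferInstance
  have := Fintype.ofFinite (G ⧸ S)
  have hcard : Fintype.card (G ⧸ S) = S.index := by
    rw [← Nat.card_eq_fintype_card]; rfl
  have himg : Finset.range n ⊆ Finset.univ.image ψ := by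
    intro i hi
    obtain ⟨g, hg⟩ := htr i (Finset.mem_range.1 hi)
    exact Finset.mem_image.2 ⟨(g : G ⧸ S), Finset.mem_univ _, by rw [hψ, hg]⟩
  have hci : (Finset.univ.image ψ).card = S.index := by
    rw [Finset.card_image_of_injective _ hinj, Finset.card_univ, hcard]
  have hle : n ≤ S.index := by
    have := Finset.card_le_card himg
    rwa [Finset.card_range, hci] at this
  have hSn : S.index = n := le_antisymm hSle hle
  have hHn : H.index = n := le_antisymm hub (hSn ▸ Nat.le_of_dvd (Nat.pos_of_ne_zero hne) hdvd)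
  have hHS' : H = S := by
    apply le_antisymm hHS
    have h1 := Subgroup.relIndex_mul_index hHS
    rw [hSn, hHn] at h1
    have hnpos : 0 < n := hSn ▸ Nat.pos_of_ne_zero hSne
    have h2 : H.relIndex S = 1 := Nat.eq_of_mul_eq_mul_right hnpos (by rw [h1, one_mul])
    exact Subgroup.relIndex_eq_one.1 h2
  refine ⟨hHn, fun g => ?_, fun g => ?_⟩
  · rw [hHS']; exact (hmem g).symm
  · have hall : Finset.range n = Finset.univ.image ψ :=
      Finset.eq_of_subset_of_card_le himg (by rw [hci, hSn, Finset.card_range])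
    have : φ g 0 ∈ Finset.univ.image ψ := Finset.mem_image.2 ⟨(g : G ⧸ S), Finset.mem_univ _, hψ g⟩
    rw [← hall] at this
    exact Finset.mem_range.1 this

/-- The size of an orbit of a subgroup `K` on the cosets of `H`, when `H` is the stabiliser of the point `0`. -/
theorem ncard_orbit_quotient {G : Type*} [Group G] (H K : Subgroup G) (φ : G →* Equiv.Perm ℕ)
    (hst : ∀ g, φ g 0 = 0 ↔ g ∈ H) (g : G) :
    (MulAction.orbit K (g : G ⧸ H)).ncard = {p : ℕ | ∃ x ∈ K, φ x (φ g 0) = p}.ncard := by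
  classical
  let ψ : G ⧸ H → ℕ := Quotient.lift (fun g : G => φ g 0) (by
    intro a b hab
    have h1 : a⁻¹ * b ∈ H := QuotientGroup.leftRel_apply.1 hab
    have h2 : φ (a⁻¹ * b) 0 = 0 := (hst _).2 h1
    rw [map_mul, map_inv, Equiv.Perm.mul_apply, Equiv.Perm.inv_eq_iff_eq] at h2
    exact h2.symm)
  have hψ : ∀ g : G, ψ (g : G ⧸ H) = φ g 0 := fun g => rfl
  have hinj : Function.Injective ψ := by
    intro x y
    refine QuotientGroup.induction_on x (fun a => ?_)
    refine QuotientGroup.induction_on y (fun b => ?_)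
    intro h
    rw [hψ, hψ] at h
    rw [QuotientGroup.eq, ← hst, map_mul, map_inv, Equiv.Perm.mul_apply, Equiv.Perm.inv_eq_iff_eq]
    exact h.symm
  rw [← Set.ncard_image_of_injective _ hinj]
  congr 1
  ext p
  simp only [Set.mem_image, MulAction.mem_orbit_iff, Set.mem_ofPred_eq]
  constructor
  · rintro ⟨_, ⟨x, rfl⟩, rfl⟩
    refine ⟨x, x.2, ?_⟩
    show _ = ψ (((x : G) * g : G) : G ⧸ H)
    rw [hψ, map_mul, Equiv.Perm.mul_apply]
  · rintro ⟨x, hx, rfl⟩
    refine ⟨(((x : G) * g : G) : G ⧸ H), ⟨⟨x, hx⟩, rfl⟩, ?_⟩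
    rw [hψ, map_mul, Equiv.Perm.mul_apply]

/-- The orbit of a point under the image of a subgroup generated by elements acting as given words. -/
theorem orbit_closure_eq {G : Type*} [Group G] (φ : G →* Equiv.Perm ℕ) (S : Set G) {N : ℕ}
    {ws : List (List Net)} (hws : WsOk N ws) (hS : ∀ g ∈ S, ∃ w ∈ ws, wperm w = φ g)
    (hS' : ∀ w ∈ ws, ∃ g ∈ S, wperm w = φ g) {r p₀ U : ℕ}
    (hsat : Nat.beq (sat ws r (2 ^ p₀)) U = true) (hcl : closedB ws U = true) (hp₀ : tb U p₀ = true) :
    {p : ℕ | ∃ x ∈ Subgroup.closure S, φ x p₀ = p} = {p | U.testBit p = true} := by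
  have hmap : (Subgroup.closure S).map φ = Subgroup.closure {g | ∃ w ∈ ws, wperm w = g} := by
    rw [MonoidHom.map_closure]
    congr 1
    ext g
    constructor
    · rintro ⟨x, hx, rfl⟩
      exact hS x hx
    · rintro ⟨w, hw, rfl⟩
      obtain ⟨x, hx, h⟩ := hS' w hw
      exact ⟨x, hx, h.symm⟩
  ext p
  rw [Set.mem_ofPred_eq, Set.mem_ofPred_eq, ← orbit_eq hws hmap hsat hcl hp₀ p]
  constructor
  · rintro ⟨x, hx, rfl⟩
    exact ⟨φ x, Subgroup.mem_map_of_mem φ hx, rfl⟩
  · rintro ⟨g, ⟨x, hx, rfl⟩, rfl⟩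
    exact ⟨x, hx, rfl⟩

/-- Cardinality of the set of bits of a number. -/
theorem ncard_testBit {k U m : ℕ} (hU : Nat.beq (Nat.shiftRight U (Nat.pow 2 k)) 0 = true)
    (hpc : Nat.beq (pc k U) m = true) : {p : ℕ | U.testBit p = true}.ncard = m := by
  have h1 : U >>> 2 ^ k = 0 := Nat.eq_of_beq_eq_true hU
  have hlt : U < 2 ^ 2 ^ k := by
    rw [Nat.shiftRight_eq_div_pow] at h1
    exact (Nat.div_eq_zero_iff_lt (by positivity)).1 h1
  have h2 : pc k U = m := Nat.eq_of_beq_eq_true hpc
  rw [← h2, pc_eq k U hlt, ← Set.ncard_coe_finset]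
  congr 1
  ext p
  rw [Set.mem_ofPred_eq, Finset.mem_coe, mem_bits]
  constructor
  · intro h
    refine ⟨?_, h⟩
    by_contra hc
    rw [Nat.testBit_lt_two_pow (lt_of_lt_of_le hlt (Nat.pow_le_pow_right (by norm_num) (by omega)))] at h
    exact absurd h (by simp)
  · exact fun h => h.2

/-! ### Lower bounds for the order of a group from a stabiliser chain -/

/-- The pointwise stabiliser of a list of points. -/
def stabL {G : Type*} [Group G] (φ : G →* Equiv.Perm ℕ) (qs : List ℕ) : Subgroup G where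
  carrier := {g | ∀ q ∈ qs, φ g q = q}
  mul_mem' := by
    intro a b ha hb q hq
    rw [map_mul, Equiv.Perm.mul_apply, hb q hq, ha q hq]
  one_mem' := by intro q _; simp
  inv_mem' := by
    intro a ha q hq
    rw [map_inv, Equiv.Perm.inv_eq_iff_eq, ha q hq]

theorem mem_stabL {G : Type*} [Group G] {φ : G →* Equiv.Perm ℕ} {qs : List ℕ} {g : G} :
    g ∈ stabL φ qs ↔ ∀ q ∈ qs, φ g q = q := Iff.rfl

theorem stabL_step {G : Type*} [Group G] [Finite G] (φ : G →* Equiv.Perm ℕ) (qs : List ℕ) (p : ℕ)
    (T : Finset ℕ) (hT : ∀ t ∈ T, ∃ g ∈ stabL φ qs, φ g p = t) :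
    T.card * Nat.card (stabL φ (p :: qs)) ≤ Nat.card (stabL φ qs) := by
  classical
  choose! f hf hfp using hT
  have hle : ∀ x : T × stabL φ (p :: qs), f x.1 * x.2 ∈ stabL φ qs := by
    rintro ⟨t, s⟩
    refine (stabL φ qs).mul_mem (hf t t.2) ?_
    intro q hq
    exact s.2 q (List.mem_cons_of_mem _ hq)
  have hinj : Function.Injective
      (fun x : T × stabL φ (p :: qs) => (⟨f x.1 * x.2, hle x⟩ : stabL φ qs)) := by
    rintro ⟨t, s⟩ ⟨t', s'⟩ h
    simp only [Subtype.mk.injEq] at h
    have h1 : φ (f t * s) p = φ (f t' * s') p := by rw [h]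
    rw [map_mul, map_mul, Equiv.Perm.mul_apply, Equiv.Perm.mul_apply,
      s.2 p List.mem_cons_self, s'.2 p List.mem_cons_self, hfp t t.2, hfp t' t'.2] at h1
    have h2 : t = t' := Subtype.ext h1
    subst h2
    have h3 : (s : G) = s' := mul_left_cancel h
    rw [Subtype.ext h3]
  have := Nat.card_le_card_of_injective _ hinj
  rwa [Nat.card_prod, Nat.card_eq_fintype_card, Fintype.card_coe] at this

/-- All words fix the point `q`. -/
noncomputable def fixB (ws : List (List Net)) (q : ℕ) : Bool :=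
  List.rec (motive := fun _ => Bool) true (fun w _ ih => and (Nat.beq (ptWord w q) q) ih) ws

theorem fixB_spec {N : ℕ} {ws : List (List Net)} (hws : WsOk N ws) {q : ℕ} (h : fixB ws q = true) :
    ∀ w ∈ ws, wperm w q = q := by
  induction ws with
  | nil => intro w hw; exact absurd hw (by simp)
  | cons w ws ih =>
    have h' : and (Nat.beq (ptWord w q) q) (fixB ws q) = true := h
    rw [Bool.and_eq_true] at h'
    intro v hv
    rcases List.mem_cons.1 hv with rfl | hv
    · rw [← ptWord_eq (hws v List.mem_cons_self)]; exact Nat.eq_of_beq_eq_true h'.1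
    · exact ih (fun w' h' => hws w' (List.mem_cons_of_mem _ h')) h'.2 v hv

/-- All words fix all points of the list. -/
noncomputable def fixAllB (ws : List (List Net)) (qs : List ℕ) : Bool :=
  List.rec (motive := fun _ => Bool) true (fun q _ ih => and (fixB ws q) ih) qs

theorem fixAllB_spec {N : ℕ} {ws : List (List Net)} (hws : WsOk N ws) {qs : List ℕ}
    (h : fixAllB ws qs = true) : ∀ q ∈ qs, ∀ w ∈ ws, wperm w q = q := by
  induction qs with
  | nil => intro q hq; exact absurd hq (by simp)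
  | cons q qs ih =>
    have h' : and (fixB ws q) (fixAllB ws qs) = true := h
    rw [Bool.and_eq_true] at h'
    intro x hx
    rcases List.mem_cons.1 hx with rfl | hx
    · exact fixB_spec hws h'.1
    · exact ih h'.2 x hx

/-- One step of a stabiliser chain: the words `ws` lie in (the image of) the pointwise stabiliser of `qs`, and their
group moves `p` to at least `m` points. Then `|G_(qs)| ≥ m * |G_(p :: qs)|`. -/
theorem stabL_step_of_check {G : Type*} [Group G] [Finite G] (φ : G →* Equiv.Perm ℕ) {k : ℕ}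
    (qs : List ℕ) (p m r : ℕ) {ws : List (List Net)} (hws : WsOk (2 ^ k) ws)
    (himg : ∀ w ∈ ws, ∃ g, φ g = wperm w) (hfix : fixAllB ws qs = true)
    (hm : Nat.ble m (pc k (sat ws r (Nat.pow 2 p))) = true)
    (hlt : Nat.beq (Nat.shiftRight (sat ws r (Nat.pow 2 p)) (Nat.pow 2 k)) 0 = true) :
    m * Nat.card (stabL φ (p :: qs)) ≤ Nat.card (stabL φ qs) := by
  have h1 : sat ws r (2 ^ p) >>> 2 ^ k = 0 := Nat.eq_of_beq_eq_true hlt
  have hlt' : sat ws r (2 ^ p) < 2 ^ 2 ^ k := by
    rw [Nat.shiftRight_eq_div_pow] at h1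
    exact (Nat.div_eq_zero_iff_lt (by positivity)).1 h1
  have h2 : m ≤ (bits (2 ^ k) (sat ws r (2 ^ p))).card := by
    rw [← pc_eq k _ hlt']; exact Nat.le_of_ble_eq_true hm
  refine le_trans (Nat.mul_le_mul_right _ h2) (stabL_step φ qs p _ ?_)
  intro t ht
  obtain ⟨g, ⟨x, hx, rfl⟩, hg⟩ := sat_point_spec (K := (stabL φ qs).map φ) hws (fun w hw => by
    obtain ⟨g, hg⟩ := himg w hw
    refine ⟨g, ?_, hg⟩
    intro q hq
    rw [hg]
    exact fixAllB_spec hws hfix q hq w hw) r (mem_bits.1 ht).2
  exact ⟨x, hx, hg⟩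

end Cfsg.Agent.Lib.PermNetOrbit
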