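import Cfsg.Agent.Lib.F2MatGroup

/-!
# Ranks of packed matrices over the field with two elements; a non-conjugacy criterion
-/

set_option autoImplicit false

namespace Cfsg.Agent.Lib.F2Rank

open Cfsg.Agent.Lib.F2Mat Cfsg.Agent.Lib.F2MatGroup Matrix

theorem toMat_xor (n A B : ℕ) : toMat n (A ^^^ B) = toMat n A + toMat n B := by
  ext i j
  rw [Matrix.add_apply, toMat_apply, toMat_apply, toMat_apply, Nat.testBit_xor, ← bz_xor]

/-- `E` codes the diagonal matrix with `k` ones followed by zeros -/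
def diagOk (n k E : ℕ) : Bool :=
  (List.range n).all fun i => (List.range n).all fun j =>
    (E.testBit (n * i + j)) == (Nat.beq i j && Nat.blt i k)

theorem toMat_diag {n k E : ℕ} (h : diagOk n k E = true) :
    toMat n E = Matrix.diagonal fun i : Fin n => if (i : ℕ) < k then (1 : ZMod 2) else 0 := by
  unfold diagOk at h
  simp only [List.all_eq_true, List.mem_range, beq_iff_eq] at h
  ext i j
  rw [toMat_apply, h i i.2 j j.2, Matrix.diagonal_apply]
  by_cases hij : i = j
  · subst hij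
    rw [Nat.beq_refl, Bool.true_and, if_pos rfl]
    by_cases hk : (i : ℕ) < k
    · rw [if_pos hk, (Nat.blt_eq (x := i) (y := k)).symm ▸ hk |> fun h => (show Nat.blt i k = true from by
        rw [Nat.blt_eq]; exact hk)]
      rfl
    · rw [if_neg hk]
      have : Nat.blt i k = false := by
        rw [Bool.eq_false_iff]; intro h; exact hk (by rwa [Nat.blt_eq] at h)
      rw [this]; rfl
  · rw [if_neg hij]
    have : Nat.beq i j = false := by
      rw [Bool.eq_false_iff]; intro h
      exact hij (Fin.ext (Nat.eq_of_beq_eq_true h))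
    rw [this]; rfl

theorem rank_diag {n k E : ℕ} (hk : k ≤ n) (h : diagOk n k E = true) : (toMat n E).rank = k := by
  classical
  rw [toMat_diag h, Matrix.rank_diagonal]
  have : Fintype.card {i : Fin n // (if (i : ℕ) < k then (1 : ZMod 2) else 0) ≠ 0} =
      Fintype.card (Fin k) := by
    apply Fintype.card_congr
    refine ⟨fun i => ⟨i.1.1, ?_⟩, fun i => ⟨⟨i.1, i.2.trans_le hk⟩, ?_⟩, fun i => rfl, fun i => rfl⟩
    · by_contra hi
      exact i.2 (if_neg hi)
    · change (if (i : ℕ) < k then (1 : ZMod 2) else 0) ≠ 0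
      rw [if_pos i.2]
      exact one_ne_zero
  rw [this, Fintype.card_fin]

/-- Non-conjugacy: `Z` fixes `a` independent vectors and `D - 1` has rank at least `b` with
`n < a + b`. -/
theorem not_conj {n a b : ℕ} (ha : a ≤ n) (hb : b ≤ n) (hab : n < a + b)
    {Z D : GL (Fin n) (ZMod 2)} {Zc Dc F W' Ea U W Eb : ℕ} (hZ : Codes n Z Zc) (hD : Codes n D Dc)
    (h1 : Nat.beq (F2Mat.mul n F Zc) F = true) (h2 : Nat.beq (F2Mat.mul n F W') Ea = true)
    (h3 : Nat.beq (F2Mat.mul n (F2Mat.mul n U (Nat.xor Dc (F2Mat.one n))) W) Eb = true)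
    (hEa : diagOk n a Ea = true) (hEb : diagOk n b Eb = true) (g : GL (Fin n) (ZMod 2)) :
    g * Z * g⁻¹ ≠ D := by
  intro hg
  have hg' : (g : Matrix (Fin n) (Fin n) (ZMod 2)) * Z = D * g := by
    rw [← hg, ← Units.val_mul, ← Units.val_mul]
    congr 1
    group
  have hZ' : (Z : Matrix (Fin n) (Fin n) (ZMod 2)) = toMat n Zc := hZ
  have hD' : (D : Matrix (Fin n) (Fin n) (ZMod 2)) = toMat n Dc := hD
  have e1 : toMat n F * (Z : Matrix (Fin n) (Fin n) (ZMod 2)) = toMat n F := by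
    rw [hZ', ← toMat_mul, Nat.eq_of_beq_eq_true h1]
  have e2 : toMat n F * toMat n W' = toMat n Ea := by
    rw [← toMat_mul, Nat.eq_of_beq_eq_true h2]
  have e3 : toMat n U * ((D : Matrix (Fin n) (Fin n) (ZMod 2)) + 1) * toMat n W = toMat n Eb := by
    have : toMat n (Nat.xor Dc (F2Mat.one n)) = (D : Matrix (Fin n) (Fin n) (ZMod 2)) + 1 := by
      rw [hD', ← toMat_one, ← toMat_xor]; rfl
    rw [← this, ← toMat_mul, ← toMat_mul, Nat.eq_of_beq_eq_true h3]
  -- the transported fixed vectors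
  have e4 : toMat n F * ((g⁻¹ : GL (Fin n) (ZMod 2)) : Matrix (Fin n) (Fin n) (ZMod 2)) *
      ((D : Matrix (Fin n) (Fin n) (ZMod 2)) + 1) = 0 := by
    have h5 : ((g⁻¹ : GL (Fin n) (ZMod 2)) : Matrix (Fin n) (Fin n) (ZMod 2)) *
        (D : Matrix (Fin n) (Fin n) (ZMod 2)) = (Z : Matrix (Fin n) (Fin n) (ZMod 2)) *
        ((g⁻¹ : GL (Fin n) (ZMod 2)) : Matrix (Fin n) (Fin n) (ZMod 2)) := by
      rw [← hg, ← Units.val_mul, ← Units.val_mul]
      congr 1
      group
    rw [mul_add, mul_one, mul_assoc, h5, ← mul_assoc, e1]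
    ext i j
    rw [Matrix.add_apply, Matrix.zero_apply]
    exact CharTwo.add_self_eq_zero _
  have hr := rank_add_rank_le_card_of_mul_eq_zero e4
  rw [Fintype.card_fin] at hr
  have r1 : a ≤ (toMat n F * ((g⁻¹ : GL (Fin n) (ZMod 2)) :
      Matrix (Fin n) (Fin n) (ZMod 2))).rank := by
    have h6 : (toMat n F * ((g⁻¹ : GL (Fin n) (ZMod 2)) : Matrix (Fin n) (Fin n) (ZMod 2))) *
        ((g : Matrix (Fin n) (Fin n) (ZMod 2)) * toMat n W') = toMat n Ea := by
      have h7 : ((g⁻¹ : GL (Fin n) (ZMod 2)) : Matrix (Fin n) (Fin n) (ZMod 2)) *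
          (g : Matrix (Fin n) (Fin n) (ZMod 2)) = 1 := by
        rw [← Units.val_mul, inv_mul_cancel, Units.val_one]
      rw [mul_assoc, ← mul_assoc _ _ (toMat n W'), h7, one_mul, e2]
    calc a = (toMat n Ea).rank := (rank_diag ha hEa).symm
      _ ≤ _ := by rw [← h6]; exact Matrix.rank_mul_le_left _ _
  have r2 : b ≤ ((D : Matrix (Fin n) (Fin n) (ZMod 2)) + 1).rank := by
    calc b = (toMat n Eb).rank := (rank_diag hb hEb).symm
      _ ≤ (toMat n U * ((D : Matrix (Fin n) (Fin n) (ZMod 2)) + 1)).rank := by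
          rw [← e3]; exact Matrix.rank_mul_le_left _ _
      _ ≤ _ := Matrix.rank_mul_le_right _ _
  omega

end Cfsg.Agent.Lib.F2Rank
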