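import Cfsg.Agent.Lib.F2MatGroup
import Mathlib.Algebra.CharP.Two
import Mathlib.LinearAlgebra.Matrix.CharP
import Mathlib.GroupTheory.PGroup
import Mathlib.Algebra.CharP.Lemmas

/-!
# Unitriangular matrices over the field with two elements form a 2-group

`Uni n wt` : the elements `g` of `GL (Fin n) (ZMod 2)` with `g i j = δ i j` whenever `wt i ≤ wt j`.
-/

set_option autoImplicit false

namespace Cfsg.Agent.Lib.F2Unitri

open Cfsg.Agent.Lib.F2Mat Cfsg.Agent.Lib.F2MatGroup

variable {n : ℕ}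

/-- unitriangular with respect to a weight function -/
def IsUni (wt : Fin n → ℕ) (A : Matrix (Fin n) (Fin n) (ZMod 2)) : Prop :=
  ∀ i j, wt i ≤ wt j → A i j = (1 : Matrix (Fin n) (Fin n) (ZMod 2)) i j

theorem IsUni.one (wt : Fin n → ℕ) : IsUni wt 1 := fun _ _ _ => rfl

theorem IsUni.mul {wt : Fin n → ℕ} {A B : Matrix (Fin n) (Fin n) (ZMod 2)} (hA : IsUni wt A) (hB : IsUni wt B) :
    IsUni wt (A * B) := by
  intro i j hij
  rw [Matrix.mul_apply, Finset.sum_eq_single i]
  · rw [hA i i le_rfl, Matrix.one_apply_eq, one_mul, hB i j hij]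
  · intro k _ hk
    rcases Nat.lt_or_ge (wt k) (wt i) with h | h
    · rw [hB k j (h.le.trans hij), Matrix.one_apply_ne, mul_zero]
      rintro rfl
      omega
    · rw [hA i k h, Matrix.one_apply_ne hk.symm, zero_mul]
  · intro h
    exact absurd (Finset.mem_univ i) h

/-- `A - 1` lowers the weight -/
theorem IsUni.pow_sub {wt : Fin n → ℕ} {A : Matrix (Fin n) (Fin n) (ZMod 2)} (hA : IsUni wt A) (k : ℕ) :
    ∀ i j, wt i < wt j + k → ((A - 1) ^ k) i j = 0 := by
  induction k with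
  | zero =>
    intro i j hij
    rw [pow_zero, Matrix.one_apply_ne]
    rintro rfl
    omega
  | succ k ih =>
    intro i j hij
    rw [pow_succ, Matrix.mul_apply]
    apply Finset.sum_eq_zero
    intro l _
    rcases Nat.lt_or_ge (wt i) (wt l + k) with h | h
    · rw [ih i l h, zero_mul]
    · have h1 : wt l ≤ wt j := by omega
      rw [Matrix.sub_apply, hA l j h1, sub_self, mul_zero]

theorem IsUni.pow_eq_one {wt : Fin n → ℕ} {A : Matrix (Fin n) (Fin n) (ZMod 2)} (hA : IsUni wt A) {m : ℕ}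
    (hm : ∀ i, wt i < 2 ^ m) : A ^ 2 ^ m = 1 := by
  rcases Nat.eq_zero_or_pos n with rfl | hn
  · ext i; exact i.elim0
  have : Nonempty (Fin n) := ⟨⟨0, hn⟩⟩
  have h1 : (A - 1) ^ 2 ^ m = 0 := by
    ext i j
    rw [hA.pow_sub _ i j (by have := hm i; omega), Matrix.zero_apply]
  have h2 : (A - 1) ^ 2 ^ m = A ^ 2 ^ m - 1 ^ 2 ^ m :=
    sub_pow_char_pow_of_commute 2 m (Commute.one_right A)
  rw [h2, one_pow, sub_eq_zero] at h1
  exact h1

/-- the group of unitriangular matrices -/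
def Uni (wt : Fin n → ℕ) : Subgroup (GL (Fin n) (ZMod 2)) where
  carrier := {g | IsUni wt (g : Matrix (Fin n) (Fin n) (ZMod 2))}
  one_mem' := IsUni.one wt
  mul_mem' := fun {a b} ha hb => by
    show IsUni wt ((a * b : GL (Fin n) (ZMod 2)) : Matrix _ _ _)
    rw [Units.val_mul]
    exact IsUni.mul ha hb
  inv_mem' := fun {a} ha => by
    have h1 : ∀ k : ℕ, IsUni wt ((a ^ k : GL (Fin n) (ZMod 2)) : Matrix (Fin n) (Fin n) (ZMod 2)) := by
      intro k
      induction k with
      | zero => rw [pow_zero]; exact IsUni.one wt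
      | succ k ih => rw [pow_succ, Units.val_mul]; exact IsUni.mul ih ha
    have h2 : a⁻¹ = a ^ (orderOf a - 1) := by
      rw [inv_eq_iff_mul_eq_one, ← pow_succ', Nat.sub_add_cancel (orderOf_pos a), pow_orderOf_eq_one]
    show IsUni wt ((a⁻¹ : GL (Fin n) (ZMod 2)) : Matrix (Fin n) (Fin n) (ZMod 2))
    rw [h2]
    exact h1 _

theorem isPGroup_Uni (wt : Fin n → ℕ) : IsPGroup 2 (Uni wt) := by
  rintro ⟨g, hg⟩
  obtain ⟨m, hm⟩ : ∃ m : ℕ, ∀ i, wt i < 2 ^ m := by
    refine ⟨Finset.univ.sup wt, fun i => ?_⟩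
    exact lt_of_le_of_lt (Finset.le_sup (Finset.mem_univ i)) Nat.lt_two_pow_self
  refine ⟨m, Subtype.ext (Units.ext ?_)⟩
  show ((g ^ 2 ^ m : GL (Fin n) (ZMod 2)) : Matrix (Fin n) (Fin n) (ZMod 2)) = 1
  rw [Units.val_pow_eq_pow_val]
  exact IsUni.pow_eq_one hg hm

/-- check of unitriangularity on packed matrices -/
def uniOk (n : ℕ) (wt : List ℕ) (A : ℕ) : Bool :=
  (List.range n).all fun i => (List.range n).all fun j =>
    (Nat.blt (wt.getD j 0) (wt.getD i 0)) ||
      (Nat.testBit A (n * i + j)) == (Nat.beq i j)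

theorem uniOk_sound {g : GL (Fin n) (ZMod 2)} {A : ℕ} (hg : Codes n g A) {wt : List ℕ} (h : uniOk n wt A = true) :
    g ∈ Uni (fun i : Fin n => wt.getD i 0) := by
  intro i j hij
  have h1 := List.all_eq_true.1 (List.all_eq_true.1 h i (List.mem_range.2 i.2)) j (List.mem_range.2 j.2)
  have h2 : Nat.blt (wt.getD j 0) (wt.getD i 0) = false := by
    rw [Bool.eq_false_iff, ne_eq, Nat.blt_eq, not_lt]
    exact hij
  rw [h2, Bool.false_or, beq_iff_eq] at h1
  rw [hg, toMat_apply, h1]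
  by_cases hij' : i = j
  · subst hij'
    rw [Nat.beq_refl, bz_true, Matrix.one_apply_eq]
  · rw [Matrix.one_apply_ne hij']
    have h3 : Nat.beq (i : ℕ) j = false := by
      rw [Bool.eq_false_iff]
      intro h4
      exact hij' (Fin.ext (Nat.eq_of_beq_eq_true h4))
    rw [h3, bz_false]

end Cfsg.Agent.Lib.F2Unitri
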