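import Mathlib.GroupTheory.Transfer
import Cfsg.Prelude.Def_Local
import Cfsg.Agent.Lib.Cores
import Cfsg.Agent.SignalizersComponents.Components
import Cfsg.Agent.Lib.ComponentSolvable

set_option autoImplicit false

namespace Cfsg.Agent.Lib.PComponents

open Subgroup Cfsg
open Cfsg.Agent.Lib.ComponentSolvable

/-! ### p-elements and `O^{p'}` -/

section PElem

variable {G : Type*} [Group G] {p : ℕ}

/-- A `p`-element lies in every subnormal subgroup of index prime to `p`. -/
theorem mem_of_pElem_of_isSubnormal {H : Subgroup G} (hH : H.IsSubnormal)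
    (hidx : H.index.Coprime p) {y : G} {n : ℕ} (hy : y ^ p ^ n = 1) : y ∈ H := by
  induction hH with
  | top => exact Subgroup.mem_top y
  | step H K h_le hSubn hN ih =>
    have h1 : H.relIndex K * K.index = H.index := Subgroup.relIndex_mul_index h_le
    have h2 : K.index.Coprime p := Nat.Coprime.coprime_dvd_left (Dvd.intro_left _ h1) hidx
    have h3 : (H.relIndex K).Coprime p := Nat.Coprime.coprime_dvd_left (Dvd.intro _ h1) hidx
    have hyK : y ∈ K := ih h2
    have h4 : (⟨y, hyK⟩ : K) ^ (H.subgroupOf K).index ∈ H.subgroupOf K :=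
      Subgroup.pow_index_mem (H.subgroupOf K) _
    have h5 : y ^ (H.relIndex K) ∈ H := h4
    have h6 : (H.relIndex K).Coprime (p ^ n) := Nat.Coprime.pow_right n h3
    have h7 := Nat.gcd_eq_gcd_ab (H.relIndex K) (p ^ n)
    rw [h6] at h7
    have h8 : y = (y ^ (H.relIndex K)) ^ (Nat.gcdA (H.relIndex K) (p ^ n)) *
        (y ^ (p ^ n)) ^ (Nat.gcdB (H.relIndex K) (p ^ n)) := by
      rw [← zpow_natCast, ← zpow_natCast, ← zpow_mul, ← zpow_mul, ← zpow_add, ← h7]
      simp
    rw [h8, hy, one_zpow, mul_one]
    exact H.zpow_mem h5 _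

/-- `O^{p'}(Y)`: the subgroup generated by the `p`-elements of `Y`. -/
def pElem (p : ℕ) (Y : Subgroup G) : Subgroup G :=
  Subgroup.closure {y : G | y ∈ Y ∧ ∃ n : ℕ, y ^ p ^ n = 1}

theorem pElem_le (Y : Subgroup G) : pElem p Y ≤ Y :=
  (Subgroup.closure_le _).mpr fun _ hy => hy.1

theorem mem_pElem {Y : Subgroup G} {y : G} (hy : y ∈ Y) {n : ℕ} (h : y ^ p ^ n = 1) :
    y ∈ pElem p Y :=
  Subgroup.subset_closure ⟨hy, n, h⟩

theorem pElem_mono {Y Z : Subgroup G} (h : Y ≤ Z) : pElem p Y ≤ pElem p Z :=
  Subgroup.closure_mono fun _ hy => ⟨h hy.1, hy.2⟩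

theorem normalizer_le_normalizer_pElem (Y : Subgroup G) :
    Subgroup.normalizer (Y : Set G) ≤ Subgroup.normalizer (pElem p Y : Set G) := by
  intro g hg
  have key : ∀ g ∈ Subgroup.normalizer (Y : Set G), ∀ h ∈ pElem p Y,
      g * h * g⁻¹ ∈ pElem p Y := by
    intro g hg h hh
    have hle : pElem p Y ≤ (pElem p Y).comap (MulAut.conj g).toMonoidHom := by
      refine (Subgroup.closure_le _).mpr ?_
      rintro y ⟨hyY, n, hn⟩
      change g * y * g⁻¹ ∈ pElem p Y
      refine mem_pElem ((Subgroup.mem_normalizer_iff.mp hg y).mp hyY) (n := n) ?_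
      rw [conj_pow, hn, mul_one, mul_inv_cancel]
    exact hle hh
  rw [Subgroup.mem_normalizer_iff]
  intro h
  constructor
  · exact key g hg h
  · intro hh
    have := key g⁻¹ (inv_mem hg) _ hh
    simpa [mul_assoc] using this

theorem pElem_normal_subgroupOf (Y : Subgroup G) : ((pElem p Y).subgroupOf Y).Normal :=
  Subgroup.normal_subgroupOf_of_le_normalizer
    (Subgroup.le_normalizer.trans (normalizer_le_normalizer_pElem Y))

theorem pElem_isSubnormal {Y : Subgroup G} (hY : Y.IsSubnormal) : (pElem p Y).IsSubnormal :=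
  Subgroup.IsSubnormal.step _ Y (pElem_le Y) hY (pElem_normal_subgroupOf Y)

/-- `O^{p'}(Y)` lies in every subnormal subgroup of `Y` of index prime to `p`. -/
theorem pElem_le_of_isSubnormal {K Y : Subgroup G} (hK : (K.subgroupOf Y).IsSubnormal)
    (hidx : (K.relIndex Y).Coprime p) : pElem p Y ≤ K := by
  refine (Subgroup.closure_le _).mpr ?_
  rintro y ⟨hyY, n, hn⟩
  have h : (⟨y, hyY⟩ : Y) ∈ K.subgroupOf Y :=
    mem_of_pElem_of_isSubnormal hK hidx (n := n) (by ext; simpa using hn)
  exact h

end PElem

/-! ### The `p'`-core and the quotient by it -/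

section Core

variable {G : Type*} [Group G] {p : ℕ}

/-- `|K ⊔ W : K|` divides `|W|` for `W` normal. -/
theorem relIndex_sup_dvd_card [Finite G] (K W : Subgroup G) [W.Normal] :
    K.relIndex (K ⊔ W) ∣ Nat.card W := by
  have h1 : Nat.card K * K.relIndex (K ⊔ W) = Nat.card (K ⊔ W : Subgroup G) := by
    have := Subgroup.card_mul_index (K.subgroupOf (K ⊔ W))
    rwa [Nat.card_congr (Subgroup.subgroupOfEquivOfLe (le_sup_left : K ≤ K ⊔ W)).toEquiv] at this
  have h2 : Nat.card W * W.relIndex (K ⊔ W) = Nat.card (K ⊔ W : Subgroup G) := by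
    have := Subgroup.card_mul_index (W.subgroupOf (K ⊔ W))
    rwa [Nat.card_congr (Subgroup.subgroupOfEquivOfLe (le_sup_right : W ≤ K ⊔ W)).toEquiv] at this
  rw [Subgroup.relIndex_sup_right] at h2
  have h3 : Nat.card (W.subgroupOf K) * W.relIndex K = Nat.card K :=
    Subgroup.card_mul_index (W.subgroupOf K)
  have hpos : 0 < W.relIndex K := Nat.pos_of_ne_zero (by
    intro h0
    rw [h0, mul_zero] at h3
    exact Nat.card_pos.ne h3)
  refine ⟨Nat.card (W.subgroupOf K), ?_⟩
  have h4 : Nat.card W * W.relIndex K =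
      (K.relIndex (K ⊔ W) * Nat.card (W.subgroupOf K)) * W.relIndex K := by
    rw [h2, ← h1]
    conv_lhs => rw [← h3]
    ring
  exact Nat.eq_of_mul_eq_mul_right hpos h4

/-- `O_{p'}(G / O_{p'}(G)) = 1`. -/
theorem pPrimeCore_quotient_eq_bot [Finite G] (p : ℕ) :
    pPrimeCore p (G ⧸ pPrimeCore p G) = ⊥ := by
  set W := pPrimeCore p G with hW
  set V := pPrimeCore p (G ⧸ W) with hV
  have hsurj : Function.Surjective (QuotientGroup.mk' W) := QuotientGroup.mk'_surjective W
  have hN : (V.comap (QuotientGroup.mk' W)).Normal := Subgroup.Normal.comap inferInstance _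
  have hcard : Nat.card (V.comap (QuotientGroup.mk' W)) = Nat.card W * Nat.card V := by
    have h1 : (W.subgroupOf (V.comap (QuotientGroup.mk' W))).index * Nat.card W =
        Nat.card (V.comap (QuotientGroup.mk' W)) := by
      have hle : W ≤ V.comap (QuotientGroup.mk' W) := by
        intro w hw
        rw [Subgroup.mem_comap]
        have : QuotientGroup.mk' W w = 1 := (QuotientGroup.eq_one_iff w).mpr hw
        rw [this]; exact one_mem _
      have := Subgroup.index_mul_card (W.subgroupOf (V.comap (QuotientGroup.mk' W)))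
      rwa [Nat.card_congr (Subgroup.subgroupOfEquivOfLe hle).toEquiv] at this
    have h2 : (W.subgroupOf (V.comap (QuotientGroup.mk' W))).index = Nat.card V := by
      have h3 := Subgroup.relIndex_ker (QuotientGroup.mk' W) (K := V.comap (QuotientGroup.mk' W))
      rw [QuotientGroup.ker_mk', Subgroup.map_comap_eq_self_of_surjective hsurj] at h3
      exact h3
    rw [← h1, h2, mul_comm]
  have hcop : (Nat.card (V.comap (QuotientGroup.mk' W))).Coprime p := by
    rw [hcard]
    exact Nat.Coprime.mul_left (Cores.pPrimeCore_coprime p) (Cores.pPrimeCore_coprime p)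
  have hle : V.comap (QuotientGroup.mk' W) ≤ W := Cores.le_pPrimeCore hN hcop
  have h4 := Subgroup.map_mono (f := QuotientGroup.mk' W) hle
  rw [Subgroup.map_comap_eq_self_of_surjective hsurj] at h4
  have h5 : W.map (QuotientGroup.mk' W) = ⊥ := by
    rw [Subgroup.map_eq_bot_iff, QuotientGroup.ker_mk']
  rw [h5] at h4
  exact le_bot_iff.mp h4

/-- `O_{p'}(K) ≤ O_{p'}(G)` for `K` subnormal in `G`. -/
theorem map_pPrimeCore_le_of_isSubnormal [Finite G] {K : Subgroup G} (hK : K.IsSubnormal) :
    (pPrimeCore p K).map K.subtype ≤ pPrimeCore p G := by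
  induction hK with
  | top =>
    refine Cores.le_pPrimeCore ?_ ?_
    · exact (inferInstance : (pPrimeCore p (⊤ : Subgroup G)).Normal).map _
        (fun x => ⟨⟨x, Subgroup.mem_top x⟩, rfl⟩)
    · rw [Nat.card_congr (Subgroup.equivMapOfInjective _ _ (Subgroup.subtype_injective _)).symm.toEquiv]
      exact Cores.pPrimeCore_coprime p
  | step H K h_le hSubn hN ih =>
    refine le_trans ?_ ih
    -- the image of `O_{p'}(H)` in `K`
    have h1 : (pPrimeCore p H).map H.subtype =
        (((pPrimeCore p H).map H.subtype).subgroupOf K).map K.subtype := by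
      rw [Subgroup.map_subgroupOf_eq_of_le]
      refine le_trans ?_ h_le
      rintro _ ⟨x, _, rfl⟩
      exact x.2
    rw [h1]
    apply Subgroup.map_mono
    refine Cores.le_pPrimeCore ?_ ?_
    · constructor
      rintro x hx g
      rw [Subgroup.mem_subgroupOf] at hx ⊢
      obtain ⟨y, hy, hyx⟩ := hx
      -- conjugation by `g` is an automorphism of `H`
      have hgn : (g : G) ∈ Subgroup.normalizer (H : Set G) :=
        (Subgroup.normal_subgroupOf_iff_le_normalizer h_le).mp hN g.2
      let φ : H ≃* H := MulAut.conjNormal (H := H.subgroupOf (Subgroup.normalizer (H : Set G))) ⟨g, hgn⟩ |> fun e =>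
        ((Subgroup.subgroupOfEquivOfLe (Subgroup.le_normalizer (H := H))).symm.trans e).trans
          (Subgroup.subgroupOfEquivOfLe (Subgroup.le_normalizer (H := H)))
      have hchar : (pPrimeCore p H).Characteristic := Cores.pPrimeCore_characteristic p
      have h2 : φ y ∈ pPrimeCore p H := by
        have := (Subgroup.characteristic_iff_map_eq.mp hchar) φ
        rw [← this]
        exact ⟨y, hy, rfl⟩
      refine ⟨φ y, h2, ?_⟩
      change (g : G) * (y : G) * (g : G)⁻¹ = (g : G) * (x : G) * (g : G)⁻¹
      rw [← hyx]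
      rfl
    · have h3 : Nat.card (((pPrimeCore p H).map H.subtype).subgroupOf K) = Nat.card (pPrimeCore p H) := by
        have hle : (pPrimeCore p H).map H.subtype ≤ K := by
          refine le_trans ?_ h_le
          rintro _ ⟨x, _, rfl⟩
          exact x.2
        rw [Nat.card_congr (Subgroup.subgroupOfEquivOfLe hle).toEquiv]
        exact Nat.card_congr
          (Subgroup.equivMapOfInjective _ _ (Subgroup.subtype_injective _)).symm.toEquiv
      rw [h3]
      exact Cores.pPrimeCore_coprime p

/-- A subnormal subgroup of order prime to `p` lies in `O_{p'}(G)`. -/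
theorem le_pPrimeCore_of_isSubnormal [Finite G] {K : Subgroup G} (hK : K.IsSubnormal)
    (h : (Nat.card K).Coprime p) : K ≤ pPrimeCore p G := by
  refine le_trans ?_ (map_pPrimeCore_le_of_isSubnormal (p := p) hK)
  have h1 : pPrimeCore p K = ⊤ := by
    rw [eq_top_iff]
    refine Cores.le_pPrimeCore inferInstance ?_
    rwa [Nat.card_congr (Subgroup.topEquiv (G := K)).toEquiv]
  rw [h1]
  intro x hx
  exact ⟨⟨x, hx⟩, Subgroup.mem_top _, rfl⟩

/-- `K ∩ O_{p'}(G) ≤ O_{p'}(K)`. -/
theorem inf_pPrimeCore_le [Finite G] (K : Subgroup G) :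
    K ⊓ pPrimeCore p G ≤ (pPrimeCore p K).map K.subtype := by
  rintro x ⟨hxK, hxW⟩
  refine ⟨⟨x, hxK⟩, ?_, rfl⟩
  refine Cores.le_pPrimeCore (N := (pPrimeCore p G).subgroupOf K) inferInstance ?_ hxW
  exact Nat.Coprime.coprime_dvd_left (Subgroup.card_comap_dvd_of_injective _ K.subtype
    (Subgroup.subtype_injective K)) (Cores.pPrimeCore_coprime p)

end Core

/-! ### Components are generated by `p`-elements when `O_{p'}(G) = 1` -/

section Quasisimple

variable {G : Type*} [Group G] {p : ℕ}

/-- A finite quasisimple group which is not generated by its `p`-elements is a `p'`-group. -/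
theorem quasisimple_pElem_top {Q : Type*} [Group Q] [Finite Q] [Fact p.Prime]
    (hQ : IsQuasisimple Q) (hp : p ∣ Nat.card Q) : pElem p (⊤ : Subgroup Q) = ⊤ := by
  have hnorm : (pElem p (⊤ : Subgroup Q)).Normal := by
    rw [← Subgroup.normalizer_eq_top_iff, eq_top_iff]
    refine le_trans ?_ (normalizer_le_normalizer_pElem (p := p) (⊤ : Subgroup Q))
    rw [Subgroup.normalizer_eq_top]
  rcases quasisimple_normal_cases hQ hnorm with h | h
  · exact h
  · exfalso
    obtain ⟨P⟩ : Nonempty (Sylow p Q) := inferInstance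
    have hPc : (P : Subgroup Q) ≤ Subgroup.center Q := by
      intro x hx
      refine h ?_
      obtain ⟨n, hn⟩ := P.2 ⟨x, hx⟩
      refine mem_pElem (Subgroup.mem_top x) (n := n) ?_
      simpa using congrArg Subtype.val hn
    have hP : Subgroup.normalizer (P : Set Q) ≤ Subgroup.centralizer (P : Set Q) := by
      intro g _
      rw [Subgroup.mem_centralizer_iff]
      intro x hx
      exact ((Subgroup.mem_center_iff.mp (hPc hx)) g).symm
    have hcomm : IsMulCommutative P :=
      ⟨⟨fun a b => Subtype.ext ((Subgroup.mem_center_iff.mp (hPc a.2)) b).symm⟩⟩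
    have hker : (MonoidHom.transferSylow P hP).ker = ⊤ := by
      rw [eq_top_iff, ← hQ.1.commutator_eq_top]
      open scoped IsMulCommutative in
      exact Abelianization.commutator_subset_ker (MonoidHom.transferSylow P hP)
    have hnd := MonoidHom.not_dvd_card_ker_transferSylow P hP
    rw [hker, Nat.card_congr (Subgroup.topEquiv (G := Q)).toEquiv] at hnd
    exact hnd hp

/-- In a finite group with `O_{p'}(G) = 1` the order of every component is divisible by `p`. -/
theorem prime_dvd_card_component [Finite G] [hp : Fact p.Prime] (hG : pPrimeCore p G = ⊥)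
    {C : Subgroup G} (hC : IsComponent C) : p ∣ Nat.card C := by
  by_contra hcon
  have hcop : (Nat.card C).Coprime p := ((Nat.Prime.coprime_iff_not_dvd hp.out).mpr hcon).symm
  have h1 := le_pPrimeCore_of_isSubnormal hC.1 hcop
  rw [hG, le_bot_iff] at h1
  have := quasisimple_nontrivial hC.2
  rw [h1] at this
  exact not_subsingleton (⊥ : Subgroup G) inferInstance

/-- In a finite group with `O_{p'}(G) = 1` every component is generated by its `p`-elements. -/
theorem pElem_component [Finite G] [Fact p.Prime] (hG : pPrimeCore p G = ⊥)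
    {C : Subgroup G} (hC : IsComponent C) : pElem p C = C := by
  apply le_antisymm (pElem_le C)
  have h1 := quasisimple_pElem_top hC.2 (prime_dvd_card_component hG hC)
  have h2 : pElem p (⊤ : Subgroup C) ≤ (pElem p C).subgroupOf C := by
    refine (Subgroup.closure_le _).mpr ?_
    rintro y ⟨-, n, hn⟩
    change (y : G) ∈ pElem p C
    exact mem_pElem y.2 (n := n) (by simpa using congrArg Subtype.val hn)
  rw [h1, top_le_iff, Subgroup.subgroupOf_eq_top] at h2
  exact h2

end Quasisimple

/-! ### `p`-components -/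

section PComp

variable {X : Type*} [Group X] [Finite X] {p : ℕ} [Fact p.Prime]

local notation "π" => QuotientGroup.mk' (pPrimeCore p X)

omit [Fact p.Prime] in
/-- `O^{p'}` of the preimage of a subgroup `C` lies in every subnormal subgroup mapping onto `C`. -/
theorem pElem_comap_le {C : Subgroup (X ⧸ pPrimeCore p X)} {H : Subgroup X} (hH : H.IsSubnormal)
    (h : H.map π = C) : pElem p (C.comap π) ≤ H := by
  have h1 : C.comap π = H ⊔ pPrimeCore p X := by
    rw [← h, Subgroup.comap_map_eq, QuotientGroup.ker_mk']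
  rw [h1]
  apply pElem_le_of_isSubnormal hH.subgroupOf
  exact Nat.Coprime.coprime_dvd_left (relIndex_sup_dvd_card H _) (Cores.pPrimeCore_coprime p)

omit [Fact p.Prime] in
/-- `O^{p'}` of the preimage of `C` maps onto `O^{p'}(C)`. -/
theorem map_pElem_comap (C : Subgroup (X ⧸ pPrimeCore p X)) :
    (pElem p (C.comap π)).map π = pElem p C := by
  apply le_antisymm
  · rw [Subgroup.map_le_iff_le_comap]
    refine (Subgroup.closure_le _).mpr ?_
    rintro y ⟨hyY, n, hn⟩
    change π y ∈ pElem p C
    exact mem_pElem hyY (n := n) (by rw [← map_pow, hn, map_one])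
  · refine (Subgroup.closure_le _).mpr ?_
    rintro c ⟨hc, n, hn⟩
    obtain ⟨y, rfl⟩ := QuotientGroup.mk'_surjective (pPrimeCore p X) c
    set m := Nat.card (pPrimeCore p X) with hm
    have hcop : m.Coprime (p ^ n) := Nat.Coprime.pow_right n (Cores.pPrimeCore_coprime p)
    have hyW : y ^ p ^ n ∈ pPrimeCore p X := by
      rw [← QuotientGroup.eq_one_iff]
      exact hn
    have h1 : (y ^ m) ^ p ^ n = 1 := by
      rw [← pow_mul, mul_comm, pow_mul]
      have := pow_card_eq_one' (x := (⟨y ^ p ^ n, hyW⟩ : pPrimeCore p X))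
      exact congrArg Subtype.val this
    have h2 : y ^ m ∈ pElem p (C.comap π) :=
      mem_pElem (pow_mem (show y ∈ C.comap π from hc) m) (n := n) h1
    have h3 : (π y) ^ m ∈ (pElem p (C.comap π)).map π := ⟨y ^ m, h2, map_pow _ _ _⟩
    have h7 := Nat.gcd_eq_gcd_ab m (p ^ n)
    rw [hcop] at h7
    have h8 : π y = ((π y) ^ m) ^ (Nat.gcdA m (p ^ n)) *
        ((π y) ^ (p ^ n)) ^ (Nat.gcdB m (p ^ n)) := by
      rw [← zpow_natCast, ← zpow_natCast, ← zpow_mul, ← zpow_mul, ← zpow_add, ← h7]
      simp
    rw [h8, hn, one_zpow, mul_one]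
    exact zpow_mem h3 _

/-- `O^{p'}` of the preimage of a component of `X / O_{p'}(X)` is a `p`-component. -/
theorem isPComponent_pElem_comap {C : Subgroup (X ⧸ pPrimeCore p X)} (hC : IsComponent C) :
    IsPComponent p (pElem p (C.comap π)) ∧ (pElem p (C.comap π)).map π = C := by
  have h1 : (pElem p (C.comap π)).map π = C := by
    rw [map_pElem_comap, pElem_component (pPrimeCore_quotient_eq_bot p) hC]
  refine ⟨⟨pElem_isSubnormal (hC.1.comap _), by rw [h1]; exact hC, ?_⟩, h1⟩
  intro H hH hle hmap
  rw [h1] at hmap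
  exact le_antisymm hle (pElem_comap_le hH hmap)

/-- A `p`-component `K` is `O^{p'}` of the preimage of its image in `X / O_{p'}(X)`. -/
theorem pcomp_eq_pElem_comap {K : Subgroup X} (hK : IsPComponent p K) :
    pElem p ((K.map π).comap π) = K := by
  have h1 := isPComponent_pElem_comap hK.2.1
  exact hK.2.2 _ h1.1.1 (pElem_comap_le hK.1 rfl) h1.2

/-- `K = O^{p'}(K O_{p'}(X))` for a `p`-component `K`. -/
theorem pcomp_eq_pElem {K : Subgroup X} (hK : IsPComponent p K) :
    K = pElem p (K ⊔ pPrimeCore p X) := by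
  have h := pcomp_eq_pElem_comap hK
  rw [Subgroup.comap_map_eq, QuotientGroup.ker_mk'] at h
  exact h.symm

/-- A `p`-component is determined by its image in `X / O_{p'}(X)`. -/
theorem pcomp_unique {K L : Subgroup X} (hK : IsPComponent p K) (hL : IsPComponent p L)
    (h : K.map π = L.map π) : K = L := by
  rw [← pcomp_eq_pElem_comap hK, ← pcomp_eq_pElem_comap hL, h]

/-- Every component of `X / O_{p'}(X)` is the image of a `p`-component. -/
theorem exists_pcomp {C : Subgroup (X ⧸ pPrimeCore p X)} (hC : IsComponent C) :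
    ∃ K : Subgroup X, IsPComponent p K ∧ K.map π = C :=
  ⟨_, isPComponent_pElem_comap hC⟩

/-- The `p`-layer maps onto the layer of `X / O_{p'}(X)`. -/
theorem map_pLayer : (pLayer p X).map π = layer (X ⧸ pPrimeCore p X) := by
  apply le_antisymm
  · rw [Subgroup.map_le_iff_le_comap]
    refine sSup_le fun K hK => ?_
    rw [← Subgroup.map_le_iff_le_comap]
    exact le_sSup (show IsComponent (K.map π) from hK.2.1)
  · refine sSup_le fun C hC => ?_
    obtain ⟨K, hK, rfl⟩ := exists_pcomp hC
    exact Subgroup.map_mono (le_sSup hK)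

/-- If the image of `g` normalizes the image of the `p`-component `K`, then `g` normalizes `K`. -/
theorem mem_normalizer_of_map {K : Subgroup X} (hK : IsPComponent p K) {g : X}
    (hg : π g ∈ Subgroup.normalizer ((K.map π : Subgroup (X ⧸ pPrimeCore p X)) : Set (X ⧸ pPrimeCore p X))) :
    g ∈ Subgroup.normalizer (K : Set X) := by
  have h1 : g ∈ Subgroup.normalizer (((K.map π).comap π : Subgroup X) : Set X) :=
    Subgroup.le_normalizer_comap _ hg
  have h2 := normalizer_le_normalizer_pElem (p := p) _ h1
  rwa [pcomp_eq_pElem_comap hK] at h2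

/-- Distinct `p`-components commute modulo `O_{p'}(X)`. -/
theorem commutator_pcomp_le_core {K L : Subgroup X} (hK : IsPComponent p K)
    (hL : IsPComponent p L) (hne : K ≠ L) : ⁅K, L⁆ ≤ pPrimeCore p X := by
  have h1 : K.map π ≠ L.map π := fun h => hne (pcomp_unique hK hL h)
  have h2 := SignalizersComponents.Components.component_commutator_eq_bot_of_ne hK.2.1 hL.2.1 h1
  rw [← Subgroup.map_commutator, Subgroup.map_eq_bot_iff, QuotientGroup.ker_mk'] at h2
  exact h2

/-- Any two `p`-components normalize each other. -/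
theorem pcomp_le_normalizer {K L : Subgroup X} (hK : IsPComponent p K) (hL : IsPComponent p L) :
    K ≤ Subgroup.normalizer (L : Set X) := by
  by_cases hne : K = L
  · subst hne
    exact Subgroup.le_normalizer
  · intro g hg
    apply mem_normalizer_of_map hL
    have h1 : K.map π ≠ L.map π := fun h => hne (pcomp_unique hK hL h)
    have h2 := SignalizersComponents.Components.component_commutator_eq_bot_of_ne hK.2.1 hL.2.1 h1
    rw [Subgroup.commutator_eq_bot_iff_le_centralizer] at h2
    exact Subgroup.centralizer_le_normalizer _ (h2 ⟨g, hg, rfl⟩)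

/-- The `p`-layer normalizes each `p`-component. -/
theorem pLayer_le_normalizer {K : Subgroup X} (hK : IsPComponent p K) :
    pLayer p X ≤ Subgroup.normalizer (K : Set X) :=
  sSup_le fun _ hL => pcomp_le_normalizer hL hK

omit [Finite X] [Fact p.Prime] in
theorem pcomp_le_pLayer {K : Subgroup X} (hK : IsPComponent p K) : K ≤ pLayer p X :=
  le_sSup hK

theorem pcomp_normal_pLayer {K : Subgroup X} (hK : IsPComponent p K) :
    (K.subgroupOf (pLayer p X)).Normal :=
  Subgroup.normal_subgroupOf_of_le_normalizer (pLayer_le_normalizer hK)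

omit [Finite X] [Fact p.Prime] in
/-- A `p`-component is perfect. -/
theorem pcomp_perfect {K : Subgroup X} (hK : IsPComponent p K) : ⁅K, K⁆ = K := by
  apply hK.2.2
  · refine Subgroup.IsSubnormal.step _ K (Subgroup.commutator_le_self K) hK.1
      (Subgroup.normal_subgroupOf_of_le_normalizer ?_)
    rw [Subgroup.le_normalizer_iff_commutator_le_left]
    exact Subgroup.commutator_mono (Subgroup.commutator_le_self K) le_rfl
  · exact Subgroup.commutator_le_self K
  · rw [Subgroup.map_commutator]
    exact Subgroup.isPerfect_iff.mp hK.2.1.2.1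

/-- The order of a `p`-component is divisible by `p`. -/
theorem prime_dvd_card_pcomp {K : Subgroup X} (hK : IsPComponent p K) : p ∣ Nat.card K :=
  (prime_dvd_card_component (pPrimeCore_quotient_eq_bot p) hK.2.1).trans
    (Subgroup.card_map_dvd (H := K) π)

/-- `O^{p'}(K) = K` for a `p`-component `K`. -/
theorem pElem_pcomp {K : Subgroup X} (hK : IsPComponent p K) : pElem p K = K := by
  apply le_antisymm (pElem_le K)
  conv_lhs => rw [← pcomp_eq_pElem_comap hK]
  refine (Subgroup.closure_le _).mpr ?_
  rintro y ⟨hyY, n, hn⟩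
  refine mem_pElem ?_ hn
  rw [← pcomp_eq_pElem_comap hK]
  exact mem_pElem hyY hn

/-- A normal subgroup of a `p`-component of index prime to `p` is everything. -/
theorem pcomp_normal_coprime_index {K : Subgroup X} (hK : IsPComponent p K) (N : Subgroup K)
    [hN : N.Normal] (h : N.index.Coprime p) : N = ⊤ := by
  have h1 : pElem p K ≤ N.map K.subtype := by
    refine (Subgroup.closure_le _).mpr ?_
    rintro y ⟨hyK, n, hn⟩
    exact ⟨⟨y, hyK⟩, mem_of_pElem_of_isSubnormal hN.isSubnormal h (n := n)
      (by ext; simpa using hn), rfl⟩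
  rw [pElem_pcomp hK] at h1
  rw [eq_top_iff]
  rintro ⟨x, hx⟩ -
  obtain ⟨y, hy, hyx⟩ := h1 hx
  have : y = ⟨x, hx⟩ := Subtype.ext hyx
  rwa [← this]

end PComp

end Cfsg.Agent.Lib.PComponents
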