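import Mathlib
import Cfsg.Prelude.Def_Local
import Cfsg.Agent.Lib.Cores
import Cfsg.Agent.Lib.ComponentSolvable
import Cfsg.Agent.SignalizersComponents.Components
import Cfsg.Agent.SignalizersComponents.CharP

set_option autoImplicit false
set_option linter.style.haveILetI false

/-!
# The layer and the generalized Fitting subgroup: isomorphisms, overgroups of `F*`
-/

namespace Cfsg.Agent.Lib.GenFitting

open Cfsg Subgroup
open Cfsg.Agent.Lib.Cores Cfsg.Agent.Lib.ComponentSolvable
open Cfsg.Agent.SignalizersComponents.Components (isComponent_map_equiv isComponent_map_subtype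
  isComponent_subgroupOf component_commutator_eq_bot_of_ne component_le_layer layer_characteristic
  layer_normal)

variable {G H : Type*} [Group G] [Group H]

theorem layer_def : layer G = sSup {K : Subgroup G | IsComponent K} := rfl

theorem genFitting_def : generalizedFittingSubgroup G = layer G ⊔ fittingSubgroup G := rfl

theorem layer_le_genFitting : layer G ≤ generalizedFittingSubgroup G := le_sup_left

theorem fitting_le_genFitting : fittingSubgroup G ≤ generalizedFittingSubgroup G := le_sup_right

theorem component_le_genFitting {K : Subgroup G} (hK : IsComponent K) :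
    K ≤ generalizedFittingSubgroup G := (component_le_layer hK).trans layer_le_genFitting

theorem map_layer_le (e : G ≃* H) : (layer G).map e.toMonoidHom ≤ layer H := by
  rw [layer_def, sSup_eq_iSup, Subgroup.map_iSup]
  refine iSup_le fun K => ?_
  rw [Subgroup.map_iSup]
  refine iSup_le fun hK => ?_
  exact component_le_layer (isComponent_map_equiv e hK)

theorem map_layer (e : G ≃* H) : (layer G).map e.toMonoidHom = layer H := by
  apply le_antisymm (map_layer_le e)
  intro x hx
  refine ⟨e.symm x, map_layer_le e.symm ⟨x, hx, rfl⟩, by simp⟩

theorem map_genFitting (e : G ≃* H) :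
    (generalizedFittingSubgroup G).map e.toMonoidHom = generalizedFittingSubgroup H := by
  rw [genFitting_def, genFitting_def, Subgroup.map_sup, map_layer, map_equiv_fittingSubgroup]

theorem genFitting_characteristic : (generalizedFittingSubgroup G).Characteristic :=
  characteristic_iff_map_le.2 fun e => (map_genFitting e).le

theorem genFitting_normal : (generalizedFittingSubgroup G).Normal := by
  haveI := genFitting_characteristic (G := G)
  infer_instance

/-- (S1265) The generalized Fitting subgroup of a finite group contains its centralizer. -/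
theorem centralizer_genFitting_le [Finite G] :
    centralizer (generalizedFittingSubgroup G : Set G) ≤ generalizedFittingSubgroup G := by
  haveI := genFitting_normal (G := G)
  exact Cfsg.Agent.SignalizersComponents.CharP.le_genFitting_of_le_centralizer
    (C := centralizer (generalizedFittingSubgroup G : Set G))
    (Normal.isSubnormal inferInstance) le_rfl

/-- Transport of the layer along `D ≤ M`: `E(D)` computed inside `M` or inside `G`. -/
theorem layer_subgroupOf {D M : Subgroup G} (h : D ≤ M) :
    ((layer ↥(D.subgroupOf M)).map (D.subgroupOf M).subtype).map M.subtype =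
      (layer ↥D).map D.subtype := by
  rw [← map_layer (subgroupOfEquivOfLe h), Subgroup.map_map, Subgroup.map_map]
  rfl

theorem pCore_subgroupOf (p : ℕ) {D M : Subgroup G} (h : D ≤ M) :
    ((pCore p ↥(D.subgroupOf M)).map (D.subgroupOf M).subtype).map M.subtype =
      (pCore p ↥D).map D.subtype := by
  rw [← map_equiv_pCore (subgroupOfEquivOfLe h), Subgroup.map_map, Subgroup.map_map]
  rfl

/-- Components of `G` and of a subgroup `X` containing `F*(G)` agree. -/
theorem isComponent_iff_of_genFitting_le [Finite G] {X : Subgroup G}
    (hX : generalizedFittingSubgroup G ≤ X) (K : Subgroup G) :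
    IsComponent K ↔ K ≤ X ∧ IsComponent (K.subgroupOf X) := by
  constructor
  · intro hK
    have hKX : K ≤ X := (component_le_genFitting hK).trans hX
    exact ⟨hKX, isComponent_subgroupOf hKX hK⟩
  · rintro ⟨hKX, hK⟩
    by_contra hnot
    have hmapK : (K.subgroupOf X).map X.subtype = K := by
      rw [subgroupOf_map_subtype, inf_eq_left.2 hKX]
    -- K commutes with the components of G
    have h1 : layer G ≤ centralizer (K : Set G) := by
      refine sSup_le fun L hL => ?_
      have hLX : L ≤ X := (component_le_genFitting hL).trans hX
      have hL' : IsComponent (L.subgroupOf X) := isComponent_subgroupOf hLX hL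
      have hmapL : (L.subgroupOf X).map X.subtype = L := by
        rw [subgroupOf_map_subtype, inf_eq_left.2 hLX]
      have hne : L.subgroupOf X ≠ K.subgroupOf X := by
        intro h
        apply hnot
        rw [← hmapK, ← h, hmapL]
        exact hL
      have h2 := component_commutator_eq_bot_of_ne hL' hK hne
      rw [← commutator_eq_bot_iff_le_centralizer, ← hmapL]
      conv_lhs => rw [← hmapK]
      rw [← map_commutator, h2, Subgroup.map_bot]
    have h2 : fittingSubgroup G ≤ centralizer (K : Set G) := by
      have hFX : fittingSubgroup G ≤ X := fitting_le_genFitting.trans hX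
      have hmapF : ((fittingSubgroup G).subgroupOf X).map X.subtype = fittingSubgroup G := by
        rw [subgroupOf_map_subtype, inf_eq_left.2 hFX]
      haveI := fittingSubgroup_isNilpotent (G := G)
      haveI : Group.IsNilpotent ((fittingSubgroup G).subgroupOf X) :=
        (Group.isNilpotent_congr (subgroupOfEquivOfLe hFX)).2 inferInstance
      have hsol : Group.IsSolvable ((fittingSubgroup G).subgroupOf X) := inferInstance
      have h3 := commutator_component_solvable_eq_bot hK hsol
        (by rw [normalizer_eq_top]; exact le_top)
      rw [← commutator_eq_bot_iff_le_centralizer, ← hmapF, commutator_comm]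
      conv_lhs => rw [← hmapK]
      rw [← map_commutator, h3, Subgroup.map_bot]
    have h3 : generalizedFittingSubgroup G ≤ centralizer (K : Set G) := sup_le h1 h2
    have h4 : K ≤ centralizer (generalizedFittingSubgroup G : Set G) := by
      rwa [le_centralizer_iff]
    have h5 : K ≤ centralizer (K : Set G) :=
      (h4.trans centralizer_genFitting_le).trans h3
    have h6 : IsMulCommutative K := by
      rwa [le_centralizer_iff_isMulCommutative] at h5
    apply quasisimple_not_solvable hK.2
    have h7 : Group.IsSolvable K := open scoped IsMulCommutative in inferInstance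
    exact Group.isSolvable_of_isSolvable_injective
      (f := (subgroupOfEquivOfLe hKX).toMonoidHom) (subgroupOfEquivOfLe hKX).injective

/-- If `F*(G) ≤ X ≤ G` then `E(X) = E(G)`. -/
theorem layer_eq_of_genFitting_le [Finite G] {X : Subgroup G}
    (hX : generalizedFittingSubgroup G ≤ X) :
    (layer X).map X.subtype = layer G := by
  apply le_antisymm
  · rw [layer_def, sSup_eq_iSup, Subgroup.map_iSup]
    refine iSup_le fun K => ?_
    rw [Subgroup.map_iSup]
    refine iSup_le fun hK => ?_
    apply component_le_layer
    rw [isComponent_iff_of_genFitting_le hX]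
    refine ⟨map_subtype_le _, ?_⟩
    have : (K.map X.subtype).subgroupOf X = K := by
      rw [subgroupOf, comap_map_eq_self_of_injective X.subtype_injective]
    rw [this]
    exact hK
  · refine sSup_le fun L hL => ?_
    obtain ⟨hLX, hL'⟩ := (isComponent_iff_of_genFitting_le hX L).1 hL
    have hmapL : (L.subgroupOf X).map X.subtype = L := by
      rw [subgroupOf_map_subtype, inf_eq_left.2 hLX]
    rw [← hmapL]
    exact Subgroup.map_mono (component_le_layer hL')

/-- If `O_p(G) ≤ X ≤ G` then `O_p(G) ≤ O_p(X)`. -/
theorem pCore_le_of_le (p : ℕ) {X : Subgroup G} (hX : pCore p G ≤ X) :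
    pCore p G ≤ (pCore p X).map X.subtype := by
  have hmap : ((pCore p G).subgroupOf X).map X.subtype = pCore p G := by
    rw [subgroupOf_map_subtype, inf_eq_left.2 hX]
  conv_lhs => rw [← hmap]
  refine Subgroup.map_mono (le_pCore inferInstance ?_)
  exact (pCore_isPGroup p).comap_subtype

/-- A `p`-element of a nilpotent normal subgroup lies in `O_p(G)`. -/
theorem mem_pCore_of_mem_nilpotent_normal [Finite G] {p : ℕ} [Fact p.Prime] {N : Subgroup G}
    (hN : N.Normal) (hnil : Group.IsNilpotent N) {z : G} (hz : z ∈ N) {k : ℕ}
    (hk : z ^ p ^ k = 1) : z ∈ pCore p G := by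
  have hp : IsPGroup p (zpowers (⟨z, hz⟩ : N)) := by
    refine IsPGroup.of_card_dvd_pow (n := k) ?_
    rw [Nat.card_zpowers]
    apply orderOf_dvd_of_pow_eq_one
    apply Subtype.ext
    simpa using hk
  obtain ⟨P, hP⟩ := hp.exists_le_sylow
  haveI : P.Normal := inferInstance
  haveI : (P : Subgroup N).Characteristic := Sylow.characteristic_of_normal P inferInstance
  have h1 : (P : Subgroup N).map N.subtype ≤ pCore p G :=
    le_pCore inferInstance (P.isPGroup'.map _)
  exact h1 ⟨⟨z, hz⟩, hP (mem_zpowers _), rfl⟩

theorem mem_pCore_of_mem_fitting [Finite G] {p : ℕ} [Fact p.Prime] {z : G}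
    (hz : z ∈ fittingSubgroup G) {k : ℕ} (hk : z ^ p ^ k = 1) : z ∈ pCore p G :=
  mem_pCore_of_mem_nilpotent_normal fittingSubgroup_normal fittingSubgroup_isNilpotent hz hk

/-- A `q`-subgroup normal in a normal subgroup lies in `O_q(G)`. -/
theorem le_pCore_of_normal_in_normal {q : ℕ} {R X : Subgroup G} (hX : X.Normal) (hRX : R ≤ X)
    (hn : X ≤ normalizer (R : Set G)) (hR : IsPGroup q R) : R ≤ pCore q G := by
  have hmap : (R.subgroupOf X).map X.subtype = R := by
    rw [subgroupOf_map_subtype, inf_eq_left.2 hRX]
  have h1 : (R.subgroupOf X).Normal := normal_subgroupOf_of_le_normalizer hn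
  have h2 : R.subgroupOf X ≤ pCore q X := le_pCore h1 hR.comap_subtype
  have h3 := Subgroup.map_mono (f := X.subtype) h2
  rw [hmap, map_subtype_pCore q hX] at h3
  exact h3.trans inf_le_right

/-- If `E(G) = 1`, an element centralizing every `O_r(G)` centralizes `F(G)` and lies in `F(G)`. -/
theorem mem_fitting_of_layer_eq_bot [Finite G] (hl : layer G = ⊥) {x : G}
    (h : ∀ r : ℕ, r.Prime → ∀ y ∈ pCore r G, y * x = x * y) :
    x ∈ centralizer (fittingSubgroup G : Set G) ∧ x ∈ fittingSubgroup G := by
  have h1 : x ∈ centralizer (fittingSubgroup G : Set G) := by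
    have h2 : fittingSubgroup G ≤ centralizer {x} := by
      rw [fittingSubgroup_eq_iSup_pCore]
      refine iSup_le fun r => ?_
      intro y hy
      rw [mem_centralizer_singleton_iff]
      exact h r r.2 y hy
    rw [mem_centralizer_iff]
    intro y hy
    exact mem_centralizer_singleton_iff.1 (h2 hy)
  refine ⟨h1, ?_⟩
  have h3 : generalizedFittingSubgroup G = fittingSubgroup G := by
    rw [genFitting_def, hl, bot_sup_eq]
  have h4 := centralizer_genFitting_le (G := G)
  rw [h3] at h4
  exact h4 h1

end Cfsg.Agent.Lib.GenFitting
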