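import Mathlib

/-!
# The Alperin–Goldschmidt fusion theorem (centric form)

`gen_of_conj`: conjugation between subgroups of a Sylow `p`-subgroup `P` is generated by the
normalizers of `P` and of the subgroups `X < P` which are fully normalized, contain their
centralizer in `P` and whose automizer `N_G(X)/C_G(X)` is not a `p`-group.
-/

set_option autoImplicit false

namespace Cfsg.Agent.Lib.GoldschmidtFusion

open Subgroup

variable {G : Type*} [Group G]

/-! ### Conjugate subgroups -/

theorem mem_map_conj {A : Subgroup G} {g x : G} :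
    x ∈ A.map (MulAut.conj g).toMonoidHom ↔ g⁻¹ * x * g ∈ A := by
  constructor
  · rintro ⟨a, ha, rfl⟩
    simpa [mul_assoc] using ha
  · intro h
    exact ⟨g⁻¹ * x * g, h, by simp [mul_assoc]⟩

theorem conj_mem_map_conj {A : Subgroup G} {x : G} (hx : x ∈ A) (g : G) :
    g * x * g⁻¹ ∈ A.map (MulAut.conj g).toMonoidHom :=
  ⟨x, hx, by simp⟩

theorem map_conj_map_conj (A : Subgroup G) (g h : G) :
    (A.map (MulAut.conj g).toMonoidHom).map (MulAut.conj h).toMonoidHom =
      A.map (MulAut.conj (h * g)).toMonoidHom := by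
  ext x
  simp only [mem_map_conj]
  simp [mul_assoc]

theorem map_conj_one (A : Subgroup G) : A.map (MulAut.conj (1 : G)).toMonoidHom = A := by
  ext x; simp

theorem map_conj_mono {A B : Subgroup G} (h : A ≤ B) (g : G) :
    A.map (MulAut.conj g).toMonoidHom ≤ B.map (MulAut.conj g).toMonoidHom :=
  Subgroup.map_mono h

theorem card_map_conj (A : Subgroup G) (g : G) :
    Nat.card (A.map (MulAut.conj g).toMonoidHom : Subgroup G) = Nat.card A :=
  Nat.card_congr (A.equivMapOfInjective _ (MulAut.conj g).injective).symm.toEquiv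

theorem mem_normalizer_iff_map_conj {A : Subgroup G} {g : G} :
    g ∈ normalizer (A : Set G) ↔ A.map (MulAut.conj g).toMonoidHom = A :=
  mem_normalizer_iff_map_conj_eq

theorem map_conj_normalizer (A : Subgroup G) (g : G) :
    (normalizer (A : Set G)).map (MulAut.conj g).toMonoidHom =
      normalizer ((A.map (MulAut.conj g).toMonoidHom : Subgroup G) : Set G) :=
  map_equiv_normalizer_eq A (MulAut.conj g)

theorem mem_centralizer_map_conj {A : Subgroup G} {g c : G} :
    c ∈ centralizer ((A.map (MulAut.conj g).toMonoidHom : Subgroup G) : Set G) ↔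
      g⁻¹ * c * g ∈ centralizer (A : Set G) := by
  simp only [mem_centralizer_iff, SetLike.mem_coe]
  constructor
  · intro h a ha
    have := h (g * a * g⁻¹) (conj_mem_map_conj ha g)
    have h2 := congrArg (fun t => g⁻¹ * t * g) this
    simpa [mul_assoc] using h2
  · intro h x hx
    rw [mem_map_conj] at hx
    have := h _ hx
    have h2 := congrArg (fun t => g * t * g⁻¹) this
    simpa [mul_assoc] using h2

theorem map_conj_of_mem_centralizer {A : Subgroup G} {c : G} (hc : c ∈ centralizer (A : Set G)) :
    A.map (MulAut.conj c).toMonoidHom = A :=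
  mem_normalizer_iff_map_conj.1 (centralizer_le_normalizer _ hc)

theorem conj_eq_of_mem_centralizer {A : Subgroup G} {c a : G} (hc : c ∈ centralizer (A : Set G))
    (ha : a ∈ A) : c * a * c⁻¹ = a := by
  have := (mem_centralizer_iff.1 hc) a ha
  rw [← this]; group

theorem map_conj_le_of_le_normalizer {A : Subgroup G} {g : G} (hA : A.map (MulAut.conj g).toMonoidHom ≤ A)
    [Finite A] : A.map (MulAut.conj g).toMonoidHom = A :=
  Subgroup.eq_of_le_of_card_ge hA (by rw [card_map_conj])

/-! ### Relative Sylow theory -/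

section Sylow

variable [Finite G] {p : ℕ} [hp : Fact p.Prime]

/-- Sylow's theorem inside a subgroup `N`: containment version. -/
theorem exists_sylow_in {N D : Subgroup G} (hDN : D ≤ N) (hD : IsPGroup p D) :
    ∃ R : Subgroup G, D ≤ R ∧ R ≤ N ∧ IsPGroup p R ∧ ¬ p ∣ R.relIndex N := by
  have hD' : IsPGroup p (D.subgroupOf N) := hD.comap_of_injective N.subtype N.subtype_injective
  obtain ⟨Q, hQ⟩ := hD'.exists_le_sylow
  refine ⟨(Q : Subgroup N).map N.subtype, ?_, ?_, ?_, ?_⟩
  · intro x hx
    exact ⟨⟨x, hDN hx⟩, hQ (by simpa [mem_subgroupOf] using hx), rfl⟩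
  · rintro _ ⟨x, -, rfl⟩; exact x.2
  · exact Q.isPGroup'.map _
  · have : ((Q : Subgroup N).map N.subtype).relIndex N = (Q : Subgroup N).index := by
      rw [relIndex, subgroupOf, comap_map_eq_self_of_injective N.subtype_injective]
    rw [this]
    exact Q.not_dvd_index

/-- Sylow's theorem inside a subgroup `N`: conjugacy version. -/
theorem exists_conj_le_in {N R D : Subgroup G} (hR : IsPGroup p R)
    (hRi : ¬ p ∣ R.relIndex N) (hDN : D ≤ N) (hD : IsPGroup p D) :
    ∃ n ∈ N, D.map (MulAut.conj n).toMonoidHom ≤ R := by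
  have hD' : IsPGroup p (D.subgroupOf N) := hD.comap_of_injective N.subtype N.subtype_injective
  have hR' : IsPGroup p (R.subgroupOf N) := hR.comap_of_injective N.subtype N.subtype_injective
  obtain ⟨Q, hQ⟩ := hD'.exists_le_sylow
  let R₁ : Sylow p N := hR'.toSylow hRi
  obtain ⟨n, hn⟩ := MulAction.exists_smul_eq N Q R₁
  refine ⟨n, n.2, ?_⟩
  rintro _ ⟨d, hd, rfl⟩
  have h1 : (⟨d, hDN hd⟩ : N) ∈ (Q : Subgroup N) := hQ (by simpa [mem_subgroupOf] using hd)
  have h2 : n * ⟨d, hDN hd⟩ * n⁻¹ ∈ (R₁ : Subgroup N) := by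
    rw [← hn, Sylow.coe_subgroup_smul]
    have := Subgroup.smul_mem_pointwise_smul _ (MulAut.conj n) _ h1
    simpa using this
  have h3 : n * ⟨d, hDN hd⟩ * n⁻¹ ∈ R.subgroupOf N := h2
  simpa [mem_subgroupOf] using h3

/-- Every subgroup of `P` has a conjugate `B ≤ P` such that `N_P(B)` is Sylow in `N_G(B)`. -/
theorem exists_fullyNormalized (P : Sylow p G) {A : Subgroup G} (hA : A ≤ P) :
    ∃ k : G, A.map (MulAut.conj k).toMonoidHom ≤ P ∧
      ¬ p ∣ ((P : Subgroup G) ⊓ normalizer ((A.map (MulAut.conj k).toMonoidHom : Subgroup G) : Set G)).relIndex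
        (normalizer ((A.map (MulAut.conj k).toMonoidHom : Subgroup G) : Set G)) := by
  have hPG : IsPGroup p (P : Subgroup G) := P.isPGroup'
  obtain ⟨R, hAR, hRN, hR, hRi⟩ := exists_sylow_in (p := p)
    (N := normalizer (A : Set G)) (D := (P : Subgroup G) ⊓ normalizer (A : Set G)) inf_le_right
    (hPG.to_le inf_le_left)
  obtain ⟨Q, hQ⟩ := hR.exists_le_sylow
  obtain ⟨k, hk⟩ := MulAction.exists_smul_eq G Q P
  have hkR : R.map (MulAut.conj k).toMonoidHom ≤ (P : Subgroup G) := by
    rw [← hk, Sylow.coe_subgroup_smul]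
    rintro _ ⟨r, hr, rfl⟩
    exact Subgroup.smul_mem_pointwise_smul _ (MulAut.conj k) _ (hQ hr)
  have hAR' : A ≤ R := le_trans (le_inf hA le_normalizer) hAR
  refine ⟨k, le_trans (map_conj_mono hAR' k) hkR, ?_⟩
  rw [← map_conj_normalizer]
  intro hdvd
  apply hRi
  have h1 : R.map (MulAut.conj k).toMonoidHom ≤ (P : Subgroup G) ⊓
      (normalizer (A : Set G)).map (MulAut.conj k).toMonoidHom :=
    le_inf hkR (map_conj_mono hRN k)
  have h2 := relIndex_dvd_of_le_left ((normalizer (A : Set G)).map (MulAut.conj k).toMonoidHom) h1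
  have h3 : (R.map (MulAut.conj k).toMonoidHom).relIndex
      ((normalizer (A : Set G)).map (MulAut.conj k).toMonoidHom) = R.relIndex (normalizer (A : Set G)) :=
    relIndex_map_map_of_injective _ _ (MulAut.conj k).injective
  rw [h3] at h2
  exact hdvd.trans h2

theorem exists_extension (P : Sylow p G) {A B : Subgroup G} {k : G}
    (hk : A.map (MulAut.conj k).toMonoidHom = B)
    (hB : ¬ p ∣ ((P : Subgroup G) ⊓ normalizer (B : Set G)).relIndex (normalizer (B : Set G))) :
    ∃ h : G, A.map (MulAut.conj h).toMonoidHom = B ∧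
      ((P : Subgroup G) ⊓ normalizer (A : Set G)).map (MulAut.conj h).toMonoidHom ≤
        (P : Subgroup G) ⊓ normalizer (B : Set G) := by
  have hPG : IsPGroup p (P : Subgroup G) := P.isPGroup'
  have hD : IsPGroup p (((P : Subgroup G) ⊓ normalizer (A : Set G)).map (MulAut.conj k).toMonoidHom : Subgroup G) :=
    (hPG.to_le inf_le_left).map _
  have hDN : ((P : Subgroup G) ⊓ normalizer (A : Set G)).map (MulAut.conj k).toMonoidHom ≤
      normalizer (B : Set G) := by
    rw [← hk, ← map_conj_normalizer]
    exact map_conj_mono inf_le_right k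
  obtain ⟨n, hn, hnle⟩ := exists_conj_le_in (p := p) (hPG.to_le inf_le_left) hB hDN hD
  refine ⟨n * k, ?_, ?_⟩
  · rw [← map_conj_map_conj, hk]
    exact mem_normalizer_iff_map_conj.1 hn
  · rw [← map_conj_map_conj]; exact hnle

/-- Normalizers grow in `p`-groups. -/
theorem lt_inf_normalizer {P A : Subgroup G} (hP : IsPGroup p P) (hA : A < P) :
    A < P ⊓ normalizer (A : Set G) := by
  refine lt_of_le_of_ne (le_inf hA.le le_normalizer) ?_
  intro h
  have hnil : Group.IsNilpotent P := hP.isNilpotent
  have hlt : A.subgroupOf P < ⊤ := by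
    rw [lt_top_iff_ne_top]
    intro h'
    rw [subgroupOf_eq_top] at h'
    exact absurd h' (not_le_of_gt hA)
  have h1 := Group.normalizerCondition_of_isNilpotent (G := P) _ hlt
  apply h1.ne
  rw [← subgroupOf_normalizer_eq hA.le]
  nth_rewrite 1 [h]
  ext x
  simp [mem_subgroupOf]

end Sylow

/-! ### The fusion generated by a family of subgroups -/

/-- `Gen P F A g`: the map `a ↦ g a g⁻¹` on `A` is a composite of conjugations by elements of
centralizers and of normalizers of subgroups `X ≤ P` of the family `F`, all intermediate images of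
`A` being subgroups of `P`. -/
inductive Gen (P : Subgroup G) (F : Subgroup G → Prop) : Subgroup G → G → Prop
  | cent {A : Subgroup G} {c : G} : A ≤ P → c ∈ centralizer (A : Set G) → Gen P F A c
  | base {A X : Subgroup G} {g : G} : X ≤ P → F X → A ≤ X → g ∈ normalizer (X : Set G) → Gen P F A g
  | mul {A : Subgroup G} {g h : G} : Gen P F A g →
      Gen P F (A.map (MulAut.conj g).toMonoidHom) h → Gen P F A (h * g)

namespace Gen

variable {P : Subgroup G} {F : Subgroup G → Prop}

theorem le {A : Subgroup G} {g : G} (h : Gen P F A g) : A ≤ P := by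
  induction h with
  | cent hA _ => exact hA
  | base hX _ hAX _ => exact hAX.trans hX
  | mul _ _ ih _ => exact ih

theorem map_le {A : Subgroup G} {g : G} (h : Gen P F A g) :
    A.map (MulAut.conj g).toMonoidHom ≤ P := by
  induction h with
  | cent hA hc => rwa [map_conj_of_mem_centralizer hc]
  | base hX _ hAX hg =>
    refine le_trans (map_conj_mono hAX _) ?_
    rwa [mem_normalizer_iff_map_conj.1 hg]
  | mul _ _ _ ih => rwa [map_conj_map_conj] at ih

theorem mono {A : Subgroup G} {g : G} (h : Gen P F A g) : ∀ {B : Subgroup G}, B ≤ A → Gen P F B g := by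
  induction h with
  | cent hA hc =>
    intro B hB
    exact cent (hB.trans hA) (centralizer_le (by exact_mod_cast hB) hc)
  | base hX hF hAX hg =>
    intro B hB
    exact base hX hF (hB.trans hAX) hg
  | mul _ _ ih1 ih2 =>
    intro B hB
    exact mul (ih1 hB) (ih2 (map_conj_mono hB _))

theorem symm {A : Subgroup G} {g : G} (h : Gen P F A g) :
    Gen P F (A.map (MulAut.conj g).toMonoidHom) g⁻¹ := by
  induction h with
  | cent hA hc =>
    rw [map_conj_of_mem_centralizer hc]
    exact cent hA (inv_mem hc)
  | @base A X g hX hF hAX hg =>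
    refine base hX hF ?_ (inv_mem hg)
    have := map_conj_mono hAX g
    rwa [mem_normalizer_iff_map_conj.1 hg] at this
  | @mul A g h _ _ ih1 ih2 =>
    rw [mul_inv_rev]
    refine mul (by rwa [map_conj_map_conj] at ih2) ?_
    rw [map_conj_map_conj]
    simpa using ih1

end Gen

section Main

variable [Finite G] {p : ℕ} [hp : Fact p.Prime]

/-- If every `p'`-element of `N = N_G(B)` centralizes `B` and `N_P(B)` is Sylow in `N`, then
`N = N_P(B) C_G(B)`. -/
theorem exists_mul_of_pGroup_automizer (P : Sylow p G) {B : Subgroup G}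
    (hB : ¬ p ∣ ((P : Subgroup G) ⊓ normalizer (B : Set G)).relIndex (normalizer (B : Set G)))
    (hcop : ∀ g ∈ normalizer (B : Set G), Nat.Coprime (orderOf g) p → g ∈ centralizer (B : Set G))
    {n : G} (hn : n ∈ normalizer (B : Set G)) :
    ∃ s ∈ (P : Subgroup G) ⊓ normalizer (B : Set G), ∃ c ∈ centralizer (B : Set G), n = s * c := by
  set N := normalizer (B : Set G) with hN
  set C := centralizer (B : Set G) with hC
  have hCN : C ≤ N := centralizer_le_normalizer _
  have hnorm : (C.subgroupOf N).Normal := by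
    rw [normal_subgroupOf_iff_le_normalizer hCN, le_normalizer_iff]
    intro h hh k hk
    rw [hC, ← mem_normalizer_iff_map_conj.1 hh, mem_centralizer_map_conj]
    simpa [mul_assoc] using hk
  have hpg : IsPGroup p (N ⧸ C.subgroupOf N) := by
    intro x
    obtain ⟨y, rfl⟩ := QuotientGroup.mk_surjective x
    obtain ⟨k, m, hm, hkm⟩ := Nat.exists_eq_pow_mul_and_not_dvd (orderOf_pos (y : G)).ne' p hp.out.one_lt.ne'
    refine ⟨k, ?_⟩
    rw [← QuotientGroup.mk_pow, QuotientGroup.eq_one_iff, mem_subgroupOf]
    apply hcop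
    · exact (y ^ p ^ k).2
    · rw [Subgroup.coe_pow, orderOf_pow_of_dvd (pow_ne_zero _ hp.out.ne_zero) (by rw [hkm]; exact Dvd.intro _ rfl), hkm,
        Nat.mul_div_cancel_left _ (pow_pos hp.out.pos _)]
      exact ((Nat.Prime.coprime_iff_not_dvd hp.out).2 hm).symm
  have hKN : ((P : Subgroup G) ⊓ N) ⊔ C = N := by
    apply le_antisymm (sup_le inf_le_right hCN)
    rw [← relIndex_eq_one]
    obtain ⟨j, hj⟩ := (IsPGroup.iff_card.1 hpg)
    have h1 : (((P : Subgroup G) ⊓ N) ⊔ C).relIndex N ∣ p ^ j := by
      rw [← hj]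
      exact relIndex_dvd_of_le_left N le_sup_right
    have h2 : (((P : Subgroup G) ⊓ N) ⊔ C).relIndex N ∣ ((P : Subgroup G) ⊓ N).relIndex N :=
      relIndex_dvd_of_le_left N le_sup_left
    obtain ⟨i, -, hi⟩ := (Nat.dvd_prime_pow hp.out).1 h1
    rcases Nat.eq_zero_or_pos i with h0 | h0
    · rw [hi, h0, pow_zero]
    · exfalso
      apply hB
      refine dvd_trans ?_ h2
      rw [hi]
      exact dvd_pow_self p h0.ne'
  have hle : (P : Subgroup G) ⊓ N ≤ normalizer (C : Set G) := by
    refine le_trans inf_le_right ?_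
    rwa [← normal_subgroupOf_iff_le_normalizer hCN]
  have hmem : n ∈ (((((P : Subgroup G) ⊓ N) ⊔ C : Subgroup G)) : Set G) := by
    rw [hKN]; exact hn
  rw [coe_mul_of_left_le_normalizer_right _ _ hle] at hmem
  obtain ⟨s, hs, c, hc, rfl⟩ := Set.mem_mul.1 hmem
  exact ⟨s, hs, c, hc, rfl⟩

theorem relIndex_dvd_index_of_normal_right {N : Type*} [Group N] [Finite N] (Q C : Subgroup N) [C.Normal] :
    Q.relIndex C ∣ Q.index := by
  have key : ∀ A B : Subgroup N, A ≤ B → Nat.card A * A.relIndex B = Nat.card B := by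
    intro A B hAB
    have := card_mul_index (A.subgroupOf B)
    rwa [Nat.card_congr (subgroupOfEquivOfLe hAB).toEquiv] at this
  have h1 := key C (Q ⊔ C) le_sup_right
  rw [relIndex_sup_right] at h1
  have h2 := key (Q ⊓ C) Q inf_le_left
  rw [inf_relIndex_left] at h2
  have h3 := key (Q ⊓ C) C inf_le_right
  rw [inf_relIndex_right] at h3
  have h4 := key Q (Q ⊔ C) le_sup_left
  have h5 : Q.relIndex (Q ⊔ C) = Q.relIndex C := by
    have hpos : 0 < Nat.card Q := Nat.card_pos
    apply Nat.eq_of_mul_eq_mul_left hpos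
    rw [h4, ← h1, ← h3, ← h2]
    ring
  rw [← h5]
  exact relIndex_dvd_index_of_le le_sup_left

omit hp in
/-- If `N_P(B)` is Sylow in `N_G(B)` then `C_P(B)` is Sylow in `C_G(B)`. -/
theorem not_dvd_relIndex_centralizer (P : Sylow p G) {B : Subgroup G}
    (hB : ¬ p ∣ ((P : Subgroup G) ⊓ normalizer (B : Set G)).relIndex (normalizer (B : Set G))) :
    ¬ p ∣ (centralizer (B : Set G) ⊓ (P : Subgroup G)).relIndex (centralizer (B : Set G)) := by
  set N := normalizer (B : Set G) with hN
  set C := centralizer (B : Set G) with hC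
  have hCN : C ≤ N := centralizer_le_normalizer _
  have hnorm : (C.subgroupOf N).Normal := by
    rw [normal_subgroupOf_iff_le_normalizer hCN, le_normalizer_iff]
    intro h hh k hk
    rw [hC, ← mem_normalizer_iff_map_conj.1 hh, mem_centralizer_map_conj]
    simpa [mul_assoc] using hk
  have h1 : ((P : Subgroup G) ⊓ N).relIndex C ∣ ((P : Subgroup G) ⊓ N).relIndex N := by
    have e1 : ((P : Subgroup G) ⊓ N).relIndex C =
        (((P : Subgroup G) ⊓ N).subgroupOf N).relIndex (C.subgroupOf N) := by
      rw [relIndex_subgroupOf hCN]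
    have e2 : ((P : Subgroup G) ⊓ N).relIndex N = (((P : Subgroup G) ⊓ N).subgroupOf N).index := rfl
    rw [e1, e2]
    exact relIndex_dvd_index_of_normal_right _ _
  intro h
  apply hB
  refine dvd_trans ?_ h1
  have : (C ⊓ (P : Subgroup G)).relIndex C = ((P : Subgroup G) ⊓ N).relIndex C := by
    rw [← inf_relIndex_right ((P : Subgroup G) ⊓ N) C]
    congr 1
    ext x
    simp only [mem_inf]
    constructor
    · rintro ⟨a, b⟩; exact ⟨⟨b, hCN a⟩, a⟩
    · rintro ⟨⟨a, _⟩, b⟩; exact ⟨b, a⟩
  rw [← this]
  exact h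

/-- **Alperin–Goldschmidt fusion theorem** (weak, centric form). -/
theorem gen_of_conj (P : Sylow p G) (F : Subgroup G → Prop) (hP : F P)
    (hF : ∀ X : Subgroup G, X < P →
      ¬ p ∣ ((P : Subgroup G) ⊓ normalizer (X : Set G)).relIndex (normalizer (X : Set G)) →
      centralizer (X : Set G) ⊓ P ≤ X →
      (∃ g ∈ normalizer (X : Set G), Nat.Coprime (orderOf g) p ∧ g ∉ centralizer (X : Set G)) → F X)
    {A : Subgroup G} (hA : A ≤ P) {g : G} (hg : A.map (MulAut.conj g).toMonoidHom ≤ P) :
    Gen (P : Subgroup G) F A g := by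
  -- downward induction on the order of `A`
  have key : ∀ k : ℕ, ∀ A : Subgroup G, A ≤ P → Nat.card P ≤ Nat.card A + k → ∀ g : G,
      A.map (MulAut.conj g).toMonoidHom ≤ P → Gen (P : Subgroup G) F A g := by
    intro k
    induction k with
    | zero =>
      intro A hA hk g hg
      have hAP : A = P := Subgroup.eq_of_le_of_card_ge hA (by simpa using hk)
      rw [hAP] at hg
      have hgN : g ∈ normalizer ((P : Subgroup G) : Set G) :=
        mem_normalizer_iff_map_conj.2 (map_conj_le_of_le_normalizer hg)
      exact Gen.base le_rfl hP hA hgN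
    | succ k ih =>
      intro A hA hk g hg
      by_cases hAP : A = P
      · rw [hAP] at hg
        have hgN : g ∈ normalizer ((P : Subgroup G) : Set G) :=
          mem_normalizer_iff_map_conj.2 (map_conj_le_of_le_normalizer hg)
        exact Gen.base le_rfl hP hA hgN
      have hlt : A < P := lt_of_le_of_ne hA hAP
      -- everything larger than `A` is fine
      have big : ∀ D : Subgroup G, D ≤ P → Nat.card A < Nat.card D → ∀ g : G,
          D.map (MulAut.conj g).toMonoidHom ≤ P → Gen (P : Subgroup G) F D g := by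
        intro D hD hc g hg
        exact ih D hD (by omega) g hg
      -- any conjugate of `A` in `P`
      have ext : ∀ A' : Subgroup G, A' ≤ P → Nat.card A' = Nat.card A → ∀ (B : Subgroup G) (k : G),
          A'.map (MulAut.conj k).toMonoidHom = B →
          ¬ p ∣ ((P : Subgroup G) ⊓ normalizer (B : Set G)).relIndex (normalizer (B : Set G)) →
          ∃ h : G, A'.map (MulAut.conj h).toMonoidHom = B ∧ Gen (P : Subgroup G) F A' h := by
        intro A' hA' hcard B k hk hB
        obtain ⟨h, hh, hle⟩ := exists_extension P hk hB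
        refine ⟨h, hh, ?_⟩
        have hlt' : A' < P := by
          refine lt_of_le_of_ne hA' ?_
          rintro rfl
          exact hAP (Subgroup.eq_of_le_of_card_ge hA hcard.le)
        have h1 : A' < (P : Subgroup G) ⊓ normalizer (A' : Set G) :=
          lt_inf_normalizer P.isPGroup' hlt'
        have h2 : Nat.card A < Nat.card ((P : Subgroup G) ⊓ normalizer (A' : Set G) : Subgroup G) := by
          rw [← hcard]
          exact Set.Finite.card_lt_card (Set.toFinite _) h1
        exact (big _ inf_le_left h2 h (hle.trans inf_le_left)).mono h1.le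
      obtain ⟨k₁, hB, hBi⟩ := exists_fullyNormalized P hA
      set B := A.map (MulAut.conj k₁).toMonoidHom with hBdef
      obtain ⟨h₁, hh₁, hgen₁⟩ := ext A hA rfl B k₁ rfl hBi
      obtain ⟨h₂, hh₂, hgen₂⟩ := ext (A.map (MulAut.conj g).toMonoidHom) hg (card_map_conj A g) B
        (k₁ * g⁻¹) (by rw [map_conj_map_conj]; simp [hBdef]) hBi
      set n := h₂ * g * h₁⁻¹ with hn
      have hnN : n ∈ normalizer (B : Set G) := by
        rw [mem_normalizer_iff_map_conj]
        nth_rewrite 1 [← hh₁]
        rw [map_conj_map_conj, hn]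
        have : h₂ * g * h₁⁻¹ * h₁ = h₂ * g := by group
        rw [this, ← map_conj_map_conj, hh₂]
      have hcardB : Nat.card B = Nat.card A := card_map_conj A k₁
      -- main claim
      have main : Gen (P : Subgroup G) F B n := by
        by_cases hcent : centralizer (B : Set G) ⊓ P ≤ B
        · by_cases hcop : ∃ g ∈ normalizer (B : Set G), Nat.Coprime (orderOf g) p ∧
              g ∉ centralizer (B : Set G)
          · have hBlt : B < P := by
              refine lt_of_le_of_ne hB ?_
              intro h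
              apply hAP
              apply Subgroup.eq_of_le_of_card_ge hA
              rw [← hcardB, h]
            exact Gen.base hB (hF B hBlt hBi hcent hcop) le_rfl hnN
          · push Not at hcop
            obtain ⟨s, hs, c, hc, hsc⟩ := exists_mul_of_pGroup_automizer P hBi hcop hnN
            rw [hsc]
            refine Gen.mul (Gen.cent hB hc) ?_
            rw [map_conj_of_mem_centralizer hc]
            exact Gen.base le_rfl hP hB (le_normalizer hs.1)
        · -- `B` is not centric
          set T := centralizer (B : Set G) ⊓ (P : Subgroup G) with hT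
          have hTC : ¬ p ∣ T.relIndex (centralizer (B : Set G)) := not_dvd_relIndex_centralizer P hBi
          have hTp : IsPGroup p T := P.isPGroup'.to_le inf_le_right
          have hle : T.map (MulAut.conj n).toMonoidHom ≤ centralizer (B : Set G) := by
            rintro _ ⟨t, ht, rfl⟩
            have h1 : t ∈ centralizer (B : Set G) := ht.1
            have h2 : n * t * n⁻¹ ∈ centralizer (B : Set G) := by
              rw [← mem_normalizer_iff_map_conj.1 hnN, mem_centralizer_map_conj]
              simpa [mul_assoc] using h1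
            simpa using h2
          obtain ⟨c, hc, hcT⟩ := exists_conj_le_in (p := p) hTp hTC hle (hTp.map _)
          rw [map_conj_map_conj] at hcT
          have hcn : c * n ∈ normalizer (B : Set G) := mul_mem (centralizer_le_normalizer _ hc) hnN
          have hD : (B ⊔ T).map (MulAut.conj (c * n)).toMonoidHom ≤ P := by
            rw [Subgroup.map_sup, mem_normalizer_iff_map_conj.1 hcn]
            exact sup_le hB (hcT.trans inf_le_right)
          have hDcard : Nat.card A < Nat.card (B ⊔ T : Subgroup G) := by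
            rw [← hcardB]
            refine Set.Finite.card_lt_card (Set.toFinite _) ?_
            have : B < B ⊔ T := left_lt_sup.2 hcent
            exact this
          have h1 := (big (B ⊔ T) (sup_le hB inf_le_right) hDcard (c * n) hD).mono
            (le_sup_left : B ≤ B ⊔ T)
          have h2 : n = c⁻¹ * (c * n) := by group
          rw [h2]
          refine Gen.mul h1 ?_
          rw [mem_normalizer_iff_map_conj.1 hcn]
          exact Gen.cent hB (inv_mem hc)
      have hfin : g = h₂⁻¹ * (n * h₁) := by rw [hn]; group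
      rw [hfin]
      refine Gen.mul (Gen.mul hgen₁ (by rw [hh₁]; exact main)) ?_
      have h3 : A.map (MulAut.conj (n * h₁)).toMonoidHom = B := by
        rw [← map_conj_map_conj, hh₁]
        exact mem_normalizer_iff_map_conj.1 hnN
      rw [h3, ← hh₂]
      exact hgen₂.symm
  exact key (Nat.card P) A hA (Nat.le_add_left _ _) g hg

end Main

/-! ### Consequences -/

section Consequences

variable {P : Subgroup G} {F : Subgroup G → Prop}

/-- If a subgroup `M` contains the normalizers of all members of the family, then `M` controls the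
fusion generated by the family. -/
theorem Gen.exists_mul {M : Subgroup G}
    (hM : ∀ X : Subgroup G, X ≤ P → F X → normalizer (X : Set G) ≤ M)
    {A : Subgroup G} {g : G} (h : Gen P F A g) :
    ∃ n ∈ M, ∃ c ∈ centralizer (A : Set G), g = n * c := by
  induction h with
  | cent _ hc => exact ⟨1, one_mem _, _, hc, (one_mul _).symm⟩
  | base hX hF _ hg => exact ⟨_, hM _ hX hF hg, 1, one_mem _, (mul_one _).symm⟩
  | @mul A g h _ _ ih1 ih2 =>
    obtain ⟨n₁, hn₁, c₁, hc₁, hg⟩ := ih1
    obtain ⟨n₂, hn₂, c₂, hc₂, hh⟩ := ih2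
    rw [mem_centralizer_map_conj] at hc₂
    refine ⟨n₂ * n₁, mul_mem hn₂ hn₁, c₁ * (g⁻¹ * c₂ * g), mul_mem hc₁ hc₂, ?_⟩
    have e : n₂ * n₁ * (c₁ * (g⁻¹ * c₂ * g)) = n₂ * (n₁ * c₁) * g⁻¹ * c₂ * g := by group
    rw [e, ← hg, hh]
    group

/-- A function on `P` constant under the conjugation action of the normalizers of all members of the
family is constant on the classes of the fusion generated by the family. -/
theorem Gen.invariant {α : Sort*} (φ : G → α)
    (hφ : ∀ X : Subgroup G, X ≤ P → F X → ∀ g ∈ normalizer (X : Set G), ∀ x ∈ X,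
      φ (g * x * g⁻¹) = φ x)
    {A : Subgroup G} {g : G} (h : Gen P F A g) : ∀ a ∈ A, φ (g * a * g⁻¹) = φ a := by
  induction h with
  | cent _ hc => intro a ha; rw [conj_eq_of_mem_centralizer hc ha]
  | base hX hF hAX hg => intro a ha; exact hφ _ hX hF _ hg a (hAX ha)
  | @mul A g h _ _ ih1 ih2 =>
    intro a ha
    have e : h * g * a * (h * g)⁻¹ = h * (g * a * g⁻¹) * h⁻¹ := by group
    rw [e, ih2 _ (conj_mem_map_conj ha g), ih1 a ha]

/-- If a subgroup `Z` is normalized by the normalizers of all members of the family, then every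
conjugate of `Z` under the fusion generated by the family is `Z`. -/
theorem Gen.map_eq {Z : Subgroup G}
    (hZ : ∀ X : Subgroup G, X ≤ P → F X → normalizer (X : Set G) ≤ normalizer (Z : Set G))
    {g : G} (h : Gen P F Z g) : Z.map (MulAut.conj g).toMonoidHom = Z := by
  obtain ⟨n, hn, c, hc, rfl⟩ := h.exists_mul hZ
  rw [← map_conj_map_conj, map_conj_of_mem_centralizer hc]
  exact mem_normalizer_iff_map_conj.1 hn

theorem zpowers_map_conj_le {x g : G} (hx : g * x * g⁻¹ ∈ P) :
    (zpowers x).map (MulAut.conj g).toMonoidHom ≤ P := by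
  rw [MonoidHom.map_zpowers, zpowers_le]
  simpa using hx

end Consequences

section Controls

variable [Finite G] {p : ℕ} [hp : Fact p.Prime]

/-- If every centric fully normalized proper subgroup `X` of `P` has `N_G(X)/C_G(X)` a `p`-group, then
`N_G(P)` controls fusion in `P`. -/
theorem exists_normalizer_mul_of_no_essential (P : Sylow p G)
    (h : ∀ X : Subgroup G, X < P →
      ¬ p ∣ ((P : Subgroup G) ⊓ normalizer (X : Set G)).relIndex (normalizer (X : Set G)) →
      centralizer (X : Set G) ⊓ P ≤ X →
      ∀ g ∈ normalizer (X : Set G), Nat.Coprime (orderOf g) p → g ∈ centralizer (X : Set G))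
    {A : Subgroup G} (hA : A ≤ P) {g : G} (hg : A.map (MulAut.conj g).toMonoidHom ≤ P) :
    ∃ n ∈ normalizer ((P : Subgroup G) : Set G), ∃ c ∈ centralizer (A : Set G), g = n * c := by
  have hgen := gen_of_conj P (fun X => X = P) rfl (fun X hX h1 h2 ⟨g, hg, h3, h4⟩ =>
    absurd (h X hX h1 h2 g hg h3) h4) hA hg
  exact hgen.exists_mul (fun X _ hX => by rw [hX])

/-- Same, when moreover every `p'`-element of `N_G(P)` centralizes `P`: then `P` controls its own
fusion. -/
theorem exists_mem_mul_of_no_essential (P : Sylow p G)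
    (h : ∀ X : Subgroup G, X ≤ P →
      ¬ p ∣ ((P : Subgroup G) ⊓ normalizer (X : Set G)).relIndex (normalizer (X : Set G)) →
      centralizer (X : Set G) ⊓ P ≤ X →
      ∀ g ∈ normalizer (X : Set G), Nat.Coprime (orderOf g) p → g ∈ centralizer (X : Set G))
    {A : Subgroup G} (hA : A ≤ P) {g : G} (hg : A.map (MulAut.conj g).toMonoidHom ≤ P) :
    ∃ s ∈ (P : Subgroup G), ∃ c ∈ centralizer (A : Set G), g = s * c := by
  obtain ⟨n, hn, c, hc, rfl⟩ :=
    exists_normalizer_mul_of_no_essential P (fun X hX => h X hX.le) hA hg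
  have hPi : ¬ p ∣ ((P : Subgroup G) ⊓ normalizer ((P : Subgroup G) : Set G)).relIndex
      (normalizer ((P : Subgroup G) : Set G)) := by
    rw [inf_eq_left.2 le_normalizer]
    intro hd
    exact P.not_dvd_index (hd.trans (relIndex_dvd_index_of_le le_normalizer))
  have hPc : centralizer ((P : Subgroup G) : Set G) ⊓ P ≤ P := inf_le_right
  obtain ⟨s, hs, d, hd, rfl⟩ := exists_mul_of_pGroup_automizer P hPi (h P le_rfl hPi hPc) hn
  refine ⟨s, hs.1, d * c, mul_mem (centralizer_le (by exact_mod_cast hA) hd) hc, by group⟩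

end Controls

end Cfsg.Agent.Lib.GoldschmidtFusion
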