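import Mathlib

/-!
Automorphisms of `SL(2,F)` and of its central quotients, `F` a finite field.
-/

set_option autoImplicit false

namespace Cfsg.Agent.Lib.SL2Mat

open Matrix

section basics

variable {F : Type*} [Field F]

/-- entries -/
def ent (x : Matrix.SpecialLinearGroup (Fin 2) F) (i j : Fin 2) : F := x.1 i j

theorem ext_ent {x y : Matrix.SpecialLinearGroup (Fin 2) F} (h00 : ent x 0 0 = ent y 0 0)
    (h01 : ent x 0 1 = ent y 0 1) (h10 : ent x 1 0 = ent y 1 0) (h11 : ent x 1 1 = ent y 1 1) : x = y := by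
  refine Matrix.SpecialLinearGroup.ext _ _ fun i j => ?_
  fin_cases i <;> fin_cases j
  exacts [h00, h01, h10, h11]

theorem ent_mul (x y : Matrix.SpecialLinearGroup (Fin 2) F) (i j : Fin 2) :
    ent (x * y) i j = ent x i 0 * ent y 0 j + ent x i 1 * ent y 1 j := by
  change (x.1 * y.1) i j = _
  rw [Matrix.mul_apply, Fin.sum_univ_two]; rfl

@[simp] theorem ent_one_00 : ent (1 : Matrix.SpecialLinearGroup (Fin 2) F) 0 0 = 1 := rfl
@[simp] theorem ent_one_01 : ent (1 : Matrix.SpecialLinearGroup (Fin 2) F) 0 1 = 0 := rfl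
@[simp] theorem ent_one_10 : ent (1 : Matrix.SpecialLinearGroup (Fin 2) F) 1 0 = 0 := rfl
@[simp] theorem ent_one_11 : ent (1 : Matrix.SpecialLinearGroup (Fin 2) F) 1 1 = 1 := rfl

theorem det_eq (x : Matrix.SpecialLinearGroup (Fin 2) F) :
    ent x 0 0 * ent x 1 1 - ent x 0 1 * ent x 1 0 = 1 := by
  have := x.2
  rwa [det_fin_two] at this

/-- element of `SL(2,F)` from entries -/
def mk (a b c d : F) (h : a * d - b * c = 1) : Matrix.SpecialLinearGroup (Fin 2) F :=
  ⟨!![a, b; c, d], by rw [det_fin_two_of]; exact h⟩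

@[simp] theorem mk_00 (a b c d : F) (h : a * d - b * c = 1) : ent (mk a b c d h) 0 0 = a := rfl
@[simp] theorem mk_01 (a b c d : F) (h : a * d - b * c = 1) : ent (mk a b c d h) 0 1 = b := rfl
@[simp] theorem mk_10 (a b c d : F) (h : a * d - b * c = 1) : ent (mk a b c d h) 1 0 = c := rfl
@[simp] theorem mk_11 (a b c d : F) (h : a * d - b * c = 1) : ent (mk a b c d h) 1 1 = d := rfl

theorem mk_ent (x : Matrix.SpecialLinearGroup (Fin 2) F) :
    mk (ent x 0 0) (ent x 0 1) (ent x 1 0) (ent x 1 1) (det_eq x) = x :=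
  ext_ent rfl rfl rfl rfl

theorem ent_inv (x : Matrix.SpecialLinearGroup (Fin 2) F) :
    x⁻¹ = mk (ent x 1 1) (- ent x 0 1) (- ent x 1 0) (ent x 0 0) (by linear_combination det_eq x) := by
  refine inv_eq_of_mul_eq_one_right (ext_ent ?_ ?_ ?_ ?_)
  all_goals rw [ent_mul]
  · rw [mk_00, mk_10, ent_one_00]; linear_combination det_eq x
  · rw [mk_01, mk_11, ent_one_01]; ring
  · rw [mk_00, mk_10, ent_one_10]; ring
  · rw [mk_01, mk_11, ent_one_11]; linear_combination det_eq x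

/-- upper unitriangular matrix -/
def up (b : F) : Matrix.SpecialLinearGroup (Fin 2) F := mk 1 b 0 1 (by ring)

/-- lower unitriangular matrix -/
def lo (b : F) : Matrix.SpecialLinearGroup (Fin 2) F := mk 1 0 b 1 (by ring)

/-- the matrix with rows `0 b` and `-b⁻¹ 0` -/
def wm (b : F) (hb : b ≠ 0) : Matrix.SpecialLinearGroup (Fin 2) F :=
  mk 0 b (-b⁻¹) 0 (by field_simp; ring)

/-- diagonal matrix -/
def dg (b : F) (hb : b ≠ 0) : Matrix.SpecialLinearGroup (Fin 2) F :=
  mk b 0 0 b⁻¹ (by field_simp; ring)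

@[simp] theorem up_00 (b : F) : ent (up b) 0 0 = 1 := rfl
@[simp] theorem up_01 (b : F) : ent (up b) 0 1 = b := rfl
@[simp] theorem up_10 (b : F) : ent (up b) 1 0 = 0 := rfl
@[simp] theorem up_11 (b : F) : ent (up b) 1 1 = 1 := rfl
@[simp] theorem lo_00 (b : F) : ent (lo b) 0 0 = 1 := rfl
@[simp] theorem lo_01 (b : F) : ent (lo b) 0 1 = 0 := rfl
@[simp] theorem lo_10 (b : F) : ent (lo b) 1 0 = b := rfl
@[simp] theorem lo_11 (b : F) : ent (lo b) 1 1 = 1 := rfl
@[simp] theorem wm_00 (b : F) (hb : b ≠ 0) : ent (wm b hb) 0 0 = 0 := rfl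
@[simp] theorem wm_01 (b : F) (hb : b ≠ 0) : ent (wm b hb) 0 1 = b := rfl
@[simp] theorem wm_10 (b : F) (hb : b ≠ 0) : ent (wm b hb) 1 0 = -b⁻¹ := rfl
@[simp] theorem wm_11 (b : F) (hb : b ≠ 0) : ent (wm b hb) 1 1 = 0 := rfl
@[simp] theorem dg_00 (b : F) (hb : b ≠ 0) : ent (dg b hb) 0 0 = b := rfl
@[simp] theorem dg_01 (b : F) (hb : b ≠ 0) : ent (dg b hb) 0 1 = 0 := rfl
@[simp] theorem dg_10 (b : F) (hb : b ≠ 0) : ent (dg b hb) 1 0 = 0 := rfl
@[simp] theorem dg_11 (b : F) (hb : b ≠ 0) : ent (dg b hb) 1 1 = b⁻¹ := rfl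

theorem up_mul (b c : F) : up b * up c = up (b + c) := by
  refine ext_ent ?_ ?_ ?_ ?_ <;> simp [ent_mul, add_comm]

theorem lo_mul (b c : F) : lo b * lo c = lo (b + c) := by
  refine ext_ent ?_ ?_ ?_ ?_ <;> simp [ent_mul, add_comm]

theorem up_zero : up (0 : F) = 1 := by
  refine ext_ent ?_ ?_ ?_ ?_ <;> simp

theorem lo_zero : lo (0 : F) = 1 := by
  refine ext_ent ?_ ?_ ?_ ?_ <;> simp

theorem up_inj {b c : F} (h : up b = up c) : b = c := by
  rw [← up_01 b, h, up_01]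

theorem lo_inj {b c : F} (h : lo b = lo c) : b = c := by
  rw [← lo_10 b, h, lo_10]

theorem up_inv (b : F) : (up b)⁻¹ = up (-b) :=
  inv_eq_of_mul_eq_one_right (by rw [up_mul, add_neg_cancel, up_zero])

theorem lo_inv (b : F) : (lo b)⁻¹ = lo (-b) :=
  inv_eq_of_mul_eq_one_right (by rw [lo_mul, add_neg_cancel, lo_zero])

/-- every element with nonzero lower left entry is `up * lo * up` -/
theorem eq_up_lo_up (x : Matrix.SpecialLinearGroup (Fin 2) F) (hc : ent x 1 0 ≠ 0) :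
    x = up ((ent x 0 0 - 1) / ent x 1 0) * lo (ent x 1 0) * up ((ent x 1 1 - 1) / ent x 1 0) := by
  have hd := det_eq x
  generalize hu : up ((ent x 0 0 - 1) / ent x 1 0) * lo (ent x 1 0) * up ((ent x 1 1 - 1) / ent x 1 0) = y
  refine ext_ent ?_ ?_ ?_ ?_ <;> rw [← hu] <;>
    simp only [ent_mul, up_00, up_01, up_10, up_11, lo_00, lo_01, lo_10, lo_11] <;> field_simp
  · ring
  · linear_combination -hd
  · ring
  · ring

theorem exists_up_lo (x : Matrix.SpecialLinearGroup (Fin 2) F) :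
    ∃ a b c d : F, x = up a * lo b * up c * lo d := by
  by_cases hc : ent x 1 0 = 0
  · have hd := det_eq x
    have h11 : ent x 1 1 ≠ 0 := by
      intro h; rw [hc, h] at hd; simp at hd
    have hy : ent (x * lo 1) 1 0 ≠ 0 := by
      rw [ent_mul, lo_00, lo_10, hc, zero_mul, zero_add, mul_one]; exact h11
    have := eq_up_lo_up (x * lo 1) hy
    exact ⟨((ent (x * lo 1) 0 0 - 1) / ent (x * lo 1) 1 0), (ent (x * lo 1) 1 0),
      ((ent (x * lo 1) 1 1 - 1) / ent (x * lo 1) 1 0), -1, by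
        rw [← this, mul_assoc, lo_mul]; simp [lo_zero]⟩
  · exact ⟨(ent x 0 0 - 1) / ent x 1 0, ent x 1 0, (ent x 1 1 - 1) / ent x 1 0, 0, by
      rw [lo_zero, mul_one]; exact eq_up_lo_up x hc⟩

theorem hom_ext {G : Type*} [Group G] (f g : Matrix.SpecialLinearGroup (Fin 2) F →* G)
    (hu : ∀ b, f (up b) = g (up b)) (hl : ∀ b, f (lo b) = g (lo b)) : f = g := by
  ext x
  obtain ⟨a, b, c, d, rfl⟩ := exists_up_lo x
  simp only [map_mul, hu, hl]

theorem wm_eq (b : F) (hb : b ≠ 0) : wm b hb = lo (-b⁻¹) * up b * lo (-b⁻¹) := by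
  refine ext_ent ?_ ?_ ?_ ?_ <;> simp [ent_mul, hb]

theorem wm_eq_dg_mul (b c : F) (hb : b ≠ 0) (hc : c ≠ 0) :
    wm b hb = dg (b / c) (div_ne_zero hb hc) * wm c hc := by
  refine ext_ent ?_ ?_ ?_ ?_ <;> simp [ent_mul, hc]
  field_simp

theorem dg_up (b c : F) (hb : b ≠ 0) : dg b hb * up c = up (b ^ 2 * c) * dg b hb := by
  refine ext_ent ?_ ?_ ?_ ?_ <;> simp [ent_mul]
  field_simp

theorem wm_up (b c : F) (hb : b ≠ 0) : wm b hb * up c = lo (-(c / b ^ 2)) * wm b hb := by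
  refine ext_ent ?_ ?_ ?_ ?_ <;> simp [ent_mul]
  field_simp

theorem wm_lo (b c : F) (hb : b ≠ 0) : wm b hb * lo c = up (-(c * b ^ 2)) * wm b hb := by
  refine ext_ent ?_ ?_ ?_ ?_ <;> simp [ent_mul]
  field_simp

theorem mem_center_offdiag {x : Matrix.SpecialLinearGroup (Fin 2) F}
    (hx : x ∈ Subgroup.center (Matrix.SpecialLinearGroup (Fin 2) F)) :
    ent x 0 1 = 0 ∧ ent x 1 0 = 0 := by
  have h1 := (Subgroup.mem_center_iff.1 hx) (up 1)
  have h2 := (Subgroup.mem_center_iff.1 hx) (lo 1)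
  have e1 := congrArg (fun y => ent y 0 0) h1
  have e2 := congrArg (fun y => ent y 0 0) h2
  simp only [ent_mul, up_00, up_01, up_10, lo_00, lo_01, lo_10] at e1 e2
  constructor
  · linear_combination -e2
  · linear_combination e1

/-- conjugation of `SL(2,F)` by an element of `GL(2,F)`, as a function -/
def conjFun (g : GL (Fin 2) F) (x : Matrix.SpecialLinearGroup (Fin 2) F) : Matrix.SpecialLinearGroup (Fin 2) F :=
  ⟨g.1 * x.1 * g⁻¹.1, by
    rw [Matrix.det_mul, Matrix.det_mul, x.2, mul_one, ← Matrix.det_mul, ← Units.val_mul, mul_inv_cancel,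
      Units.val_one, Matrix.det_one]⟩

theorem conjFun_val (g : GL (Fin 2) F) (x : Matrix.SpecialLinearGroup (Fin 2) F) :
    (conjFun g x).1 = g.1 * x.1 * g⁻¹.1 := rfl

theorem inv_val_mul_val (g : GL (Fin 2) F) : g⁻¹.1 * g.1 = 1 := by
  rw [← Units.val_mul, inv_mul_cancel, Units.val_one]

theorem conjFun_mul (g : GL (Fin 2) F) (x y : Matrix.SpecialLinearGroup (Fin 2) F) :
    conjFun g (x * y) = conjFun g x * conjFun g y := by
  apply Subtype.ext
  change g.1 * (x.1 * y.1) * g⁻¹.1 = (g.1 * x.1 * g⁻¹.1) * (g.1 * y.1 * g⁻¹.1)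
  calc g.1 * (x.1 * y.1) * g⁻¹.1 = g.1 * x.1 * 1 * y.1 * g⁻¹.1 := by
            simp only [Matrix.mul_assoc, Matrix.mul_one, Matrix.one_mul]
      _ = _ := by rw [← inv_val_mul_val g]; simp only [Matrix.mul_assoc]

theorem conjFun_comp (g h : GL (Fin 2) F) (x : Matrix.SpecialLinearGroup (Fin 2) F) :
    conjFun (g * h) x = conjFun g (conjFun h x) := by
  apply Subtype.ext
  change (g * h).1 * x.1 * (g * h)⁻¹.1 = g.1 * (h.1 * x.1 * h⁻¹.1) * g⁻¹.1
  rw [_root_.mul_inv_rev, Units.val_mul, Units.val_mul]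
  simp only [Matrix.mul_assoc]

theorem conjFun_one (x : Matrix.SpecialLinearGroup (Fin 2) F) : conjFun 1 x = x := by
  apply Subtype.ext
  change (1 : GL (Fin 2) F).1 * x.1 * (1 : GL (Fin 2) F)⁻¹.1 = x.1
  rw [inv_one, Units.val_one, Matrix.one_mul, Matrix.mul_one]

/-- conjugation of `SL(2,F)` by an element of `GL(2,F)`: homomorphism to the automorphism group -/
def conjGL : GL (Fin 2) F →* MulAut (Matrix.SpecialLinearGroup (Fin 2) F) where
  toFun g :=
    { toFun := conjFun g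
      invFun := conjFun g⁻¹
      left_inv := fun x => by rw [← conjFun_comp, inv_mul_cancel, conjFun_one]
      right_inv := fun x => by rw [← conjFun_comp, mul_inv_cancel, conjFun_one]
      map_mul' := conjFun_mul g }
  map_one' := by ext1 x; exact conjFun_one x
  map_mul' g h := by ext1 x; exact conjFun_comp g h x

theorem conjGL_val (g : GL (Fin 2) F) (x : Matrix.SpecialLinearGroup (Fin 2) F) :
    (conjGL g x).1 = g.1 * x.1 * g⁻¹.1 := rfl

/-- `SL → GL` conjugation is inner -/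
theorem conjGL_toGL (s x : Matrix.SpecialLinearGroup (Fin 2) F) :
    conjGL (Matrix.SpecialLinearGroup.toGL s) x = s * x * s⁻¹ := by
  apply Subtype.ext
  rw [conjGL_val, ← map_inv]
  rfl

/-- the action of a field automorphism on `SL(2,F)` -/
def fieldAut : (F ≃+* F) →* MulAut (Matrix.SpecialLinearGroup (Fin 2) F) where
  toFun σ :=
    { toFun := fun x => Matrix.SpecialLinearGroup.map σ.toRingHom x
      invFun := fun x => Matrix.SpecialLinearGroup.map σ.symm.toRingHom x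
      left_inv := fun x => by
        refine Matrix.SpecialLinearGroup.ext _ _ fun i j => ?_
        exact σ.symm_apply_apply (x.1 i j)
      right_inv := fun x => by
        refine Matrix.SpecialLinearGroup.ext _ _ fun i j => ?_
        exact σ.apply_symm_apply (x.1 i j)
      map_mul' := fun x y => map_mul _ x y }
  map_one' := rfl
  map_mul' _ _ := rfl

@[simp] theorem fieldAut_ent (σ : F ≃+* F) (x : Matrix.SpecialLinearGroup (Fin 2) F) (i j : Fin 2) :
    ent (fieldAut σ x) i j = σ (ent x i j) := rfl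

theorem fieldAut_up (σ : F ≃+* F) (b : F) : fieldAut σ (up b) = up (σ b) := by
  refine ext_ent ?_ ?_ ?_ ?_ <;> simp

theorem fieldAut_lo (σ : F ≃+* F) (b : F) : fieldAut σ (lo b) = lo (σ b) := by
  refine ext_ent ?_ ?_ ?_ ?_ <;> simp

/-- the diagonal matrix `diag(a,1)` in `GL(2,F)` -/
def dgl (a : F) (ha : a ≠ 0) : GL (Fin 2) F where
  val := !![a, 0; 0, 1]
  inv := !![a⁻¹, 0; 0, 1]
  val_inv := by ext i j; fin_cases i <;> fin_cases j <;> simp [Matrix.mul_apply, Fin.sum_univ_two, ha]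
  inv_val := by ext i j; fin_cases i <;> fin_cases j <;> simp [Matrix.mul_apply, Fin.sum_univ_two, ha]

theorem conjGL_dgl_ent (a : F) (ha : a ≠ 0) (x : Matrix.SpecialLinearGroup (Fin 2) F) :
    conjGL (dgl a ha) x = mk (ent x 0 0) (a * ent x 0 1) (ent x 1 0 / a) (ent x 1 1)
      (by have := det_eq x; field_simp; exact this) := by
  apply Subtype.ext
  change !![a, 0; 0, 1] * x.1 * !![a⁻¹, 0; 0, 1] = !![ent x 0 0, a * ent x 0 1; ent x 1 0 / a, ent x 1 1]
  ext i j
  rw [Matrix.mul_apply, Fin.sum_univ_two, Matrix.mul_apply, Matrix.mul_apply, Fin.sum_univ_two, Fin.sum_univ_two]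
  fin_cases i <;> fin_cases j <;> simp [ent]
  · field_simp
  · rw [div_eq_mul_inv]

theorem conjGL_dgl_up (a : F) (ha : a ≠ 0) (b : F) : conjGL (dgl a ha) (up b) = up (a * b) := by
  rw [conjGL_dgl_ent]
  refine ext_ent ?_ ?_ ?_ ?_ <;> simp

theorem conjGL_dgl_lo (a : F) (ha : a ≠ 0) (b : F) : conjGL (dgl a ha) (lo b) = lo (b / a) := by
  rw [conjGL_dgl_ent]
  refine ext_ent ?_ ?_ ?_ ?_ <;> simp

end basics

end Cfsg.Agent.Lib.SL2Mat
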