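import Mathlib

/-!
A finite `p`-group acting on a nonzero additive group killed by `p` (for instance a nonzero vector
space over a field of characteristic `p`, of any dimension) fixes a nonzero vector.
-/

set_option autoImplicit false

namespace Cfsg.Agent.Lib.PGroupFixedVector

/-- A finitely generated additive commutative group killed by `p` is finite. -/
theorem finite_closure_of_nsmul_eq_zero {A : Type*} [AddCommGroup A] {p : ℕ} (hp : p.Prime)
    (hA : ∀ a : A, p • a = 0) (s : Set A) (hs : s.Finite) : Finite (AddSubgroup.closure s) := by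
  have hfg : AddGroup.FG (AddSubgroup.closure s) := by
    haveI : Finite s := hs
    infer_instance
  refine AddCommGroup.finite_of_fg_isAddTorsion _ ?_
  intro a
  rw [isOfFinAddOrder_iff_nsmul_eq_zero]
  refine ⟨p, hp.pos, ?_⟩
  ext
  simpa using hA (a : A)

/-- A finite `p`-group acting on an additive commutative group killed by `p` fixes a nonzero vector
in every invariant subgroup containing a given nonzero vector. -/
theorem exists_mem_ne_zero_fixed {P A : Type*} [Group P] [Finite P] [AddCommGroup A]
    [DistribMulAction P A] {p : ℕ} [hp : Fact p.Prime] (hP : IsPGroup p P)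
    (hA : ∀ a : A, p • a = 0) (B : AddSubgroup A) (hB : ∀ (g : P) (b : A), b ∈ B → g • b ∈ B)
    {v : A} (hv : v ∈ B) (hv0 : v ≠ 0) : ∃ w ∈ B, w ≠ 0 ∧ ∀ g : P, g • w = w := by
  classical
  set s : Set A := MulAction.orbit P v with hs
  have hsfin : s.Finite := Set.finite_range _
  set C : AddSubgroup A := AddSubgroup.closure s with hC
  have hCfin : Finite C := finite_closure_of_nsmul_eq_zero hp.out hA s hsfin
  have hCB : C ≤ B := by
    rw [hC, AddSubgroup.closure_le]
    rintro _ ⟨g, rfl⟩
    exact hB g v hv
  have hCinv : ∀ (g : P) (a : A), a ∈ C → g • a ∈ C := by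
    intro g a ha
    induction ha using AddSubgroup.closure_induction with
    | mem x hx =>
      obtain ⟨h, rfl⟩ := hx
      exact AddSubgroup.subset_closure ⟨g * h, by simp [mul_smul]⟩
    | zero => simp
    | add x y _ _ hx hy => rw [smul_add]; exact C.add_mem hx hy
    | neg x _ hx => rw [smul_neg]; exact C.neg_mem hx
  letI act : MulAction P C :=
    { smul := fun g a => ⟨g • (a : A), hCinv g a a.2⟩
      one_smul := fun a => Subtype.ext (one_smul P (a : A))
      mul_smul := fun g h a => Subtype.ext (mul_smul g h (a : A)) }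
  have hsm : ∀ (g : P) (a : C), ((g • a : C) : A) = g • (a : A) := fun g a => rfl
  have hvC : v ∈ C := AddSubgroup.subset_closure (MulAction.mem_orbit_self v)
  have hpdvd : p ∣ Nat.card C := by
    have h1 : addOrderOf (⟨v, hvC⟩ : C) = p := by
      refine addOrderOf_eq_prime ?_ ?_
      · ext; simpa using hA v
      · intro h; exact hv0 (congrArg Subtype.val h)
    rw [← h1]
    exact addOrderOf_dvd_natCard _
  have h0 : (0 : C) ∈ MulAction.fixedPoints P C := by
    intro g
    ext
    rw [hsm]
    simp
  obtain ⟨b, hb, hb0⟩ := hP.exists_fixed_point_of_prime_dvd_card_of_fixed_point C hpdvd h0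
  refine ⟨b, hCB b.2, ?_, ?_⟩
  · intro h
    apply hb0
    ext
    simp [h]
  · intro g
    have := hb g
    rw [← hsm, this]

/-- A finite `p`-group acting on a nonzero additive commutative group killed by `p` fixes a nonzero
element. -/
theorem exists_ne_zero_fixed {P A : Type*} [Group P] [Finite P] [AddCommGroup A] [Nontrivial A]
    [DistribMulAction P A] {p : ℕ} [Fact p.Prime] (hP : IsPGroup p P)
    (hA : ∀ a : A, p • a = 0) : ∃ w : A, w ≠ 0 ∧ ∀ g : P, g • w = w := by
  obtain ⟨v, hv⟩ := exists_ne (0 : A)
  obtain ⟨w, -, hw⟩ := exists_mem_ne_zero_fixed hP hA ⊤ (fun _ _ _ => trivial)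
    (AddSubgroup.mem_top v) hv
  exact ⟨w, hw⟩

/-- Representation version, with a submodule: a finite `p`-group of operators of a vector space in
characteristic `p` fixes a nonzero vector of every nonzero invariant subspace. -/
theorem exists_mem_ne_zero_fixed_rep {K P V : Type*} [Field K] [Group P] [Finite P]
    [AddCommGroup V] [Module K V] {p : ℕ} [Fact p.Prime] [CharP K p] (hP : IsPGroup p P)
    (ρ : Representation K P V) (W : Submodule K V) (hW : ∀ g : P, ∀ v ∈ W, ρ g v ∈ W)
    (hW0 : W ≠ ⊥) : ∃ v ∈ W, v ≠ 0 ∧ ∀ g : P, ρ g v = v := by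
  obtain ⟨v, hv, hv0⟩ := (Submodule.ne_bot_iff W).1 hW0
  letI act : DistribMulAction P V :=
    { smul := fun g v => ρ g v
      one_smul := fun v => by change ρ 1 v = v; simp
      mul_smul := fun g h v => by change ρ (g * h) v = ρ g (ρ h v); simp
      smul_zero := fun g => by change ρ g 0 = 0; simp
      smul_add := fun g v w => by change ρ g (v + w) = ρ g v + ρ g w; simp }
  have hA : ∀ a : V, p • a = 0 := by
    intro a
    rw [← Nat.cast_smul_eq_nsmul K p a, CharP.cast_eq_zero, zero_smul]
  exact exists_mem_ne_zero_fixed hP hA W.toAddSubgroup (fun g b hb => hW g b hb) hv hv0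

/-- Representation version: a finite `p`-group of operators of a nonzero vector space in
characteristic `p` fixes a nonzero vector. -/
theorem exists_ne_zero_fixed_rep {K P V : Type*} [Field K] [Group P] [Finite P]
    [AddCommGroup V] [Module K V] [Nontrivial V] {p : ℕ} [Fact p.Prime] [CharP K p]
    (hP : IsPGroup p P) (ρ : Representation K P V) : ∃ v : V, v ≠ 0 ∧ ∀ g : P, ρ g v = v := by
  obtain ⟨w, -, hw⟩ := exists_mem_ne_zero_fixed_rep hP ρ ⊤ (fun _ _ _ => trivial) top_ne_bot
  exact ⟨w, hw⟩

end Cfsg.Agent.Lib.PGroupFixedVector
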