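import Mathlib

/-!
# Homomorphisms from `SL₂(K)` given by rank-one relations

Let `K` be a field and `G` a group with `x : K → G`, `h : K → G` (used on non-zero elements only) and `w : G`
such that `x (s + t) = x s * x t`, `h (a * b) = h a * h b`, `h a * x t = x (a ^ 2 * t) * h a`,
`w * h a = h a⁻¹ * w`, `w * w = h (-1)` and `w * x t * w = x (-t⁻¹) * w * h (-t) * x (-t⁻¹)` (for `t ≠ 0`).
Then there is a homomorphism `SL₂(K) →* G` with upper unitriangular `t ↦ x t`, `diag (a, a⁻¹) ↦ h a`,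
`!![0, 1; -1, 0] ↦ w`.
-/

set_option autoImplicit false

namespace Cfsg.Agent.Lib.SL2Hom

open Matrix

variable {K : Type*} [Field K]

/-- upper unitriangular element -/
def up (t : K) : SpecialLinearGroup (Fin 2) K := ⟨!![1, t; 0, 1], by simp [Matrix.det_fin_two]⟩

/-- lower unitriangular element -/
def lo (t : K) : SpecialLinearGroup (Fin 2) K := ⟨!![1, 0; t, 1], by simp [Matrix.det_fin_two]⟩

/-- diagonal element -/
def dg (a : K) (ha : a ≠ 0) : SpecialLinearGroup (Fin 2) K :=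
  ⟨!![a, 0; 0, a⁻¹], by simp [Matrix.det_fin_two, ha]⟩

variable (K) in
/-- the Weyl element -/
def wl : SpecialLinearGroup (Fin 2) K := ⟨!![0, 1; -1, 0], by simp [Matrix.det_fin_two]⟩

theorem det_eq (A : SpecialLinearGroup (Fin 2) K) : A.1 0 0 * A.1 1 1 - A.1 0 1 * A.1 1 0 = 1 := by
  have := A.2
  rwa [Matrix.det_fin_two] at this

theorem eq_of_lower_eq_zero (A : SpecialLinearGroup (Fin 2) K) (h : A.1 1 0 = 0) (h0 : A.1 0 0 ≠ 0) :
    A = up (A.1 0 0 * A.1 0 1) * dg (A.1 0 0) h0 := by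
  have hd := det_eq A
  rw [h, mul_zero, sub_zero] at hd
  have h1 : A.1 1 1 = (A.1 0 0)⁻¹ := by
    field_simp
    linear_combination hd
  ext i j
  change A.1 i j = ((up (A.1 0 0 * A.1 0 1)).1 * (dg (A.1 0 0) h0).1) i j
  fin_cases i <;> fin_cases j <;> simp [up, dg, Matrix.mul_apply, Fin.sum_univ_two, h, h1]
  field_simp

theorem eq_of_lower_ne_zero (A : SpecialLinearGroup (Fin 2) K) (h : -(A.1 1 0) ≠ 0) :
    A = up (A.1 0 0 / A.1 1 0) * wl K * dg (-(A.1 1 0)) h * up (A.1 1 1 / A.1 1 0) := by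
  have hd := det_eq A
  have h' : A.1 1 0 ≠ 0 := by simpa using h
  ext i j
  change A.1 i j = ((up (A.1 0 0 / A.1 1 0)).1 * (wl K).1 * (dg (-(A.1 1 0)) h).1 *
    (up (A.1 1 1 / A.1 1 0)).1) i j
  fin_cases i <;> fin_cases j <;> simp [up, dg, wl, Matrix.mul_apply, Fin.sum_univ_two]
  · field_simp
  · field_simp
    linear_combination -hd
  · field_simp

variable {G : Type*} [Group G]

/-- The rank-one relations. -/
structure Rel (x h : K → G) (w : G) : Prop where
  add : ∀ s t, x (s + t) = x s * x t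
  mul : ∀ a b, a ≠ 0 → b ≠ 0 → h (a * b) = h a * h b
  hx : ∀ a t, a ≠ 0 → h a * x t = x (a ^ 2 * t) * h a
  wh : ∀ a, a ≠ 0 → w * h a = h a⁻¹ * w
  ww : w * w = h (-1)
  rel : ∀ t, t ≠ 0 → w * x t * w = x (-t⁻¹) * w * h (-t) * x (-t⁻¹)

namespace Rel

variable {x h : K → G} {w : G} (H : Rel x h w)

include H

theorem x_zero : x 0 = 1 := by
  have := H.add 0 0
  rw [add_zero] at this
  exact left_eq_mul.mp this

theorem h_one : h 1 = 1 := by
  have := H.mul 1 1 one_ne_zero one_ne_zero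
  rw [mul_one] at this
  exact left_eq_mul.mp this

end Rel

open Classical in
/-- the normal form function -/
noncomputable def fn (x h : K → G) (w : G) (A : SpecialLinearGroup (Fin 2) K) : G :=
  if A.1 1 0 = 0 then x (A.1 0 0 * A.1 0 1) * h (A.1 0 0)
  else x (A.1 0 0 / A.1 1 0) * w * h (-(A.1 1 0)) * x (A.1 1 1 / A.1 1 0)

theorem fn_of_eq {x h : K → G} {w : G} {A : SpecialLinearGroup (Fin 2) K} (hA : A.1 1 0 = 0) :
    fn x h w A = x (A.1 0 0 * A.1 0 1) * h (A.1 0 0) := by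
  rw [fn, if_pos hA]

theorem fn_of_ne {x h : K → G} {w : G} {A : SpecialLinearGroup (Fin 2) K} (hA : A.1 1 0 ≠ 0) :
    fn x h w A = x (A.1 0 0 / A.1 1 0) * w * h (-(A.1 1 0)) * x (A.1 1 1 / A.1 1 0) := by
  rw [fn, if_neg hA]

section mulgen

variable {x h : K → G} {w : G} (H : Rel x h w)

include H

theorem fn_up (t : K) : fn x h w (up t) = x t := by
  rw [fn_of_eq (by simp [up])]
  simp [up, H.h_one]

theorem fn_dg (a : K) (ha : a ≠ 0) : fn x h w (dg a ha) = h a := by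
  rw [fn_of_eq (by simp [dg])]
  simp [dg, H.x_zero]

theorem fn_wl : fn x h w (wl K) = w := by
  rw [fn_of_ne (by simp [wl])]
  simp [wl, H.x_zero, H.h_one]

theorem fn_mul_up (A : SpecialLinearGroup (Fin 2) K) (t : K) :
    fn x h w (A * up t) = fn x h w A * x t := by
  have e00 : (A * up t).1 0 0 = A.1 0 0 := by
    change (A.1 * (up t).1) 0 0 = _
    simp [up, Matrix.mul_apply, Fin.sum_univ_two]
  have e01 : (A * up t).1 0 1 = A.1 0 0 * t + A.1 0 1 := by
    change (A.1 * (up t).1) 0 1 = _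
    simp [up, Matrix.mul_apply, Fin.sum_univ_two]
  have e10 : (A * up t).1 1 0 = A.1 1 0 := by
    change (A.1 * (up t).1) 1 0 = _
    simp [up, Matrix.mul_apply, Fin.sum_univ_two]
  have e11 : (A * up t).1 1 1 = A.1 1 0 * t + A.1 1 1 := by
    change (A.1 * (up t).1) 1 1 = _
    simp [up, Matrix.mul_apply, Fin.sum_univ_two]
  by_cases hc : A.1 1 0 = 0
  · have ha : A.1 0 0 ≠ 0 := by
      intro h0
      have := det_eq A
      rw [hc, h0] at this
      simp at this
    rw [fn_of_eq (by rw [e10, hc]), fn_of_eq hc, e00, e01, mul_assoc, H.hx _ _ ha, ← mul_assoc,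
      ← H.add]
    congr 2
    ring
  · rw [fn_of_ne (by rwa [e10]), fn_of_ne hc, e00, e10, e11, mul_assoc _ (x _) (x t), ← H.add]
    congr 2
    field_simp
    ring

theorem fn_mul_dg (A : SpecialLinearGroup (Fin 2) K) (k : K) (hk : k ≠ 0) :
    fn x h w (A * dg k hk) = fn x h w A * h k := by
  have e00 : (A * dg k hk).1 0 0 = A.1 0 0 * k := by
    change (A.1 * (dg k hk).1) 0 0 = _
    simp [dg, Matrix.mul_apply, Fin.sum_univ_two]
  have e01 : (A * dg k hk).1 0 1 = A.1 0 1 * k⁻¹ := by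
    change (A.1 * (dg k hk).1) 0 1 = _
    simp [dg, Matrix.mul_apply, Fin.sum_univ_two]
  have e10 : (A * dg k hk).1 1 0 = A.1 1 0 * k := by
    change (A.1 * (dg k hk).1) 1 0 = _
    simp [dg, Matrix.mul_apply, Fin.sum_univ_two]
  have e11 : (A * dg k hk).1 1 1 = A.1 1 1 * k⁻¹ := by
    change (A.1 * (dg k hk).1) 1 1 = _
    simp [dg, Matrix.mul_apply, Fin.sum_univ_two]
  by_cases hc : A.1 1 0 = 0
  · have ha : A.1 0 0 ≠ 0 := by
      intro h0
      have := det_eq A
      rw [hc, h0] at this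
      simp at this
    rw [fn_of_eq (by rw [e10, hc, zero_mul]), fn_of_eq hc, e00, e01, mul_assoc (x _) (h _) (h k),
      ← H.mul _ _ ha hk]
    congr 2
    field_simp
  · have hc' : -(A.1 1 0) ≠ 0 := neg_ne_zero.mpr hc
    rw [fn_of_ne (by rw [e10]; exact mul_ne_zero hc hk), fn_of_ne hc, e00, e10, e11,
      show A.1 1 1 / A.1 1 0 = k ^ 2 * (A.1 1 1 * k⁻¹ / (A.1 1 0 * k)) by field_simp,
      mul_assoc _ (x _) (h k), ← H.hx _ _ hk, ← mul_assoc, mul_assoc _ _ (h k), ← H.mul _ _ hc' hk]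
    congr 3
    · congr 1
      field_simp
    · ring

theorem fn_mul_wl (A : SpecialLinearGroup (Fin 2) K) :
    fn x h w (A * wl K) = fn x h w A * w := by
  have e00 : (A * wl K).1 0 0 = -A.1 0 1 := by
    change (A.1 * (wl K).1) 0 0 = _
    simp [wl, Matrix.mul_apply, Fin.sum_univ_two]
  have e01 : (A * wl K).1 0 1 = A.1 0 0 := by
    change (A.1 * (wl K).1) 0 1 = _
    simp [wl, Matrix.mul_apply, Fin.sum_univ_two]
  have e10 : (A * wl K).1 1 0 = -A.1 1 1 := by
    change (A.1 * (wl K).1) 1 0 = _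
    simp [wl, Matrix.mul_apply, Fin.sum_univ_two]
  have e11 : (A * wl K).1 1 1 = A.1 1 0 := by
    change (A.1 * (wl K).1) 1 1 = _
    simp [wl, Matrix.mul_apply, Fin.sum_univ_two]
  have hdet := det_eq A
  by_cases hc : A.1 1 0 = 0
  · rw [hc, mul_zero, sub_zero] at hdet
    have ha : A.1 0 0 ≠ 0 := by
      intro h0
      rw [h0] at hdet
      simp at hdet
    have hd : A.1 1 1 ≠ 0 := by
      intro h0
      rw [h0] at hdet
      simp at hdet
    have hda : A.1 1 1 = (A.1 0 0)⁻¹ := by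
      field_simp
      linear_combination hdet
    rw [fn_of_ne (by rw [e10]; exact neg_ne_zero.mpr hd), fn_of_eq hc, e00, e10, e11, hc,
      neg_neg, zero_div, H.x_zero, mul_one, hda, mul_assoc _ w, H.wh _ (inv_ne_zero ha), inv_inv,
      ← mul_assoc]
    congr 2
    congr 1
    field_simp
  · by_cases hd : A.1 1 1 = 0
    · rw [hd, mul_zero, zero_sub] at hdet
      have hb : A.1 0 1 ≠ 0 := by
        intro h0
        rw [h0] at hdet
        simp at hdet
      have hbc : -A.1 0 1 = (A.1 1 0)⁻¹ := by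
        field_simp
        linear_combination hdet
      have hc' : -(A.1 1 0) ≠ 0 := neg_ne_zero.mpr hc
      rw [fn_of_eq (by rw [e10, hd, neg_zero]), fn_of_ne hc, e00, e01, hd, zero_div, H.x_zero,
        mul_one, hbc, mul_assoc _ (h _) w, mul_assoc _ w,
        show h (-(A.1 1 0)) * w = w * h (-(A.1 1 0))⁻¹ by
          rw [H.wh _ (inv_ne_zero hc'), inv_inv], ← mul_assoc w, H.ww,
        ← H.mul _ _ (neg_ne_zero.mpr one_ne_zero) (inv_ne_zero hc')]
      congr 2
      · field_simp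
      · field_simp
    · have hc' : -(A.1 1 0) ≠ 0 := neg_ne_zero.mpr hc
      have hdc : A.1 1 1 / A.1 1 0 ≠ 0 := div_ne_zero hd hc
      rw [fn_of_ne (by rw [e10]; exact neg_ne_zero.mpr hd), fn_of_ne hc, e00, e10, e11]
      have key : x (A.1 0 0 / A.1 1 0) * w * h (-(A.1 1 0)) * x (A.1 1 1 / A.1 1 0) * w =
          x (A.1 0 0 / A.1 1 0) * (h (-(A.1 1 0))⁻¹ * (w * x (A.1 1 1 / A.1 1 0) * w)) := by
        rw [mul_assoc _ w (h _), H.wh _ hc']
        simp only [mul_assoc]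
      rw [key, H.rel _ hdc]
      have key2 : h (-(A.1 1 0))⁻¹ * (x (-(A.1 1 1 / A.1 1 0)⁻¹) * w * h (-(A.1 1 1 / A.1 1 0)) *
          x (-(A.1 1 1 / A.1 1 0)⁻¹)) =
          x (((-(A.1 1 0))⁻¹) ^ 2 * (-(A.1 1 1 / A.1 1 0)⁻¹)) * (w * (h (-(A.1 1 0)) *
            h (-(A.1 1 1 / A.1 1 0)))) * x (-(A.1 1 1 / A.1 1 0)⁻¹) := by
        rw [← mul_assoc, ← mul_assoc, ← mul_assoc, H.hx _ _ (inv_ne_zero hc'),
          mul_assoc _ (h _) w, show h (-(A.1 1 0))⁻¹ * w = w * h (-(A.1 1 0)) by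
          rw [H.wh _ hc']]
        simp only [mul_assoc]
      rw [key2, ← H.mul _ _ hc' (neg_ne_zero.mpr hdc), ← mul_assoc, ← mul_assoc, ← mul_assoc,
        ← H.add, neg_neg]
      have e1 : (-(A.1 0 1)) / (-(A.1 1 1)) = A.1 0 0 / A.1 1 0 +
          ((-(A.1 1 0))⁻¹) ^ 2 * (-(A.1 1 1 / A.1 1 0)⁻¹) := by
        field_simp
        linear_combination -hdet
      have e2 : A.1 1 1 = -(A.1 1 0) * (-(A.1 1 1 / A.1 1 0)) := by
        field_simp
      have e3 : A.1 1 0 / (-(A.1 1 1)) = -(A.1 1 1 / A.1 1 0)⁻¹ := by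
        rw [inv_div, div_neg]
      rw [← e1, ← e2, e3]

end mulgen

/-- The homomorphism `SL₂(K) →* G` defined by rank-one relations. -/
noncomputable def hom {x h : K → G} {w : G} (H : Rel x h w) : SpecialLinearGroup (Fin 2) K →* G where
  toFun := fn x h w
  map_one' := by
    rw [fn_of_eq (by simp)]
    simp [H.x_zero, H.h_one]
  map_mul' := by
    intro A B
    by_cases hc : B.1 1 0 = 0
    · have ha : B.1 0 0 ≠ 0 := by
        intro h0
        have := det_eq B
        rw [hc, h0] at this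
        simp at this
      rw [eq_of_lower_eq_zero B hc ha]
      rw [← mul_assoc, fn_mul_dg H, fn_mul_up H, fn_mul_dg H, fn_up H, mul_assoc]
    · have hc' : -(B.1 1 0) ≠ 0 := neg_ne_zero.mpr hc
      rw [eq_of_lower_ne_zero B hc']
      simp only [← mul_assoc]
      rw [fn_mul_up H, fn_mul_dg H, fn_mul_wl H, fn_mul_up H, fn_mul_up H, fn_mul_dg H, fn_mul_wl H,
        fn_up H]
      simp only [mul_assoc]

section apply

variable {x h : K → G} {w : G} (H : Rel x h w)

theorem hom_up (t : K) : hom H (up t) = x t := fn_up H t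

theorem hom_dg (a : K) (ha : a ≠ 0) : hom H (dg a ha) = h a := fn_dg H a ha

theorem hom_wl : hom H (wl K) = w := fn_wl H

theorem hom_of_eq {A : SpecialLinearGroup (Fin 2) K} (hA : A.1 1 0 = 0) :
    hom H A = x (A.1 0 0 * A.1 0 1) * h (A.1 0 0) := fn_of_eq hA

theorem hom_of_ne {A : SpecialLinearGroup (Fin 2) K} (hA : A.1 1 0 ≠ 0) :
    hom H A = x (A.1 0 0 / A.1 1 0) * w * h (-(A.1 1 0)) * x (A.1 1 1 / A.1 1 0) := fn_of_ne hA

theorem lo_eq (t : K) : lo t = wl K * up (-t) * (wl K)⁻¹ := by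
  rw [eq_mul_inv_iff_mul_eq]
  ext i j
  change ((lo t).1 * (wl K).1) i j = ((wl K).1 * (up (-t)).1) i j
  fin_cases i <;> fin_cases j <;> simp [lo, wl, up, Matrix.mul_apply, Fin.sum_univ_two]

theorem hom_lo (t : K) : hom H (lo t) = w * x (-t) * w⁻¹ := by
  rw [lo_eq, map_mul, map_mul, map_inv, hom_wl, hom_up]

/-- Everything in the image is `x s * h a` or `x s * w * h a * x t`. -/
theorem hom_cases (A : SpecialLinearGroup (Fin 2) K) :
    (A.1 1 0 = 0 ∧ A.1 0 0 ≠ 0 ∧ hom H A = x (A.1 0 0 * A.1 0 1) * h (A.1 0 0)) ∨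
    (A.1 1 0 ≠ 0 ∧
      hom H A = x (A.1 0 0 / A.1 1 0) * w * h (-(A.1 1 0)) * x (A.1 1 1 / A.1 1 0)) := by
  by_cases hc : A.1 1 0 = 0
  · refine Or.inl ⟨hc, ?_, hom_of_eq H hc⟩
    intro h0
    have := det_eq A
    rw [hc, h0] at this
    simp at this
  · exact Or.inr ⟨hc, hom_of_ne H hc⟩

theorem mem_range_x (t : K) : x t ∈ (hom H).range := ⟨up t, hom_up H t⟩

theorem mem_range_h (a : K) (ha : a ≠ 0) : h a ∈ (hom H).range := ⟨dg a ha, hom_dg H a ha⟩

theorem mem_range_w : w ∈ (hom H).range := ⟨wl K, hom_wl H⟩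

/-- The kernel is central (`= {±1}`) if `x s * h a = 1` only for `s = 0`, `a ^ 2 = 1`, and
`x s * w * h a * x t ≠ 1`. -/
theorem ker_le_center (h1 : ∀ s a, a ≠ 0 → x s * h a = 1 → s = 0 ∧ a ^ 2 = 1)
    (h2 : ∀ s a t, a ≠ 0 → x s * w * h a * x t ≠ 1) (A : SpecialLinearGroup (Fin 2) K)
    (hA : hom H A = 1) : A ∈ Subgroup.center (SpecialLinearGroup (Fin 2) K) := by
  rcases hom_cases H A with ⟨hc, ha, he⟩ | ⟨hc, he⟩
  · rw [he] at hA
    obtain ⟨hs, ha2⟩ := h1 _ _ ha hA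
    have hb : A.1 0 1 = 0 := by
      rcases mul_eq_zero.mp hs with h | h
      · exact absurd h ha
      · exact h
    have hd : A.1 1 1 = A.1 0 0 := by
      have := det_eq A
      rw [hb, zero_mul, sub_zero] at this
      have h3 : A.1 0 0 * (A.1 1 1 - A.1 0 0) = 0 := by
        linear_combination this - ha2
      rcases mul_eq_zero.mp h3 with h | h
      · exact absurd h ha
      · exact sub_eq_zero.mp h
    rw [Matrix.SpecialLinearGroup.mem_center_iff]
    refine ⟨A.1 0 0, by simpa using ha2, ?_⟩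
    ext i j
    fin_cases i <;> fin_cases j <;> simp [hb, hc, hd]
  · rw [he] at hA
    exact absurd hA (h2 _ _ _ (neg_ne_zero.mpr hc))

end apply

end Cfsg.Agent.Lib.SL2Hom
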