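import Mathlib
import Cfsg.Agent.TwoFusion.IndexTwo
import Cfsg.Agent.OddOrderCharacters.ClassSum

/-!
# Groups with an involution whose centralizer has a Sylow 2-subgroup of order 2

* `exists_odd_index_two`: if `t` is an involution and `4 ∤ |C(t)|` then the elements of odd order form a
  (normal) subgroup of index two;
* `card_dvd_sub_of_free`: a group of automorphisms acting freely on `X ∖ V`.
-/

set_option autoImplicit false

namespace Cfsg.Agent.Lib.InvolutionKernel

/-- A finite group with an involution `t` such that `4` does not divide `|C(t)|` has a normal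
subgroup of odd order and index two, the set of the elements of odd order. -/
theorem exists_odd_index_two {X : Type*} [Group X] [Finite X] {t : X} (ht : t * t = 1)
    (ht1 : t ≠ 1) (hC : ¬ 4 ∣ Nat.card (Subgroup.centralizer ({t} : Set X))) :
    ∃ K : Subgroup X, K.Normal ∧ Odd (Nat.card K) ∧ K.index = 2 ∧
      ∀ x, x ∈ K ↔ Odd (orderOf x) := by
  classical
  have : Fact (Nat.Prime 2) := ⟨Nat.prime_two⟩
  have hord : orderOf t = 2 := orderOf_eq_prime (by rw [sq]; exact ht) ht1
  have hpt : IsPGroup 2 (Subgroup.zpowers t) := by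
    refine IsPGroup.of_card (n := 1) ?_
    rw [Nat.card_zpowers, hord, pow_one]
  obtain ⟨S, hS⟩ := hpt.exists_le_sylow
  have htS : t ∈ (S : Subgroup X) := hS (Subgroup.mem_zpowers t)
  -- the centralizer of `t` in `S`
  set D : Subgroup X := (S : Subgroup X) ⊓ Subgroup.centralizer ({t} : Set X) with hD
  have htD : t ∈ D := ⟨htS, Subgroup.mem_centralizer_singleton_iff.2 rfl⟩
  have hDle : Subgroup.zpowers t ≤ D := by rwa [Subgroup.zpowers_le]
  have hDp : IsPGroup 2 D := S.isPGroup'.to_le inf_le_left
  have hD2 : Nat.card D = 2 := by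
    obtain ⟨n, hn⟩ := IsPGroup.iff_card.1 hDp
    have h1 : Nat.card D ∣ Nat.card (Subgroup.centralizer ({t} : Set X)) :=
      Subgroup.card_dvd_of_le inf_le_right
    have h2 : 2 ∣ Nat.card D := by
      have h3 := Subgroup.card_dvd_of_le hDle
      rwa [Nat.card_zpowers, hord] at h3
    have h3 : n < 2 := by
      by_contra hcon
      push Not at hcon
      apply hC
      refine dvd_trans ?_ h1
      rw [hn]
      exact pow_dvd_pow 2 hcon
    interval_cases n
    · rw [hn] at h2; norm_num at h2
    · rw [hn]; norm_num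
  have hDz : ∀ x ∈ D, x = 1 ∨ x = t := by
    have h1 : Subgroup.zpowers t = D :=
      Subgroup.eq_of_le_of_card_ge hDle (by rw [hD2, Nat.card_zpowers, hord])
    intro x hx
    rw [← h1] at hx
    obtain ⟨k, hk⟩ := Subgroup.mem_zpowers_iff.1 hx
    rcases Int.even_or_odd' k with ⟨l, rfl | rfl⟩
    · left
      rw [← hk, zpow_mul, zpow_ofNat, sq, ht, one_zpow]
    · right
      rw [← hk, zpow_add, zpow_mul, zpow_ofNat, sq, ht, one_zpow, one_mul, zpow_one]
  -- `t` is central in `S`
  have hScard : Nat.card S = 2 := by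
    have hnt : Nontrivial S := ⟨⟨⟨t, htS⟩, 1, fun h => ht1 (congrArg Subtype.val h)⟩⟩
    have hcn := S.isPGroup'.center_nontrivial
    obtain ⟨⟨c, hc⟩, hc1⟩ := exists_ne (1 : Subgroup.center S)
    have hc1' : (c : X) ≠ 1 := by
      intro h
      exact hc1 (Subtype.ext (Subtype.ext h))
    have hcD : (c : X) ∈ D := by
      refine ⟨c.2, Subgroup.mem_centralizer_singleton_iff.2 ?_⟩
      have h1 := Subgroup.mem_center_iff.1 hc ⟨t, htS⟩
      exact (congrArg Subtype.val h1).symm
    have hct : (c : X) = t := (hDz c hcD).resolve_left hc1'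
    have h2 : (S : Subgroup X) ≤ D := by
      intro x hx
      refine ⟨hx, Subgroup.mem_centralizer_singleton_iff.2 ?_⟩
      rw [← hct]
      exact congrArg Subtype.val (Subgroup.mem_center_iff.1 hc ⟨x, hx⟩)
    have h3 : (S : Subgroup X) = D := le_antisymm h2 inf_le_left
    have h4 : Nat.card (S : Subgroup X) = 2 := by rw [h3, hD2]
    exact h4
  have hSodd : Odd (S : Subgroup X).index := TwoFusion.IndexTwo.odd_index_sylow S
  obtain ⟨K, hK⟩ := TwoFusion.IndexTwo.exists_index_two (S : Subgroup X) hSodd ⊥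
    (by rw [Subgroup.index_bot]; exact hScard) ⟨t, htS⟩
    (by
      rw [Subgroup.mem_bot]
      exact fun h => ht1 (congrArg Subtype.val h))
    (by
      intro k g₀ h
      rw [Subgroup.mem_bot, Subgroup.mem_bot]
      constructor
      · intro h1
        have h2 : g₀⁻¹ * t ^ k * g₀ = 1 := congrArg Subtype.val h1
        refine Subtype.ext ?_
        show t ^ k = 1
        have h3 : t ^ k = g₀ * (g₀⁻¹ * t ^ k * g₀) * g₀⁻¹ := by group
        rw [h3, h2]
        group
      · intro h1
        have h2 : t ^ k = 1 := congrArg Subtype.val h1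
        refine Subtype.ext ?_
        show g₀⁻¹ * t ^ k * g₀ = 1
        rw [h2]
        group)
  have hKn : K.Normal := Subgroup.normal_of_index_eq_two hK
  have hKodd : Odd (Nat.card K) := by
    have h1 := K.card_mul_index
    have h2 := (S : Subgroup X).card_mul_index
    have h3 : Nat.card (S : Subgroup X) = 2 := hScard
    rw [h3] at h2
    rw [hK, ← h2] at h1
    have h4 : Nat.card K = (S : Subgroup X).index := by omega
    rw [h4]
    exact hSodd
  refine ⟨K, hKn, hKodd, hK, fun x => ⟨fun hx => ?_, fun hx => ?_⟩⟩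
  · have h1 : orderOf x ∣ Nat.card K := by
      have := orderOf_dvd_natCard (⟨x, hx⟩ : K)
      rwa [Subgroup.orderOf_mk] at this
    exact Odd.of_dvd_nat hKodd h1
  · obtain ⟨k, hk⟩ := hx
    have h1 : x = (x ^ (k + 1)) ^ 2 := by
      rw [← pow_mul, show (k + 1) * 2 = (2 * k + 1) + 1 by ring, ← hk, pow_succ,
        pow_orderOf_eq_one, one_mul]
    rw [h1]
    exact Subgroup.sq_mem_of_index_two hK _

/-- If `E` normalises `X` and `V ≤ X` and no non-identity element of `E` centralises an element of
`X ∖ V`, then `|E|` divides `|X| - |V|`. -/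
theorem card_dvd_sub_of_free {G : Type*} [Group G] [Finite G] {E X V : Subgroup G} (hVX : V ≤ X)
    (hn : ∀ w ∈ E, ∀ x ∈ X, w * x * w⁻¹ ∈ X) (hnV : ∀ w ∈ E, ∀ x ∈ V, w * x * w⁻¹ ∈ V)
    (hfree : ∀ w ∈ E, w ≠ 1 → ∀ x ∈ X, w * x = x * w → x ∈ V) :
    Nat.card E ∣ Nat.card X - Nat.card V := by
  classical
  let _ := Fintype.ofFinite G
  let act : MulAction E G := MulAction.compHom G ((MulAut.conj : G →* MulAut G).comp E.subtype)
  have h1 : Nat.card E ∣ (Finset.univ.filter (fun x : G => x ∈ X ∧ x ∉ V)).card := by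
    refine Cfsg.Agent.OddOrderCharacters.ClassSum.card_dvd_of_free (H := E) (X := G) _ ?_ ?_
    · intro w x hx
      rw [Finset.mem_filter] at hx ⊢
      refine ⟨Finset.mem_univ _, ?_, ?_⟩
      · exact hn w w.2 x hx.2.1
      · intro h
        apply hx.2.2
        have h' : (w : G) * x * (w : G)⁻¹ ∈ V := h
        have h2 := hnV (w : G)⁻¹ (inv_mem w.2) _ h'
        have h3 : (w : G)⁻¹ * ((w : G) * x * (w : G)⁻¹) * (w : G)⁻¹⁻¹ = x := by group
        rwa [h3] at h2
    · intro w x hx h
      rw [Finset.mem_filter] at hx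
      by_contra hw
      apply hx.2.2
      have h' : (w : G) * x * (w : G)⁻¹ = x := h
      refine hfree w w.2 (fun h2 => hw (Subtype.ext h2)) x hx.2.1 ?_
      rw [mul_inv_eq_iff_eq_mul] at h'
      exact h'
  have h2 : (Finset.univ.filter (fun x : G => x ∈ X ∧ x ∉ V)).card =
      Nat.card X - Nat.card V := by
    have h3 : Nat.card X = (Finset.univ.filter (fun x : G => x ∈ X)).card := by
      rw [Nat.card_eq_fintype_card, Fintype.card_subtype]
    have h4 : Nat.card V = (Finset.univ.filter (fun x : G => x ∈ V)).card := by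
      rw [Nat.card_eq_fintype_card, Fintype.card_subtype]
    have h5 : (Finset.univ.filter (fun x : G => x ∈ X ∧ x ∉ V)) =
        (Finset.univ.filter (fun x : G => x ∈ X)) \ (Finset.univ.filter (fun x : G => x ∈ V)) := by
      ext x
      simp only [Finset.mem_filter, Finset.mem_univ, true_and, Finset.mem_sdiff]
    rw [h3, h4, h5, Finset.card_sdiff_of_subset]
    intro x hx
    rw [Finset.mem_filter] at hx ⊢
    exact ⟨Finset.mem_univ _, hVX hx.2⟩
  rwa [h2] at h1

end Cfsg.Agent.Lib.InvolutionKernel
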