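import Mathlib

/-!
# Recognition of dihedral groups

* `lift`: the universal property of `DihedralGroup n`.
* `nonempty_mulEquiv`: a group of order `2 n` with an element `r` of order `n` and an involution
  (or identity) `s` outside `⟨r⟩` inverting `r` is isomorphic to `DihedralGroup n`.
* `nonempty_mulEquiv_closure`: the subgroup generated by such a pair.
* `nonempty_mulEquiv_subgroup`: a subgroup `H` of order `2 n` containing such a pair.
-/

set_option autoImplicit false

namespace Cfsg.Agent.Lib.Dihedral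

variable {G : Type*} [Group G] {n : ℕ}

/-- The homomorphism `ZMod n →+ Additive G` sending `1` to `r`, when `r ^ n = 1`. -/
noncomputable def rotHom (n : ℕ) (r : G) (hr : r ^ n = 1) : ZMod n →+ Additive G :=
  ZMod.lift n ⟨zmultiplesHom (Additive G) (Additive.ofMul r), by
    simp only [zmultiplesHom_apply, natCast_zsmul]
    exact congrArg Additive.ofMul hr⟩

/-- The element `r ^ i` for `i : ZMod n`, when `r ^ n = 1`. -/
noncomputable def rot (n : ℕ) (r : G) (hr : r ^ n = 1) (i : ZMod n) : G :=
  (rotHom n r hr i).toMul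

theorem rot_intCast (r : G) (hr : r ^ n = 1) (k : ℤ) : rot n r hr (k : ZMod n) = r ^ k := by
  unfold rot rotHom
  rw [ZMod.lift_coe]
  rfl

theorem rot_add (r : G) (hr : r ^ n = 1) (i j : ZMod n) :
    rot n r hr (i + j) = rot n r hr i * rot n r hr j := by
  unfold rot
  rw [map_add]
  rfl

theorem rot_zero (r : G) (hr : r ^ n = 1) : rot n r hr 0 = 1 := by
  unfold rot
  rw [map_zero]
  rfl

theorem rot_neg (r : G) (hr : r ^ n = 1) (i : ZMod n) : rot n r hr (-i) = (rot n r hr i)⁻¹ := by
  unfold rot
  rw [map_neg]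
  rfl

theorem rot_one (r : G) (hr : r ^ n = 1) : rot n r hr 1 = r := by
  have := rot_intCast r hr 1
  simpa using this

theorem exists_int_rot (r : G) (hr : r ^ n = 1) (i : ZMod n) :
    ∃ k : ℤ, (k : ZMod n) = i ∧ rot n r hr i = r ^ k := by
  obtain ⟨k, rfl⟩ := ZMod.intCast_surjective i
  exact ⟨k, rfl, rot_intCast r hr k⟩

theorem rot_mem_zpowers (r : G) (hr : r ^ n = 1) (i : ZMod n) :
    rot n r hr i ∈ Subgroup.zpowers r := by
  obtain ⟨k, -, hk⟩ := exists_int_rot r hr i
  rw [hk]
  exact Subgroup.zpow_mem_zpowers r k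

theorem conj_zpow_eq (r s : G) (hs : s * s = 1) (hsr : s * r * s = r⁻¹) (k : ℤ) :
    s * r ^ k * s = r ^ (-k) := by
  have hs' : s⁻¹ = s := inv_eq_of_mul_eq_one_right hs
  have h1 : s * r * s⁻¹ = r⁻¹ := by rw [hs', hsr]
  have h2 : s * r ^ k * s⁻¹ = (s * r * s⁻¹) ^ k := by
    rw [conj_zpow]
  rw [hs'] at h2
  rw [h2, hsr, inv_zpow, zpow_neg]

theorem rot_mul_s (r s : G) (hr : r ^ n = 1) (hs : s * s = 1) (hsr : s * r * s = r⁻¹)
    (i : ZMod n) : rot n r hr i * s = s * rot n r hr (-i) := by
  obtain ⟨k, rfl, hk⟩ := exists_int_rot r hr i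
  have h1 : rot n r hr (-(k : ZMod n)) = r ^ (-k) := by
    rw [rot_neg, hk, zpow_neg]
  rw [hk, h1, ← conj_zpow_eq r s hs hsr k]
  simp only [← mul_assoc]
  rw [hs, one_mul]

/-- The universal property of the dihedral group. -/
noncomputable def lift (n : ℕ) (r s : G) (hr : r ^ n = 1) (hs : s * s = 1)
    (hsr : s * r * s = r⁻¹) : DihedralGroup n →* G :=
  MonoidHom.mk' (fun x => match x with
    | .r i => rot n r hr i
    | .sr i => s * rot n r hr i) (by
    rintro (i | i) (j | j)
    · show rot n r hr (i + j) = _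
      rw [rot_add]
    · show s * rot n r hr (j - i) = rot n r hr i * (s * rot n r hr j)
      rw [← mul_assoc, rot_mul_s r s hr hs hsr, mul_assoc, ← rot_add, neg_add_eq_sub]
    · show s * rot n r hr (i + j) = s * rot n r hr i * rot n r hr j
      rw [rot_add, mul_assoc]
    · show rot n r hr (j - i) = s * rot n r hr i * (s * rot n r hr j)
      rw [mul_assoc, ← mul_assoc _ s, rot_mul_s r s hr hs hsr, mul_assoc, ← rot_add, ← mul_assoc,
        hs, one_mul, neg_add_eq_sub])

theorem lift_r (r s : G) (hr : r ^ n = 1) (hs : s * s = 1) (hsr : s * r * s = r⁻¹) (i : ZMod n) :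
    lift n r s hr hs hsr (DihedralGroup.r i) = rot n r hr i := rfl

theorem lift_sr (r s : G) (hr : r ^ n = 1) (hs : s * s = 1) (hsr : s * r * s = r⁻¹) (i : ZMod n) :
    lift n r s hr hs hsr (DihedralGroup.sr i) = s * rot n r hr i := rfl

theorem lift_r_one (r s : G) (hr : r ^ n = 1) (hs : s * s = 1) (hsr : s * r * s = r⁻¹) :
    lift n r s hr hs hsr (DihedralGroup.r 1) = r := by
  rw [lift_r, rot_one]

theorem lift_r_intCast (r s : G) (hr : r ^ n = 1) (hs : s * s = 1) (hsr : s * r * s = r⁻¹)
    (k : ℤ) : lift n r s hr hs hsr (DihedralGroup.r (k : ZMod n)) = r ^ k := by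
  rw [lift_r, rot_intCast]

theorem lift_sr_zero (r s : G) (hr : r ^ n = 1) (hs : s * s = 1) (hsr : s * r * s = r⁻¹) :
    lift n r s hr hs hsr (DihedralGroup.sr 0) = s := by
  rw [lift_sr, rot_zero, mul_one]

theorem lift_sr_intCast (r s : G) (hr : r ^ n = 1) (hs : s * s = 1) (hsr : s * r * s = r⁻¹)
    (k : ℤ) : lift n r s hr hs hsr (DihedralGroup.sr (k : ZMod n)) = s * r ^ k := by
  rw [lift_sr, rot_intCast]

/-- The lift is injective as soon as `r` has order exactly `n` and `s ∉ ⟨r⟩`. -/
theorem lift_injective (r s : G) (hr : orderOf r = n) (hs : s * s = 1) (hsr : s * r * s = r⁻¹)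
    (hs' : s ∉ Subgroup.zpowers r) :
    Function.Injective (lift n r s (hr ▸ pow_orderOf_eq_one r) hs hsr) := by
  rw [injective_iff_map_eq_one]
  rintro (i | i) h
  · rw [lift_r] at h
    obtain ⟨k, rfl, hk⟩ := exists_int_rot r (hr ▸ pow_orderOf_eq_one r) i
    rw [hk] at h
    have h2 : (orderOf r : ℤ) ∣ k := orderOf_dvd_iff_zpow_eq_one.mpr h
    rw [hr] at h2
    rw [(ZMod.intCast_zmod_eq_zero_iff_dvd k n).mpr h2]
    rfl
  · exfalso
    rw [lift_sr] at h
    apply hs'
    rw [mul_eq_one_iff_eq_inv] at h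
    rw [h]
    exact inv_mem (rot_mem_zpowers r _ i)

/-- A group of order `2 n` with an element `r` of order `n` and an element `s ∉ ⟨r⟩` with `s² = 1`
inverting `r` is dihedral. -/
theorem nonempty_mulEquiv (hn : n ≠ 0) (r s : G) (hr : orderOf r = n) (hs : s * s = 1)
    (hsr : s * r * s = r⁻¹) (hs' : s ∉ Subgroup.zpowers r) (hcard : Nat.card G = 2 * n) :
    Nonempty (G ≃* DihedralGroup n) := by
  haveI : NeZero n := ⟨hn⟩
  have hinj := lift_injective r s hr hs hsr hs'
  haveI : Finite G := Nat.finite_of_card_ne_zero (by rw [hcard]; omega)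
  have hbij : Function.Bijective (lift n r s (hr ▸ pow_orderOf_eq_one r) hs hsr) := by
    refine (Nat.bijective_iff_injective_and_card _).mpr ⟨hinj, ?_⟩
    rw [hcard, DihedralGroup.nat_card]
  exact ⟨(MulEquiv.ofBijective _ hbij).symm⟩

/-- The range of the lift is the subgroup generated by `r` and `s`. -/
theorem lift_range (r s : G) (hr : r ^ n = 1) (hs : s * s = 1) (hsr : s * r * s = r⁻¹) :
    (lift n r s hr hs hsr).range = Subgroup.closure {r, s} := by
  apply le_antisymm
  · rintro _ ⟨x, rfl⟩
    have hr' : r ∈ Subgroup.closure ({r, s} : Set G) := Subgroup.subset_closure (by simp)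
    have hs' : s ∈ Subgroup.closure ({r, s} : Set G) := Subgroup.subset_closure (by simp)
    have hrot : ∀ i, rot n r hr i ∈ Subgroup.closure ({r, s} : Set G) := fun i =>
      (Subgroup.zpowers_le.mpr hr') (rot_mem_zpowers r hr i)
    rcases x with i | i
    · exact hrot i
    · exact mul_mem hs' (hrot i)
  · rw [Subgroup.closure_le]
    rintro x hx
    rcases hx with rfl | hx
    · exact ⟨_, lift_r_one x s hr hs hsr⟩
    · rw [Set.mem_singleton_iff] at hx
      subst hx
      exact ⟨_, lift_sr_zero r x hr hs hsr⟩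

/-- The subgroup generated by `r` and `s` is dihedral. -/
theorem nonempty_mulEquiv_closure (r s : G) (hr : orderOf r = n) (hs : s * s = 1)
    (hsr : s * r * s = r⁻¹) (hs' : s ∉ Subgroup.zpowers r) :
    Nonempty (Subgroup.closure {r, s} ≃* DihedralGroup n) := by
  have hinj := lift_injective r s hr hs hsr hs'
  have e1 := MonoidHom.ofInjective hinj
  have e2 := MulEquiv.subgroupCongr (lift_range r s (hr ▸ pow_orderOf_eq_one r) hs hsr)
  exact ⟨(e1.trans e2).symm⟩

/-- A subgroup of order `2 n` containing an element `r` of order `n` and an element `s ∉ ⟨r⟩` with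
`s² = 1` inverting `r` is dihedral. -/
theorem nonempty_mulEquiv_subgroup (hn : n ≠ 0) (H : Subgroup G) (r s : G) (hrH : r ∈ H)
    (hsH : s ∈ H) (hr : orderOf r = n) (hs : s * s = 1) (hsr : s * r * s = r⁻¹)
    (hs' : s ∉ Subgroup.zpowers r) (hcard : Nat.card H = 2 * n) :
    Nonempty (H ≃* DihedralGroup n) := by
  refine nonempty_mulEquiv hn (⟨r, hrH⟩ : H) ⟨s, hsH⟩ ?_ ?_ ?_ ?_ hcard
  · rw [← hr]
    exact (Subgroup.orderOf_mk r hrH)
  · exact Subtype.ext hs
  · exact Subtype.ext hsr
  · intro h
    apply hs'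
    obtain ⟨k, hk⟩ := h
    exact ⟨k, congrArg Subtype.val hk⟩

/-- The order of the subgroup generated by `r` and `s`. -/
theorem card_closure (r s : G) (hr : orderOf r = n) (hs : s * s = 1)
    (hsr : s * r * s = r⁻¹) (hs' : s ∉ Subgroup.zpowers r) :
    Nat.card (Subgroup.closure {r, s}) = 2 * n := by
  obtain ⟨e⟩ := nonempty_mulEquiv_closure r s hr hs hsr hs'
  rw [Nat.card_congr e.toEquiv, DihedralGroup.nat_card]

/-- Two elements with square one generate a dihedral group (of order twice the order of the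
product), provided that the first is not a power of the product. -/
theorem nonempty_mulEquiv_closure_involutions (s t : G) (hs : s * s = 1) (ht : t * t = 1)
    (hst : s ∉ Subgroup.zpowers (s * t)) (hn : orderOf (s * t) = n) :
    Nonempty (Subgroup.closure {s, t} ≃* DihedralGroup n) := by
  have hs1 : s⁻¹ = s := inv_eq_of_mul_eq_one_right hs
  have ht1 : t⁻¹ = t := inv_eq_of_mul_eq_one_right ht
  have h1 : s * (s * t) * s = (s * t)⁻¹ := by
    rw [mul_inv_rev, hs1, ht1, ← mul_assoc, hs, one_mul]
  obtain ⟨e⟩ := nonempty_mulEquiv_closure (s * t) s hn hs h1 hst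
  have h2 : Subgroup.closure ({s * t, s} : Set G) = Subgroup.closure {s, t} := by
    apply le_antisymm
    · rw [Subgroup.closure_le]
      rintro x (rfl | hx)
      · exact mul_mem (Subgroup.subset_closure (by simp)) (Subgroup.subset_closure (by simp))
      · rw [Set.mem_singleton_iff] at hx
        subst hx
        exact Subgroup.subset_closure (by simp)
    · rw [Subgroup.closure_le]
      rintro x (rfl | hx)
      · exact Subgroup.subset_closure (by simp)
      · rw [Set.mem_singleton_iff] at hx
        subst hx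
        have h3 : x = s * (s * x) := by rw [← mul_assoc, hs, one_mul]
        have h4 : s * (s * x) ∈ Subgroup.closure ({s * x, s} : Set G) :=
          mul_mem (Subgroup.subset_closure (by simp)) (Subgroup.subset_closure (by simp))
        rw [← h3] at h4
        exact h4
  exact ⟨(MulEquiv.subgroupCongr h2.symm).trans e⟩

end Cfsg.Agent.Lib.Dihedral
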