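import Cfsg.Agent.Lib.MinNormal

/-!
# Non-abelian minimal normal subgroups of finite groups

`minSet K` is the set of minimal `K`-normal subgroups of `K`.  If `N` is a non-abelian minimal
normal subgroup of the finite group `G` then `minSet N` is independent, `sSup (minSet N) = N`, its
members are non-abelian simple groups, `G` permutes them transitively by conjugation, and each
`N`-normal subgroup of `N` is the supremum of those members it contains.
-/

set_option autoImplicit false

namespace Cfsg.Agent.Lib.MinNormalNonabelian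

open Subgroup Cfsg.Agent.Lib.MinNormal

variable {G : Type*} [Group G]

/-- The set of minimal `K`-normal subgroups of `K`. -/
def minSet (K : Subgroup G) : Set (Subgroup G) :=
  {T | T ≤ K ∧ T ≠ ⊥ ∧ K ≤ normalizer (T : Set G) ∧
    ∀ S ≤ T, K ≤ normalizer (S : Set G) → S = ⊥ ∨ S = T}

theorem mem_minSet {K T : Subgroup G} : T ∈ minSet K ↔ T ≤ K ∧ T ≠ ⊥ ∧
    K ≤ normalizer (T : Set G) ∧ ∀ S ≤ T, K ≤ normalizer (S : Set G) → S = ⊥ ∨ S = T := Iff.rfl

/-- Conjugation by `g` permutes `minSet N` for normal `N`. -/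
theorem map_conj_mem_minSet {N T : Subgroup G} [N.Normal] (hT : T ∈ minSet N) (g : G) :
    T.map (MulAut.conj g).toMonoidHom ∈ minSet N := by
  obtain ⟨h1, h2, h3, h4⟩ := hT
  refine ⟨(Subgroup.map_mono h1).trans (le_of_eq (map_conj_normal g N)), ?_,
      le_normalizer_map_conj h3 g, minimal_map_conj h4 g⟩
  intro h
  exact h2 ((Subgroup.map_eq_bot_iff_of_injective T (MulAut.conj g).injective).mp h)

/-- Splitting off one factor: an element of `sSup s` commuting with the centreless member `T`
lies in the product of the other members. -/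
theorem mem_sSup_sdiff_singleton {K : Subgroup G} {s : Set (Subgroup G)} (hs : sSupIndep s)
    (hK : ∀ S ∈ s, K ≤ normalizer (S : Set G)) (hle : ∀ S ∈ s, S ≤ K) {T : Subgroup G}
    (hT : T ∈ s) (hc : ∀ z ∈ T, (∀ t ∈ T, Commute z t) → z = 1) {x : G} (hx : x ∈ sSup s)
    (hxT : ∀ t ∈ T, Commute x t) : x ∈ sSup (s \ {T}) := by
  have h1 : sSup s = T ⊔ sSup (s \ {T}) := by
    rw [← sSup_insert, Set.insert_sdiff_singleton, Set.insert_eq_of_mem hT]
  have hTn : T ≤ normalizer ((sSup (s \ {T}) : Subgroup G) : Set G) :=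
    (hle T hT).trans (le_normalizer_sSup fun U hU => hK U hU.1)
  have hnT : sSup (s \ {T}) ≤ normalizer (T : Set G) :=
    (sSup_le fun U hU => hle U hU.1).trans (hK T hT)
  have hx' : x ∈ ((T ⊔ sSup (s \ {T}) : Subgroup G) : Set G) := by rw [← h1]; exact hx
  rw [coe_mul_of_left_le_normalizer_right _ _ hTn] at hx'
  obtain ⟨t, ht, y, hy, rfl⟩ := hx'
  have hyT : ∀ u ∈ T, Commute y u := fun u hu =>
    (commute_of_disjoint hTn hnT (hs hT) hu hy).symm
  have ht1 : t = 1 := by
    apply hc t ht
    intro u hu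
    have h2 : Commute (t * y) u := hxT u hu
    have h3 : Commute (t * y * y⁻¹) u := h2.mul_left (hyT u hu).inv_left
    simpa using h3
  subst ht1
  simpa using hy

/-- An element of `sSup s` commuting with all (centreless) members of the finite subset `t`
lies in the product of the members outside `t`. -/
theorem mem_sSup_sdiff {K : Subgroup G} {s : Set (Subgroup G)} (hs : sSupIndep s)
    (hK : ∀ S ∈ s, K ≤ normalizer (S : Set G)) (hle : ∀ S ∈ s, S ≤ K) {t : Set (Subgroup G)}
    (htfin : t.Finite) (hts : t ⊆ s)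
    (hc : ∀ T ∈ t, ∀ z ∈ T, (∀ t ∈ T, Commute z t) → z = 1) {x : G} (hx : x ∈ sSup s)
    (hxT : ∀ T ∈ t, ∀ t ∈ T, Commute x t) : x ∈ sSup (s \ t) := by
  induction t, htfin using Set.Finite.induction_on with
  | empty => simpa using hx
  | @insert T t hTt _ ih =>
    have h1 := ih (fun S hS => hts (Set.mem_insert_of_mem _ hS))
      (fun S hS => hc S (Set.mem_insert_of_mem _ hS))
      (fun S hS => hxT S (Set.mem_insert_of_mem _ hS))
    have h2 := mem_sSup_sdiff_singleton (K := K) (s := s \ t) (hs.mono Set.sdiff_subset)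
      (fun S hS => hK S hS.1) (fun S hS => hle S hS.1) (T := T)
      ⟨hts (Set.mem_insert _ _), hTt⟩ (hc T (Set.mem_insert _ _)) h1
      (hxT T (Set.mem_insert _ _))
    have h3 : s \ insert T t = (s \ t) \ {T} := by
      ext U
      simp only [Set.mem_sdiff, Set.mem_insert_iff, Set.mem_singleton_iff]
      tauto
    rw [h3]
    exact h2

/-- A `K`-normal subgroup `M` of `K = sSup s`, where the members of `s` are independent, centreless
and minimal `K`-normal, is the supremum of the members it contains. -/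
theorem eq_sSup_of_normal [Finite G] {K : Subgroup G} {s : Set (Subgroup G)} (hs : sSupIndep s)
    (hsub : s ⊆ minSet K) (hsup : sSup s = K)
    (hc : ∀ T ∈ s, ∀ z ∈ T, (∀ t ∈ T, Commute z t) → z = 1) {M : Subgroup G} (hMK : M ≤ K)
    (hM : K ≤ normalizer (M : Set G)) : sSup {T ∈ s | T ≤ M} = M := by
  apply le_antisymm (sSup_le fun T hT => hT.2)
  intro x hx
  have h1 := mem_sSup_sdiff (K := K) hs (fun S hS => (hsub hS).2.2.1) (fun S hS => (hsub hS).1)
    (t := {T ∈ s | ¬ T ≤ M}) (Set.toFinite _) (fun T hT => hT.1) (fun T hT => hc T hT.1)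
    (x := x) (by rw [hsup]; exact hMK hx) ?_
  · have h2 : s \ {T ∈ s | ¬ T ≤ M} = {T ∈ s | T ≤ M} := by
      ext U
      simp only [Set.mem_sdiff, Set.mem_ofPred_eq]
      tauto
    rwa [h2] at h1
  · rintro T ⟨hTs, hTM⟩ t ht
    obtain ⟨hTK, -, hTn, hTmin⟩ := hsub hTs
    have hd : Disjoint M T := by
      rcases hTmin (M ⊓ T) inf_le_right (le_normalizer_inf hM hTn) with h | h
      · exact disjoint_iff.mpr h
      · exact absurd (inf_eq_right.mp h) hTM
    exact commute_of_disjoint (hMK.trans hTn) (hTK.trans hM) hd hx ht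

/-- In the centreless case an independent generating subset of `minSet K` is all of it. -/
theorem eq_minSet [Finite G] {K : Subgroup G} {s : Set (Subgroup G)} (hs : sSupIndep s)
    (hsub : s ⊆ minSet K) (hsup : sSup s = K)
    (hc : ∀ T ∈ s, ∀ z ∈ T, (∀ t ∈ T, Commute z t) → z = 1) : s = minSet K := by
  apply Set.Subset.antisymm hsub
  rintro M ⟨hMK, hM0, hMn, hMmin⟩
  have h1 := eq_sSup_of_normal hs hsub hsup hc hMK hMn
  have h2 : {T ∈ s | T ≤ M}.Nonempty := by
    rw [Set.nonempty_iff_ne_empty]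
    intro h
    rw [h, sSup_empty] at h1
    exact hM0 h1.symm
  obtain ⟨T, hTs, hTM⟩ := h2
  rcases hMmin T hTM (hsub hTs).2.2.1 with h | h
  · exact absurd h (hsub hTs).2.1
  · exact h ▸ hTs

/-- Every simple group is either abelian or centreless. -/
theorem commute_or_center_trivial {T : Type*} [Group T] [IsSimpleGroup T] :
    (∀ x y : T, Commute x y) ∨ (∀ z : T, (∀ t, Commute z t) → z = 1) := by
  rcases (inferInstance : (center T).Normal).eq_bot_or_eq_top with h | h
  · right
    intro z hz
    have : z ∈ center T := mem_center_iff.mpr fun g => ((hz g).eq).symm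
    rwa [h, mem_bot] at this
  · left
    intro x y
    have : y ∈ center T := by rw [h]; exact mem_top y
    exact mem_center_iff.mp this x

/-- Structure of a non-abelian minimal normal subgroup of a finite group. -/
theorem nonabelian_structure [Finite G] (N : Subgroup G) [N.Normal]
    (hmin : ∀ M : Subgroup G, M.Normal → M ≤ N → M = ⊥ ∨ M = N)
    (hna : ¬ ∀ x ∈ N, ∀ y ∈ N, Commute x y) :
    (minSet N).Nonempty ∧ sSupIndep (minSet N) ∧ sSup (minSet N) = N ∧
      (∀ T ∈ minSet N, IsSimpleGroup T) ∧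
      (∀ T ∈ minSet N, ∀ z ∈ T, (∀ t ∈ T, Commute z t) → z = 1) ∧
      (∀ S ∈ minSet N, ∀ T ∈ minSet N, ∃ g : G, T = S.map (MulAut.conj g).toMonoidHom) := by
  have hN : N ≠ ⊥ := by
    rintro rfl
    apply hna
    intro x hx y hy
    rw [mem_bot] at hx hy
    rw [hx, hy]
  obtain ⟨T, s, hT, hsC, hne, hsI, hsup, hs⟩ := exists_set_decomposition N hN hmin
  have hsub : s ⊆ minSet N := fun S hS =>
    ⟨(hs S hS).1, (hs S hS).2.1, (hs S hS).2.2.1, (hs S hS).2.2.2.1⟩
  have hc : ∀ T ∈ s, ∀ z ∈ T, (∀ t ∈ T, Commute z t) → z = 1 := by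
    by_contra hcon
    push Not at hcon
    obtain ⟨S, hS, z, hzS, hz, hz1⟩ := hcon
    have : IsSimpleGroup S := (hs S hS).2.2.2.2
    have hSab : ∀ x ∈ S, ∀ y ∈ S, Commute x y := by
      rcases commute_or_center_trivial (T := S) with h | h
      · intro x hx y hy
        exact congrArg Subtype.val (h ⟨x, hx⟩ ⟨y, hy⟩).eq
      · exfalso
        apply hz1
        have := h ⟨z, hzS⟩ (fun t => Subtype.ext (hz t t.2).eq)
        exact congrArg Subtype.val this
    -- every member of `s` is abelian
    have hall : ∀ R ∈ s, ∀ x ∈ R, ∀ y ∈ R, Commute x y := by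
      intro R hR x hx y hy
      obtain ⟨g, hg⟩ := hsC hS
      obtain ⟨h, hh⟩ := hsC hR
      have hRS : R = S.map (MulAut.conj (h * g⁻¹)).toMonoidHom := by
        rw [← hg]
        change R = (T.map (MulAut.conj g).toMonoidHom).map _
        rw [map_conj_map_conj, inv_mul_cancel_right]
        exact hh.symm
      rw [hRS] at hx hy
      obtain ⟨x', hx', rfl⟩ := hx
      obtain ⟨y', hy', rfl⟩ := hy
      exact (hSab x' hx' y' hy').map _
    apply hna
    -- members commute with everything
    have hcent : ∀ R ∈ s, ∀ x ∈ R, ∀ y ∈ N, Commute x y := by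
      intro R hR x hx y hy
      have h1 : sSup s ≤ centralizer {x} := by
        refine sSup_le fun U hU u hu => ?_
        rw [mem_centralizer_singleton_iff]
        by_cases hUR : U = R
        · subst hUR
          exact (hall U hU u hu x hx).eq
        · exact (commute_of_mem hsI (fun S hS => (hs S hS).2.2.1) (fun S hS => (hs S hS).1)
            hU hR hUR hu hx).eq
      have h2 := h1 (by rw [hsup]; exact hy)
      rw [mem_centralizer_singleton_iff] at h2
      exact h2.symm
    intro x hx y hy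
    have h1 : sSup s ≤ centralizer {y} := by
      refine sSup_le fun U hU u hu => ?_
      rw [mem_centralizer_singleton_iff]
      exact (hcent U hU u hu y hy).eq
    have h2 := h1 (by rw [hsup]; exact hx)
    rw [mem_centralizer_singleton_iff] at h2
    exact h2
  have hseq := eq_minSet hsI hsub hsup hc
  rw [← hseq]
  refine ⟨hne, hsI, hsup, fun S hS => (hs S hS).2.2.2.2, hc, fun S hS R hR => ?_⟩
  obtain ⟨g, hg⟩ := hsC hS
  obtain ⟨h, hh⟩ := hsC hR
  refine ⟨h * g⁻¹, ?_⟩
  rw [← hg]
  change R = (T.map (MulAut.conj g).toMonoidHom).map _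
  rw [map_conj_map_conj, inv_mul_cancel_right]
  exact hh.symm

/-- An abelian minimal normal subgroup of a finite group is an elementary abelian `p`-group. -/
theorem abelian_structure [Finite G] (N : Subgroup G) [N.Normal] (hN : N ≠ ⊥)
    (hmin : ∀ M : Subgroup G, M.Normal → M ≤ N → M = ⊥ ∨ M = N)
    (hab : ∀ x ∈ N, ∀ y ∈ N, Commute x y) :
    ∃ p : ℕ, p.Prime ∧ IsPGroup p N ∧ ∀ x ∈ N, x ^ p = 1 := by
  have hcard : Nat.card N ≠ 1 := fun h => hN (Subgroup.card_eq_one.mp h)
  obtain ⟨p, hp, hpd⟩ := Nat.exists_prime_and_dvd hcard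
  have : Fact p.Prime := ⟨hp⟩
  obtain ⟨x, hx⟩ := exists_prime_orderOf_dvd_card' p hpd
  -- the subgroup of elements of `N` killed by `p`
  let Ω : Subgroup G :=
    { carrier := {y | y ∈ N ∧ y ^ p = 1}
      one_mem' := ⟨N.one_mem, one_pow p⟩
      mul_mem' := fun {a b} ha hb => ⟨N.mul_mem ha.1 hb.1, by
        rw [(hab a ha.1 b hb.1).mul_pow, ha.2, hb.2, one_mul]⟩
      inv_mem' := fun {a} ha => ⟨N.inv_mem ha.1, by rw [inv_pow, ha.2, inv_one]⟩ }
  have hΩ : Ω.Normal := ⟨fun y hy g => ⟨(inferInstance : N.Normal).conj_mem y hy.1 g, by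
    rw [conj_pow, hy.2, mul_one, mul_inv_cancel]⟩⟩
  have hxΩ : (x : G) ∈ Ω := by
    refine ⟨x.2, ?_⟩
    rw [← Subgroup.coe_pow, ← hx, pow_orderOf_eq_one]
    rfl
  have hΩN : Ω = N := by
    rcases hmin Ω hΩ (fun y hy => hy.1) with h | h
    · exfalso
      rw [h, mem_bot] at hxΩ
      have : x = 1 := Subtype.ext hxΩ
      rw [this, orderOf_one] at hx
      exact hp.one_lt.ne hx
    · exact h
  refine ⟨p, hp, fun y => ⟨1, ?_⟩, fun y hy => ?_⟩
  · have : (y : G) ∈ Ω := by rw [hΩN]; exact y.2
    apply Subtype.ext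
    rw [pow_one]
    exact this.2
  · rw [← hΩN] at hy
    exact hy.2

end Cfsg.Agent.Lib.MinNormalNonabelian
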