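import Mathlib
import Cfsg.Agent.Lib.SL2Mat
import Cfsg.Agent.Lib.AutSL2
import Cfsg.Agent.Lib.AutSL2Out

/-!
# Involutions of `PSL(2,F)`, `F` finite of odd order

Centralizer in `SL(2,F)` of an element `i` with `i² = -1`: the group of norm one elements `a + b i`,
`a² + b² = 1`; it is cyclic of order `q - ε`, `q ≡ ε mod 4`, and inverted by the elements `g` with
`g i g⁻¹ = -i`.
-/

set_option autoImplicit false

namespace Cfsg.Agent.Lib.PSL2Circle

open Matrix Cfsg.Agent.Lib.SL2Mat

section circle

variable (F : Type*) [Field F]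

/-- The points of the circle `a² + b² = 1`. -/
@[ext] structure Circ where
  /-- first coordinate -/
  re : F
  /-- second coordinate -/
  im : F
  /-- the equation -/
  eqn : re ^ 2 + im ^ 2 = 1

instance [Finite F] : Finite (Circ F) :=
  Finite.of_injective (fun p : Circ F => (p.re, p.im)) (by
    intro p q h
    exact Circ.ext (congrArg Prod.fst h) (congrArg Prod.snd h))

variable {F}

theorem card_circ_of_sq [Finite F] (h2 : (2 : F) ≠ 0) (i : F) (hi : i * i = -1) :
    Nat.card (Circ F) = Nat.card F - 1 := by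
  have hi0 : i ≠ 0 := by
    rintro rfl
    rw [zero_mul] at hi
    exact one_ne_zero (neg_eq_zero.1 hi.symm)
  have hu : Nat.card Fˣ = Nat.card F - 1 := Nat.card_units F
  rw [← hu]
  refine Nat.card_congr ⟨fun p => ⟨p.re + p.im * i, p.re - p.im * i, ?_, ?_⟩,
    fun z => ⟨(z.1 + z⁻¹.1) / 2, (z.1 - z⁻¹.1) / (2 * i), ?_⟩, ?_, ?_⟩
  · have := p.eqn
    linear_combination this - p.im ^ 2 * hi
  · have := p.eqn
    linear_combination this - p.im ^ 2 * hi
  · have hz : z.1 * z⁻¹.1 = 1 := z.mul_inv
    have hi2 : i ^ 2 = -1 := by rw [sq, hi]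
    change ((z.1 + z⁻¹.1) / 2) ^ 2 + ((z.1 - z⁻¹.1) / (2 * i)) ^ 2 = 1
    rw [div_pow, div_pow, mul_pow, hi2]
    field_simp
    linear_combination 4 * hz
  · intro p
    refine Circ.ext ?_ ?_
    · change ((p.re + p.im * i) + (p.re - p.im * i)) / 2 = p.re
      field_simp; ring
    · change ((p.re + p.im * i) - (p.re - p.im * i)) / (2 * i) = p.im
      field_simp; ring
  · intro z
    apply Units.ext
    change (z.1 + z⁻¹.1) / 2 + (z.1 - z⁻¹.1) / (2 * i) * i = z.1
    field_simp
    ring

theorem card_circ_of_not_sq [Finite F] (h2 : (2 : F) ≠ 0) (hi : ∀ i : F, i * i ≠ -1) :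
    Nat.card (Circ F) = Nat.card F + 1 := by
  have hne : ∀ t : F, 1 + t ^ 2 ≠ 0 := by
    intro t h
    exact hi t (by linear_combination h)
  rw [← Finite.card_option]
  symm
  let f : Option F → Circ F := fun o => match o with
    | none => ⟨-1, 0, by simp⟩
    | some t => ⟨(1 - t ^ 2) / (1 + t ^ 2), 2 * t / (1 + t ^ 2), by
        have := hne t
        change ((1 - t ^ 2) / (1 + t ^ 2)) ^ 2 + (2 * t / (1 + t ^ 2)) ^ 2 = 1
        field_simp
        ring⟩
  refine Nat.card_congr (Equiv.ofBijective f ⟨?_, ?_⟩)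
  · intro a b hab
    have key : ∀ t : F, (1 - t ^ 2) / (1 + t ^ 2) ≠ -1 := by
      intro t h
      have := hne t
      field_simp at h
      exact h2 (by linear_combination h)
    cases a with
    | none =>
      cases b with
      | none => rfl
      | some t =>
        have h1 : (-1 : F) = (1 - t ^ 2) / (1 + t ^ 2) := congrArg Circ.re hab
        exact absurd h1.symm (key t)
    | some s =>
      cases b with
      | none =>
        have h1 : (1 - s ^ 2) / (1 + s ^ 2) = -1 := congrArg Circ.re hab
        exact absurd h1 (key s)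
      | some t =>
        have h1 : (1 - s ^ 2) / (1 + s ^ 2) = (1 - t ^ 2) / (1 + t ^ 2) :=
          congrArg Circ.re hab
        have h3 : 2 * s / (1 + s ^ 2) = 2 * t / (1 + t ^ 2) := congrArg Circ.im hab
        have hs := hne s
        have ht := hne t
        congr 1
        -- `s = b / (1 + a)`
        have e1 : ∀ x : F, 1 + x ^ 2 ≠ 0 → x * (1 + (1 - x ^ 2) / (1 + x ^ 2)) = 2 * x / (1 + x ^ 2) := by
          intro x hx
          field_simp
          ring
        have e2 := e1 s hs
        have e3 := e1 t ht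
        rw [h1, h3, ← e3] at e2
        have e4 : 1 + (1 - t ^ 2) / (1 + t ^ 2) ≠ 0 := by
          intro h
          exact key t (by linear_combination h)
        exact mul_right_cancel₀ e4 e2
  · rintro ⟨a, b, hab⟩
    by_cases ha : 1 + a = 0
    · refine ⟨none, ?_⟩
      refine Circ.ext ?_ ?_
      · change (-1 : F) = a
        linear_combination -ha
      · change (0 : F) = b
        have ha' : a = -1 := by linear_combination ha
        rw [ha'] at hab
        have hb : b ^ 2 = 0 := by linear_combination hab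
        exact (pow_eq_zero_iff (two_ne_zero) |>.1 hb).symm
    · refine ⟨some (b / (1 + a)), ?_⟩
      have h3 : (1 + a) ^ 2 + b ^ 2 = 2 * (1 + a) := by linear_combination hab
      have h4 : (1 + a) ^ 2 + b ^ 2 ≠ 0 := by
        rw [h3]; exact mul_ne_zero h2 ha
      have h5 : 1 + (b / (1 + a)) ^ 2 = 2 / (1 + a) := by
        field_simp
        linear_combination h3
      refine Circ.ext ?_ ?_
      · change (1 - (b / (1 + a)) ^ 2) / (1 + (b / (1 + a)) ^ 2) = a
        rw [h5]
        field_simp
        linear_combination -hab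
      · change 2 * (b / (1 + a)) / (1 + (b / (1 + a)) ^ 2) = b
        rw [h5]
        field_simp

/-- The number of points of the circle. -/
theorem card_circ [Finite F] (h2 : (2 : F) ≠ 0) :
    (Nat.card F % 4 = 1 ∧ Nat.card (Circ F) = Nat.card F - 1) ∨
      (Nat.card F % 4 = 3 ∧ Nat.card (Circ F) = Nat.card F + 1) := by
  have := Fintype.ofFinite F
  have hodd : Nat.card F % 2 = 1 := by
    rw [Nat.card_eq_fintype_card]
    apply FiniteField.odd_card_of_char_ne_two
    intro h
    apply h2
    have : CharP F 2 := by rw [← h]; exact ringChar.charP F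
    exact_mod_cast CharP.cast_eq_zero F 2
  have h4 := FiniteField.isSquare_neg_one_iff (F := F)
  rw [← Nat.card_eq_fintype_card] at h4
  by_cases hs : IsSquare (-1 : F)
  · obtain ⟨i, hi⟩ := hs
    have h5 := h4.1 ⟨i, hi⟩
    exact Or.inl ⟨by omega, card_circ_of_sq h2 i hi.symm⟩
  · have h5 : ¬ Nat.card F % 4 ≠ 3 := fun h => hs (h4.2 h)
    refine Or.inr ⟨by omega, card_circ_of_not_sq h2 ?_⟩
    intro i hi
    exact hs ⟨i, hi.symm⟩

end circle

section comb

variable {F : Type*} [Field F]

/-- `a + b i` for `i` of trace zero in `SL(2,F)`. -/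
def comb (i : Matrix.SpecialLinearGroup (Fin 2) F) (hi : ent i 1 1 = - ent i 0 0) (p : Circ F) :
    Matrix.SpecialLinearGroup (Fin 2) F :=
  mk (p.re + p.im * ent i 0 0) (p.im * ent i 0 1) (p.im * ent i 1 0)
    (p.re - p.im * ent i 0 0) (by
      have h1 := p.eqn
      have h2 := det_eq i
      rw [hi] at h2
      linear_combination h1 + p.im ^ 2 * h2)

variable {i : Matrix.SpecialLinearGroup (Fin 2) F}

@[simp] theorem comb_00 (hi : ent i 1 1 = - ent i 0 0) (p : Circ F) :
    ent (comb i hi p) 0 0 = p.re + p.im * ent i 0 0 := rfl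
@[simp] theorem comb_01 (hi : ent i 1 1 = - ent i 0 0) (p : Circ F) :
    ent (comb i hi p) 0 1 = p.im * ent i 0 1 := rfl
@[simp] theorem comb_10 (hi : ent i 1 1 = - ent i 0 0) (p : Circ F) :
    ent (comb i hi p) 1 0 = p.im * ent i 1 0 := rfl
@[simp] theorem comb_11 (hi : ent i 1 1 = - ent i 0 0) (p : Circ F) :
    ent (comb i hi p) 1 1 = p.re - p.im * ent i 0 0 := rfl

/-- product of `a + b i` and `c + d i` -/
theorem comb_mul (hi : ent i 1 1 = - ent i 0 0) (p q r : Circ F)
    (h1 : r.re = p.re * q.re - p.im * q.im) (h2 : r.im = p.re * q.im + p.im * q.re) :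
    comb i hi p * comb i hi q = comb i hi r := by
  have hd := det_eq i
  rw [hi] at hd
  refine ext_ent ?_ ?_ ?_ ?_ <;>
    simp only [ent_mul, comb_00, comb_01, comb_10, comb_11, h1, h2]
  · linear_combination -p.im * q.im * hd
  · ring
  · ring
  · linear_combination -p.im * q.im * hd

theorem comb_comm (hi : ent i 1 1 = - ent i 0 0) (p q : Circ F) :
    comb i hi p * comb i hi q = comb i hi q * comb i hi p := by
  refine ext_ent ?_ ?_ ?_ ?_ <;>
    simp only [ent_mul, comb_00, comb_01, comb_10, comb_11] <;> ring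

theorem comb_commute (hi : ent i 1 1 = - ent i 0 0) (p : Circ F) :
    comb i hi p * i = i * comb i hi p := by
  refine ext_ent ?_ ?_ ?_ ?_ <;>
    simp only [ent_mul, comb_00, comb_01, comb_10, comb_11, hi] <;> ring

theorem comb_inj (h2 : (2 : F) ≠ 0) (hi : ent i 1 1 = - ent i 0 0) {p q : Circ F}
    (h : comb i hi p = comb i hi q) : p = q := by
  have h00 := congrArg (fun x => ent x 0 0) h
  have h01 := congrArg (fun x => ent x 0 1) h
  have h10 := congrArg (fun x => ent x 1 0) h
  have h11 := congrArg (fun x => ent x 1 1) h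
  simp only [comb_00, comb_01, comb_10, comb_11] at h00 h01 h10 h11
  have ha : p.re = q.re := by
    have : (2 : F) * p.re = 2 * q.re := by linear_combination h00 + h11
    exact mul_left_cancel₀ h2 this
  rw [ha] at h00
  have hd := det_eq i
  rw [hi] at hd
  have hb : p.im = q.im := by
    by_cases h0 : ent i 0 0 = 0
    · by_cases h1 : ent i 0 1 = 0
      · rw [h0, h1] at hd; simp at hd
      · exact mul_right_cancel₀ h1 h01
    · exact mul_right_cancel₀ h0 (by linear_combination h00)
  exact Circ.ext ha hb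

/-- the centralizer of `i` -/
theorem exists_comb (h2 : (2 : F) ≠ 0) (hi : ent i 1 1 = - ent i 0 0)
    {x : Matrix.SpecialLinearGroup (Fin 2) F} (hx : x * i = i * x) :
    ∃ p : Circ F, comb i hi p = x := by
  have h00 := congrArg (fun x => ent x 0 0) hx
  have h01 := congrArg (fun x => ent x 0 1) hx
  have h10 := congrArg (fun x => ent x 1 0) hx
  have h11 := congrArg (fun x => ent x 1 1) hx
  simp only [ent_mul, hi] at h00 h01 h10 h11
  have hd := det_eq i
  rw [hi] at hd
  have hdx := det_eq x
  set a := (ent x 0 0 + ent x 1 1) / 2 with ha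
  set y0 := (ent x 0 0 - ent x 1 1) / 2 with hy0
  have hx00 : ent x 0 0 = a + y0 := by rw [ha, hy0]; field_simp; ring
  have hx11 : ent x 1 1 = a - y0 := by rw [ha, hy0]; field_simp; ring
  have hdi : ent i 0 0 ^ 2 + ent i 0 1 * ent i 1 0 = -1 := by linear_combination -hd
  rw [hx00] at h00 h01 h10 hdx
  rw [hx11] at h01 h10 h11 hdx
  have e1 : ent x 0 1 * ent i 1 0 = ent i 0 1 * ent x 1 0 := by linear_combination h00
  have e2 : y0 * ent i 0 1 = ent x 0 1 * ent i 0 0 :=
    mul_left_cancel₀ h2 (by linear_combination h01)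
  have e3 : ent x 1 0 * ent i 0 0 = y0 * ent i 1 0 :=
    mul_left_cancel₀ h2 (by linear_combination h10)
  set b := -(y0 * ent i 0 0 + (ent x 0 1 * ent i 1 0 + ent x 1 0 * ent i 0 1) / 2) with hb
  have hb' : b = -(y0 * ent i 0 0 + ent x 0 1 * ent i 1 0) := by
    rw [hb]
    have : ent x 1 0 * ent i 0 1 = ent x 0 1 * ent i 1 0 := by linear_combination -e1
    rw [this]
    field_simp
    ring
  have hb0 : b * ent i 0 0 = y0 := by
    rw [hb']
    linear_combination -y0 * hdi + ent i 1 0 * e2
  have hb1 : b * ent i 0 1 = ent x 0 1 := by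
    rw [hb']
    linear_combination -ent x 0 1 * hdi - ent i 0 0 * e2
  have hb2 : b * ent i 1 0 = ent x 1 0 := by
    rw [hb']
    linear_combination -ent x 1 0 * hdi + ent i 0 0 * e3 - ent i 1 0 * e1
  have hcirc : a ^ 2 + b ^ 2 = 1 := by
    have : b ^ 2 = b ^ 2 * (-(ent i 0 0 ^ 2 + ent i 0 1 * ent i 1 0)) := by rw [hdi]; ring
    rw [this]
    have h3 : b ^ 2 * (-(ent i 0 0 ^ 2 + ent i 0 1 * ent i 1 0)) =
        -((b * ent i 0 0) ^ 2 + (b * ent i 0 1) * (b * ent i 1 0)) := by ring
    rw [h3, hb0, hb1, hb2]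
    linear_combination hdx
  refine ⟨⟨a, b, hcirc⟩, ext_ent ?_ ?_ ?_ ?_⟩
  · rw [comb_00, hx00, ← hb0]
  · rw [comb_01, ← hb1]
  · rw [comb_10, ← hb2]
  · rw [comb_11, hx11, ← hb0]

theorem card_centralizer (h2 : (2 : F) ≠ 0) (hi : ent i 1 1 = - ent i 0 0) :
    Nat.card (Subgroup.centralizer ({i} : Set (Matrix.SpecialLinearGroup (Fin 2) F))) =
      Nat.card (Circ F) := by
  symm
  refine Nat.card_congr (Equiv.ofBijective
    (fun p => (⟨comb i hi p, Subgroup.mem_centralizer_singleton_iff.2 (comb_commute hi p)⟩ :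
      Subgroup.centralizer ({i} : Set (Matrix.SpecialLinearGroup (Fin 2) F)))) ⟨?_, ?_⟩)
  · intro p q h
    exact comb_inj h2 hi (congrArg Subtype.val h)
  · rintro ⟨x, hx⟩
    obtain ⟨p, hp⟩ := exists_comb h2 hi (Subgroup.mem_centralizer_singleton_iff.1 hx)
    exact ⟨p, Subtype.ext hp⟩

/-- the centralizer of `i` is cyclic -/
theorem isCyclic_centralizer [Finite F] (h2 : (2 : F) ≠ 0) (hi : ent i 1 1 = - ent i 0 0) :
    IsCyclic (Subgroup.centralizer ({i} : Set (Matrix.SpecialLinearGroup (Fin 2) F))) := by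
  -- a square root of `-1` in an extension field
  obtain ⟨ι, hι⟩ : ∃ ι : AlgebraicClosure F, ι * ι = -1 := by
    obtain ⟨ι, hι⟩ := IsAlgClosed.exists_eq_mul_self (-1 : AlgebraicClosure F)
    exact ⟨ι, hι.symm⟩
  have hd := det_eq i
  rw [hi] at hd
  -- the map `a + b i ↦ a + b ι`
  let A := algebraMap F (AlgebraicClosure F)
  have h2' : (2 : AlgebraicClosure F) ≠ 0 := by
    intro h
    apply h2
    apply A.injective
    rw [map_ofNat, map_zero, h]
  -- `b x := -(x00 - x11)/2 * i00 - ...`
  let re : Matrix.SpecialLinearGroup (Fin 2) F → F := fun x => (ent x 0 0 + ent x 1 1) / 2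
  let im : Matrix.SpecialLinearGroup (Fin 2) F → F := fun x =>
    -((ent x 0 0 - ent x 1 1) / 2 * ent i 0 0 + (ent x 0 1 * ent i 1 0 + ent x 1 0 * ent i 0 1) / 2)
  have hre : ∀ p : Circ F, re (comb i hi p) = p.re := by
    intro p
    change (ent (comb i hi p) 0 0 + ent (comb i hi p) 1 1) / 2 = p.re
    simp only [comb_00, comb_11]
    field_simp
    ring
  have him : ∀ p : Circ F, im (comb i hi p) = p.im := by
    intro p
    change -((ent (comb i hi p) 0 0 - ent (comb i hi p) 1 1) / 2 * ent i 0 0 +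
      (ent (comb i hi p) 0 1 * ent i 1 0 + ent (comb i hi p) 1 0 * ent i 0 1) / 2) = p.im
    simp only [comb_00, comb_11, comb_01, comb_10]
    field_simp
    linear_combination 2 * p.im * hd
  have hcirc : ∀ p : Circ F, A p.re ^ 2 + A p.im ^ 2 = 1 := by
    intro p
    rw [← map_pow, ← map_pow, ← map_add, p.eqn, map_one]
  let f0 : Subgroup.centralizer ({i} : Set (Matrix.SpecialLinearGroup (Fin 2) F)) →
      AlgebraicClosure F := fun x => A (re x.1) + A (im x.1) * ι
  have hf1 : f0 1 = 1 := by
    have h1 : (1 : Matrix.SpecialLinearGroup (Fin 2) F) = comb i hi ⟨1, 0, by simp⟩ := by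
      refine ext_ent ?_ ?_ ?_ ?_ <;> simp
    change A (re 1) + A (im 1) * ι = 1
    rw [h1, hre, him]
    simp
  have hfm : ∀ x y, f0 (x * y) = f0 x * f0 y := by
    rintro ⟨x, hx⟩ ⟨y, hy⟩
    obtain ⟨p, rfl⟩ := exists_comb h2 hi (Subgroup.mem_centralizer_singleton_iff.1 hx)
    obtain ⟨q, rfl⟩ := exists_comb h2 hi (Subgroup.mem_centralizer_singleton_iff.1 hy)
    have hp := p.eqn
    have hq := q.eqn
    let r : Circ F := ⟨p.re * q.re - p.im * q.im, p.re * q.im + p.im * q.re, by
      linear_combination (q.re ^ 2 + q.im ^ 2) * hp + hq⟩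
    have hr : comb i hi p * comb i hi q = comb i hi r := comb_mul hi p q r rfl rfl
    change A (re (comb i hi p * comb i hi q)) + A (im (comb i hi p * comb i hi q)) * ι =
      (A (re (comb i hi p)) + A (im (comb i hi p)) * ι) *
        (A (re (comb i hi q)) + A (im (comb i hi q)) * ι)
    rw [hr, hre, him, hre, him, hre, him]
    change A (p.re * q.re - p.im * q.im) + A (p.re * q.im + p.im * q.re) * ι = _
    rw [map_sub, map_add, map_mul, map_mul, map_mul, map_mul]
    linear_combination -A p.im * A q.im * hι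
  let f : Subgroup.centralizer ({i} : Set (Matrix.SpecialLinearGroup (Fin 2) F)) →*
      AlgebraicClosure F := ⟨⟨f0, hf1⟩, hfm⟩
  have hfin : Finite (Subgroup.centralizer ({i} : Set (Matrix.SpecialLinearGroup (Fin 2) F))) := by
    infer_instance
  refine isCyclic_of_injective_ringHom f ?_
  have hker : ∀ x, f x = 1 → x = 1 := by
    rintro ⟨x, hx⟩ hfx
    obtain ⟨p, rfl⟩ := exists_comb h2 hi (Subgroup.mem_centralizer_singleton_iff.1 hx)
    change A (re (comb i hi p)) + A (im (comb i hi p)) * ι = 1 at hfx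
    rw [hre, him] at hfx
    have h1 := hcirc p
    have h3 : A p.re - A p.im * ι = 1 := by
      have : (A p.re + A p.im * ι) * (A p.re - A p.im * ι) = 1 := by
        linear_combination h1 - A p.im ^ 2 * hι
      rwa [hfx, one_mul] at this
    have h4 : A p.re = 1 := by
      have : (2 : AlgebraicClosure F) * A p.re = 2 * 1 := by linear_combination hfx + h3
      exact mul_left_cancel₀ h2' this
    have h5 : A p.im = 0 := by
      have : (2 : AlgebraicClosure F) * (A p.im * ι) = 0 := by linear_combination hfx - h3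
      rcases mul_eq_zero.1 this with h | h
      · exact absurd h h2'
      · rcases mul_eq_zero.1 h with h | h
        · exact h
        · rw [h, mul_zero] at hι
          exact absurd (neg_eq_zero.1 hι.symm) one_ne_zero
    have h6 : p.re = 1 := A.injective (by rw [h4, map_one])
    have h7 : p.im = 0 := A.injective (by rw [h5, map_zero])
    apply Subtype.ext
    change comb i hi p = 1
    refine ext_ent ?_ ?_ ?_ ?_ <;> simp [h6, h7]
  exact (injective_iff_map_eq_one f).2 hker

end comb

end Cfsg.Agent.Lib.PSL2Circle
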