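import Mathlib
import Cfsg.Agent.Lib.PSL2Inv

/-!
# Involutions and their centralizers in `PSL(2,F)`, `F` finite of odd order

For a group `L` with a surjection `π : SL(2,F) → L` with kernel `±1` (in particular `PSL(2,F)`):

* `conj_inv`: all involutions of `L` are conjugate;
* `exists_torus`: `C_L(t)` is `T ∪ T u` with `T` cyclic of order `(q - ε)/2`, `4 ∣ q - ε`, inverted
  by the involutions of `C_L(t) \ T`;
* `centralizer_four`: four-groups are self-centralizing.
-/

set_option autoImplicit false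

namespace Cfsg.Agent.Lib.PSL2Torus

open Matrix Cfsg.Agent.Lib.SL2Mat Cfsg.Agent.Lib.PSL2Circle Cfsg.Agent.Lib.PSL2Inv

section sl

variable {F : Type*} [Field F]

/-- the element `J` with rows `0 -1`, `1 0` -/
def jm (F : Type*) [Field F] : Matrix.SpecialLinearGroup (Fin 2) F := mk 0 (-1) 1 0 (by ring)

@[simp] theorem jm_00 : ent (jm F) 0 0 = 0 := rfl
@[simp] theorem jm_01 : ent (jm F) 0 1 = -1 := rfl
@[simp] theorem jm_10 : ent (jm F) 1 0 = 1 := rfl
@[simp] theorem jm_11 : ent (jm F) 1 1 = 0 := rfl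

theorem odd_card [Finite F] (h2 : (2 : F) ≠ 0) : Nat.card F % 2 = 1 := by
  have := Fintype.ofFinite F
  rw [Nat.card_eq_fintype_card]
  apply FiniteField.odd_card_of_char_ne_two
  intro h
  apply h2
  have : CharP F 2 := by rw [← h]; exact ringChar.charP F
  exact_mod_cast CharP.cast_eq_zero F 2

theorem exists_sum_sq [Finite F] (h2 : (2 : F) ≠ 0) (d : F) : ∃ a b : F, a ^ 2 + b ^ 2 = d := by
  have := Fintype.ofFinite F
  have hodd := odd_card h2
  rw [Nat.card_eq_fintype_card] at hodd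
  let f : Polynomial F := Polynomial.X ^ 2
  let g : Polynomial F := Polynomial.X ^ 2 - Polynomial.C d
  obtain ⟨a, b, hab⟩ : ∃ a b, f.eval a + g.eval b = 0 :=
    FiniteField.exists_root_sum_quadratic (f := f) (g := g) (Polynomial.degree_X_pow 2)
      (Polynomial.degree_X_pow_sub_C (by decide) _) hodd
  refine ⟨a, b, ?_⟩
  rw [← sub_eq_zero]
  simpa only [f, g, Polynomial.eval_C, Polynomial.eval_X, Polynomial.eval_pow, Polynomial.eval_sub,
    ← add_sub_assoc] using hab

/-- every element with square `-1` is conjugate to `J` in `SL(2,F)` -/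
theorem exists_conj_jm [Finite F] (h2 : (2 : F) ≠ 0) {i : Matrix.SpecialLinearGroup (Fin 2) F}
    (hi : ent i 1 1 = - ent i 0 0) : ∃ s, i * s = s * jm F := by
  have hd := det_eq i
  rw [hi] at hd
  obtain ⟨x, y, hD⟩ : ∃ x y : F, ent i 1 0 * x ^ 2 - 2 * ent i 0 0 * x * y - ent i 0 1 * y ^ 2 ≠ 0 := by
    by_cases h1 : ent i 1 0 = 0
    · by_cases h3 : ent i 0 1 = 0
      · refine ⟨1, 1, ?_⟩
        rw [h1, h3]
        have h0 : ent i 0 0 ≠ 0 := by
          intro h0
          rw [h0, h1, h3] at hd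
          simp at hd
        intro h
        have : (2 : F) * ent i 0 0 = 0 := by linear_combination -h
        rcases mul_eq_zero.1 this with h | h
        · exact h2 h
        · exact h0 h
      · exact ⟨0, 1, by rw [h1]; simpa using h3⟩
    · exact ⟨1, 0, by simpa using h1⟩
  obtain ⟨a, b, hab⟩ := exists_sum_sq h2
    ((ent i 1 0 * x ^ 2 - 2 * ent i 0 0 * x * y - ent i 0 1 * y ^ 2)⁻¹)
  -- columns `v = (x, y)`, `i v`; multiplied by `a + b J`
  set c1 := ent i 0 0 * x + ent i 0 1 * y with hc1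
  set c2 := ent i 1 0 * x - ent i 0 0 * y with hc2
  have hdet : x * c2 - c1 * y =
      ent i 1 0 * x ^ 2 - 2 * ent i 0 0 * x * y - ent i 0 1 * y ^ 2 := by
    rw [hc1, hc2]; ring
  refine ⟨mk (a * x + b * c1) (-b * x + a * c1) (a * y + b * c2) (-b * y + a * c2) ?_, ?_⟩
  · have h3 : (a * x + b * c1) * (-b * y + a * c2) - (-b * x + a * c1) * (a * y + b * c2) =
        (a ^ 2 + b ^ 2) * (x * c2 - c1 * y) := by ring
    rw [h3, hab, hdet]
    exact inv_mul_cancel₀ hD
  · have e1 : ent i 0 0 * c1 + ent i 0 1 * c2 = -x := by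
      rw [hc1, hc2]; linear_combination -x * hd
    have e2 : ent i 1 0 * c1 - ent i 0 0 * c2 = -y := by
      rw [hc1, hc2]; linear_combination -y * hd
    refine ext_ent ?_ ?_ ?_ ?_ <;>
      simp only [ent_mul, mk_00, mk_01, mk_10, mk_11, jm_00, jm_01, jm_10, jm_11, hi]
    · linear_combination b * e1 - a * hc1
    · linear_combination a * e1 + b * hc1
    · linear_combination b * e2 - a * hc2
    · linear_combination a * e2 + b * hc2

theorem sq_of_tr {i : Matrix.SpecialLinearGroup (Fin 2) F} (hi : ent i 1 1 = - ent i 0 0) :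
    i * i = -1 := by
  have hd := det_eq i
  rw [hi] at hd
  have hn : ∀ a b, ent (-1 : Matrix.SpecialLinearGroup (Fin 2) F) a b =
      -ent (1 : Matrix.SpecialLinearGroup (Fin 2) F) a b := fun _ _ => rfl
  refine ext_ent ?_ ?_ ?_ ?_
  · rw [ent_mul, hn, ent_one_00]; linear_combination -hd
  · rw [ent_mul, hn, ent_one_01, hi]; ring
  · rw [ent_mul, hn, ent_one_10, hi]; ring
  · rw [ent_mul, hn, ent_one_11, hi]; linear_combination -hd

/-- conjugacy of the elements with square `-1` -/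
theorem exists_conj [Finite F] (h2 : (2 : F) ≠ 0) {i j : Matrix.SpecialLinearGroup (Fin 2) F}
    (hi : ent i 1 1 = - ent i 0 0) (hj : ent j 1 1 = - ent j 0 0) : ∃ s, s * i * s⁻¹ = j := by
  obtain ⟨a, ha⟩ := exists_conj_jm h2 hi
  obtain ⟨b, hb⟩ := exists_conj_jm h2 hj
  refine ⟨b * a⁻¹, ?_⟩
  have h3 : a⁻¹ * i * a = jm F := by rw [mul_assoc, ha, inv_mul_cancel_left]
  have h4 : b * jm F * b⁻¹ = j := by rw [← hb, mul_inv_cancel_right]
  calc b * a⁻¹ * i * (b * a⁻¹)⁻¹ = b * (a⁻¹ * i * a) * b⁻¹ := by group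
    _ = j := by rw [h3, h4]

/-- an element `g` with `g i g⁻¹ = -i` has square `-1` and inverts the centralizer of `i`. -/
theorem anti (h2 : (2 : F) ≠ 0) {i g : Matrix.SpecialLinearGroup (Fin 2) F}
    (hi : ent i 1 1 = - ent i 0 0) (hg : g * i = -(i * g)) :
    ent g 1 1 = - ent g 0 0 ∧ ∀ x, x * i = i * x → g * x * g⁻¹ = x⁻¹ := by
  have hneg : ∀ (x : Matrix.SpecialLinearGroup (Fin 2) F) a b, ent (-x) a b = - ent x a b :=
    fun _ _ _ => rfl
  have hgi : g * i * g⁻¹ = -i := by rw [hg, neg_mul, mul_inv_cancel_right]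
  have h00 := congrArg (fun x => ent x 0 0) hg
  have h01 := congrArg (fun x => ent x 0 1) hg
  have h10 := congrArg (fun x => ent x 1 0) hg
  have h11 := congrArg (fun x => ent x 1 1) hg
  simp only [ent_mul, hneg, hi] at h00 h01 h10 h11
  have hd := det_eq i
  rw [hi] at hd
  constructor
  · -- trace of `g` vanishes
    have h3 : (ent g 0 0 + ent g 1 1) * ent i 0 1 = 0 := by linear_combination h01
    have h4 : (ent g 0 0 + ent g 1 1) * ent i 1 0 = 0 := by linear_combination h10
    have h5 : (2 : F) * ((ent g 0 0 + ent g 1 1) * ent i 0 0) = 0 := by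
      linear_combination h00 - h11
    have h6 : (ent g 0 0 + ent g 1 1) * ent i 0 0 = 0 := by
      rcases mul_eq_zero.1 h5 with h | h
      · exact absurd h h2
      · exact h
    have h7 : ent g 0 0 + ent g 1 1 = 0 := by
      have : ent g 0 0 + ent g 1 1 = (ent g 0 0 + ent g 1 1) *
          (ent i 0 0 * -ent i 0 0 - ent i 0 1 * ent i 1 0) := by rw [hd, mul_one]
      rw [this]
      linear_combination -ent i 0 0 * h6 - ent i 1 0 * h3
    linear_combination h7
  · intro x hx
    obtain ⟨p, rfl⟩ := exists_comb h2 hi hx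
    have hinv : (comb i hi p)⁻¹ = comb i hi ⟨p.re, -p.im, by rw [neg_sq, p.eqn]⟩ := by
      rw [ent_inv]
      refine ext_ent ?_ ?_ ?_ ?_ <;>
        simp only [mk_00, mk_01, mk_10, mk_11, comb_00, comb_01, comb_10, comb_11] <;> ring
    rw [hinv, mul_inv_eq_iff_eq_mul]
    refine ext_ent ?_ ?_ ?_ ?_ <;>
      simp only [ent_mul, comb_00, comb_01, comb_10, comb_11]
    · linear_combination p.im * h00
    · linear_combination p.im * h01
    · linear_combination p.im * h10
    · linear_combination p.im * h11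

end sl

section group

variable {F : Type*} [Field F] {L : Type*} [Group L]

/-- the canonical map `SL(2,F) → L` for `L ≃ PSL(2,F)` -/
theorem exists_hom (h2 : (2 : F) ≠ 0) (e : L ≃* Matrix.ProjectiveSpecialLinearGroup (Fin 2) F) :
    ∃ π : Matrix.SpecialLinearGroup (Fin 2) F →* L, Function.Surjective π ∧
      ∀ x, π x = 1 ↔ x = 1 ∨ x = -1 := by
  refine ⟨e.symm.toMonoidHom.comp
    (QuotientGroup.mk' (Subgroup.center (Matrix.SpecialLinearGroup (Fin 2) F))),
    e.symm.surjective.comp (QuotientGroup.mk'_surjective _), ?_⟩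
  intro x
  have h3 : (e.symm.toMonoidHom.comp
      (QuotientGroup.mk' (Subgroup.center (Matrix.SpecialLinearGroup (Fin 2) F)))) x = 1 ↔
      x ∈ Subgroup.center (Matrix.SpecialLinearGroup (Fin 2) F) := by
    rw [← QuotientGroup.eq_one_iff]
    exact e.symm.map_eq_one_iff
  rw [h3]
  constructor
  · intro hx
    apply sq_eq_one h2
    obtain ⟨h01, h10⟩ := mem_center_offdiag hx
    have h00 : ent x 0 0 = ent x 1 1 := by
      have h4 := congrArg (fun y => ent y 0 1) ((Subgroup.mem_center_iff.1 hx) (up 1))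
      simp only [ent_mul, up_00, up_01, up_11, h01] at h4
      linear_combination -h4
    have h5 := det_eq x
    rw [h01, zero_mul, sub_zero] at h5
    refine ext_ent ?_ ?_ ?_ ?_
    · rw [ent_mul, h01, zero_mul, add_zero, ent_one_00]
      nth_rw 2 [h00]
      exact h5
    · rw [ent_mul, h01, mul_zero, zero_mul, add_zero, ent_one_01]
    · rw [ent_mul, h10, zero_mul, mul_zero, add_zero, ent_one_10]
    · rw [ent_mul, h10, zero_mul, zero_add, ent_one_11]
      nth_rw 1 [← h00]
      exact h5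
  · rintro (rfl | rfl)
    · exact one_mem _
    · rw [Subgroup.mem_center_iff]
      intro y
      rw [mul_neg, neg_mul, mul_one, one_mul]

variable (π : Matrix.SpecialLinearGroup (Fin 2) F →* L)

theorem map_eq_iff (hk : ∀ x, π x = 1 ↔ x = 1 ∨ x = -1) {x y : Matrix.SpecialLinearGroup (Fin 2) F} :
    π x = π y ↔ x = y ∨ x = -y := by
  rw [← mul_inv_eq_one, ← map_inv, ← map_mul, hk]
  constructor
  · rintro (h | h)
    · exact Or.inl (mul_inv_eq_one.1 h)
    · right
      rw [mul_inv_eq_iff_eq_mul] at h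
      rw [h, neg_mul, one_mul]
  · rintro (h | h)
    · left; rw [h, mul_inv_cancel]
    · right; rw [h, neg_mul, mul_inv_cancel]

/-- lifts of involutions -/
theorem exists_lift_inv (h2 : (2 : F) ≠ 0) (hπ : Function.Surjective π)
    (hk : ∀ x, π x = 1 ↔ x = 1 ∨ x = -1) {t : L} (ht1 : t ≠ 1) (ht : t * t = 1) :
    ∃ i, π i = t ∧ i * i = -1 ∧ ent i 1 1 = - ent i 0 0 := by
  obtain ⟨i, rfl⟩ := hπ t
  have hii : i * i = -1 := by
    have h3 : π (i * i) = 1 := by rw [map_mul, ht]
    rw [hk] at h3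
    rcases h3 with h3 | h3
    · exfalso
      apply ht1
      rw [hk]
      exact sq_eq_one h2 h3
    · exact h3
  exact ⟨i, rfl, hii, tr_of_sq h2 hii⟩

variable [Finite F]

theorem conj_inv_hom (h2 : (2 : F) ≠ 0) (hπ : Function.Surjective π)
    (hk : ∀ x, π x = 1 ↔ x = 1 ∨ x = -1) {t u : L} (ht1 : t ≠ 1) (ht : t * t = 1)
    (hu1 : u ≠ 1) (hu : u * u = 1) : ∃ g, g * t * g⁻¹ = u := by
  obtain ⟨i, rfl, -, hi⟩ := exists_lift_inv π h2 hπ hk ht1 ht
  obtain ⟨j, rfl, -, hj⟩ := exists_lift_inv π h2 hπ hk hu1 hu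
  obtain ⟨s, hs⟩ := exists_conj h2 hi hj
  exact ⟨π s, by rw [← map_inv, ← map_mul, ← map_mul, hs]⟩

/-- The torus containing an involution. -/
theorem exists_torus_hom (h2 : (2 : F) ≠ 0) (hπ : Function.Surjective π)
    (hk : ∀ x, π x = 1 ↔ x = 1 ∨ x = -1) {t : L} (ht1 : t ≠ 1) (ht : t * t = 1) :
    ∃ T : Subgroup L, IsCyclic T ∧ t ∈ T ∧ (∀ x ∈ T, x * t = t * x) ∧
      ((Nat.card F % 4 = 1 ∧ 2 * Nat.card T = Nat.card F - 1) ∨
        (Nat.card F % 4 = 3 ∧ 2 * Nat.card T = Nat.card F + 1)) ∧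
      (∀ x, x * t = t * x → x ∉ T → x ≠ 1 ∧ x * x = 1 ∧ ∀ y ∈ T, x * y * x⁻¹ = y⁻¹) ∧
      (∃ x, x * t = t * x ∧ x ∉ T) ∧
      (∀ x y, x * t = t * x → x ∉ T → y * t = t * y → y ∉ T → x * y ∈ T) := by
  obtain ⟨i, rfl, hii, hi⟩ := exists_lift_inv π h2 hπ hk ht1 ht
  set A : Subgroup (Matrix.SpecialLinearGroup (Fin 2) F) :=
    Subgroup.centralizer ({i} : Set (Matrix.SpecialLinearGroup (Fin 2) F)) with hA
  have hmemA : ∀ x, x ∈ A ↔ x * i = i * x := fun x => by
    rw [hA, Subgroup.mem_centralizer_singleton_iff]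
  have hAcyc : IsCyclic A := isCyclic_centralizer h2 hi
  have hnegA : ∀ x, x ∈ A → -x ∈ A := by
    intro x hx
    rw [hmemA] at hx ⊢
    rw [neg_mul, mul_neg, hx]
  have hmemT : ∀ x, π x ∈ A.map π ↔ x ∈ A := by
    intro x
    constructor
    · rintro ⟨y, hy, hyx⟩
      rcases (map_eq_iff π hk).1 hyx with h | h
      · rwa [← h]
      · have := hnegA y hy
        rwa [h, neg_neg] at this
    · intro hx
      exact ⟨x, hx, rfl⟩
  -- commuting with `t`
  have hcomm : ∀ x, π x * π i = π i * π x → x ∉ A → x * i = -(i * x) := by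
    intro x hx hxA
    rw [← map_mul, ← map_mul, map_eq_iff π hk] at hx
    rcases hx with h | h
    · exact absurd ((hmemA x).2 h) hxA
    · exact h
  refine ⟨A.map π, ?_, ?_, ?_, ?_, ?_, ?_, ?_⟩
  · exact isCyclic_of_surjective (π.subgroupMap A) (π.subgroupMap_surjective A)
  · rw [hmemT, hmemA]
  · rintro _ ⟨x, hx, rfl⟩
    rw [← map_mul, ← map_mul, (hmemA x).1 hx]
  · have hcard : Nat.card A = 2 * Nat.card (A.map π) := by
      have h3 := (π.subgroupMap A).ker.card_mul_index
      rw [Subgroup.index_ker, MonoidHom.range_eq_top.2 (π.subgroupMap_surjective A), Subgroup.card_top]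
        at h3
      rw [← h3]
      congr 1
      have h1A : (1 : Matrix.SpecialLinearGroup (Fin 2) F) ∈ A := one_mem _
      have h1A' : (-1 : Matrix.SpecialLinearGroup (Fin 2) F) ∈ A := hnegA _ h1A
      have hne : (1 : Matrix.SpecialLinearGroup (Fin 2) F) ≠ -1 := by
        intro h
        have h3 := congrArg (fun x => ent x 0 0) h
        have hn' : ent (-1 : Matrix.SpecialLinearGroup (Fin 2) F) 0 0 = -1 := rfl
        simp only [ent_one_00, hn'] at h3
        exact h2 (by linear_combination h3)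
      rw [Nat.card_eq_two_iff]
      refine ⟨⟨⟨1, h1A⟩, ?_⟩, ⟨⟨-1, h1A'⟩, ?_⟩, ?_, ?_⟩
      · rw [MonoidHom.mem_ker]
        exact Subtype.ext (map_one π)
      · rw [MonoidHom.mem_ker]
        exact Subtype.ext ((hk _).2 (Or.inr rfl))
      · intro h
        exact hne (congrArg (fun x => x.1.1) h)
      · ext ⟨⟨x, hx⟩, hx'⟩
        simp only [Set.mem_insert_iff, Set.mem_singleton_iff, Set.mem_univ, iff_true]
        rw [MonoidHom.mem_ker] at hx'
        have h4 : π x = 1 := congrArg Subtype.val hx'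
        rcases (hk x).1 h4 with h | h
        · left; exact Subtype.ext (Subtype.ext h)
        · right; exact Subtype.ext (Subtype.ext h)
    rw [← hcard, hA, card_centralizer h2 hi]
    exact card_circ h2
  · intro x hx hxT
    obtain ⟨g, rfl⟩ := hπ x
    rw [hmemT] at hxT
    have hg := hcomm g hx hxT
    obtain ⟨h3, h4⟩ := anti h2 hi hg
    refine ⟨?_, ?_, ?_⟩
    · intro h
      rcases (hk g).1 h with h | h
      · exact hxT (h ▸ one_mem _)
      · exact hxT (h ▸ hnegA _ (one_mem _))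
    · rw [← map_mul, sq_of_tr h3]
      exact (hk _).2 (Or.inr rfl)
    · rintro _ ⟨y, hy, rfl⟩
      rw [← map_inv, ← map_mul, ← map_mul, h4 y ((hmemA y).1 hy), map_inv]
  · have hi' : ent (-i) 1 1 = - ent (-i) 0 0 := by
      change -ent i 1 1 = - -ent i 0 0
      rw [hi]
    obtain ⟨g, hg⟩ := exists_conj h2 hi hi'
    refine ⟨π g, ?_, ?_⟩
    · rw [mul_inv_eq_iff_eq_mul] at hg
      rw [← map_mul, ← map_mul, map_eq_iff π hk, hg, neg_mul]
      exact Or.inr rfl
    · rw [hmemT, hmemA]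
      intro h
      rw [h, mul_inv_cancel_right] at hg
      have h3 := sq_of_tr hi
      have h4 : i * i = 1 := by
        nth_rw 2 [hg]
        rw [mul_neg, h3, neg_neg]
      rw [h4] at h3
      have h5 := congrArg (fun x => ent x 0 0) h3
      have hn' : ent (-1 : Matrix.SpecialLinearGroup (Fin 2) F) 0 0 = -1 := rfl
      simp only [ent_one_00, hn'] at h5
      exact h2 (by linear_combination h5)
  · intro x y hx hxT hy hyT
    obtain ⟨g, rfl⟩ := hπ x
    obtain ⟨g', rfl⟩ := hπ y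
    rw [hmemT] at hxT hyT
    have hg := hcomm g hx hxT
    have hg' := hcomm g' hy hyT
    rw [← map_mul, hmemT, hmemA, mul_assoc, hg', mul_neg, ← mul_assoc, hg, neg_mul, neg_neg, mul_assoc]

end group

section final

variable {F : Type*} [Field F] [Finite F] {L : Type*} [Group L]

/-- All involutions of `PSL(2,F)` are conjugate. -/
theorem conj_inv (h2 : (2 : F) ≠ 0) (e : L ≃* Matrix.ProjectiveSpecialLinearGroup (Fin 2) F)
    {t u : L} (ht1 : t ≠ 1) (ht : t * t = 1) (hu1 : u ≠ 1) (hu : u * u = 1) :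
    ∃ g, g * t * g⁻¹ = u := by
  obtain ⟨π, hπ, hk⟩ := exists_hom h2 e
  exact conj_inv_hom π h2 hπ hk ht1 ht hu1 hu

/-- Torus data for an involution `t` of `L`: `C(t) = T ∪ T u`, `T` cyclic of order `m`, inverted by
the elements of `C(t) \ T`, which are involutions. -/
structure TorusAt (t : L) (T : Subgroup L) (m : ℕ) : Prop where
  ne_one : t ≠ 1
  sq : t * t = 1
  cyclic : IsCyclic T
  mem : t ∈ T
  comm : ∀ x ∈ T, x * t = t * x
  card : Nat.card T = m
  out : ∀ x, x * t = t * x → x ∉ T → x ≠ 1 ∧ x * x = 1 ∧ ∀ y ∈ T, x * y * x⁻¹ = y⁻¹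
  ex : ∃ x, x * t = t * x ∧ x ∉ T
  mul : ∀ x y, x * t = t * x → x ∉ T → y * t = t * y → y ∉ T → x * y ∈ T

/-- The torus of an involution of `PSL(2,F)`. -/
theorem exists_torus (h2 : (2 : F) ≠ 0) (e : L ≃* Matrix.ProjectiveSpecialLinearGroup (Fin 2) F)
    {t : L} (ht1 : t ≠ 1) (ht : t * t = 1) :
    ∃ (T : Subgroup L) (m : ℕ), TorusAt t T m ∧
      ((Nat.card F % 4 = 1 ∧ 2 * m = Nat.card F - 1) ∨
        (Nat.card F % 4 = 3 ∧ 2 * m = Nat.card F + 1)) := by
  obtain ⟨π, hπ, hk⟩ := exists_hom h2 e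
  obtain ⟨T, h1, h3, h4, h5, h6, h7, h8⟩ := exists_torus_hom π h2 hπ hk ht1 ht
  exact ⟨T, Nat.card T, ⟨ht1, ht, h1, h3, h4, rfl, h6, h7, h8⟩, h5⟩

namespace TorusAt

variable {t : L} {T : Subgroup L} {m : ℕ} (h : TorusAt t T m)

include h

theorem torus_comm {x y : L} (hx : x ∈ T) (hy : y ∈ T) : x * y = y * x := by
  have := h.cyclic
  let _ : CommGroup T := IsCyclic.commGroup
  exact congrArg Subtype.val (mul_comm (⟨x, hx⟩ : T) ⟨y, hy⟩)

/-- `t` is the only involution of `T`. -/
theorem eq_of_sq {x : L} (hx : x ∈ T) (hx2 : x * x = 1) : x = 1 ∨ x = t := by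
  have hc := h.cyclic
  obtain ⟨g, hg⟩ := IsCyclic.exists_generator (α := T)
  by_cases hx1 : x = 1
  · exact Or.inl hx1
  · right
    by_contra hne
    -- a cyclic group has at most one subgroup of order two
    have hxo : orderOf (⟨x, hx⟩ : T) = 2 :=
      orderOf_eq_prime (by rw [pow_two]; exact Subtype.ext hx2) (fun h1 => hx1 (congrArg Subtype.val h1))
    have hto : orderOf (⟨t, h.mem⟩ : T) = 2 :=
      orderOf_eq_prime (by rw [pow_two]; exact Subtype.ext h.sq)
        (fun h1 => h.ne_one (congrArg Subtype.val h1))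
    obtain ⟨a, ha⟩ := Subgroup.mem_zpowers_iff.1 (hg ⟨x, hx⟩)
    obtain ⟨b, hb⟩ := Subgroup.mem_zpowers_iff.1 (hg ⟨t, h.mem⟩)
    -- `g ^ (2a) = 1`, `g ^ (2b) = 1`
    have h1 : g ^ (2 * a) = 1 := by
      rw [mul_comm, _root_.zpow_mul, ha]
      have := pow_orderOf_eq_one (⟨x, hx⟩ : T)
      rw [hxo] at this
      exact_mod_cast this
    have h2' : g ^ (2 * b) = 1 := by
      rw [mul_comm, _root_.zpow_mul, hb]
      have := pow_orderOf_eq_one (⟨t, h.mem⟩ : T)
      rw [hto] at this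
      exact_mod_cast this
    have h3 : (orderOf g : ℤ) ∣ 2 * a := orderOf_dvd_iff_zpow_eq_one.2 h1
    have h4 : (orderOf g : ℤ) ∣ 2 * b := orderOf_dvd_iff_zpow_eq_one.2 h2'
    have h5 : ¬ (orderOf g : ℤ) ∣ a := by
      rw [orderOf_dvd_iff_zpow_eq_one, ha]
      intro h6
      exact hx1 (congrArg Subtype.val h6)
    have h6 : ¬ (orderOf g : ℤ) ∣ b := by
      rw [orderOf_dvd_iff_zpow_eq_one, hb]
      intro h6
      exact h.ne_one (congrArg Subtype.val h6)
    have h7 : (orderOf g : ℤ) ∣ a - b := by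
      obtain ⟨c, hc'⟩ := h3
      obtain ⟨d, hd⟩ := h4
      have hcodd : ¬ (2 : ℤ) ∣ c := by
        rintro ⟨c', rfl⟩
        exact h5 ⟨c', by linarith⟩
      have hdodd : ¬ (2 : ℤ) ∣ d := by
        rintro ⟨d', rfl⟩
        exact h6 ⟨d', by linarith⟩
      obtain ⟨k, hk⟩ : (2 : ℤ) ∣ c - d := by omega
      refine ⟨k, ?_⟩
      have h9 : 2 * (a - b) = 2 * ((orderOf g : ℤ) * k) := by
        linear_combination hc' - hd + (orderOf g : ℤ) * hk
      exact mul_left_cancel₀ two_ne_zero h9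
    have h8 : g ^ a = g ^ b := by
      rw [← mul_inv_eq_one, ← _root_.zpow_neg, ← _root_.zpow_add, ← sub_eq_add_neg]
      exact orderOf_dvd_iff_zpow_eq_one.1 h7
    rw [ha, hb] at h8
    exact hne (congrArg Subtype.val h8)

theorem not_mem {u : L} (hu1 : u ≠ 1) (hu : u * u = 1) (hut : u ≠ t) : u ∉ T := fun hm => by
  rcases h.eq_of_sq hm hu with h1 | h1
  · exact hu1 h1
  · exact hut h1

/-- four-groups are self-centralizing -/
theorem centralizer_four {u x : L} (hu1 : u ≠ 1) (hu : u * u = 1) (hut : u ≠ t)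
    (htu : u * t = t * u) (hxt : x * t = t * x) (hxu : x * u = u * x) :
    x = 1 ∨ x = t ∨ x = u ∨ x = t * u := by
  have huT := h.not_mem hu1 hu hut
  obtain ⟨-, -, hinv⟩ := h.out u htu huT
  have key : ∀ y ∈ T, y * u = u * y → y = 1 ∨ y = t := by
    intro y hy hyu
    apply h.eq_of_sq hy
    have h1 := hinv y hy
    rw [← hyu, mul_inv_cancel_right] at h1
    nth_rw 1 [h1]
    exact inv_mul_cancel y
  by_cases hx : x ∈ T
  · rcases key x hx hxu with h1 | h1
    · exact Or.inl h1
    · exact Or.inr (Or.inl h1)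
  · have h1 := h.mul x u hxt hx htu huT
    have h2 : (x * u) * u = u * (x * u) := by rw [← mul_assoc, ← hxu]
    have h3 : x = (x * u) * u := by rw [mul_assoc, hu, mul_one]
    rcases key _ h1 h2 with h4 | h4
    · right; right; left
      rw [h3, h4, one_mul]
    · right; right; right
      rw [h3, h4]

/-- `|C(t)| = 2 m` -/
theorem card_centralizer : Nat.card (Subgroup.centralizer ({t} : Set L)) = 2 * m := by
  obtain ⟨x, hxt, hxT⟩ := h.ex
  have hle : T ≤ Subgroup.centralizer ({t} : Set L) := fun y hy =>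
    Subgroup.mem_centralizer_singleton_iff.2 (h.comm y hy)
  have hidx : (T.subgroupOf (Subgroup.centralizer ({t} : Set L))).index = 2 := by
    rw [Subgroup.index_eq_two_iff]
    refine ⟨⟨x, Subgroup.mem_centralizer_singleton_iff.2 hxt⟩, fun y => ?_⟩
    obtain ⟨y, hy⟩ := y
    have hyt : y * t = t * y := Subgroup.mem_centralizer_singleton_iff.1 hy
    rw [Subgroup.mem_subgroupOf, Subgroup.mem_subgroupOf]
    change Xor (y * x ∈ T) (y ∈ T)
    by_cases hyT : y ∈ T
    · right
      refine ⟨hyT, fun h1 => hxT ?_⟩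
      have := T.mul_mem (T.inv_mem hyT) h1
      rwa [inv_mul_cancel_left] at this
    · left
      exact ⟨h.mul y x hyt hyT hxt hxT, hyT⟩
  have h1 := (T.subgroupOf (Subgroup.centralizer ({t} : Set L))).card_mul_index
  rw [hidx, Nat.card_congr (Subgroup.subgroupOfEquivOfLe hle).toEquiv, h.card] at h1
  omega

theorem unique [Finite L] {T' : Subgroup L} {m' : ℕ} (h' : TorusAt t T' m') : T = T' := by
  have hm : m = m' := by
    have h1 := h.card_centralizer
    have h2 := h'.card_centralizer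
    omega
  subst hm
  have hc := h.cyclic
  obtain ⟨g, hg⟩ := IsCyclic.exists_generator (α := T)
  have key : T ≤ T' := by
    by_cases hgT : (g : L) ∈ T'
    · intro y hy
      obtain ⟨k, hk⟩ := Subgroup.mem_zpowers_iff.1 (hg ⟨y, hy⟩)
      have : y = (g : L) ^ k := by
        have := congrArg Subtype.val hk
        exact this.symm
      rw [this]
      exact T'.zpow_mem hgT k
    · exfalso
      obtain ⟨h1, h3, -⟩ := h'.out g (h.comm _ g.2) hgT
      rcases h.eq_of_sq g.2 h3 with h4 | h4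
      · exact h1 h4
      · exact hgT (h4 ▸ h'.mem)
  exact Subgroup.eq_of_le_of_card_ge key (by rw [h.card, h'.card])

end TorusAt

end final

end Cfsg.Agent.Lib.PSL2Torus
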