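import Mathlib
import Cfsg.Agent.Lib.PSL2Four
import Cfsg.Agent.Lib.PSL2Circle
import Cfsg.Agent.Lib.PSL2Inv

/-!
# Elements of odd order centralising an involution of `PSL(2, F)`

* `comm_of_comm`: if `c ≠ 1` of odd order commutes with the involution `a`, then everything commuting
  with `c` commutes with `a`;
* `eq_of_comm`: hence `a` is the only involution commuting with `c`;
* `isCyclic_of_odd`: a subgroup of odd order centralising an involution is cyclic.
-/

set_option autoImplicit false

namespace Cfsg.Agent.Lib.PSL2Odd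

open Matrix Cfsg.Agent.ClassicalGeometry.QuatPair Cfsg.Agent.ClassicalGeometry.KleinCount
open Cfsg.Agent.ClassicalGeometry.PSL2Klein
open Cfsg.Agent.Lib.SL2Mat Cfsg.Agent.Lib.PSL2Circle

variable {F : Type*} [Field F]

local notation "SL2" => Matrix.SpecialLinearGroup (Fin 2)
local notation "PSL2" => Matrix.ProjectiveSpecialLinearGroup (Fin 2)

/-- The square of a lift commutes with every lift of a commuting element. -/
theorem sq_comm {C X : SL2 F} (hX : mk C * mk X = mk X * mk C) : C ^ 2 * X = X * C ^ 2 := by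
  have h3 : mk (C * X) = mk (X * C) := hX
  rcases mk_eq_mk.1 h3 with h4 | h4
  · rw [sq, mul_assoc, h4, ← mul_assoc, h4, mul_assoc]
  · rw [sq, mul_assoc, h4, mul_neg, ← mul_assoc, h4, neg_mul, neg_neg, mul_assoc]

theorem ent_of_inv (h2 : (2 : F) ≠ 0) {A : SL2 F} (h1 : mk A ≠ 1) (h : mk A * mk A = 1) :
    ent A 1 1 = - ent A 0 0 := by
  have h3 := (involution_iff h2).1 ⟨h1, h⟩
  have h4 := trace_eq_zero_of_sq A h3
  rw [trace_fin_two] at h4
  show A.1 1 1 = - A.1 0 0
  linear_combination h4

/-- The centraliser of an element of odd order centralising an involution. -/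
theorem comm_of_comm (h2 : (2 : F) ≠ 0) {a c y : PSL2 F} (ha1 : a ≠ 1) (ha : a * a = 1)
    (hca : c * a = a * c) (hc1 : c ≠ 1) (ho : Odd (orderOf c)) (hy : y * c = c * y) :
    y * a = a * y := by
  obtain ⟨A, rfl⟩ := QuotientGroup.mk_surjective a
  obtain ⟨C, rfl⟩ := QuotientGroup.mk_surjective c
  obtain ⟨Y, rfl⟩ := QuotientGroup.mk_surjective y
  have hA := ent_of_inv h2 ha1 ha
  have h3 : C ^ 2 * A = A * C ^ 2 := sq_comm hca
  have h4 : C ^ 2 * Y = Y * C ^ 2 := sq_comm hy.symm
  obtain ⟨p, hp⟩ := exists_comb h2 hA h3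
  have hsq : mk C ^ 2 ≠ 1 := by
    intro h5
    apply hc1
    have h6 : orderOf (mk C) ∣ 2 := orderOf_dvd_of_pow_eq_one h5
    rw [← orderOf_eq_one_iff]
    exact Nat.Coprime.eq_one_of_dvd (Nat.coprime_two_right.2 ho) h6
  have him : p.im ≠ 0 := by
    intro h5
    apply hsq
    have h6 : (mk C ^ 2 : PSL2 F) = mk (C ^ 2) := rfl
    rw [h6, ← hp, mk_eq_one]
    have h7 := p.eqn
    rw [h5] at h7
    have h8 : p.re = 1 ∨ p.re = -1 := by
      apply sq_eq_one_iff.1
      linear_combination h7
    rcases h8 with h8 | h8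
    · left
      refine ext_ent ?_ ?_ ?_ ?_ <;> simp [comb_00, comb_01, comb_10, comb_11, h5, h8]
    · right
      refine ext_ent ?_ ?_ ?_ ?_
      · rw [comb_00, h5, h8]; show _ = -(1 : F); ring
      · rw [comb_01, h5]; show _ = -(0 : F); ring
      · rw [comb_10, h5]; show _ = -(0 : F); ring
      · rw [comb_11, h5, h8]; show _ = -(1 : F); ring
  rw [← hp] at h4
  have e00 := congrArg (fun x => ent x 0 0) h4
  have e01 := congrArg (fun x => ent x 0 1) h4
  have e10 := congrArg (fun x => ent x 1 0) h4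
  have e11 := congrArg (fun x => ent x 1 1) h4
  simp only [ent_mul, comb_00, comb_01, comb_10, comb_11] at e00 e01 e10 e11
  have key : A * Y = Y * A := by
    refine ext_ent ?_ ?_ ?_ ?_ <;> simp only [ent_mul, hA] <;> apply mul_left_cancel₀ him
    · linear_combination e00
    · linear_combination e01
    · linear_combination e10
    · linear_combination e11
  exact (congrArg QuotientGroup.mk key).symm

/-- `a` is the only involution commuting with `c`. -/
theorem eq_of_comm (h2 : (2 : F) ≠ 0) {a b c : PSL2 F} (ha1 : a ≠ 1) (ha : a * a = 1)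
    (hb1 : b ≠ 1) (hb : b * b = 1) (hca : c * a = a * c) (hcb : c * b = b * c) (hc1 : c ≠ 1)
    (ho : Odd (orderOf c)) : a = b := by
  by_contra hne
  apply hc1
  have hba := comm_of_comm h2 ha1 ha hca hc1 ho hcb.symm
  exact Cfsg.Agent.Lib.PSL2Four.eq_one_of_odd h2 ⟨ha1, hb1, hne, ha, hb, hba.symm⟩ hca hcb ho

/-- A subgroup of odd order centralising an involution is cyclic. -/
theorem isCyclic_of_odd [Finite F] (h2 : (2 : F) ≠ 0) {a : PSL2 F} (ha1 : a ≠ 1) (ha : a * a = 1)
    (D : Subgroup (PSL2 F)) (hD : ∀ d ∈ D, d * a = a * d) (ho : Odd (Nat.card D)) :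
    IsCyclic D := by
  obtain ⟨A, rfl⟩ := QuotientGroup.mk_surjective a
  have hA := ent_of_inv h2 ha1 ha
  have hcyc := isCyclic_centralizer h2 hA
  set π : SL2 F →* PSL2 F := QuotientGroup.mk' _ with hπ
  set E := (D.comap π) ⊓ Subgroup.centralizer ({A} : Set (SL2 F)) with hE
  have hEc : IsCyclic E :=
    isCyclic_of_injective (Subgroup.inclusion (inf_le_right : E ≤ _))
      (Subgroup.inclusion_injective _)
  have hmap : E.map π = D := by
    apply le_antisymm
    · rintro _ ⟨x, hx, rfl⟩
      exact (Subgroup.mem_inf.1 hx).1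
    · intro d hd
      -- a square root of `d` in `D`
      obtain ⟨m, hm⟩ := ho
      have hpow : d ^ (2 * m + 1) = 1 := by
        have := pow_card_eq_one' (G := D) (x := ⟨d, hd⟩)
        rw [hm] at this
        exact congrArg Subtype.val this
      have hr : (d ^ (m + 1)) ^ 2 = d := by
        rw [← pow_mul, show (m + 1) * 2 = (2 * m + 1) + 1 by ring, pow_succ, hpow, one_mul]
      obtain ⟨C, hC⟩ := QuotientGroup.mk_surjective (d ^ (m + 1))
      have hC' : π C = d ^ (m + 1) := hC
      refine ⟨C ^ 2, ?_, by rw [map_pow, hC', hr]⟩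
      show C ^ 2 ∈ E
      rw [hE, Subgroup.mem_inf]
      refine ⟨?_, ?_⟩
      · rw [Subgroup.mem_comap, map_pow, hC', hr]
        exact hd
      · rw [Subgroup.mem_centralizer_singleton_iff]
        apply sq_comm
        show π C * mk A = mk A * π C
        rw [hC']
        exact hD _ (pow_mem hd _)
  rw [← hmap]
  exact isCyclic_of_surjective (π.subgroupMap E) (π.subgroupMap_surjective E)

end Cfsg.Agent.Lib.PSL2Odd
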