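import Mathlib
import Cfsg.Agent.Lib.SL2Mat
import Cfsg.Agent.Lib.AutSL2
import Cfsg.Agent.Lib.AutSL2Out
import Cfsg.Agent.Classification.TypeZ.PslCompOf

/-!
# The number of automorphisms of odd order of `PSL(2,F)` centralising a four-group

`D` a group of odd order normalising `L ≅ PSL(2,F)` and centralising a four-group of `L`: then
`3 ^ |D : C_D(L)| ≤ |F|`.
-/

set_option autoImplicit false

namespace Cfsg.Agent.Lib.PSL2Field

open Cfsg.Agent.Lib.SL2Mat Cfsg.Agent.Lib.AutSL2 Cfsg.Agent.Lib.AutSL2Out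
open Cfsg.Agent.ClassicalGeometry.KleinCount (CommInv)

section field

/-- The number of automorphisms of a finite field of odd order. -/
theorem three_pow_card_le (F : Type*) [Field F] [Finite F] (hodd : Odd (Nat.card F)) :
    3 ^ Nat.card (F ≃+* F) ≤ Nat.card F := by
  classical
  obtain ⟨p, hpc⟩ := CharP.exists F
  have : CharP F p := hpc
  have hp : Fact p.Prime := ⟨CharP.char_is_prime F p⟩
  let _ : Algebra (ZMod p) F := ZMod.algebra F p
  let _ : Fintype F := Fintype.ofFinite F
  have hfin : FiniteDimensional (ZMod p) F := Module.Finite.of_finite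
  have h1 : Nat.card F = p ^ Module.finrank (ZMod p) F := by
    rw [Module.natCard_eq_pow_finrank (K := ZMod p), Nat.card_zmod]
  have hp2 : p ≠ 2 := by
    rintro rfl
    rw [h1] at hodd
    have h0 : Module.finrank (ZMod 2) F ≠ 0 := Module.finrank_pos.ne'
    exact (Nat.not_even_iff_odd.2 hodd) ((Nat.even_pow.2 ⟨even_two, h0⟩))
  have hp3 : 3 ≤ p := by
    have := hp.out.two_le
    omega
  have hcomm : ∀ (ρ : F ≃+* F) (r : ZMod p), ρ (algebraMap (ZMod p) F r) = algebraMap (ZMod p) F r := by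
    intro ρ r
    obtain ⟨n, rfl⟩ := ZMod.natCast_zmod_surjective r
    rw [map_natCast, map_natCast]
  have h2 : Nat.card (F ≃+* F) ≤ Nat.card (F ≃ₐ[ZMod p] F) := by
    refine Nat.card_le_card_of_injective (fun ρ : F ≃+* F => AlgEquiv.ofRingEquiv (hcomm ρ)) ?_
    intro ρ τ h
    ext x
    exact congrArg (fun e : F ≃ₐ[ZMod p] F => e x) h
  have h3 : Nat.card (F ≃ₐ[ZMod p] F) ≤ Module.finrank (ZMod p) F := by
    rw [Nat.card_eq_fintype_card]
    exact AlgEquiv.card_le
  calc 3 ^ Nat.card (F ≃+* F) ≤ 3 ^ Module.finrank (ZMod p) F :=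
        Nat.pow_le_pow_right (by norm_num) (h2.trans h3)
    _ ≤ p ^ Module.finrank (ZMod p) F := Nat.pow_le_pow_left hp3 _
    _ = Nat.card F := h1.symm

end field

section aut

variable {F : Type*} [Field F] {L : Type*} [Group L]

/-- Two automorphisms with the same field automorphism: the square of the quotient is inner. -/
theorem sq_inner (π : Matrix.SpecialLinearGroup (Fin 2) F →* L) (hπ : Function.Surjective π)
    {α β : MulAut L} {g h : GL (Fin 2) F} {σ : F ≃+* F}
    (hα : ∀ x, α (π x) = π (conjGL g (fieldAut σ x)))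
    (hβ : ∀ x, β (π x) = π (conjGL h (fieldAut σ x))) :
    ∃ z : L, ∀ y, (α * β⁻¹) ((α * β⁻¹) y) = z * y * z⁻¹ := by
  have key : ∀ x, (α * β⁻¹) (π x) = π (conjGL (g * h⁻¹) x) := by
    intro x
    have h1 : β (π ((fieldAut σ)⁻¹ (conjGL h⁻¹ x))) = π x := by
      rw [hβ, MulAut.apply_inv_self, ← MulAut.mul_apply, ← map_mul, mul_inv_cancel, map_one,
        MulAut.one_apply]
    have h2 : β⁻¹ (π x) = π ((fieldAut σ)⁻¹ (conjGL h⁻¹ x)) := by
      rw [← h1, MulAut.inv_apply_self]
    rw [MulAut.mul_apply, h2, hα, MulAut.apply_inv_self, ← MulAut.mul_apply, ← map_mul]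
  obtain ⟨s, hs⟩ := conjGL_of_det_sq ((g * h⁻¹) * (g * h⁻¹)) ((g * h⁻¹).1.det)
    (by
      have := (Matrix.GeneralLinearGroup.det (g * h⁻¹)).ne_zero
      exact this)
    (by rw [Units.val_mul, Matrix.det_mul, sq])
  refine ⟨π s, fun y => ?_⟩
  obtain ⟨x, rfl⟩ := hπ y
  rw [key, key, ← MulAut.mul_apply, ← map_mul, hs, map_mul, map_mul, map_inv]

variable [Finite F]

omit [Finite F] in
/-- Odd order automorphisms fixing commuting involutions `a, b` are determined by their field
automorphism. -/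
theorem eq_of_same (h2 : (2 : F) ≠ 0) (e : L ≃* Matrix.ProjectiveSpecialLinearGroup (Fin 2) F)
    {a b : L} (hab : CommInv (e a) (e b)) {γ : MulAut L} (hodd : Odd (orderOf γ))
    (ha : γ a = a) (hb : γ b = b) {z : L} (hz : ∀ y, γ (γ y) = z * y * z⁻¹) : γ = 1 := by
  have hza : z * a = a * z := by
    have := hz a
    rw [ha, ha] at this
    exact (eq_mul_inv_iff_mul_eq.1 this).symm
  have hzb : z * b = b * z := by
    have := hz b
    rw [hb, hb] at this
    exact (eq_mul_inv_iff_mul_eq.1 this).symm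
  have h3 := Cfsg.Agent.Classification.TypeZ.PslCompOf.mem_four h2 hab (g := e z)
    (by rw [← map_mul, ← map_mul, hza]) (by rw [← map_mul, ← map_mul, hzb])
  have hzz : z * z = 1 := by
    apply e.injective
    rw [map_mul, map_one]
    rcases h3 with h3 | h3 | h3 | h3
    · rw [h3, one_mul]
    · rw [h3, hab.xx]
    · rw [h3, hab.yy]
    · rw [h3]
      calc e a * e b * (e a * e b) = e a * (e b * e a) * e b := by simp only [mul_assoc]
        _ = e a * (e a * e b) * e b := by rw [hab.comm]
        _ = (e a * e a) * (e b * e b) := by simp only [mul_assoc]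
        _ = 1 := by rw [hab.xx, hab.yy, one_mul]
  have h4 : γ ^ 4 = 1 := by
    ext y
    have : (γ ^ 4) y = γ (γ (γ (γ y))) := rfl
    rw [this, hz, hz, MulAut.one_apply]
    have hzi : z⁻¹ = z := inv_eq_of_mul_eq_one_left hzz
    calc z * (z * y * z⁻¹) * z⁻¹ = (z * z) * y * (z * z)⁻¹ := by group
      _ = y := by rw [hzz]; simp
  have h5 : orderOf γ ∣ 4 := orderOf_dvd_of_pow_eq_one h4
  have h6 : Nat.Coprime (orderOf γ) (2 ^ 2) := Nat.Coprime.pow_right 2 (Nat.coprime_two_right.2 hodd)
  rw [← orderOf_eq_one_iff]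
  exact Nat.Coprime.eq_one_of_dvd h6 h5

end aut

section main

open Subgroup

variable {G : Type*} [Group G] {F : Type*} [Field F] [Finite F]

/-- `D` of odd order normalising `L ≅ PSL(2,F)` and centralising two commuting involutions of `L`:
`3 ^ |D : C_D(L)| ≤ |F|`. -/
theorem three_pow_relIndex_le (hF : Odd (Nat.card F)) {L D : Subgroup G}
    (e : L ≃* Matrix.ProjectiveSpecialLinearGroup (Fin 2) F) (hD : Odd (Nat.card D))
    (hDN : D ≤ normalizer (L : Set G)) {a b : G} (ha : a ∈ L) (hb : b ∈ L)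
    (hab : CommInv a b) (hDa : D ≤ centralizer ({a} : Set G))
    (hDb : D ≤ centralizer ({b} : Set G)) :
    3 ^ ((centralizer (L : Set G)).relIndex D) ≤ Nat.card F := by
  classical
  have h2 : (2 : F) ≠ 0 := by
    intro h0
    have h1 : CharP F 2 := CharTwo.of_one_ne_zero_of_two_eq_zero one_ne_zero h0
    let _ : Algebra (ZMod 2) F := ZMod.algebra F 2
    have hfin : FiniteDimensional (ZMod 2) F := Module.Finite.of_finite
    have h3 : Nat.card F = 2 ^ Module.finrank (ZMod 2) F := by
      rw [Module.natCard_eq_pow_finrank (K := ZMod 2), Nat.card_zmod]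
    rw [h3] at hF
    have h0 : Module.finrank (ZMod 2) F ≠ 0 := Module.finrank_pos.ne'
    exact (Nat.not_even_iff_odd.2 hF) ((Nat.even_pow.2 ⟨even_two, h0⟩))
  set f : D →* MulAut L := L.normalizerMonoidHom.comp (inclusion hDN) with hf
  have hfd : ∀ (d : D) (z : L), ((f d z : L) : G) = d * z * (d : G)⁻¹ := fun d z => rfl
  have hker : f.ker = (centralizer (L : Set G)).subgroupOf D := by
    ext d
    rw [hf, ← MonoidHom.comap_ker, normalizerMonoidHom_ker]
    rfl
  have hcard : Nat.card f.range = (centralizer (L : Set G)).relIndex D := by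
    rw [relIndex, ← hker, ← Subgroup.index_ker]
  set π : Matrix.SpecialLinearGroup (Fin 2) F →* L := e.symm.toMonoidHom.comp
    (QuotientGroup.mk' (Subgroup.center (Matrix.SpecialLinearGroup (Fin 2) F))) with hπ
  have hπs : Function.Surjective π := e.symm.surjective.comp (QuotientGroup.mk'_surjective _)
  have hπk : π.ker ≤ Subgroup.center (Matrix.SpecialLinearGroup (Fin 2) F) := by
    intro x hx
    rw [← QuotientGroup.eq_one_iff]
    exact e.symm.map_eq_one_iff.1 hx
  choose g σ hgσ using fun α : f.range => exists_gl_ringEquiv π hπs hπk (α : MulAut L)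
  have hinj : Function.Injective σ := by
    rintro α β hαβ
    obtain ⟨z, hz⟩ := sq_inner π hπs (hgσ α) (by rw [hαβ]; exact hgσ β)
    obtain ⟨d, hd⟩ := (α * β⁻¹).2
    have hd' : f d = (α : MulAut L) * (β : MulAut L)⁻¹ := hd
    have hfix : ∀ c : G, ∀ hc : c ∈ L, D ≤ centralizer ({c} : Set G) →
        ((α : MulAut L) * (β : MulAut L)⁻¹) ⟨c, hc⟩ = ⟨c, hc⟩ := by
      intro c hc hDc
      rw [← hd']
      apply Subtype.ext
      rw [hfd]
      have h3 := mem_centralizer_singleton_iff.1 (hDc d.2)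
      show (d : G) * c * (d : G)⁻¹ = c
      rw [h3, mul_inv_cancel_right]
    have hord : Odd (orderOf ((α : MulAut L) * (β : MulAut L)⁻¹)) := by
      rw [← hd']
      exact Odd.of_dvd_nat hD ((orderOf_map_dvd f d).trans (orderOf_dvd_natCard d))
    have hab' : CommInv (e ⟨a, ha⟩) (e ⟨b, hb⟩) := by
      obtain ⟨h5, h6, h7, h8, h9, h10⟩ := hab
      refine ⟨?_, ?_, ?_, ?_, ?_, ?_⟩
      · intro h; exact h5 (congrArg Subtype.val (e.map_eq_one_iff.1 h))
      · intro h; exact h6 (congrArg Subtype.val (e.map_eq_one_iff.1 h))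
      · intro h; exact h7 (congrArg Subtype.val (e.injective h))
      · rw [← map_mul, e.map_eq_one_iff]; exact Subtype.ext h8
      · rw [← map_mul, e.map_eq_one_iff]; exact Subtype.ext h9
      · rw [← map_mul, ← map_mul]; exact congrArg e (Subtype.ext h10)
    have h1 := eq_of_same h2 e hab' hord (hfix a ha hDa) (hfix b hb hDb) hz
    exact Subtype.ext (mul_inv_eq_one.1 h1)
  have hfinF : Finite (F ≃+* F) :=
    Finite.of_injective (fun ρ : F ≃+* F => (ρ : F → F)) DFunLike.coe_injective
  rw [← hcard]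
  calc 3 ^ Nat.card f.range ≤ 3 ^ Nat.card (F ≃+* F) :=
        Nat.pow_le_pow_right (by norm_num) (Nat.card_le_card_of_injective σ hinj)
    _ ≤ Nat.card F := three_pow_card_le F hF

end main

end Cfsg.Agent.Lib.PSL2Field
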