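import Mathlib

/-!
# Simplicity of a finite group from its exact order and a prime `p` dividing it exactly once

`isSimpleGroup_of_prime`: let `p` be a prime with `p ∣ |G|`, `p² ∤ |G|`, such that no prime power `r^i > 1`
(`r ≠ p`) dividing `|G|` is congruent to `1` mod `p`.  If for every `s` in some generating set there is `w` with
`w` and `w * s` both of order `p`, and the centre of `G` is trivial, then `G` is simple.
-/

set_option autoImplicit false

namespace Cfsg.Agent.Lib.SimpleByPrime

open Subgroup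
open scoped Pointwise

variable {G : Type*} [Group G]

/-- An element of order dividing `p` normalising a subgroup `R` of order `r ^ k`, where no `r ^ i`
(`0 < i ≤ k`) is `1` mod `p`, centralises `R`. -/
theorem commute_of_normalizes_prime_pow [Finite G] {p r k : ℕ} (hp : p.Prime) (hr : r.Prime) (hrp : r ≠ p)
    (R : Subgroup G) (hR : Nat.card R = r ^ k)
    (hk : ∀ i, 0 < i → i ≤ k → ¬ r ^ i ≡ 1 [MOD p])
    (g : G) (hg : g ^ p = 1) (hgR : ∀ x, x ∈ R → g * x * g⁻¹ ∈ R) :
    ∀ x ∈ R, g * x = x * g := by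
  classical
  have : Fact p.Prime := ⟨hp⟩
  -- zpowers g normalises R
  have hinv : ∀ x, x ∈ R → g⁻¹ * x * g ∈ R := by
    -- conj by g is injective on finite R hence surjective
    intro x hx
    have hpow : ∀ n : ℕ, ∀ x, x ∈ R → g ^ n * x * (g ^ n)⁻¹ ∈ R := by
      intro n
      induction n with
      | zero => intro x hx; simpa using hx
      | succ n ih =>
        intro x hx
        have := hgR _ (ih x hx)
        have e : g ^ (n + 1) * x * (g ^ (n + 1))⁻¹ = g * (g ^ n * x * (g ^ n)⁻¹) * g⁻¹ := by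
          rw [pow_succ']; group
        rw [e]; exact this
    have hp1 : 1 ≤ p := hp.one_le
    have := hpow (p - 1) x hx
    have e : g ^ (p - 1) = g⁻¹ := by
      apply eq_inv_of_mul_eq_one_left
      rw [← pow_succ, Nat.sub_add_cancel hp1, hg]
    rw [e, inv_inv] at this
    exact this
  let Z := Subgroup.zpowers g
  have hZnorm : ∀ z : G, z ∈ Z → ∀ x, x ∈ R → z * x * z⁻¹ ∈ R := by
    intro z hz
    have : Z ≤ Subgroup.normalizer (R : Set G) := by
      rw [Subgroup.zpowers_le]
      rw [Subgroup.mem_normalizer_iff]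
      intro x
      constructor
      · intro hx; exact hgR x hx
      · intro hx
        have := hinv _ hx
        have e : g⁻¹ * (g * x * g⁻¹) * g = x := by group
        rwa [e] at this
    intro x hx
    exact ((Subgroup.mem_normalizer_iff.mp (this hz)) x).mp hx
  let act : MulAction Z R :=
    { smul := fun z x => ⟨z.1 * x.1 * z.1⁻¹, hZnorm z.1 z.2 x.1 x.2⟩
      one_smul := by
        intro x; apply Subtype.ext; show (1 : G) * x.1 * (1 : G)⁻¹ = x.1; simp
      mul_smul := by
        intro a b x; apply Subtype.ext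
        show (a.1 * b.1) * x.1 * (a.1 * b.1)⁻¹ = a.1 * (b.1 * x.1 * b.1⁻¹) * a.1⁻¹
        group }
  have hsmul : ∀ (z : Z) (x : R), ((z • x : R) : G) = z.1 * x.1 * z.1⁻¹ := fun _ _ => rfl
  have hZp : IsPGroup p Z := by
    intro z
    refine ⟨1, ?_⟩
    obtain ⟨z, hz⟩ := z
    obtain ⟨n, rfl⟩ := Subgroup.mem_zpowers_iff.mp hz
    apply Subtype.ext
    show (g ^ n) ^ (p ^ 1) = 1
    rw [pow_one, ← zpow_natCast, ← zpow_mul, mul_comm, zpow_mul, zpow_natCast, hg, one_zpow]
  have : Finite R := inferInstance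
  have hmod := hZp.card_modEq_card_fixedPoints R
  -- fixed points correspond to C = R ⊓ centralizer {g}
  let C : Subgroup G := R ⊓ Subgroup.centralizer {g}
  have hcardC : Nat.card (MulAction.fixedPoints Z R) = Nat.card C := by
    refine Nat.card_congr ?_
    refine
      { toFun := fun x => ⟨x.1.1, x.1.2, ?_⟩
        invFun := fun x => ⟨⟨x.1, x.2.1⟩, ?_⟩
        left_inv := fun x => rfl
        right_inv := fun x => rfl }
    · show x.1.1 ∈ Subgroup.centralizer {g}
      rw [Subgroup.mem_centralizer_singleton_iff]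
      have hx := x.2 ⟨g, Subgroup.mem_zpowers g⟩
      have := congrArg (Subtype.val) hx
      rw [hsmul] at this
      simp only at this
      calc x.1.1 * g = (g * x.1.1 * g⁻¹) * g := by rw [this]
        _ = g * x.1.1 := by group
    · intro z
      apply Subtype.ext
      rw [hsmul]
      have hc := (Subgroup.mem_centralizer_singleton_iff.mp x.2.2)
      have hcomm : Commute g x.1 := (show g * x.1 = x.1 * g from hc.symm)
      obtain ⟨z, hz⟩ := z
      obtain ⟨n, rfl⟩ := Subgroup.mem_zpowers_iff.mp hz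
      have := hcomm.zpow_left n
      show g ^ n * x.1 * (g ^ n)⁻¹ = x.1
      rw [this.eq]; group
  rw [hcardC, hR] at hmod
  have hCR : C ≤ R := inf_le_left
  have hdvd : Nat.card C ∣ r ^ k := by
    rw [← hR]; exact Subgroup.card_dvd_of_le hCR
  obtain ⟨j, hjk, hj⟩ := (Nat.dvd_prime_pow hr).mp hdvd
  rw [hj] at hmod
  have hcop : Nat.Coprime p (r ^ j) :=
    Nat.Coprime.pow_right j ((Nat.coprime_primes hp hr).mpr (Ne.symm hrp))
  have hkj : r ^ (k - j) ≡ 1 [MOD p] := by
    have h1 : r ^ j * r ^ (k - j) ≡ r ^ j * 1 [MOD p] := by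
      rw [← pow_add, Nat.add_sub_cancel' hjk, mul_one]; exact hmod
    exact Nat.ModEq.cancel_left_of_coprime hcop h1
  have hkj0 : k - j = 0 := by
    by_contra hne
    exact hk (k - j) (Nat.pos_of_ne_zero hne) (Nat.sub_le _ _) hkj
  have hjk' : j = k := by omega
  subst hjk'
  have hCeq : C = R := Subgroup.eq_of_le_of_card_ge hCR (by rw [hR, hj])
  intro x hx
  rw [← hCeq] at hx
  exact (Subgroup.mem_centralizer_singleton_iff.mp hx.2).symm

/-- An element `g` with `g ^ p = 1` centralises each normal subgroup `N` of order prime to `p` provided no prime power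
`r ^ i > 1` dividing `|N|` is `1` mod `p`. -/
theorem commute_of_normal [Finite G] {p : ℕ} (hp : p.Prime) (N : Subgroup G) [hN : N.Normal]
    (hpN : ¬ p ∣ Nat.card N)
    (hord : ∀ r i : ℕ, r.Prime → 0 < i → r ^ i ∣ Nat.card N → ¬ r ^ i ≡ 1 [MOD p])
    (g : G) (hg : g ^ p = 1) : ∀ x ∈ N, g * x = x * g := by
  classical
  have : Fact p.Prime := ⟨hp⟩
  let C : Subgroup G := N ⊓ Subgroup.centralizer {g}
  suffices h : C = N by
    intro x hx
    rw [← h] at hx
    exact (Subgroup.mem_centralizer_singleton_iff.mp hx.2).symm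
  have hCN : C ≤ N := inf_le_left
  apply Subgroup.eq_of_le_of_card_ge hCN
  apply Nat.le_of_dvd Nat.card_pos
  -- for each prime r, the full r-power of |N| divides |C|
  rw [← Nat.factorization_le_iff_dvd Nat.card_pos.ne' Nat.card_pos.ne']
  intro r
  by_cases hr : r.Prime
  swap
  · rw [Nat.factorization_eq_zero_of_not_prime _ hr]; exact Nat.zero_le _
  have : Fact r.Prime := ⟨hr⟩
  by_cases hrN : r ∣ Nat.card N
  swap
  · rw [Nat.factorization_eq_zero_of_not_dvd hrN]; exact Nat.zero_le _
  have hrp : r ≠ p := by rintro rfl; exact hpN hrN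
  -- zpowers g acts on Sylow r N
  let Z : Subgroup (ConjAct G) := Subgroup.zpowers (ConjAct.toConjAct g)
  have hZp : IsPGroup p Z := by
    intro z
    refine ⟨1, ?_⟩
    obtain ⟨z, hz⟩ := z
    obtain ⟨n, rfl⟩ := Subgroup.mem_zpowers_iff.mp hz
    apply Subtype.ext
    show ((ConjAct.toConjAct g) ^ n) ^ (p ^ 1) = 1
    rw [pow_one, ← zpow_natCast, ← zpow_mul, mul_comm, zpow_mul, zpow_natCast, ← map_pow, hg, map_one, one_zpow]
  have : Finite (Sylow r N) := inferInstance
  have hmod := hZp.card_modEq_card_fixedPoints (Sylow r N)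
  obtain ⟨P0⟩ : Nonempty (Sylow r N) := inferInstance
  have hdvd : Nat.card (Sylow r N) ∣ Nat.card N := by
    exact (Sylow.card_dvd_index P0).trans (Subgroup.index_dvd_card _)
  have hnot : ¬ p ∣ Nat.card (Sylow r N) := fun h => hpN (h.trans hdvd)
  have hne : Nat.card (MulAction.fixedPoints Z (Sylow r N)) ≠ 0 := by
    intro h0
    rw [h0] at hmod
    exact hnot ((Nat.modEq_zero_iff_dvd).mp hmod)
  obtain ⟨⟨P, hP⟩⟩ : Nonempty (MulAction.fixedPoints Z (Sylow r N)) := by
    rw [← not_isEmpty_iff]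
    intro he
    exact hne (Nat.card_eq_zero.mpr (Or.inl he))
  have hPg : (ConjAct.toConjAct g) • P = P := hP ⟨ConjAct.toConjAct g, Subgroup.mem_zpowers _⟩
  let R : Subgroup G := (P : Subgroup N).map N.subtype
  have hRcard : Nat.card R = r ^ (Nat.card N).factorization r := by
    have h1 : Nat.card R = Nat.card (P : Subgroup N) :=
      Nat.card_congr ((P : Subgroup N).equivMapOfInjective N.subtype N.subtype_injective).toEquiv.symm
    rw [h1, P.card_eq_multiplicity]
  have hgR : ∀ x, x ∈ R → g * x * g⁻¹ ∈ R := by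
    intro x hx
    obtain ⟨y, hy, rfl⟩ := Subgroup.mem_map.mp hx
    refine Subgroup.mem_map.mpr ⟨(ConjAct.toConjAct g) • y, ?_, ?_⟩
    · have h2 : (ConjAct.toConjAct g) • (P : Subgroup N) = (P : Subgroup N) := by
        exact congrArg (fun Q : Sylow r N => (Q : Subgroup N)) hPg
      rw [← h2]
      exact Subgroup.smul_mem_pointwise_smul _ _ _ hy
    · simp [ConjAct.Subgroup.val_conj_smul, ConjAct.smul_def]
  have hcomm := commute_of_normalizes_prime_pow hp hr hrp R hRcard
    (fun i hi hik => hord r i hr hi ((pow_dvd_pow r hik).trans (Nat.ordProj_dvd _ _))) g hg hgR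
  have hRC : R ≤ C := by
    intro x hx
    refine ⟨?_, ?_⟩
    · obtain ⟨y, hy, rfl⟩ := Subgroup.mem_map.mp hx
      exact y.2
    · exact Subgroup.mem_centralizer_singleton_iff.mpr (hcomm x hx).symm
  have hd : r ^ (Nat.card N).factorization r ∣ Nat.card C := by
    rw [← hRcard]; exact Subgroup.card_dvd_of_le hRC
  exact (hr.pow_dvd_iff_le_factorization Nat.card_pos.ne').mp hd

/-- If `p ∣ |G|` exactly once, a normal subgroup of order divisible by `p` contains all elements of order `p`. -/
theorem mem_of_orderOf_eq [Finite G] {p : ℕ} (hp : p.Prime) (hp2 : ¬ p ^ 2 ∣ Nat.card G)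
    (N : Subgroup G) [hN : N.Normal] (hpN : p ∣ Nat.card N) (w : G) (hw : orderOf w = p) : w ∈ N := by
  classical
  have : Fact p.Prime := ⟨hp⟩
  obtain ⟨n, hn⟩ := exists_prime_orderOf_dvd_card' p hpN
  have hfac : (Nat.card G).factorization p = 1 := by
    have hpG : p ∣ Nat.card G := hpN.trans (Subgroup.card_subgroup_dvd_card N)
    have h1 : 1 ≤ (Nat.card G).factorization p :=
      (hp.dvd_iff_one_le_factorization Nat.card_pos.ne').mp hpG
    have h2 : ¬ 2 ≤ (Nat.card G).factorization p := fun h =>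
      hp2 ((hp.pow_dvd_iff_le_factorization Nat.card_pos.ne').mpr h)
    omega
  have hcard : ∀ u : G, orderOf u = p → Nat.card (Subgroup.zpowers u) = p ^ (Nat.card G).factorization p := by
    intro u hu
    rw [Nat.card_zpowers, hu, hfac, pow_one]
  have hn' : orderOf (n : G) = p := by rw [Subgroup.orderOf_coe, hn]
  let P : Sylow p G := Sylow.ofCard (Subgroup.zpowers w) (hcard w hw)
  let Q : Sylow p G := Sylow.ofCard (Subgroup.zpowers (n : G)) (hcard _ hn')
  obtain ⟨g, hg⟩ := MulAction.exists_smul_eq G Q P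
  have hP : (P : Subgroup G) = Subgroup.zpowers w := rfl
  have hQ : (Q : Subgroup G) = Subgroup.zpowers (n : G) := rfl
  have hw' : w ∈ (P : Subgroup G) := by rw [hP]; exact Subgroup.mem_zpowers w
  rw [← hg] at hw'
  have hle : ((g • Q : Sylow p G) : Subgroup G) ≤ N := by
    rw [Sylow.coe_subgroup_smul]
    intro x hx
    obtain ⟨y, hy, rfl⟩ := Subgroup.mem_smul_pointwise_iff_exists _ _ _ |>.mp hx
    have hyN : y ∈ N := by
      have : Subgroup.zpowers (n : G) ≤ N := by
        rw [Subgroup.zpowers_le]; exact n.2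
      exact this hy
    simpa [MulAut.smul_def, MulAut.conj_apply] using hN.conj_mem y hyN g
  exact hle hw'

/-- **Simplicity criterion.** -/
theorem isSimpleGroup_of_prime [Finite G] (p : ℕ) (hp : p.Prime)
    (hpG : p ∣ Nat.card G) (hp2 : ¬ p ^ 2 ∣ Nat.card G)
    (hord : ∀ r i : ℕ, r.Prime → r ≠ p → 0 < i → r ^ i ∣ Nat.card G → ¬ r ^ i ≡ 1 [MOD p])
    (S : Set G) (hS : Subgroup.closure S = ⊤)
    (hw : ∀ s ∈ S, ∃ w : G, orderOf w = p ∧ orderOf (w * s) = p)
    (hZ : Subgroup.center G = ⊥) : IsSimpleGroup G := by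
  classical
  have : Fact p.Prime := ⟨hp⟩
  -- key claim
  have key : ∀ N : Subgroup G, N.Normal → p ∣ Nat.card N → N = ⊤ := by
    intro N hN hpN
    rw [eq_top_iff, ← hS, Subgroup.closure_le]
    intro s hs
    obtain ⟨w, hw1, hw2⟩ := hw s hs
    have h1 := mem_of_orderOf_eq hp hp2 N hpN w hw1
    have h2 := mem_of_orderOf_eq hp hp2 N hpN (w * s) hw2
    have h3 := N.mul_mem (N.inv_mem h1) h2
    simpa using h3
  obtain ⟨w, hwo⟩ := exists_prime_orderOf_dvd_card' p hpG
  have : Nontrivial G := by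
    refine ⟨w, 1, ?_⟩
    rintro rfl
    rw [orderOf_one] at hwo
    exact hp.one_lt.ne hwo
  refine ⟨fun N hN => ?_⟩
  by_cases hpN : p ∣ Nat.card N
  · right; exact key N hN hpN
  · left
    have hcomm := commute_of_normal hp N hpN
      (fun r i hr hi hd => hord r i hr
        (by rintro rfl; exact hpN ((dvd_pow_self r hi.ne').trans hd)) hi
        (hd.trans (Subgroup.card_subgroup_dvd_card N))) w (by rw [← hwo]; exact pow_orderOf_eq_one w)
    have hwC : w ∈ Subgroup.centralizer (N : Set G) := by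
      rw [Subgroup.mem_centralizer_iff]
      intro x hx
      exact (hcomm x hx).symm
    have hpC : p ∣ Nat.card (Subgroup.centralizer (N : Set G)) := by
      have h := Subgroup.orderOf_dvd_natCard _ hwC
      rwa [hwo] at h
    have hCtop := key (Subgroup.centralizer (N : Set G)) inferInstance hpC
    rw [eq_bot_iff, ← hZ]
    intro x hx
    rw [Subgroup.mem_center_iff]
    intro g
    have hg : g ∈ Subgroup.centralizer (N : Set G) := by rw [hCtop]; exact Subgroup.mem_top g
    exact ((Subgroup.mem_centralizer_iff.mp hg) x hx).symm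

/-- Prime powers dividing a product given by a list of (prime, exponent) pairs. -/
theorem exists_mem_of_pow_dvd_prod (L : List (ℕ × ℕ)) (hL : ∀ q ∈ L, q.1.Prime)
    (hnd : (L.map Prod.fst).Nodup) {r i : ℕ} (hr : r.Prime) (hi : 0 < i)
    (hd : r ^ i ∣ (L.map fun q => q.1 ^ q.2).prod) : ∃ q ∈ L, q.1 = r ∧ i ≤ q.2 := by
  induction L with
  | nil =>
    simp only [List.map_nil, List.prod_nil, Nat.dvd_one] at hd
    exact absurd hd (Nat.one_lt_pow hi.ne' hr.one_lt).ne'
  | cons q L ih =>
    rw [List.map_cons, List.prod_cons] at hd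
    rw [List.map_cons, List.nodup_cons] at hnd
    by_cases hqr : q.1 = r
    · -- the rest is coprime to r
      have hcop : Nat.Coprime (r ^ i) ((L.map fun q => q.1 ^ q.2).prod) := by
        apply Nat.Coprime.pow_left
        rw [hr.coprime_iff_not_dvd]
        intro hdv
        obtain ⟨a, ha, hra⟩ := (Prime.dvd_prod_iff hr.prime).mp hdv
        obtain ⟨q', hq', rfl⟩ := List.mem_map.mp ha
        have h1 : r ∣ q'.1 := hr.dvd_of_dvd_pow hra
        have h2 : r = q'.1 := (Nat.prime_dvd_prime_iff_eq hr (hL q' (List.mem_cons_of_mem _ hq'))).mp h1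
        exact hnd.1 (List.mem_map.mpr ⟨q', hq', by rw [hqr, h2]⟩)
      have h3 : r ^ i ∣ q.1 ^ q.2 := hcop.dvd_of_dvd_mul_right hd
      rw [hqr] at h3
      exact ⟨q, List.mem_cons_self, hqr, (Nat.pow_dvd_pow_iff_le_right hr.one_lt).mp h3⟩
    · have hcop : Nat.Coprime (r ^ i) (q.1 ^ q.2) := by
        apply Nat.Coprime.pow
        exact (Nat.coprime_primes hr (hL q List.mem_cons_self)).mpr (fun h => hqr h.symm)
      have h3 := hcop.dvd_of_dvd_mul_left hd
      obtain ⟨q', hq', h⟩ := ih (fun q hq => hL q (List.mem_cons_of_mem _ hq)) hnd.2 h3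
      exact ⟨q', List.mem_cons_of_mem _ hq', h⟩

/-- **Simplicity criterion**, with the order given by a factorisation list: `|G| = p * ∏ r ^ e` over `(r, e) ∈ L`;
the condition on prime powers is a finite check (`by decide`). -/
theorem isSimpleGroup_of_prime_list (p : ℕ) (hp : p.Prime) (L : List (ℕ × ℕ))
    (hcard : Nat.card G = p * (L.map fun q => q.1 ^ q.2).prod)
    (hL : ∀ q ∈ L, q.1.Prime) (hnd : (L.map Prod.fst).Nodup)
    (hLp : ∀ q ∈ L, q.1 ≠ p ∧ ∀ i ∈ List.range q.2, q.1 ^ (i + 1) % p ≠ 1)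
    (S : Set G) (hS : Subgroup.closure S = ⊤)
    (hw : ∀ s ∈ S, ∃ w : G, orderOf w = p ∧ orderOf (w * s) = p)
    (hZ : Subgroup.center G = ⊥) : IsSimpleGroup G := by
  have hcop : Nat.Coprime p ((L.map fun q => q.1 ^ q.2).prod) := by
    rw [hp.coprime_iff_not_dvd]
    intro hdv
    obtain ⟨a, ha, hra⟩ := (Prime.dvd_prod_iff hp.prime).mp hdv
    obtain ⟨q', hq', rfl⟩ := List.mem_map.mp ha
    have h1 : p ∣ q'.1 := hp.dvd_of_dvd_pow hra
    have h2 : p = q'.1 := (Nat.prime_dvd_prime_iff_eq hp (hL q' hq')).mp h1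
    exact (hLp q' hq').1 h2.symm
  have hpos : Nat.card G ≠ 0 := by
    rw [hcard]
    apply mul_ne_zero hp.ne_zero
    rw [Ne, List.prod_eq_zero_iff]
    intro h0
    obtain ⟨q, hq, h⟩ := List.mem_map.mp h0
    exact (pow_pos (hL q hq).pos q.2).ne' h
  have : Finite G := (Nat.card_ne_zero.mp hpos).2
  refine isSimpleGroup_of_prime p hp (by rw [hcard]; exact dvd_mul_right _ _) ?_ ?_ S hS hw hZ
  · rw [hcard, pow_two]
    intro h
    have h1 := Nat.dvd_of_mul_dvd_mul_left hp.pos h
    exact (hp.coprime_iff_not_dvd.mp hcop) h1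
  · intro r i hr hrp hi hd hmod
    rw [hcard] at hd
    have hc : Nat.Coprime (r ^ i) p := Nat.Coprime.pow_left i ((Nat.coprime_primes hr hp).mpr hrp)
    have hd' := hc.dvd_of_dvd_mul_left hd
    obtain ⟨q, hq, rfl, hiq⟩ := exists_mem_of_pow_dvd_prod L hL hnd hr hi hd'
    have h1 := (hLp q hq).2 (i - 1) (List.mem_range.mpr (by omega))
    rw [Nat.sub_add_cancel hi] at h1
    apply h1
    have h2 : q.1 ^ i % p = 1 % p := hmod
    rwa [Nat.mod_eq_of_lt hp.one_lt] at h2

/-- Trivial centre from a faithful right action `act` on vectors: `v` is up to `0` the only fixed vector of `g₀`,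
and an element fixing all translates of `v` is trivial. -/
theorem center_eq_bot_of_fixed_vector {V : Type*} (zero : V) (act : V → G → V)
    (hmul : ∀ v g h, act v (g * h) = act (act v g) h)
    (hzero : ∀ v g, act v g = zero → v = zero)
    (g₀ : G) (v : V) (hv : v ≠ zero) (hgv : act v g₀ = v)
    (hfix : ∀ u, act u g₀ = u → u = zero ∨ u = v)
    (hfaith : ∀ z, (∀ h, act (act v h) z = act v h) → z = 1) : Subgroup.center G = ⊥ := by
  rw [eq_bot_iff]
  intro z hz
  rw [Subgroup.mem_bot]
  have hc : ∀ g, g * z = z * g := Subgroup.mem_center_iff.mp hz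
  have h1 : act (act v z) g₀ = act v z := by
    rw [← hmul, ← hc, hmul, hgv]
  have h2 : act v z = v := by
    rcases hfix _ h1 with h | h
    · exact absurd (hzero _ _ h) hv
    · exact h
  apply hfaith
  intro h
  rw [← hmul, hc, hmul, h2]

/-- Variant of `center_eq_bot_of_fixed_vector` with the common fixed vectors of a set `S₀` of elements. -/
theorem center_eq_bot_of_common_fixed_vector {V : Type*} (zero : V) (act : V → G → V)
    (hmul : ∀ v g h, act v (g * h) = act (act v g) h)
    (hzero : ∀ v g, act v g = zero → v = zero)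
    (S₀ : Set G) (v : V) (hv : v ≠ zero) (hgv : ∀ g ∈ S₀, act v g = v)
    (hfix : ∀ u, (∀ g ∈ S₀, act u g = u) → u = zero ∨ u = v)
    (hfaith : ∀ z, (∀ h, act (act v h) z = act v h) → z = 1) : Subgroup.center G = ⊥ := by
  rw [eq_bot_iff]
  intro z hz
  rw [Subgroup.mem_bot]
  have hc : ∀ g, g * z = z * g := Subgroup.mem_center_iff.mp hz
  have h1 : ∀ g ∈ S₀, act (act v z) g = act v z := by
    intro g hg
    rw [← hmul, ← hc, hmul, hgv g hg]
  have h2 : act v z = v := by
    rcases hfix _ h1 with h | h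
    · exact absurd (hzero _ _ h) hv
    · exact h
  apply hfaith
  intro h
  rw [← hmul, hc, hmul, h2]

end Cfsg.Agent.Lib.SimpleByPrime
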