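import Mathlib
set_option autoImplicit false
set_option linter.style.haveILetI false

/-!
The automorphism group of an elementary abelian group of order `p ^ n` is `GL (Fin n) (ZMod p)`;
consequences for groups with a self-centralising elementary abelian normal subgroup.
-/

namespace Cfsg.Agent.Lib.ElemAbGL

/-- For a vector space over `ZMod p`, additive automorphisms of the additive group (written
multiplicatively) are the same as linear automorphisms. -/
noncomputable def mulAutEquivLinear {V : Type*} [CommGroup V] {p : ℕ}
    [Module (ZMod p) (Additive V)] : MulAut V ≃* (Additive V ≃ₗ[ZMod p] Additive V) where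
  toFun f := LinearEquiv.ofBijective
    ((MulEquiv.toAdditive f).toAddMonoidHom.toZModLinearMap p)
    (MulEquiv.toAdditive f).bijective
  invFun f := MulEquiv.toAdditive.symm f.toAddEquiv
  left_inv f := by ext; rfl
  right_inv f := by ext; rfl
  map_mul' f g := by ext; rfl

/-- A module over the integers modulo a prime `p` with `p ^ n` elements has a basis indexed by
`Fin n`. -/
theorem exists_basis {W : Type*} [AddCommGroup W] (p n : ℕ) [Fact p.Prime] [Module (ZMod p) W]
    (hc : Nat.card W = p ^ n) : Nonempty (Module.Basis (Fin n) (ZMod p) W) := by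
  have hp : p.Prime := Fact.out
  have : Finite W := Nat.finite_of_card_ne_zero (by rw [hc]; exact pow_ne_zero _ hp.ne_zero)
  have : Module.Finite (ZMod p) W := Module.Finite.of_finite
  have h1 := Module.natCard_eq_pow_finrank (K := ZMod p) (V := W)
  rw [hc, Nat.card_eq_fintype_card, ZMod.card] at h1
  exact ⟨Module.finBasisOfFinrankEq (ZMod p) W (Nat.pow_right_injective hp.two_le h1).symm⟩

/-- Auxiliary form of `mulAut_equiv_GL` with the module structure given. -/
theorem mulAut_equiv_GL_of_module {V : Type*} [CommGroup V] (p n : ℕ) [Fact p.Prime]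
    [Module (ZMod p) (Additive V)] (hc : Nat.card V = p ^ n) :
    Nonempty (MulAut V ≃* GL (Fin n) (ZMod p)) := by
  obtain ⟨b⟩ := exists_basis (W := Additive V) p n hc
  let e1 := mulAutEquivLinear (V := V) (p := p)
  let e2 := (LinearMap.GeneralLinearGroup.generalLinearEquiv (ZMod p) (Additive V)).symm
  let e3 := (Matrix.GeneralLinearGroup.toLin' b).symm
  exact ⟨(e1.trans e2).trans e3⟩

/-- The automorphism group of an elementary abelian `p`-group of order `p ^ n` is isomorphic to
the general linear group of degree `n` over the integers modulo `p`. -/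
theorem mulAut_equiv_GL {V : Type*} [CommGroup V] (p n : ℕ) [Fact p.Prime]
    (hpow : ∀ x : V, x ^ p = 1) (hc : Nat.card V = p ^ n) :
    Nonempty (MulAut V ≃* GL (Fin n) (ZMod p)) := by
  have h : ∀ x : Additive V, p • x = 0 := fun x => congrArg Additive.ofMul (hpow x.toMul)
  exact @mulAut_equiv_GL_of_module V _ p n _ (AddCommGroup.zmodModule h) hc

/-- If `N` is a commutative normal subgroup containing its centraliser, then `G ⧸ N` embeds in the
automorphism group of `N`. -/
theorem exists_injective_hom_mulAut {G : Type*} [Group G] (N : Subgroup G) [N.Normal]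
    (hcomm : ∀ x ∈ N, ∀ y ∈ N, x * y = y * x)
    (hc : Subgroup.centralizer (N : Set G) ≤ N) :
    ∃ f : G ⧸ N →* MulAut N, Function.Injective f ∧
      ∀ g : G, f (QuotientGroup.mk g) = MulAut.conjNormal g := by
  have hker : ∀ g : G, (MulAut.conjNormal g : MulAut N) = 1 ↔ g ∈ N := by
    intro g
    constructor
    · intro h
      apply hc
      rw [Subgroup.mem_centralizer_iff]
      intro x hx
      have h1 := congrArg (fun φ : MulAut N => ((φ ⟨x, hx⟩ : N) : G)) h
      simp only [MulAut.conjNormal_apply, MulAut.one_apply] at h1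
      calc x * g = (g * x * g⁻¹) * g := by rw [h1]
        _ = g * x := by group
    · intro h
      ext x
      simp only [MulAut.conjNormal_apply, MulAut.one_apply]
      rw [hcomm g h x x.2]
      group
  refine ⟨QuotientGroup.lift N MulAut.conjNormal (fun g hg => (hker g).2 hg), ?_, fun g => rfl⟩
  rw [injective_iff_map_eq_one]
  intro a
  induction a using QuotientGroup.induction_on with
  | H g =>
    intro h
    exact (QuotientGroup.eq_one_iff g).2 ((hker g).1 h)

/-- A group with a self-centralising elementary abelian normal subgroup `N` of order `p ^ n` whose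
index is the order of `GL n p` has quotient `G ⧸ N` isomorphic to `GL n p`. -/
theorem quotient_equiv_GL {G : Type*} [Group G] (N : Subgroup G) [N.Normal] (p n : ℕ)
    [Fact p.Prime] (hcomm : ∀ x ∈ N, ∀ y ∈ N, x * y = y * x) (hpow : ∀ x ∈ N, x ^ p = 1)
    (hN : Nat.card N = p ^ n) (hc : Subgroup.centralizer (N : Set G) ≤ N)
    (hG : Nat.card (G ⧸ N) = Nat.card (GL (Fin n) (ZMod p))) :
    Nonempty (G ⧸ N ≃* GL (Fin n) (ZMod p)) := by
  letI : CommGroup N := { (inferInstance : Group N) with
    mul_comm := fun a b => Subtype.ext (hcomm a a.2 b b.2) }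
  obtain ⟨e⟩ := mulAut_equiv_GL (V := N) p n (fun x => Subtype.ext (hpow x x.2)) hN
  obtain ⟨f, hf, -⟩ := exists_injective_hom_mulAut N hcomm hc
  haveI : Finite (GL (Fin n) (ZMod p)) := inferInstance
  have hinj : Function.Injective (e.toMonoidHom.comp f) := e.injective.comp hf
  haveI : Finite (G ⧸ N) := Finite.of_injective _ hinj
  exact ⟨MulEquiv.ofBijective (e.toMonoidHom.comp f)
    ((Nat.bijective_iff_injective_and_card _).2 ⟨hinj, hG⟩)⟩

/-- The order of `GL₂(3)`. -/
theorem card_GL_two_three : Nat.card (GL (Fin 2) (ZMod 3)) = 48 := by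
  haveI : Fact (Nat.Prime 3) := ⟨Nat.prime_three⟩
  rw [Matrix.card_GL_field]
  simp [Fin.prod_univ_two, ZMod.card]

/-- Groups of shape `3 ^ 2 : GL₂(3)`: a group of order 432 with a self-centralising elementary
abelian normal subgroup of order 9. -/
theorem quotient_equiv_GL_two_three {G : Type*} [Group G] (N : Subgroup G) [N.Normal]
    (hcomm : ∀ x ∈ N, ∀ y ∈ N, x * y = y * x) (hpow : ∀ x ∈ N, x ^ 3 = 1)
    (hN : Nat.card N = 9) (hc : Subgroup.centralizer (N : Set G) ≤ N)
    (hG : Nat.card G = 432) :
    Nonempty (G ⧸ N ≃* GL (Fin 2) (ZMod 3)) := by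
  haveI : Fact (Nat.Prime 3) := ⟨Nat.prime_three⟩
  refine quotient_equiv_GL N 3 2 hcomm hpow (by rw [hN]; norm_num) hc ?_
  rw [card_GL_two_three]
  have h := Subgroup.card_mul_index N
  rw [hN, hG, Subgroup.index] at h
  omega

end Cfsg.Agent.Lib.ElemAbGL
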