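import Mathlib
import Cfsg.Agent.Involutions.BaerSuzuki

/-!
# Hall triple systems: involutions whose products all have order 1 or 3

If `T` is a conjugation-closed set of involutions of a finite group such that every product of
two members has order dividing `3`, then the products of two members generate a `3`-group.

* `Hall`: the axioms of a distributive Steiner quasigroup.
* `exists_map`: four points of such a quasigroup are the images of the origin and the first three
  unit vectors of `(ZMod 3) ^ 4` under a map compatible with translations by these four points in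
  the quasigroup `(p, q) ↦ - p - q + (0, 0, 0, (p₃ - q₃) (p₁ q₂ - p₂ q₁))`.  The proof is a finite
  certificate checked by the kernel.
* `isPGroup_closure_mul`: the result for groups, through the Baer–Suzuki theorem.
-/

set_option autoImplicit false

namespace Cfsg.Agent.Lib.HallTriple

/-- Axioms of a distributive Steiner quasigroup (Hall triple system). -/
structure Hall {Q : Type*} (op : Q → Q → Q) : Prop where
  idem : ∀ x, op x x = x
  comm : ∀ x y, op x y = op y x
  inv : ∀ x y, op x (op x y) = y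
  dist : ∀ x y z, op x (op y z) = op (op x y) (op x z)

/-- Codes (base three digits) of the 81 points in breadth first order. -/
def ordL : List ℕ :=
  [0, 1, 3, 9, 2, 6, 18, 8, 20, 24, 7, 19, 5, 21, 11, 15, 4, 22, 10, 43, 12, 68, 23, 71, 25, 44, 
   79, 50, 26, 17, 53, 77, 80, 52, 16, 42, 40, 49, 75, 14, 67, 65, 76, 46, 41, 13, 32, 70, 61, 66, 
   37, 48, 73, 39, 58, 69, 34, 64, 31, 38, 59, 47, 72, 62, 33, 78, 45, 35, 56, 51, 60, 74, 29, 63, 
   55, 36, 27, 30, 28, 57, 54]

/-- The inverse table of `ordL`. -/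
def invL : List ℕ :=
  [0, 1, 4, 2, 16, 12, 5, 10, 7, 3, 18, 14, 20, 45, 39, 15, 34, 29, 6, 11, 8, 13, 17, 22, 9, 24, 
   28, 76, 78, 72, 77, 58, 46, 64, 56, 67, 75, 50, 59, 53, 36, 44, 35, 19, 25, 66, 43, 61, 51, 37, 
   27, 69, 33, 30, 80, 74, 68, 79, 54, 60, 70, 48, 63, 73, 57, 41, 49, 40, 21, 55, 47, 23, 62, 52, 
   71, 38, 42, 31, 65, 26, 32]

/-- Parents of the points `4, 5, …, 80`: point `k + 4` is the product of the two points of
entry `k`. -/
def parL : List (ℕ × ℕ) :=
  [(0,1), (0,2), (0,3), (1,2), (1,3), (2,3), (4,2), (4,3), (5,1), (5,3), (6,1), (6,2), (7,0), 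
   (7,3), (8,0), (8,2), (9,0), (9,1), (10,3), (11,2), (12,3), (13,1), (14,2), (15,1), (16,3), 
   (17,0), (18,2), (19,0), (20,1), (21,0), (22,0), (22,1), (22,2), (23,0), (23,1), (24,0), (24,1), 
   (24,2), (25,0), (25,2), (26,0), (26,1), (26,3), (27,0), (27,3), (28,1), (28,2), (29,1), (29,2), 
   (30,1), (30,3), (31,1), (31,3), (32,2), (32,3), (33,2), (33,3), (34,2), (35,2), (37,3), (38,3), 
   (39,1), (41,1), (42,3), (43,3), (44,1), (46,1), (47,2), (48,2), (61,1), (61,3), (62,0), (62,3), 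
   (63,1), (63,2), (64,0), (64,2)]

/-- The steps of the certificate. -/
def stepL : List (ℕ × ℕ × ℕ × ℕ) :=
  [(1,9,1,20), (0,1,9,20), (0,2,22,3), (0,9,21,32), (0,2,11,3), (0,2,1,0), (0,1,2,9), (0,1,12,3), 
   (0,1,2,24), (0,7,5,8), (1,9,1,23), (1,3,2,64), (1,0,2,4), (0,1,24,39), (1,12,5,3), (0,1,5,2), 
   (0,40,4,12), (1,0,2,6), (0,0,27,1), (0,13,65,40), (1,1,2,4), (0,0,7,2), (0,2,22,0), (0,2,0,3), 
   (0,5,4,36), (0,1,15,16), (1,0,47,12), (0,1,26,44), (0,1,2,26), (0,0,8,1), (0,4,45,7), 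
   (0,1,16,28), (1,0,18,12), (1,0,1,6), (1,1,3,4), (0,0,8,2), (0,1,5,18), (0,0,7,17), (0,1,29,16), 
   (1,0,11,12), (0,3,10,12), (0,0,24,6), (1,3,1,6), (1,3,1,9), (0,3,10,2), (0,1,22,11), 
   (0,3,7,16), (1,1,2,8), (0,1,28,6), (1,3,18,21), (1,7,3,16), (1,7,2,29), (1,2,1,9), (0,1,15,2), 
   (0,3,14,7), (1,17,2,48), (1,3,49,7), (1,5,1,13), (0,0,24,5), (0,2,33,32), (1,2,0,9), 
   (0,2,20,1), (1,0,16,15), (0,3,61,57), (0,1,3,6), (0,4,40,5), (0,3,18,30), (0,0,21,1), 
   (0,2,33,20), (0,2,0,8), (0,3,19,30), (0,13,66,10), (1,2,1,5), (0,2,24,12), (1,14,65,54), 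
   (1,3,10,9), (0,3,23,0), (0,2,24,25), (1,0,1,20), (1,13,2,25), (0,0,43,32), (1,6,2,63), 
   (0,6,59,14), (1,3,17,0), (0,2,22,1), (1,1,36,7), (1,0,18,2), (0,1,13,2), (0,2,25,7), 
   (0,1,5,13), (1,3,24,1), (1,11,0,22), (0,0,8,12), (0,3,18,10), (1,0,11,34), (0,0,2,36), 
   (1,11,2,18), (1,4,3,10), (1,4,0,22), (0,38,3,11), (0,2,1,14), (1,3,2,6), (0,3,7,26), 
   (0,1,46,20), (1,5,34,30), (0,0,23,4), (0,1,3,37), (0,3,14,26), (1,18,9,11), (1,0,34,8), 
   (0,0,64,5), (0,3,20,4), (0,3,18,31), (1,0,11,15), (0,1,46,3), (1,3,45,8), (1,6,1,15), 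
   (0,3,27,26), (0,1,13,15), (0,0,25,27), (1,10,3,4), (0,36,10,5), (0,1,18,30), (1,62,11,7), 
   (1,0,11,7), (0,0,62,5), (0,2,1,8), (0,7,9,4), (0,2,25,12), (0,19,12,16), (0,3,8,62), 
   (0,1,15,3), (0,3,27,32), (1,8,0,19), (0,3,31,30), (1,36,62,0), (0,0,12,62), (1,2,0,19), 
   (1,25,3,43), (1,75,36,10), (1,11,0,23), (1,4,0,23), (0,37,11,4), (0,2,63,26), (1,0,11,75), 
   (0,2,3,18), (0,3,26,30), (0,1,19,0), (1,2,17,4), (0,2,21,32), (0,3,7,1), (0,10,17,8), 
   (0,10,0,8), (1,13,1,15), (0,13,14,7), (0,0,14,7), (0,2,11,47), (1,49,57,42), (0,2,8,14), 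
   (0,19,12,10), (1,35,26,62), (1,3,49,56), (0,1,29,7), (0,3,32,9), (0,2,7,28), (0,1,30,8), 
   (1,15,1,13), (0,2,47,25), (1,16,3,12), (1,12,3,16), (1,3,16,24), (1,0,43,6), (0,0,26,27), 
   (0,1,22,4), (0,0,64,38), (0,0,11,30), (0,3,25,42), (0,6,35,14), (0,3,12,1), (0,2,24,13), 
   (0,0,41,19), (0,3,9,31), (0,2,11,0), (0,0,26,23), (0,3,36,32), (0,3,40,30), (1,25,3,32), 
   (0,2,11,1), (1,23,7,36), (1,6,58,25), (0,0,62,66), (1,2,11,7), (0,6,26,7), (0,3,21,32), 
   (0,0,11,23), (1,14,3,37), (1,0,11,19), (0,0,25,1), (0,15,5,16), (0,3,42,9), (0,14,16,5), 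
   (1,3,37,8), (0,0,21,18), (0,3,8,33), (0,1,36,5), (0,2,18,4), (1,16,1,61), (0,0,21,8), 
   (0,18,12,16), (1,73,33,30), (1,36,5,23), (1,6,26,0), (1,15,1,20), (0,48,2,6), (1,0,26,36), 
   (1,0,16,3), (1,3,49,0), (0,2,47,0), (0,0,62,2), (1,10,1,22), (0,0,10,35), (0,5,45,38), 
   (0,1,11,2), (1,7,3,38), (0,2,7,64), (0,3,19,12), (0,3,7,36), (0,3,7,12), (0,2,24,11), 
   (1,76,24,17), (0,3,18,7), (0,1,10,9), (1,21,38,3), (0,64,17,2), (1,0,11,41), (0,3,1,4), 
   (0,8,6,7), (0,11,2,17), (1,76,24,23), (0,2,17,0), (1,0,33,2)]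

/-- The quasigroup operation of `(ZMod 3) ^ 4` on codes. -/
def cop (p q : ℕ) : ℕ :=
  (2 * (p % 3 + q % 3)) % 3 + 3 * ((2 * (p / 3 % 3 + q / 3 % 3)) % 3) +
    9 * ((2 * (p / 9 % 3 + q / 9 % 3)) % 3) +
    27 * ((2 * (p / 27 + q / 27) + (p / 9 % 3 + 2 * (q / 9 % 3)) *
      ((p % 3) * (q / 3 % 3) + 2 * ((p / 3 % 3) * (q % 3)))) % 3)

/-- The operation on indices. -/
def opN (i j : ℕ) : ℕ := invL.getD (cop (ordL.getD i 0) (ordL.getD j 0)) 0

/-- First parent. -/
def par1 (n : ℕ) : ℕ := (parL.getD (n - 4) (0, 0)).1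

/-- Second parent. -/
def par2 (n : ℕ) : ℕ := (parL.getD (n - 4) (0, 0)).2

section

variable {Q : Type*} (op : Q → Q → Q) (a b c d : Q)

/-- The four generators. -/
def gen (n : ℕ) : Q := if n = 0 then a else if n = 1 then b else if n = 2 then c else d

/-- The 81 points. -/
def pt (n : ℕ) : Q :=
  if n < 4 then gen a b c d n
  else if _h : par1 n < n then op (pt (par1 n)) (gen a b c d (par2 n)) else a
termination_by n

theorem pt_lt {n : ℕ} (hn : n < 4) : pt op a b c d n = gen a b c d n := by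
  rw [pt, if_pos hn]

theorem pt_ge {n : ℕ} (hn : 4 ≤ n) (h1 : par1 n < n) (h2 : par2 n < 4) :
    pt op a b c d n = op (pt op a b c d (par1 n)) (pt op a b c d (par2 n)) := by
  rw [pt, if_neg (by omega), dif_pos h1, pt_lt op a b c d h2]

/-- The bit of the pair `(i, j)`. -/
def bit (i j : ℕ) : ℕ := 1 <<< (81 * i + j)

/-- Is the pair `(i, j)` known (or on the diagonal)? -/
def kn (K i j : ℕ) : Bool :=
  i < 81 && j < 81 && ((i == j && opN i i == i) || K.testBit (81 * i + j))

/-- Add the line through `i` and `j`. -/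
def addLine (K i j : ℕ) : ℕ :=
  K ||| bit i j ||| bit j i ||| bit i (opN i j) ||| bit (opN i j) i ||| bit j (opN i j) |||
    bit (opN i j) j

/-- Is `(i, j)` a genuine pair whose line closes up? -/
def okLine (i j : ℕ) : Bool :=
  i < 81 && j < 81 && opN i j < 81 && opN j i == opN i j && opN i (opN i j) == j &&
    opN (opN i j) i == j && opN j (opN i j) == i && opN (opN i j) j == i

/-- The set of known pairs is correct. -/
def Inv (K : ℕ) : Prop :=
  ∀ n, K.testBit n = true →
    op (pt op a b c d (n / 81)) (pt op a b c d (n % 81)) = pt op a b c d (opN (n / 81) (n % 81))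

/-- One step of the certificate. -/
def step (K : ℕ) (s : ℕ × ℕ × ℕ × ℕ) : ℕ :=
  let x := s.2.1
  let y := s.2.2.1
  let z := s.2.2.2
  let u := opN x y
  let v := opN x z
  let w := opN y z
  if kn K x y && kn K x z && kn K y z && opN u v == opN x w then
    if s.1 == 0 then
      if kn K x w && okLine u v then addLine K u v else K
    else
      if kn K u v && okLine x w then addLine K x w else K
  else K

/-- The initial set of known pairs, from the definition of the points. -/
def initK (n : ℕ) : ℕ :=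
  match n with
  | 0 => 0
  | n + 1 =>
    let K := initK n
    let k := n + 4
    if par1 k < k && par2 k < 4 && opN (par1 k) (par2 k) == k && okLine (par1 k) (par2 k) then
      addLine K (par1 k) (par2 k)
    else K

/-- The final set of known pairs. -/
def finK : ℕ := stepL.foldl step (initK 77)

variable {op a b c d}

theorem testBit_bit (i j n : ℕ) : (bit i j).testBit n = decide (81 * i + j = n) := by
  rw [bit, Nat.one_shiftLeft, Nat.testBit_two_pow]

theorem inv_or_bit {K i j : ℕ} (hK : Inv op a b c d K) (hj : j < 81)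
    (h : op (pt op a b c d i) (pt op a b c d j) = pt op a b c d (opN i j)) :
    Inv op a b c d (K ||| bit i j) := by
  intro n hn
  rw [Nat.testBit_or, testBit_bit, Bool.or_eq_true, decide_eq_true_eq] at hn
  rcases hn with hn | hn
  · exact hK n hn
  · have h1 : n / 81 = i := by omega
    have h2 : n % 81 = j := by omega
    rw [h1, h2]
    exact h

theorem inv_addLine (hop : Hall op) {K i j : ℕ} (hK : Inv op a b c d K)
    (hok : okLine i j = true)
    (h : op (pt op a b c d i) (pt op a b c d j) = pt op a b c d (opN i j)) :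
    Inv op a b c d (addLine K i j) := by
  simp only [okLine, Bool.and_eq_true, decide_eq_true_eq, beq_iff_eq] at hok
  obtain ⟨⟨⟨⟨⟨⟨⟨hi, hj⟩, hk⟩, h1⟩, h2⟩, h3⟩, h4⟩, h5⟩ := hok
  have e1 : op (pt op a b c d i) (pt op a b c d (opN i j)) = pt op a b c d j := by
    rw [← h, hop.inv]
  have e2 : op (pt op a b c d j) (pt op a b c d (opN i j)) = pt op a b c d i := by
    rw [← h, hop.comm (pt op a b c d i), hop.inv]
  unfold addLine
  refine inv_or_bit (inv_or_bit (inv_or_bit (inv_or_bit (inv_or_bit (inv_or_bit hK hj h) hi ?_)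
    hk ?_) hi ?_) hk ?_) hj ?_
  · rw [h1, hop.comm, h]
  · rw [h2, e1]
  · rw [h3, hop.comm, e1]
  · rw [h4, e2]
  · rw [h5, hop.comm, e2]

theorem of_kn (hop : Hall op) {K i j : ℕ} (hK : Inv op a b c d K) (h : kn K i j = true) :
    op (pt op a b c d i) (pt op a b c d j) = pt op a b c d (opN i j) := by
  simp only [kn, Bool.and_eq_true, Bool.or_eq_true, decide_eq_true_eq, beq_iff_eq] at h
  obtain ⟨⟨hi, hj⟩, h⟩ := h
  rcases h with ⟨rfl, h⟩ | h
  · rw [h, hop.idem]
  · have := hK _ h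
    have h1 : (81 * i + j) / 81 = i := by omega
    have h2 : (81 * i + j) % 81 = j := by omega
    rwa [h1, h2] at this

theorem inv_step (hop : Hall op) {K : ℕ} (hK : Inv op a b c d K) (s : ℕ × ℕ × ℕ × ℕ) :
    Inv op a b c d (step K s) := by
  obtain ⟨t, x, y, z⟩ := s
  unfold step
  dsimp only
  split_ifs with h1 h2 h3 h3
  · simp only [Bool.and_eq_true, beq_iff_eq] at h1 h3
    obtain ⟨⟨⟨hxy, hxz⟩, hyz⟩, he⟩ := h1
    refine inv_addLine hop hK h3.2 ?_
    rw [he, ← of_kn hop hK h3.1, ← of_kn hop hK hyz, ← of_kn hop hK hxy, ← of_kn hop hK hxz]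
    exact (hop.dist _ _ _).symm
  · exact hK
  · simp only [Bool.and_eq_true, beq_iff_eq] at h1 h3
    obtain ⟨⟨⟨hxy, hxz⟩, hyz⟩, he⟩ := h1
    refine inv_addLine hop hK h3.2 ?_
    rw [← he, ← of_kn hop hK h3.1, ← of_kn hop hK hyz, ← of_kn hop hK hxy, ← of_kn hop hK hxz]
    exact hop.dist _ _ _
  · exact hK
  · exact hK

theorem inv_initK (hop : Hall op) (n : ℕ) : Inv op a b c d (initK n) := by
  induction n with
  | zero =>
    intro n hn
    simp [initK] at hn
  | succ n ih =>
    unfold initK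
    dsimp only
    split_ifs with h
    · simp only [Bool.and_eq_true, beq_iff_eq, decide_eq_true_eq] at h
      obtain ⟨⟨⟨h1, h2⟩, h3⟩, h4⟩ := h
      refine inv_addLine hop ih h4 ?_
      rw [h3, pt_ge op a b c d (by omega) h1 h2]
    · exact ih

theorem inv_foldl (hop : Hall op) (l : List (ℕ × ℕ × ℕ × ℕ)) {K : ℕ} (hK : Inv op a b c d K) :
    Inv op a b c d (l.foldl step K) := by
  induction l generalizing K with
  | nil => exact hK
  | cons s l ih => exact ih (inv_step hop hK s)

theorem inv_finK (hop : Hall op) : Inv op a b c d finK := inv_foldl hop _ (inv_initK hop _)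

/-- The kernel check: every product of a point with a generator is known. -/
theorem check_finK : (List.range 81).all (fun i => (List.range 4).all (fun j => kn finK i j)) =
    true := by decide +kernel

theorem op_pt_gen (hop : Hall op) {i j : ℕ} (hi : i < 81) (hj : j < 4) :
    op (pt op a b c d i) (pt op a b c d j) = pt op a b c d (opN i j) := by
  have h := check_finK
  rw [List.all_eq_true] at h
  have h1 := h i (List.mem_range.2 hi)
  rw [List.all_eq_true] at h1
  exact of_kn hop (inv_finK hop) (h1 j (List.mem_range.2 hj))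

end

/-! ### The map from `(ZMod 3) ^ 4` -/

/-- `(ZMod 3) ^ 4`, with the first three coordinates grouped. -/
abbrev V := (ZMod 3 × ZMod 3 × ZMod 3) × ZMod 3

/-- The Hall triple system of order 81. -/
def vop (p q : V) : V :=
  ((-p.1.1 - q.1.1, -p.1.2.1 - q.1.2.1, -p.1.2.2 - q.1.2.2),
    -p.2 - q.2 + (p.1.2.2 - q.1.2.2) * (p.1.1 * q.1.2.1 - p.1.2.1 * q.1.1))

/-- The code of a vector. -/
def vcode (p : V) : ℕ := p.1.1.val + 3 * p.1.2.1.val + 9 * p.1.2.2.val + 27 * p.2.val

/-- The index of a vector. -/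
def vidx (p : V) : ℕ := invL.getD (vcode p) 0

/-- The four generators. -/
def vgen (j : Fin 4) : V :=
  match j with
  | 0 => ((0, 0, 0), 0)
  | 1 => ((1, 0, 0), 0)
  | 2 => ((0, 1, 0), 0)
  | 3 => ((0, 0, 1), 0)

theorem vidx_lt : ∀ p : V, vidx p < 81 := by decide +kernel

theorem vidx_vop : ∀ p : V, ∀ j : Fin 4, vidx (vop p (vgen j)) = opN (vidx p) j := by
  decide +kernel

theorem vidx_vgen : ∀ j : Fin 4, vidx (vgen j) = j := by decide +kernel

/-- Four points of a Hall triple system are the images of the origin and three unit vectors under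
a map compatible with the products by the four points. -/
theorem exists_map {Q : Type*} {op : Q → Q → Q} (hop : Hall op) (f : Fin 4 → Q) :
    ∃ w : V → Q, (∀ j, w (vgen j) = f j) ∧ ∀ p j, op (w p) (f j) = w (vop p (vgen j)) := by
  have hf : ∀ j : Fin 4, pt op (f 0) (f 1) (f 2) (f 3) (j : ℕ) = f j := by
    intro j
    rw [pt_lt _ _ _ _ _ j.2]
    fin_cases j <;> simp [gen]
  refine ⟨fun p => pt op (f 0) (f 1) (f 2) (f 3) (vidx p), fun j => ?_, fun p j => ?_⟩
  · dsimp only
    rw [vidx_vgen, hf]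
  · dsimp only
    rw [← hf j, op_pt_gen hop (vidx_lt p) j.2, vidx_vop]

/-! ### Groups -/

section Group

variable {G : Type*} [Group G] {T : Set G}

/-- The hypotheses on the set `T`: involutions (or the identity), closed under conjugation by its
own members, all products of order dividing three. -/
structure IsHallSet (T : Set G) : Prop where
  inv : ∀ a ∈ T, a * a = 1
  conj : ∀ a ∈ T, ∀ b ∈ T, a * b * a ∈ T
  three : ∀ a ∈ T, ∀ b ∈ T, (a * b) ^ 3 = 1

/-- The quasigroup operation of a Hall set. -/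
def sop (h : IsHallSet T) (x y : T) : T := ⟨x * y * x, h.conj x x.2 y y.2⟩

theorem IsHallSet.braid (h : IsHallSet T) {a b : G} (ha : a ∈ T) (hb : b ∈ T) :
    a * b * a = b * a * b := by
  have h1 := h.inv a ha
  have h2 := h.inv b hb
  have h3 := h.three a ha b hb
  have h3' : a * b * a * (b * a * b) = 1 := by
    rw [← h3]; simp only [pow_succ, pow_zero, one_mul, mul_assoc]
  have h4 : (b * a * b) * (b * a * b) = 1 := by
    calc (b * a * b) * (b * a * b) = b * a * (b * b) * a * b := by simp only [mul_assoc]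
      _ = b * (a * a) * b := by rw [h2]; simp only [mul_assoc, one_mul]
      _ = 1 := by rw [h1, mul_one, h2]
  calc a * b * a = a * b * a * ((b * a * b) * (b * a * b)) := by rw [h4, mul_one]
    _ = (a * b * a * (b * a * b)) * (b * a * b) := by simp only [mul_assoc]
    _ = b * a * b := by rw [h3', one_mul]

theorem hall_sop (h : IsHallSet T) : Hall (sop h) where
  idem x := by
    apply Subtype.ext
    show (x : G) * x * x = x
    rw [h.inv x x.2, one_mul]
  comm x y := by
    apply Subtype.ext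
    exact h.braid x.2 y.2
  inv x y := by
    apply Subtype.ext
    show (x : G) * (x * y * x) * x = y
    calc (x : G) * (x * y * x) * x = (x * x) * y * (x * x) := by simp only [mul_assoc]
      _ = y := by rw [h.inv x x.2, one_mul, mul_one]
  dist x y z := by
    apply Subtype.ext
    show (x : G) * (y * z * y) * x = (x * y * x) * (x * z * x) * (x * y * x)
    symm
    calc (x * y * x : G) * (x * z * x) * (x * y * x)
        = x * y * (x * x) * z * (x * x) * y * x := by simp only [mul_assoc]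
      _ = x * (y * z * y) * x := by rw [h.inv x x.2]; simp only [mul_assoc, one_mul]

/-- The three-dimensional part of `V`. -/
abbrev U := ZMod 3 × ZMod 3 × ZMod 3

/-- `g` acts on the points `w p` by a triangular map. -/
def Good (w : V → G) (g : G) : Prop :=
  ∃ (t : U) (φ : U → ZMod 3), ∀ p : V, g⁻¹ * w p * g = w (p.1 + t, p.2 + φ p.1)

theorem good_one (w : V → G) : Good w 1 :=
  ⟨0, fun _ => 0, fun p => by simp⟩

theorem good_mul {w : V → G} {g h : G} (hg : Good w g) (hh : Good w h) : Good w (g * h) := by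
  obtain ⟨t, φ, hφ⟩ := hg
  obtain ⟨s, ψ, hψ⟩ := hh
  refine ⟨t + s, fun u => φ u + ψ (u + t), fun p => ?_⟩
  calc (g * h)⁻¹ * w p * (g * h) = h⁻¹ * (g⁻¹ * w p * g) * h := by group
    _ = _ := by rw [hφ, hψ, add_assoc, add_assoc]

theorem good_inv {w : V → G} {g : G} (hg : Good w g) : Good w g⁻¹ := by
  obtain ⟨t, φ, hφ⟩ := hg
  refine ⟨-t, fun u => -φ (u - t), fun p => ?_⟩
  have h := hφ (p.1 - t, p.2 - φ (p.1 - t))
  dsimp only at h
  rw [sub_add_cancel, sub_add_cancel] at h
  rw [← sub_eq_add_neg, ← sub_eq_add_neg]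
  calc g⁻¹⁻¹ * w p * g⁻¹ = g * w (p.1, p.2) * g⁻¹ := by rw [inv_inv]
    _ = w (p.1 - t, p.2 - φ (p.1 - t)) := by rw [← h]; group

theorem good_pow_nine {w : V → G} {g : G} (hg : Good w g) (p : V) :
    g ^ 9 * w p = w p * g ^ 9 := by
  obtain ⟨t, φ, hφ⟩ := hg
  have hpow : ∀ n : ℕ, ∀ p : V, (g ^ n)⁻¹ * w p * g ^ n =
      w (p.1 + n • t, p.2 + ∑ i ∈ Finset.range n, φ (p.1 + i • t)) := by
    intro n
    induction n with
    | zero => intro p; simp
    | succ n ih =>
      intro p
      calc (g ^ (n + 1))⁻¹ * w p * g ^ (n + 1) = g⁻¹ * ((g ^ n)⁻¹ * w p * g ^ n) * g := by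
            rw [pow_succ]; group
        _ = _ := by
            rw [ih, hφ]
            dsimp only
            rw [Finset.sum_range_succ, succ_nsmul, add_assoc, add_assoc]
  have h9 := hpow 9 p
  have ht : ∀ s : U, 3 • s = 0 := by decide
  have e1 : (9 : ℕ) • t = 0 := by
    rw [show (9 : ℕ) = 3 * 3 from rfl, mul_nsmul, ht]
  have hz : ∀ s : ZMod 3, s + s + s = 0 := by decide
  have e2 : ∑ i ∈ Finset.range 9, φ (p.1 + i • t) = 0 := by
    have h3 : (3 : ℕ) • t = 0 := ht t
    have hmod : ∀ i : ℕ, φ (p.1 + (i + 3) • t) = φ (p.1 + i • t) := by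
      intro i
      rw [add_nsmul, h3, add_zero]
    have m3 : φ (p.1 + (3 : ℕ) • t) = φ (p.1 + (0 : ℕ) • t) := hmod 0
    have m4 : φ (p.1 + (4 : ℕ) • t) = φ (p.1 + (1 : ℕ) • t) := hmod 1
    have m5 : φ (p.1 + (5 : ℕ) • t) = φ (p.1 + (2 : ℕ) • t) := hmod 2
    have m6 : φ (p.1 + (6 : ℕ) • t) = φ (p.1 + (3 : ℕ) • t) := hmod 3
    have m7 : φ (p.1 + (7 : ℕ) • t) = φ (p.1 + (4 : ℕ) • t) := hmod 4
    have m8 : φ (p.1 + (8 : ℕ) • t) = φ (p.1 + (5 : ℕ) • t) := hmod 5
    simp only [Finset.sum_range_succ, Finset.range_zero, Finset.sum_empty, zero_add]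
    rw [m8, m7, m6, m5, m4, m3]
    linear_combination hz (φ (p.1 + (0 : ℕ) • t)) + hz (φ (p.1 + (1 : ℕ) • t)) +
      hz (φ (p.1 + (2 : ℕ) • t))
  rw [e1, e2, add_zero, add_zero] at h9
  calc g ^ 9 * w p = g ^ 9 * ((g ^ 9)⁻¹ * w p * g ^ 9) := by rw [h9]
    _ = w p * g ^ 9 := by group

theorem good_mul_gen {w : V → G} {f : Fin 4 → G}
    (hw : ∀ p j, f j * w p * f j = w (vop p (vgen j))) (hf : ∀ j, f j * f j = 1) (i j : Fin 4) :
    Good w (f i * f j) := by
  refine ⟨(vgen i).1 - (vgen j).1, fun u => (vgen i).2 - (vgen j).2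
    - (u.2.2 - (vgen i).1.2.2) * (u.1 * (vgen i).1.2.1 - u.2.1 * (vgen i).1.1)
    + ((-u.2.2 - (vgen i).1.2.2) - (vgen j).1.2.2) *
      ((-u.1 - (vgen i).1.1) * (vgen j).1.2.1 - (-u.2.1 - (vgen i).1.2.1) * (vgen j).1.1),
    fun p => ?_⟩
  have hi : (f i)⁻¹ = f i := inv_eq_of_mul_eq_one_left (hf i)
  have hj : (f j)⁻¹ = f j := inv_eq_of_mul_eq_one_left (hf j)
  have h1 : (f i * f j)⁻¹ * w p * (f i * f j) = w (vop (vop p (vgen i)) (vgen j)) := by
    rw [← hw, ← hw, mul_inv_rev, hi, hj]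
    simp only [mul_assoc]
  rw [h1]
  congr 1
  unfold vop
  ext
  · simp only [Prod.fst_add, Prod.fst_sub]; ring
  · simp only [Prod.fst_add, Prod.snd_add, Prod.fst_sub, Prod.snd_sub]; ring
  · simp only [Prod.snd_add, Prod.snd_sub]; ring
  · simp only; ring

/-- Four members of a Hall set: the two products generate a `3`-group. -/
theorem isPGroup_pair [Finite G] (h : IsHallSet T) {a b c d : G} (ha : a ∈ T) (hb : b ∈ T)
    (hc : c ∈ T) (hd : d ∈ T) : IsPGroup 3 (Subgroup.closure {a * b, c * d} : Subgroup G) := by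
  classical
  have : Fact (Nat.Prime 3) := ⟨Nat.prime_three⟩
  obtain ⟨w, hw1, hw2⟩ := exists_map (hall_sop h) ![⟨a, ha⟩, ⟨b, hb⟩, ⟨c, hc⟩, ⟨d, hd⟩]
  set F : Fin 4 → T := ![⟨a, ha⟩, ⟨b, hb⟩, ⟨c, hc⟩, ⟨d, hd⟩] with hF
  set P : Subgroup G := Subgroup.closure {a * b, c * d} with hP
  have hw : ∀ p j, (F j : G) * (w p : G) * (F j : G) = (w (vop p (vgen j)) : G) := by
    intro p j
    rw [← hw2, (hall_sop h).comm]
    rfl
  have hff : ∀ j, (F j : G) * (F j : G) = 1 := fun j => h.inv _ (F j).2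
  have hgen : ∀ i j, Good (fun p => (w p : G)) ((F i : G) * (F j : G)) := fun i j =>
    good_mul_gen (f := fun j => (F j : G)) hw hff i j
  have hgood : ∀ g ∈ P, Good (fun p => (w p : G)) g := by
    intro g hg
    rw [hP] at hg
    induction hg using Subgroup.closure_induction with
    | mem x hx =>
      rcases hx with rfl | rfl
      · exact hgen 0 1
      · exact hgen 2 3
    | one => exact good_one _
    | mul x y _ _ hx hy => exact good_mul hx hy
    | inv x _ hx => exact good_inv hx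
  have hcomm : ∀ g ∈ P, ∀ j, g ^ 9 * (F j : G) = (F j : G) * g ^ 9 := by
    intro g hg j
    rw [← hw1 j]
    exact good_pow_nine (hgood g hg) (vgen j)
  have hcen : ∀ g ∈ P, ∀ x ∈ P, x * g ^ 9 = g ^ 9 * x := by
    intro g hg x hx
    rw [hP] at hx
    induction hx using Subgroup.closure_induction with
    | mem x hx =>
      rcases hx with rfl | rfl
      · have h0 := hcomm g hg 0
        have h1 := hcomm g hg 1
        simp only [hF, Matrix.cons_val_zero, Matrix.cons_val_one] at h0 h1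
        rw [mul_assoc, ← h1, ← mul_assoc, ← h0, mul_assoc]
      · have h0 := hcomm g hg 2
        have h1 := hcomm g hg 3
        simp only [hF, Matrix.cons_val] at h0 h1
        rw [mul_assoc, ← h1, ← mul_assoc, ← h0, mul_assoc]
    | one => simp
    | mul x y _ _ hx hy => rw [mul_assoc, hy, ← mul_assoc, hx, mul_assoc]
    | inv x _ hx =>
      have := congrArg (fun z => x⁻¹ * z * x⁻¹) hx
      simp only [mul_assoc, inv_mul_cancel_left, mul_inv_cancel, mul_one] at this
      simpa [mul_assoc] using this.symm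
  have hq : IsPGroup 3 (P ⧸ Subgroup.center P) := by
    intro q
    obtain ⟨g, rfl⟩ := QuotientGroup.mk_surjective q
    refine ⟨2, ?_⟩
    rw [← QuotientGroup.mk_pow, QuotientGroup.eq_one_iff, Subgroup.mem_center_iff]
    intro x
    apply Subtype.ext
    show (x : G) * ((g ^ 3 ^ 2 : P) : G) = ((g ^ 3 ^ 2 : P) : G) * x
    rw [SubgroupClass.coe_pow]
    exact hcen g g.2 x x.2
  have hnil : Group.IsNilpotent P := Group.of_quotient_center_nilpotent hq.isNilpotent
  obtain ⟨S⟩ : Nonempty (Sylow 3 P) := Sylow.nonempty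
  have hSn : (S : Subgroup P).Normal := inferInstance
  have hle : ∀ x : P, x ^ 3 = 1 → x ∈ (S : Subgroup P) := by
    intro x hx
    have hz : IsPGroup 3 (Subgroup.zpowers x) := by
      rintro ⟨y, k, rfl⟩
      refine ⟨1, ?_⟩
      apply Subtype.ext
      show (x ^ k) ^ 3 ^ 1 = 1
      rw [pow_one, ← zpow_natCast, ← zpow_mul, mul_comm, zpow_mul, zpow_natCast, hx, one_zpow]
    obtain ⟨S', hS'⟩ := hz.exists_le_sylow
    have := Sylow.unique_of_normal S hSn
    have : S' = S := Subsingleton.elim _ _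
    rw [← this]
    exact hS' (Subgroup.mem_zpowers x)
  have htop : (S : Subgroup P) = ⊤ := by
    rw [eq_top_iff]
    rintro ⟨x, hx⟩ -
    have key : ∀ y (hy : y ∈ P), (⟨y, hy⟩ : P) ∈ (S : Subgroup P) := by
      intro y hy
      induction hy using Subgroup.closure_induction with
      | mem x hx =>
        apply hle
        apply Subtype.ext
        show x ^ 3 = 1
        rcases hx with rfl | rfl
        · exact h.three a ha b hb
        · exact h.three c hc d hd
      | one => exact one_mem _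
      | mul x y hx' hy' hx hy => exact mul_mem hx hy
      | inv x hx' hx => exact inv_mem hx
    exact key x hx
  intro x
  have hx : x ∈ (S : Subgroup P) := by rw [htop]; exact Subgroup.mem_top x
  obtain ⟨k, hk⟩ := S.isPGroup' ⟨x, hx⟩
  exact ⟨k, congrArg Subtype.val hk⟩

/-- If `T` is a conjugation invariant set of involutions of a finite group, any two of which have
product of order dividing three, then the products of two members generate a `3`-group. -/
theorem isPGroup_closure_mul_of_normal [Finite G] (hinv : ∀ a ∈ T, a * a = 1)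
    (hconj : ∀ g : G, ∀ a ∈ T, g * a * g⁻¹ ∈ T) (h3 : ∀ a ∈ T, ∀ b ∈ T, (a * b) ^ 3 = 1) :
    IsPGroup 3 (Subgroup.closure {x : G | ∃ a ∈ T, ∃ b ∈ T, x = a * b} : Subgroup G) := by
  have : Fact (Nat.Prime 3) := ⟨Nat.prime_three⟩
  have h : IsHallSet T := by
    refine ⟨hinv, fun a ha b hb => ?_, h3⟩
    have := hconj a b hb
    rwa [inv_eq_of_mul_eq_one_left (hinv a ha)] at this
  refine Involutions.BaerSuzuki.baer_suzuki_set ?_ ?_
  · rintro g _ ⟨a, ha, b, hb, rfl⟩
    exact ⟨g * a * g⁻¹, hconj g a ha, g * b * g⁻¹, hconj g b hb, by group⟩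
  · rintro _ ⟨a, ha, b, hb, rfl⟩ _ ⟨c, hc, d, hd, rfl⟩
    exact isPGroup_pair h ha hb hc hd

/-- The version for a set which is only closed under conjugation by its own members. -/
theorem isPGroup_closure_mul [Finite G] (h : IsHallSet T) :
    IsPGroup 3 (Subgroup.closure {x : G | ∃ a ∈ T, ∃ b ∈ T, x = a * b} : Subgroup G) := by
  set H : Subgroup G := Subgroup.closure T with hH
  have hnorm : ∀ g ∈ H, ∀ a ∈ T, g * a * g⁻¹ ∈ T := by
    intro g hg
    rw [hH] at hg
    induction hg using Subgroup.closure_induction with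
    | mem x hx =>
      intro a ha
      rw [inv_eq_of_mul_eq_one_left (h.inv x hx)]
      exact h.conj x hx a ha
    | one => intro a ha; simpa using ha
    | mul x y _ _ hx hy =>
      intro a ha
      have := hx _ (hy a ha)
      simpa [mul_assoc] using this
    | inv x _ hx =>
      -- `T` is finite, so conjugation by `x` is a bijection of `T`
      intro a ha
      have hfin : (T : Set G).Finite := Set.toFinite T
      have himg : (fun a => x * a * x⁻¹) '' T = T := by
        refine Set.eq_of_subset_of_ncard_le (by rintro _ ⟨a, ha, rfl⟩; exact hx a ha) ?_ hfin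
        rw [Set.ncard_image_of_injective]
        intro u v huv
        simpa using huv
      rw [← himg] at ha
      obtain ⟨b, hb, rfl⟩ := ha
      have : x⁻¹ * (x * b * x⁻¹) * x⁻¹⁻¹ = b := by group
      show x⁻¹ * (x * b * x⁻¹) * x⁻¹⁻¹ ∈ T
      rw [this]
      exact hb
  let T' : Set H := {x | (x : G) ∈ T}
  have key := isPGroup_closure_mul_of_normal (T := T')
    (fun a ha => Subtype.ext (h.inv a ha)) (fun g a ha => hnorm g g.2 a ha)
    (fun a ha b hb => Subtype.ext (h.three a ha b hb))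
  have hmap : (Subgroup.closure {x : H | ∃ a ∈ T', ∃ b ∈ T', x = a * b}).map H.subtype =
      Subgroup.closure {x : G | ∃ a ∈ T, ∃ b ∈ T, x = a * b} := by
    rw [MonoidHom.map_closure]
    congr 1
    ext x
    constructor
    · rintro ⟨_, ⟨a, ha, b, hb, rfl⟩, rfl⟩
      exact ⟨a, ha, b, hb, rfl⟩
    · rintro ⟨a, ha, b, hb, rfl⟩
      exact ⟨⟨a, Subgroup.subset_closure ha⟩ * ⟨b, Subgroup.subset_closure hb⟩,
        ⟨_, ha, _, hb, rfl⟩, rfl⟩
  rw [← hmap]
  exact key.map _

end Group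

end Cfsg.Agent.Lib.HallTriple
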