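import Mathlib

/-!
An explicit, kernel-friendly field with four elements `F4 = {0, 1, w, v}`, `v = w ^ 2 = w + 1`, and the
(non-canonical) ring isomorphism from any field with four elements onto it.
-/

set_option autoImplicit false

namespace Cfsg.Agent.Lib.FieldFour

/-- The four elements: `o = 0`, `i = 1`, `w` a primitive cube root of unity, `v = w ^ 2`. -/
inductive F4 : Type
  | o | i | w | v
  deriving DecidableEq

namespace F4

/-- Addition table. -/
def add : F4 → F4 → F4
  | o, x => x
  | i, o => i
  | i, i => o
  | i, w => v
  | i, v => w
  | w, o => w
  | w, i => v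
  | w, w => o
  | w, v => i
  | v, o => v
  | v, i => w
  | v, w => i
  | v, v => o

/-- Multiplication table. -/
def mul : F4 → F4 → F4
  | o, _ => o
  | i, x => x
  | w, o => o
  | w, i => w
  | w, w => v
  | w, v => i
  | v, o => o
  | v, i => v
  | v, w => i
  | v, v => w

/-- Inverse table. -/
def inv : F4 → F4
  | o => o
  | i => i
  | w => v
  | v => w

instance instFintype : Fintype F4 where
  elems := {o, i, w, v}
  complete := by intro x; cases x <;> decide

instance instZero : Zero F4 := ⟨o⟩
instance instOne : One F4 := ⟨i⟩
instance instAdd : Add F4 := ⟨add⟩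
instance instMul : Mul F4 := ⟨mul⟩
instance instNeg : Neg F4 := ⟨fun x => x⟩
instance instInv : Inv F4 := ⟨inv⟩

instance instCommRing : CommRing F4 where
  add_assoc := by decide
  zero_add := by decide
  add_zero := by decide
  nsmul := nsmulRec
  zsmul := zsmulRec
  add_comm := by decide
  left_distrib := by decide
  right_distrib := by decide
  zero_mul := by decide
  mul_zero := by decide
  mul_assoc := by decide
  one_mul := by decide
  mul_one := by decide
  neg_add_cancel := by decide
  mul_comm := by decide

instance instField : Field F4 where
  exists_pair_ne := ⟨0, 1, by decide⟩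
  mul_inv_cancel := by decide
  inv_zero := rfl
  nnqsmul := _
  qsmul := _

theorem card : Fintype.card F4 = 4 := rfl

theorem natCard : Nat.card F4 = 4 := by rw [Nat.card_eq_fintype_card, card]

end F4

/-- Any field with four elements is isomorphic to `F4`. -/
noncomputable def equivOfCard {F : Type*} [Field F] [Fintype F] (hF : Fintype.card F = 4) :
    F ≃+* F4 :=
  FiniteField.ringEquivOfCardEq (hF.trans F4.card.symm)

end Cfsg.Agent.Lib.FieldFour
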