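import Mathlib
import Cfsg.Agent.S0205
import Cfsg.Agent.S1299
import Cfsg.Agent.SignalizersComponents.SolFunctorTwo
import Cfsg.Agent.StandardComponent.CentCore

/-!
# The `k`-balanced signalizer functor on one elementary abelian group

`S1299` for one elementary abelian `A` whose subgroups of order `p ^ k` satisfy the balance condition
inside `A` only, and (for `p = 2`) the completion `W`: `W ∩ C(D) = Δ(D)` for `D ≤ A`, `|D| ≥ 2 ^ k`, and
`W = ⟨Δ(D) : D ≤ B, |D| = 2 ^ k⟩` for every `B ≤ A` of order at least `2 ^ (k + 1)`.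
-/

set_option autoImplicit false

namespace Cfsg.Agent.Lib.KFunctor

open Subgroup
open Cfsg
open Cfsg.Agent.SignalizersComponents
open Cfsg.Agent.S1299 (gen delta_antitone delta_le delta_le_centralizer conj_mem_delta)

universe u

/-- The functor `θ(a) = ⟨Δ(D) ∩ C(a) : D ≤ A, |D| = p ^ k⟩`. -/
def theta {G : Type*} [Group G] (p k : ℕ) (A : Subgroup G) (a : G) : Subgroup G :=
  ⨆ D : {D : Subgroup G // D ≤ A ∧ Nat.card ↥D = p ^ k},
    signalizerDelta p (D : Subgroup G) ⊓ Subgroup.centralizer {a}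

theorem functor {G : Type*} [Group G] [Finite G] (p k : ℕ) [Fact p.Prime] (hk : 1 ≤ k)
    (A : Subgroup G) (hA : IsElementaryAbelian p A) (hAk : p ^ (k + 2) ≤ Nat.card ↥A)
    (hsolv : ∀ a ∈ A, a ≠ 1 → Group.IsSolvable ↥(centralizerPPrimeCore p a))
    (hbal : ∀ D ≤ A, Nat.card D = p ^ k → ∀ e ∈ A, e ≠ 1 →
      signalizerDelta p D ⊓ centralizer ({e} : Set G) ≤ centralizerPPrimeCore p e) :
    IsSignalizerFunctor p A (theta p k A) ∧
      (∀ a ∈ A, a ≠ 1 → theta p k A a ≤ centralizerPPrimeCore p a) ∧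
      (∀ a ∈ A, a ≠ 1 → ∀ D ≤ A, a ∈ D → p ^ k ≤ Nat.card D →
        theta p k A a ⊓ centralizer (D : Set G) ≤ signalizerDelta p D) := by
  have hpp : p.Prime := Fact.out
  have hApg : IsPGroup p A := fun a => ⟨1, by
    apply Subtype.ext
    have := hA.2 a a.2
    simpa using this⟩
  have hcomm : ∀ a ∈ A, ∀ b ∈ A, a * b = b * a := fun a ha b hb => by
    have h1 := hA.1.is_comm.comm (⟨a, ha⟩ : A) ⟨b, hb⟩
    exact congrArg Subtype.val h1
  have hA1 : A ≠ ⊥ := by
    rintro rfl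
    rw [card_bot] at hAk
    have h1 : p ≤ p ^ (k + 2) := Nat.le_self_pow (by omega) p
    have := hpp.one_lt
    omega
  -- subgroups of order `p ^ k`
  have hsub : ∀ D : Subgroup G, D ≤ A → p ^ k ≤ Nat.card D → ∃ D₀ ≤ D, Nat.card D₀ = p ^ k := by
    intro D hD hcard
    obtain ⟨m, hm⟩ := IsPGroup.iff_card.mp (hApg.to_le hD)
    rw [hm] at hcard
    have hkm : k ≤ m := (Nat.pow_le_pow_iff_right hpp.one_lt).mp hcard
    obtain ⟨D₁, hD₁⟩ := Sylow.exists_subgroup_card_pow_prime p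
      (show p ^ k ∣ Nat.card D by rw [hm]; exact pow_dvd_pow p hkm)
    refine ⟨D₁.map D.subtype, map_subtype_le D₁, ?_⟩
    rw [card_map_of_injective D.subtype_injective, hD₁]
  -- the balance condition
  have hkey : ∀ D : Subgroup G, D ≤ A → p ^ k ≤ Nat.card D → ∀ e ∈ A, e ≠ 1 →
      signalizerDelta p D ⊓ centralizer ({e} : Set G) ≤ centralizerPPrimeCore p e := by
    intro D hD hcard e he he1
    obtain ⟨D₀, hD₀, hc⟩ := hsub D hD hcard
    exact (inf_le_inf_right _ (delta_antitone p hD₀)).trans (hbal D₀ (hD₀.trans hD) hc e he he1)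
  let 𝒟 : G → Set (Subgroup G) := fun a => {D | D ≤ A ∧ a ∈ D ∧ p ^ k ≤ Nat.card D}
  let ℱ : G → Set (Subgroup G) := fun a => {F | F ≤ A ∧ a ∈ F ∧ F.relIndex A ≤ p}
  let θ : G → Subgroup G := theta p k A
  have hcardF : ∀ F : Subgroup G, F ≤ A → F.relIndex A ≤ p → p ^ (k + 1) ≤ Nat.card F := by
    intro F hF hi
    have h1 : Nat.card F * F.relIndex A = Nat.card A := by
      have := relIndex_mul_relIndex (⊥ : Subgroup G) F A bot_le hF
      rwa [relIndex_bot_left, relIndex_bot_left] at this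
    have h2 : p ^ (k + 1) * p ≤ Nat.card F * p := by
      calc p ^ (k + 1) * p = p ^ (k + 2) := by ring
        _ ≤ Nat.card A := hAk
        _ = Nat.card F * F.relIndex A := h1.symm
        _ ≤ Nat.card F * p := Nat.mul_le_mul_left _ hi
    exact Nat.le_of_mul_le_mul_right h2 hpp.pos
  have hFD : ∀ a, ℱ a ⊆ 𝒟 a := by
    rintro a F ⟨hFA, haF, hi⟩
    refine ⟨hFA, haF, le_trans ?_ (hcardF F hFA hi)⟩
    exact Nat.pow_le_pow_right hpp.pos (Nat.le_succ k)
  have hint : ∀ a, ∀ F ∈ ℱ a, ∀ F' ∈ ℱ a, ∃ D ∈ 𝒟 a, D ≤ F ∧ D ≤ F' := by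
    rintro a F ⟨hFA, haF, hi⟩ F' ⟨hFA', haF', hi'⟩
    refine ⟨F ⊓ F', ⟨inf_le_left.trans hFA, ⟨haF, haF'⟩, ?_⟩, inf_le_left, inf_le_right⟩
    have h1 : Nat.card ↥(F ⊓ F') * (F ⊓ F').relIndex A = Nat.card A := by
      have := relIndex_mul_relIndex (⊥ : Subgroup G) (F ⊓ F') A bot_le (inf_le_left.trans hFA)
      rwa [relIndex_bot_left, relIndex_bot_left] at this
    have h3 : (F ⊓ F').relIndex A ≤ p * p :=
      (relIndex_inf_le (H := F) (K := F') (L := A)).trans (Nat.mul_le_mul hi hi')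
    have h2 : p ^ k * (p * p) ≤ Nat.card ↥(F ⊓ F') * (p * p) := by
      calc p ^ k * (p * p) = p ^ (k + 2) := by ring
        _ ≤ Nat.card A := hAk
        _ = Nat.card ↥(F ⊓ F') * (F ⊓ F').relIndex A := h1.symm
        _ ≤ Nat.card ↥(F ⊓ F') * (p * p) := Nat.mul_le_mul_left _ h3
    exact Nat.le_of_mul_le_mul_right h2 (Nat.mul_pos hpp.pos hpp.pos)
  -- properties of the cores
  have hcore : ∀ a ∈ A, a ≠ 1 → ¬ p ∣ Nat.card (centralizerPPrimeCore p a) := by
    intro a _ _ h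
    have h1 := CoreOfCentralizer.card_centralizerPPrimeCore_coprime p a
    exact (hpp.coprime_iff_not_dvd.mp h1.symm) h
  have hAC : ∀ D ≤ A, A ≤ centralizer (D : Set G) := by
    intro D hD a ha
    rw [mem_centralizer_iff]
    intro d hd
    exact hcomm d (hD hd) a ha
  have hdA : ∀ D ≤ A, ∀ a ∈ A, ∀ x ∈ signalizerDelta p D, a * x * a⁻¹ ∈ signalizerDelta p D :=
    fun D hD a ha x hx => conj_mem_delta p (hAC D hD ha) hx
  have hcoreA : ∀ a ∈ A, ∀ b ∈ A, ∀ x ∈ centralizerPPrimeCore p a,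
      b * x * b⁻¹ ∈ centralizerPPrimeCore p a := by
    intro a ha b hb x hx
    have h1 : b ∈ centralizer ({a} : Set G) := by
      rw [mem_centralizer_iff]
      intro y hy
      rw [Set.mem_singleton_iff.mp hy]
      exact hcomm a ha b hb
    exact (mem_normalizer_iff.mp
      (CoreOfCentralizer.centralizer_le_normalizer_centralizerPPrimeCore p a h1) x).mp hx
  -- the functor in terms of the large subgroups containing `a`
  have hθ : ∀ a ∈ A, a ≠ 1 → θ a = ⨆ E : 𝒟 a, signalizerDelta p (E : Subgroup G) := by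
    intro a ha ha1
    apply le_antisymm
    · refine iSup_le ?_
      rintro ⟨D, hDA, hDc⟩
      have hzA : zpowers a ≤ A := by rwa [zpowers_le]
      have hE : D ⊔ zpowers a ∈ 𝒟 a := by
        refine ⟨sup_le hDA hzA, mem_sup_right (mem_zpowers a), ?_⟩
        rw [← hDc]
        exact card_le_of_le le_sup_left
      refine le_iSup_of_le (⟨D ⊔ zpowers a, hE⟩ : 𝒟 a) ?_
      rintro x ⟨hxD, hxa⟩
      have hxC : D ⊔ zpowers a ≤ centralizer ({x} : Set G) := by
        refine sup_le ?_ ?_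
        · intro d hd
          rw [mem_centralizer_singleton_iff]
          exact mem_centralizer_iff.mp (delta_le_centralizer p D hxD) d hd
        · rw [zpowers_le, mem_centralizer_singleton_iff]
          exact mem_centralizer_iff.mp hxa a rfl
      refine mem_iInf.mpr ?_
      rintro ⟨e, he, he1⟩
      refine hkey D hDA hDc.ge e (hE.1 he) he1 ⟨hxD, ?_⟩
      exact mem_centralizer_singleton_iff.mpr (mem_centralizer_singleton_iff.mp (hxC he)).symm
    · refine iSup_le ?_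
      rintro ⟨E, hEA, haE, hEc⟩
      obtain ⟨D₀, hD₀, hc⟩ := hsub E hEA hEc
      refine le_iSup_of_le (⟨D₀, hD₀.trans hEA, hc⟩ : {D : Subgroup G // D ≤ A ∧ Nat.card ↥D = p ^ k}) ?_
      refine le_inf (delta_antitone p hD₀) ?_
      exact (delta_le p haE ha1).trans (CoreOfCentralizer.centralizerPPrimeCore_le p a)
  have hθcore : ∀ a ∈ A, a ≠ 1 → θ a ≤ centralizerPPrimeCore p a := by
    intro a ha ha1
    rw [hθ a ha ha1]
    refine iSup_le ?_
    rintro ⟨E, hEA, haE, hEc⟩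
    exact delta_le p haE ha1
  have hθA : ∀ a ∈ A, a ≠ 1 → ∀ b ∈ A, ∀ x ∈ θ a, b * x * b⁻¹ ∈ θ a := by
    intro a ha ha1 b hb
    rw [hθ a ha ha1]
    refine NormalFunctor.conj_mem_iSup _ _ b ?_
    intro E x hx
    exact mem_iSup_of_mem E (hdA E E.2.1 b hb x hx)
  have hθp : ∀ a ∈ A, a ≠ 1 → ¬ p ∣ Nat.card (θ a) := fun a ha ha1 h =>
    hcore a ha ha1 (h.trans (card_dvd_of_le (hθcore a ha ha1)))
  -- completeness inside the core
  have hmain : ∀ a ∈ A, a ≠ 1 → ∀ D ∈ 𝒟 a, θ a ⊓ centralizer (D : Set G) ≤ signalizerDelta p D := by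
    intro a ha ha1 D hD
    rw [hθ a ha ha1]
    refine NormalFunctor.iSup_inf_centralizer_le_aux (p := p) A hApg (𝒟 a) (ℱ a) (fun D hD => hD.1) (hFD a)
      (hint a) _ (centralizerPPrimeCore p a) (signalizerDelta p) rfl (hsolv a ha ha1) (hcore a ha ha1)
      (hcoreA a ha) ?_ ?_ ?_ ?_ ?_ ?_ D hD
    · intro K hK hKA
      have hKc : K ≤ centralizer ((zpowers a : Subgroup G) : Set G) := by
        intro x hx
        have h1 : zpowers a ≤ centralizer ({x} : Set G) := by
          rw [zpowers_le, mem_centralizer_singleton_iff]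
          exact mem_centralizer_iff.mp (CoreOfCentralizer.centralizerPPrimeCore_le p a (hK hx)) a rfl
        rw [mem_centralizer_iff]
        intro y hy
        exact mem_centralizer_singleton_iff.mp (h1 hy)
      refine (gen hA hA1 K (zpowers a) (fun h => hcore a ha ha1 (h.trans (card_dvd_of_le hK))) hKA
        (by rwa [zpowers_le]) hKc).trans ?_
      refine iSup_le ?_
      rintro ⟨F, hFA, haF, hi⟩
      exact le_iSup_of_le (⟨F, hFA, haF (mem_zpowers a), hi⟩ : ℱ a) le_rfl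
    · intro D hD
      exact delta_le p hD.2.1 ha1
    · intro D hD
      exact delta_le_centralizer p D
    · intro D hD h _ hh x hx
      exact conj_mem_delta p hh hx
    · intro D hD b hb x hx
      exact hdA D hD.1 b hb x hx
    · intro D hD E hE x hx
      refine mem_iInf.mpr ?_
      rintro ⟨e, he, he1⟩
      refine hkey D hD.1 hD.2.2 e (hE.1 he) he1 ⟨hx.1, ?_⟩
      refine mem_centralizer_iff.mpr ?_
      intro y hy
      rw [Set.mem_singleton_iff.mp hy]
      exact mem_centralizer_iff.mp hx.2 e he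
  refine ⟨⟨?_, hθp, hθA, ?_⟩, hθcore, fun a ha ha1 D hDA haD hDc => hmain a ha ha1 D ⟨hDA, haD, hDc⟩⟩
  · intro a ha ha1
    exact iSup_le fun D => inf_le_right
  · intro a ha ha1 b hb hb1
    let K : Subgroup G := θ a ⊓ centralizer {b}
    have hKA : ∀ c ∈ A, ∀ x ∈ K, c * x * c⁻¹ ∈ K := by
      rintro c hc x ⟨hx1, hx2⟩
      refine ⟨hθA a ha ha1 c hc x hx1, ?_⟩
      have hc' : c ∈ centralizer ({b} : Set G) := by
        rw [mem_centralizer_iff]
        intro y hy
        rw [Set.mem_singleton_iff.mp hy]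
        exact hcomm b hb c hc
      exact (centralizer ({b} : Set G)).mul_mem ((centralizer ({b} : Set G)).mul_mem hc' hx2)
        ((centralizer ({b} : Set G)).inv_mem hc')
    have hKc : K ≤ centralizer ((zpowers a ⊔ zpowers b : Subgroup G) : Set G) := by
      rintro x ⟨hx1, hx2⟩
      have h1 : zpowers a ⊔ zpowers b ≤ centralizer ({x} : Set G) := by
        refine sup_le ?_ ?_
        · rw [zpowers_le, mem_centralizer_singleton_iff]
          exact mem_centralizer_iff.mp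
            (CoreOfCentralizer.centralizerPPrimeCore_le p a (hθcore a ha ha1 hx1)) a rfl
        · rw [zpowers_le, mem_centralizer_singleton_iff]
          exact mem_centralizer_iff.mp hx2 b rfl
      rw [mem_centralizer_iff]
      intro y hy
      exact mem_centralizer_singleton_iff.mp (h1 hy)
    refine (gen hA hA1 K (zpowers a ⊔ zpowers b) (fun h => hθp a ha ha1 (h.trans (card_dvd_of_le inf_le_left)))
      hKA (sup_le (by rwa [zpowers_le]) (by rwa [zpowers_le])) hKc).trans ?_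
    refine iSup_le ?_
    rintro ⟨F, hFA, habF, hi⟩
    have haF : a ∈ F := habF (mem_sup_left (mem_zpowers a))
    have hbF : b ∈ F := habF (mem_sup_right (mem_zpowers b))
    have h1 : K ⊓ centralizer (F : Set G) ≤ signalizerDelta p F :=
      (inf_le_inf_right _ inf_le_left).trans (hmain a ha ha1 F (hFD a ⟨hFA, haF, hi⟩))
    refine h1.trans ?_
    change signalizerDelta p F ≤ θ b
    rw [hθ b hb hb1]
    exact le_iSup_of_le (⟨F, hFD b ⟨hFA, hbF, hi⟩⟩ : 𝒟 b) le_rfl

/-- The completion of the `k`-balanced functor (prime 2). -/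
theorem exists_completion {G : Type u} [Group G] [Finite G] (k : ℕ) (hk : 1 ≤ k)
    (A : Subgroup G) (hA : IsElementaryAbelian 2 A) (hAk : 2 ^ (k + 2) ≤ Nat.card ↥A)
    (hbal : ∀ D ≤ A, Nat.card D = 2 ^ k → ∀ e ∈ A, e ≠ 1 →
      signalizerDelta 2 D ⊓ centralizer ({e} : Set G) ≤ centralizerPPrimeCore 2 e) :
    ∃ W : Subgroup G, ¬ 2 ∣ Nat.card W ∧ Group.IsSolvable W ∧
      (∀ b ∈ A, ∀ x ∈ W, b * x * b⁻¹ ∈ W) ∧
      (∀ D ≤ A, 2 ^ k ≤ Nat.card D → W ⊓ centralizer (D : Set G) = signalizerDelta 2 D) ∧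
      (∀ B ≤ A, 2 ^ (k + 1) ≤ Nat.card B →
        W = ⨆ D : {D : Subgroup G // D ≤ B ∧ Nat.card ↥D = 2 ^ k}, signalizerDelta 2 (D : Subgroup G)) := by
  have : Fact (Nat.Prime 2) := ⟨Nat.prime_two⟩
  have hodd : ∀ a : G, ¬ 2 ∣ Nat.card (centralizerPPrimeCore 2 a) := fun a h => by
    have h1 := CoreOfCentralizer.card_centralizerPPrimeCore_coprime 2 a
    exact (Nat.prime_two.coprime_iff_not_dvd.mp h1.symm) h
  have hsol : ∀ H : Subgroup G, ¬ 2 ∣ Nat.card H → Group.IsSolvable H := fun H h => by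
    apply Cfsg.Agent.S0205.result
    rwa [← Nat.not_even_iff_odd, even_iff_two_dvd]
  have hcomm : ∀ a ∈ A, ∀ b ∈ A, a * b = b * a := fun a ha b hb => by
    have h1 := hA.1.is_comm.comm (⟨a, ha⟩ : A) ⟨b, hb⟩
    exact congrArg Subtype.val h1
  obtain ⟨hfun, hcore, hmain⟩ := functor 2 k hk A hA hAk (fun a _ _ => hsol _ (hodd a)) hbal
  have hApg : IsPGroup 2 A := fun a => ⟨1, by
    apply Subtype.ext
    have := hA.2 a a.2
    simpa using this⟩
  obtain ⟨hC, hp, hinv, hb⟩ := hfun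
  have h8 : 2 ^ 3 ≤ Nat.card A := le_trans (Nat.pow_le_pow_right (by norm_num) (by omega)) hAk
  obtain ⟨h1, h2, h3⟩ := SolFunctorTwo.solvable_signalizer_functor_two A hcomm hA.2 h8
    (theta 2 k A) hC hp hinv (fun a ha ha1 => hsol _ (hp a ha ha1)) hb
  set W : Subgroup G := ⨆ a : {a : G // a ∈ A ∧ a ≠ 1}, theta 2 k A a with hW
  have hWinv : ∀ b ∈ A, ∀ x ∈ W, b * x * b⁻¹ ∈ W := by
    intro b hb' 
    refine NormalFunctor.conj_mem_iSup _ _ b ?_
    intro a x hx
    exact mem_iSup_of_mem a (hinv a a.2.1 a.2.2 b hb' x hx)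
  -- subgroups of order `2 ^ k`
  have hsub : ∀ D : Subgroup G, D ≤ A → 2 ^ k ≤ Nat.card D → ∃ D₀ ≤ D, Nat.card D₀ = 2 ^ k := by
    intro D hD hcard
    obtain ⟨m, hm⟩ := IsPGroup.iff_card.mp (hApg.to_le hD)
    rw [hm] at hcard
    have hkm : k ≤ m := (Nat.pow_le_pow_iff_right (by norm_num)).mp hcard
    obtain ⟨D₁, hD₁⟩ := Sylow.exists_subgroup_card_pow_prime 2
      (show 2 ^ k ∣ Nat.card D by rw [hm]; exact pow_dvd_pow 2 hkm)
    refine ⟨D₁.map D.subtype, map_subtype_le D₁, ?_⟩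
    rw [card_map_of_injective D.subtype_injective, hD₁]
  have hWC : ∀ D ≤ A, 2 ^ k ≤ Nat.card D → W ⊓ centralizer (D : Set G) = signalizerDelta 2 D := by
    intro D hD hcard
    have hD1 : D ≠ ⊥ := by
      rintro rfl
      rw [card_bot] at hcard
      have : 2 ^ 1 ≤ 2 ^ k := Nat.pow_le_pow_right (by norm_num) hk
      omega
    obtain ⟨d, hd, hd1⟩ : ∃ d : G, d ∈ D ∧ d ≠ 1 := by
      obtain ⟨d, hd⟩ := Subgroup.ne_bot_iff_exists_ne_one.mp hD1
      exact ⟨d, d.2, fun h => hd (Subtype.ext h)⟩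
    apply le_antisymm
    · intro x hx
      have hx1 : x ∈ W ⊓ centralizer ({(d : G)} : Set G) := by
        refine mem_inf.mpr ⟨hx.1, mem_centralizer_iff.mpr ?_⟩
        intro y hy
        rw [Set.mem_singleton_iff.mp hy]
        exact mem_centralizer_iff.mp hx.2 d hd
      rw [h2 d (hD hd) hd1] at hx1
      exact hmain d (hD hd) hd1 D hD hd hcard ⟨hx1, hx.2⟩
    · obtain ⟨D₀, hD₀, hc⟩ := hsub D hD hcard
      refine le_inf ?_ (delta_le_centralizer 2 D)
      refine le_trans ?_ (le_iSup_of_le (⟨(d : G), hD hd, hd1⟩ : {a : G // a ∈ A ∧ a ≠ 1}) le_rfl)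
      refine le_trans ?_ (le_iSup_of_le (⟨D₀, hD₀.trans hD, hc⟩ :
        {D : Subgroup G // D ≤ A ∧ Nat.card ↥D = 2 ^ k}) le_rfl)
      exact le_inf (delta_antitone 2 hD₀)
        ((delta_le 2 hd hd1).trans (CoreOfCentralizer.centralizerPPrimeCore_le 2 (d : G)))
  refine ⟨W, h1, h3, hWinv, hWC, ?_⟩
  intro B hBA hBc
  have hBel : IsElementaryAbelian 2 B :=
    ⟨⟨⟨fun x y => Subtype.ext (hcomm x (hBA x.2) y (hBA y.2))⟩⟩, fun x hx => hA.2 x (hBA hx)⟩
  have hB1 : B ≠ ⊥ := by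
    rintro rfl
    rw [card_bot] at hBc
    have : 2 ^ 1 ≤ 2 ^ (k + 1) := Nat.pow_le_pow_right (by norm_num) (by omega)
    omega
  apply le_antisymm
  · refine (gen hBel hB1 W ⊥ h1 (fun a ha => hWinv a (hBA ha)) bot_le ?_).trans ?_
    · intro x _
      rw [mem_centralizer_iff]
      intro y hy
      rw [(mem_bot.mp hy : y = 1), one_mul, mul_one]
    · refine iSup_le ?_
      rintro ⟨F, hFB, -, hi⟩
      have hFc : 2 ^ k ≤ Nat.card F := by
        have h4 : Nat.card F * F.relIndex B = Nat.card B := by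
          have := relIndex_mul_relIndex (⊥ : Subgroup G) F B bot_le hFB
          rwa [relIndex_bot_left, relIndex_bot_left] at this
        have h5 : 2 ^ k * 2 ≤ Nat.card F * 2 := by
          calc 2 ^ k * 2 = 2 ^ (k + 1) := by ring
            _ ≤ Nat.card B := hBc
            _ = Nat.card F * F.relIndex B := h4.symm
            _ ≤ Nat.card F * 2 := Nat.mul_le_mul_left _ hi
        omega
      obtain ⟨D₀, hD₀, hc⟩ := hsub F (hFB.trans hBA) hFc
      refine (hWC F (hFB.trans hBA) hFc).le.trans ((delta_antitone 2 hD₀).trans ?_)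
      exact le_iSup_of_le (⟨D₀, hD₀.trans hFB, hc⟩ :
        {D : Subgroup G // D ≤ B ∧ Nat.card ↥D = 2 ^ k}) le_rfl
  · refine iSup_le ?_
    rintro ⟨D, hDB, hc⟩
    exact (hWC D (hDB.trans hBA) hc.ge).symm.le.trans inf_le_left

theorem mem_delta_conj {G : Type*} [Group G] [Finite G] (g x : G) (D : Subgroup G)
    (hx : x ∈ signalizerDelta 2 D) :
    g * x * g⁻¹ ∈ signalizerDelta 2 (D.map (MulAut.conj g).toMonoidHom) := by
  refine mem_iInf.mpr ?_
  rintro ⟨_, ⟨d, hd, rfl⟩, hd1⟩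
  have hd1' : d ≠ 1 := by
    rintro rfl
    exact hd1 (map_one _)
  change g * x * g⁻¹ ∈ centralizerPPrimeCore 2 (g * d * g⁻¹)
  rw [StandardComponent.CentCore.mem_core_conj]
  have h1 : g⁻¹ * (g * x * g⁻¹) * g = x := by group
  rw [h1]
  exact delta_le 2 hd hd1' hx

/-- `W` is normalised by the normaliser of every subgroup `B` whose small subgroups generate `W`. -/
theorem normalizer_le {G : Type*} [Group G] [Finite G] {k : ℕ} {W B : Subgroup G}
    (hW : W = ⨆ D : {D : Subgroup G // D ≤ B ∧ Nat.card ↥D = 2 ^ k}, signalizerDelta 2 (D : Subgroup G)) :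
    normalizer (B : Set G) ≤ normalizer (W : Set G) := by
  have key : ∀ g ∈ normalizer (B : Set G), ∀ x ∈ W, g * x * g⁻¹ ∈ W := by
    intro g hg x hx
    have h1 : W ≤ W.comap (MulAut.conj g).toMonoidHom := by
      nth_rewrite 1 [hW]
      refine iSup_le ?_
      rintro ⟨D, hDB, hDc⟩ y hy
      rw [mem_comap]
      change g * y * g⁻¹ ∈ W
      rw [hW]
      refine mem_iSup_of_mem (⟨D.map (MulAut.conj g).toMonoidHom, ?_, ?_⟩ :
        {D : Subgroup G // D ≤ B ∧ Nat.card ↥D = 2 ^ k}) (mem_delta_conj g y D hy)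
      · rintro _ ⟨d, hd, rfl⟩
        exact (mem_normalizer_iff.mp hg d).mp (hDB hd)
      · rw [card_map_of_injective (MulAut.conj g).injective, hDc]
    exact h1 hx
  intro g hg
  rw [mem_normalizer_iff]
  intro x
  refine ⟨key g hg x, fun hx => ?_⟩
  have h2 := key g⁻¹ (inv_mem hg) _ hx
  have h3 : g⁻¹ * (g * x * g⁻¹) * g⁻¹⁻¹ = x := by group
  rwa [h3] at h2

end Cfsg.Agent.Lib.KFunctor
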