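import Mathlib
import Cfsg.Agent.Lib.KFunctor

/-!
# The symplectic frame: 2-balance on an elementary abelian group of order 16

`E` elementary abelian of order 16 with a symplectic form `B`, `O_a = O(C(a))`.
Hypotheses: `O_a ∩ C(b) ≤ O_b` if `a`, `b` are not perpendicular, and `O_b ∩ O_{ab} ≤ O_a` if they are.
Then `Δ(D) ∩ C(e) ≤ O_e` for all four-groups `D ≤ E`, so the `2`-balanced functor gives `W`.
-/

set_option autoImplicit false

namespace Cfsg.Agent.Lib.SymFrame

open Subgroup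
open Cfsg
open Cfsg.Agent.S1299 (gen delta_antitone delta_le delta_le_centralizer conj_mem_delta)

universe u

structure Frame {G : Type*} [Group G] (E : Subgroup G) (B : G → G → ZMod 2) : Prop where
  elem : IsElementaryAbelian 2 E
  card : Nat.card E = 16
  add_left : ∀ a ∈ E, ∀ b ∈ E, ∀ c ∈ E, B (a * b) c = B a c + B b c
  symm : ∀ a ∈ E, ∀ b ∈ E, B a b = B b a
  iso : ∀ a ∈ E, ∀ b ∈ E, ∀ c ∈ E, a ≠ 1 → b ≠ 1 → c ≠ 1 → a ≠ b → B a b = 0 → B a c = 0 →
    B b c = 0 → c = a ∨ c = b ∨ c = a * b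
  bal : ∀ a ∈ E, a ≠ 1 → ∀ b ∈ E, b ≠ 1 → B a b ≠ 0 →
    centralizerPPrimeCore 2 a ⊓ centralizer ({b} : Set G) ≤ centralizerPPrimeCore 2 b
  isoCore : ∀ a ∈ E, a ≠ 1 → ∀ b ∈ E, b ≠ 1 → a ≠ b → B a b = 0 →
    centralizerPPrimeCore 2 b ⊓ centralizerPPrimeCore 2 (a * b) ≤ centralizerPPrimeCore 2 a

section
variable {G : Type u} [Group G] {E : Subgroup G} {B : G → G → ZMod 2}

theorem Frame.comm (h : Frame E B) {a b : G} (ha : a ∈ E) (hb : b ∈ E) : a * b = b * a :=
  congrArg Subtype.val (h.elem.1.is_comm.comm (⟨a, ha⟩ : E) ⟨b, hb⟩)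

theorem Frame.sq (h : Frame E B) {a : G} (ha : a ∈ E) : a * a = 1 := by
  have := h.elem.2 a ha
  rwa [pow_two] at this

variable [Finite G]

theorem Frame.two_balance (h : Frame E B) : ∀ D ≤ E, Nat.card D = 2 ^ 2 → ∀ e ∈ E, e ≠ 1 →
    signalizerDelta 2 D ⊓ centralizer ({e} : Set G) ≤ centralizerPPrimeCore 2 e := by
  intro D hD hc e he he1 x hx
  obtain ⟨hxD, hxe⟩ := mem_inf.mp hx
  by_cases heD : e ∈ D
  · exact delta_le 2 heD he1 hxD
  by_cases hf : ∃ f ∈ D, f ≠ 1 ∧ B f e ≠ 0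
  · obtain ⟨f, hfD, hf1, hfe⟩ := hf
    exact h.bal f (hD hfD) hf1 e he he1 hfe (mem_inf.mpr ⟨delta_le 2 hfD hf1 hxD, hxe⟩)
  push Not at hf
  have hperp : ∃ f ∈ D, f ≠ 1 ∧ ∃ f' ∈ D, f' ≠ 1 ∧ B f' f ≠ 0 := by
    by_contra hno
    push Not at hno
    -- two different non-trivial elements of `D`
    have hD1 : ∃ f ∈ D, f ≠ 1 := by
      by_contra h0
      push Not at h0
      have : D = ⊥ := (eq_bot_iff_forall D).mpr h0
      rw [this, card_bot] at hc
      norm_num at hc
    obtain ⟨f, hfD, hf1⟩ := hD1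
    have hD2 : ∃ f' ∈ D, f' ≠ 1 ∧ f' ≠ f := by
      by_contra h0
      push Not at h0
      have hle : D ≤ zpowers f := by
        intro y hy
        by_cases hy1 : y = 1
        · rw [hy1]; exact one_mem _
        · rw [h0 y hy hy1]; exact mem_zpowers f
      have h1 := card_le_of_le hle
      rw [hc, Nat.card_zpowers, orderOf_eq_prime (p := 2) (by rw [pow_two]; exact h.sq (hD hfD)) hf1] at h1
      norm_num at h1
    obtain ⟨f', hfD', hf1', hff⟩ := hD2
    have h2 := h.iso f (hD hfD) f' (hD hfD') e he hf1 hf1' he1 (Ne.symm hff)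
      (hno f' hfD' hf1' f hfD hf1) (hf f hfD hf1) (hf f' hfD' hf1')
    rcases h2 with h2 | h2 | h2
    · exact heD (h2 ▸ hfD)
    · exact heD (h2 ▸ hfD')
    · exact heD (h2 ▸ mul_mem hfD hfD')
  obtain ⟨f, hfD, hf1, f', hfD', hf1', hff⟩ := hperp
  have hfe1 : e * f ≠ 1 := by
    intro h0
    apply heD
    have h1 : e = f := by
      have h2 : e * (f * f) = f := by rw [← mul_assoc, h0, one_mul]
      rwa [h.sq (hD hfD), mul_one] at h2
    exact h1 ▸ hfD
  have hef : e * f ∈ E := mul_mem he (hD hfD)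
  have hB : B f' (e * f) ≠ 0 := by
    rw [h.symm f' (hD hfD') _ hef, h.add_left e he f (hD hfD) f' (hD hfD'),
      h.symm e he f' (hD hfD'), hf f' hfD' hf1', zero_add, h.symm f (hD hfD) f' (hD hfD')]
    exact hff
  have hxef : x ∈ centralizer ({e * f} : Set G) := by
    rw [mem_centralizer_singleton_iff]
    have h1 : x * e = e * x := mem_centralizer_singleton_iff.mp hxe
    have h2 : x * f = f * x :=
      (mem_centralizer_iff.mp (delta_le_centralizer 2 D hxD) f hfD).symm
    rw [← mul_assoc, h1, mul_assoc, h2, mul_assoc]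
  have h3 : x ∈ centralizerPPrimeCore 2 (e * f) :=
    h.bal f' (hD hfD') hf1' _ hef hfe1 hB (mem_inf.mpr ⟨delta_le 2 hfD' hf1' hxD, hxef⟩)
  refine h.isoCore e he he1 f (hD hfD) hf1 (fun h0 => heD (h0 ▸ hfD)) ?_
    (mem_inf.mpr ⟨delta_le 2 hfD hf1 hxD, h3⟩)
  rw [h.symm e he f (hD hfD)]
  exact hf f hfD hf1

/-- The properties of the completion `W`. -/
structure Completion (E W : Subgroup G) : Prop where
  elem : IsElementaryAbelian 2 E
  card : Nat.card E = 16
  odd : ¬ 2 ∣ Nat.card W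
  solv : Group.IsSolvable W
  inv : ∀ b ∈ E, ∀ x ∈ W, b * x * b⁻¹ ∈ W
  inf : ∀ D ≤ E, 4 ≤ Nat.card D → W ⊓ centralizer (D : Set G) = signalizerDelta 2 D
  norm : ∀ D ≤ E, 8 ≤ Nat.card D → normalizer (D : Set G) ≤ normalizer (W : Set G)
  sup : ∀ D ≤ E, 8 ≤ Nat.card D →
    W = ⨆ F : {F : Subgroup G // F ≤ D ∧ Nat.card F = 4}, signalizerDelta 2 (F : Subgroup G)

theorem Frame.exists_completion (h : Frame E B) : ∃ W : Subgroup G, Completion E W := by
  have hc : 2 ^ (2 + 2) ≤ Nat.card E := by rw [h.card]; norm_num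
  obtain ⟨W, h1, h2, h3, h4, h5⟩ := KFunctor.exists_completion 2 (by norm_num) E h.elem hc h.two_balance
  exact ⟨W, h.elem, h.card, h1, h2, h3, fun D hD hDc => h4 D hD (by simpa using hDc),
    fun D hD hDc => KFunctor.normalizer_le (h5 D hD (by simpa using hDc)),
    fun D hD hDc => h5 D hD (by simpa using hDc)⟩

/-- Every `E`-invariant subgroup of odd order normalises `W`. -/
theorem Completion.le_normalizer {W : Subgroup G} (h : Completion E W) (K : Subgroup G)
    (hK : ¬ 2 ∣ Nat.card K) (hEK : ∀ b ∈ E, ∀ x ∈ K, b * x * b⁻¹ ∈ K) :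
    K ≤ normalizer (W : Set G) := by
  have : Fact (Nat.Prime 2) := ⟨Nat.prime_two⟩
  have hE1 : E ≠ ⊥ := by
    rintro rfl
    have := h.card
    rw [card_bot] at this
    norm_num at this
  refine (gen h.elem hE1 K ⊥ hK hEK bot_le ?_).trans ?_
  · intro x _
    rw [mem_centralizer_iff]
    intro y hy
    rw [(mem_bot.mp hy : y = 1), one_mul, mul_one]
  · refine iSup_le ?_
    rintro ⟨F, hFE, -, hi⟩
    have hFc : 8 ≤ Nat.card F := by
      have h4 : Nat.card F * F.relIndex E = Nat.card E := by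
        have := relIndex_mul_relIndex (⊥ : Subgroup G) F E bot_le hFE
        rwa [relIndex_bot_left, relIndex_bot_left] at this
      rw [h.card] at h4
      have h5 : Nat.card F * F.relIndex E ≤ Nat.card F * 2 := Nat.mul_le_mul_left _ hi
      omega
    exact inf_le_right.trans ((Subgroup.centralizer_le_normalizer _).trans (h.norm F hFE hFc))

/-- `E` elementary abelian of order 16 (at least 8) with `1`-balance. -/
structure OneBal {G : Type*} [Group G] (E : Subgroup G) : Prop where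
  elem : IsElementaryAbelian 2 E
  card : 8 ≤ Nat.card E
  bal : ∀ a ∈ E, a ≠ 1 → ∀ b ∈ E, b ≠ 1 →
    centralizerPPrimeCore 2 a ⊓ centralizer ({b} : Set G) ≤ centralizerPPrimeCore 2 b

/-- The completion of a `1`-balanced functor. -/
structure CompletionOne {G : Type*} [Group G] (E W : Subgroup G) : Prop where
  elem : IsElementaryAbelian 2 E
  card : 8 ≤ Nat.card E
  odd : ¬ 2 ∣ Nat.card W
  solv : Group.IsSolvable W
  inv : ∀ b ∈ E, ∀ x ∈ W, b * x * b⁻¹ ∈ W
  cent : ∀ a ∈ E, a ≠ 1 → W ⊓ centralizer ({a} : Set G) = centralizerPPrimeCore 2 a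
  inf : ∀ D ≤ E, 2 ≤ Nat.card D → W ⊓ centralizer (D : Set G) = signalizerDelta 2 D
  norm : ∀ D ≤ E, 4 ≤ Nat.card D → normalizer (D : Set G) ≤ normalizer (W : Set G)
  sup : ∀ D ≤ E, 4 ≤ Nat.card D →
    W = ⨆ a : {a : G // a ∈ D ∧ a ≠ 1}, centralizerPPrimeCore 2 (a : G)

omit [Finite G] in
theorem CompletionOne.core_le {W : Subgroup G} (h : CompletionOne E W) {a : G} (ha : a ∈ E) (ha1 : a ≠ 1) :
    centralizerPPrimeCore 2 a ≤ W := by
  rw [← h.cent a ha ha1]
  exact inf_le_left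

omit [Finite G] in
/-- a cyclic group of order two: `Δ = O(C(a))` -/
theorem delta_zpowers {a : G} (ha : a ^ 2 = 1) (ha1 : a ≠ 1) :
    signalizerDelta 2 (zpowers a) = centralizerPPrimeCore 2 a := by
  apply le_antisymm
  · exact delta_le 2 (mem_zpowers a) ha1
  · refine le_iInf ?_
    rintro ⟨b, hb, hb1⟩
    obtain ⟨n, rfl⟩ := mem_zpowers_iff.mp hb
    rcases Int.even_or_odd n with ⟨m, rfl⟩ | ⟨m, rfl⟩
    · exfalso
      apply hb1
      rw [← two_mul, zpow_mul, zpow_two, ← pow_two, ha, one_zpow]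
    · have : a ^ (2 * m + 1) = a := by
        rw [zpow_add, zpow_mul, zpow_two, ← pow_two, ha, one_zpow, one_mul, zpow_one]
      change centralizerPPrimeCore 2 a ≤ centralizerPPrimeCore 2 (a ^ (2 * m + 1))
      rw [this]

omit [Finite G] in
theorem centralizer_zpowers (a : G) : centralizer ((zpowers a : Subgroup G) : Set G) = centralizer ({a} : Set G) := by
  ext x
  rw [mem_centralizer_singleton_iff, mem_centralizer_iff]
  constructor
  · intro h
    exact (h a (mem_zpowers a)).symm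
  · intro h y hy
    obtain ⟨n, rfl⟩ := mem_zpowers_iff.mp hy
    exact ((show Commute x a from h).zpow_right n).symm

theorem OneBal.exists_completion (h : OneBal E) : ∃ W : Subgroup G, CompletionOne E W := by
  have hc : 2 ^ (1 + 2) ≤ Nat.card E := h.card
  have hb : ∀ D ≤ E, Nat.card D = 2 ^ 1 → ∀ e ∈ E, e ≠ 1 →
      signalizerDelta 2 D ⊓ centralizer ({e} : Set G) ≤ centralizerPPrimeCore 2 e := by
    intro D hD hDc e he he1 x hx
    have hF1 : ∃ a ∈ D, a ≠ 1 := by
      by_contra h0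
      push Not at h0
      have : D = ⊥ := (eq_bot_iff_forall D).mpr h0
      rw [this, card_bot] at hDc
      norm_num at hDc
    obtain ⟨a, haD, ha1⟩ := hF1
    exact h.bal a (hD haD) ha1 e he he1 (mem_inf.mpr ⟨delta_le 2 haD ha1 (mem_inf.mp hx).1, (mem_inf.mp hx).2⟩)
  obtain ⟨W, h1, h2, h3, h4, h5⟩ := KFunctor.exists_completion 1 le_rfl E h.elem hc hb
  have hord : ∀ a ∈ E, a ≠ 1 → Nat.card (zpowers a) = 2 := fun a ha ha1 => by
    rw [Nat.card_zpowers]; exact orderOf_eq_prime (h.elem.2 a ha) ha1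
  have hcent : ∀ a ∈ E, a ≠ 1 → W ⊓ centralizer ({a} : Set G) = centralizerPPrimeCore 2 a := by
    intro a ha ha1
    rw [← centralizer_zpowers, h4 (zpowers a) (zpowers_le_of_mem ha) (by rw [hord a ha ha1]; norm_num),
      delta_zpowers (h.elem.2 a ha) ha1]
  refine ⟨W, h.elem, h.card, h1, h2, h3, hcent, fun D hD hDc => h4 D hD (by simpa using hDc),
    fun D hD hDc => KFunctor.normalizer_le (h5 D hD (by simpa using hDc)), ?_⟩
  intro D hD hDc
  apply le_antisymm
  · rw [h5 D hD (by simpa using hDc)]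
    refine iSup_le ?_
    rintro ⟨F, hFD, hF⟩
    have hF1 : ∃ a ∈ F, a ≠ 1 := by
      by_contra h0
      push Not at h0
      have : F = ⊥ := (eq_bot_iff_forall F).mpr h0
      rw [this, card_bot] at hF
      norm_num at hF
    obtain ⟨a, haF, ha1⟩ := hF1
    exact (delta_le 2 haF ha1).trans (le_iSup_of_le (⟨a, hFD haF, ha1⟩ : {a : G // a ∈ D ∧ a ≠ 1}) le_rfl)
  · refine iSup_le ?_
    rintro ⟨a, haD, ha1⟩
    change centralizerPPrimeCore 2 a ≤ W
    rw [← hcent a (hD haD) ha1]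
    exact inf_le_left

/-- Every `E`-invariant subgroup of odd order normalises `W`. -/
theorem CompletionOne.le_normalizer {W : Subgroup G} (h : CompletionOne E W) (K : Subgroup G)
    (hK : ¬ 2 ∣ Nat.card K) (hEK : ∀ b ∈ E, ∀ x ∈ K, b * x * b⁻¹ ∈ K) :
    K ≤ normalizer (W : Set G) := by
  have : Fact (Nat.Prime 2) := ⟨Nat.prime_two⟩
  have hE1 : E ≠ ⊥ := by
    rintro rfl
    have := h.card
    rw [card_bot] at this
    norm_num at this
  refine (gen h.elem hE1 K ⊥ hK hEK bot_le ?_).trans ?_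
  · intro x _
    rw [mem_centralizer_iff]
    intro y hy
    rw [(mem_bot.mp hy : y = 1), one_mul, mul_one]
  · refine iSup_le ?_
    rintro ⟨F, hFE, -, hi⟩
    have hFc : 4 ≤ Nat.card F := by
      have h4 : Nat.card F * F.relIndex E = Nat.card E := by
        have := relIndex_mul_relIndex (⊥ : Subgroup G) F E bot_le hFE
        rwa [relIndex_bot_left, relIndex_bot_left] at this
      have h6 := h.card
      have h5 : Nat.card F * F.relIndex E ≤ Nat.card F * 2 := Nat.mul_le_mul_left _ hi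
      omega
    exact inf_le_right.trans ((Subgroup.centralizer_le_normalizer _).trans (h.norm F hFE hFc))

end

end Cfsg.Agent.Lib.SymFrame
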