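import Mathlib
import Cfsg.Agent.Lib.SymFrame
import Cfsg.Agent.StandardComponent.CentCore

/-!
# Symplectic frames from coordinates

`e : V → G` is an injective homomorphism from a set `V` of 16 elements with operation `op`; `β` a Boolean bilinear
form on `V`.  `Bal a b` and `Iso a b` are the two core inclusions; they are transported by conjugation.
-/

set_option autoImplicit false

namespace Cfsg.Agent.Lib.SymParam

open Subgroup
open Cfsg
open Cfsg.Agent.StandardComponent (CentCore.mem_core_conj CentCore.core_le)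
open Cfsg.Agent.Lib.SymFrame

universe u

/-- `O(C(a)) ∩ C(b) ≤ O(C(b))` -/
def Bal {G : Type*} [Group G] (a b : G) : Prop :=
  centralizerPPrimeCore 2 a ⊓ centralizer ({b} : Set G) ≤ centralizerPPrimeCore 2 b

/-- `O(C(b)) ∩ O(C(ab)) ≤ O(C(a))` -/
def Iso {G : Type*} [Group G] (a b : G) : Prop :=
  centralizerPPrimeCore 2 b ⊓ centralizerPPrimeCore 2 (a * b) ≤ centralizerPPrimeCore 2 a

section
variable {G : Type u} [Group G] [Finite G]

theorem Bal.of_conj {a b g : G} (h : Bal (g * a * g⁻¹) (g * b * g⁻¹)) : Bal a b := by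
  intro x hx
  obtain ⟨hxa, hxb⟩ := mem_inf.mp hx
  have h1 : ∀ a x : G, x ∈ centralizerPPrimeCore 2 a ↔ g * x * g⁻¹ ∈ centralizerPPrimeCore 2 (g * a * g⁻¹) := by
    intro a x
    rw [CentCore.mem_core_conj]
    have : g⁻¹ * (g * x * g⁻¹) * g = x := by group
    rw [this]
  rw [h1]
  refine h (mem_inf.mpr ⟨(h1 a x).mp hxa, ?_⟩)
  rw [mem_centralizer_singleton_iff] at hxb ⊢
  calc g * x * g⁻¹ * (g * b * g⁻¹) = g * (x * b) * g⁻¹ := by group
    _ = g * (b * x) * g⁻¹ := by rw [hxb]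
    _ = _ := by group

theorem Iso.of_conj {a b g : G} (h : Iso (g * a * g⁻¹) (g * b * g⁻¹)) : Iso a b := by
  intro x hx
  obtain ⟨hxa, hxb⟩ := mem_inf.mp hx
  have h1 : ∀ a x : G, x ∈ centralizerPPrimeCore 2 a ↔ g * x * g⁻¹ ∈ centralizerPPrimeCore 2 (g * a * g⁻¹) := by
    intro a x
    rw [CentCore.mem_core_conj]
    have : g⁻¹ * (g * x * g⁻¹) * g = x := by group
    rw [this]
  rw [h1]
  refine h (mem_inf.mpr ⟨(h1 b x).mp hxa, ?_⟩)
  have h3 := (h1 (a * b) x).mp hxb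
  have h4 : g * (a * b) * g⁻¹ = g * a * g⁻¹ * (g * b * g⁻¹) := by group
  rwa [h4] at h3

omit [Finite G] in
/-- `Iso a b` is symmetric in `b` and `a b`. -/
theorem Iso.swap {a b : G} (ha : a * a = 1) (h : Iso a (a * b)) : Iso a b := by
  intro x hx
  refine h (mem_inf.mpr ⟨(mem_inf.mp hx).2, ?_⟩)
  rw [← mul_assoc, ha, one_mul]
  exact (mem_inf.mp hx).1

variable {V : Type*} (op : V → V → V) (o : V) (e : V → G) (β : V → V → Bool)


omit [Finite G] in
theorem exists_frame (hop : ∀ u v, e (op u v) = e u * e v) (he : Function.Injective e) (ho : e o = 1)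
    (hsq : ∀ u, e u * e u = 1) (hcomm : ∀ u v, op u v = op v u) (hcard : Nat.card V = 16)
    (hβ : ∀ u v w, β (op u v) w = xor (β u w) (β v w)) (hsymm : ∀ u v, β u v = β v u)
    (hiso : ∀ u v w, u ≠ o → v ≠ o → w ≠ o → u ≠ v → β u v = false → β u w = false → β v w = false →
      w = u ∨ w = v ∨ w = op u v)
    (bal : ∀ u v, u ≠ o → v ≠ o → β u v = true → Bal (e u) (e v))
    (iso : ∀ u v, u ≠ o → v ≠ o → u ≠ v → β u v = false → Iso (e u) (e v)) :
    ∃ (E : Subgroup G) (B : G → G → ZMod 2), Frame E B ∧ ∀ g, g ∈ E ↔ ∃ u, e u = g := by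
  classical
  have hne : Nonempty V := ⟨o⟩
  let E : Subgroup G :=
    { carrier := Set.range e
      mul_mem' := by
        rintro _ _ ⟨u, rfl⟩ ⟨v, rfl⟩
        exact ⟨op u v, hop u v⟩
      one_mem' := ⟨o, ho⟩
      inv_mem' := by
        rintro _ ⟨u, rfl⟩
        exact ⟨u, (inv_eq_of_mul_eq_one_right (hsq u)).symm⟩ }
  have hE : ∀ g, g ∈ E ↔ ∃ u, e u = g := fun g => Iff.rfl
  let i : G → V := Function.invFun e
  have hi : ∀ u, i (e u) = u := Function.leftInverse_invFun he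
  let B : G → G → ZMod 2 := fun g h => if β (i g) (i h) = true then 1 else 0
  have hB : ∀ u v, B (e u) (e v) = if β u v = true then 1 else 0 := by
    intro u v
    change (if β (i (e u)) (i (e v)) = true then (1 : ZMod 2) else 0) = _
    rw [hi, hi]
  have hB0 : ∀ u v, B (e u) (e v) = 0 ↔ β u v = false := by
    intro u v
    rw [hB]
    cases β u v <;> simp
  have ho' : ∀ u, e u ≠ 1 → u ≠ o := fun u hu h => hu (by rw [h, ho])
  refine ⟨E, B, ?_, hE⟩
  refine ⟨⟨⟨⟨?_⟩⟩, ?_⟩, ?_, ?_, ?_, ?_, ?_, ?_⟩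
  · rintro ⟨_, u, rfl⟩ ⟨_, v, rfl⟩
    apply Subtype.ext
    change e u * e v = e v * e u
    rw [← hop, hcomm, hop]
  · rintro _ ⟨u, rfl⟩
    rw [pow_two, hsq]
  · rw [← hcard]
    exact Nat.card_congr (Equiv.ofInjective e he).symm
  · rintro _ ⟨u, rfl⟩ _ ⟨v, rfl⟩ _ ⟨w, rfl⟩
    rw [← hop, hB, hB, hB, hβ]
    cases β u w <;> cases β v w <;> decide
  · rintro _ ⟨u, rfl⟩ _ ⟨v, rfl⟩
    rw [hB, hB, hsymm]
  · rintro _ ⟨u, rfl⟩ _ ⟨v, rfl⟩ _ ⟨w, rfl⟩ hu hv hw huv h1 h2 h3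
    rw [hB0] at h1 h2 h3
    rcases hiso u v w (ho' u hu) (ho' v hv) (ho' w hw) (fun h => huv (by rw [h])) h1 h2 h3 with h4 | h4 | h4
    · exact Or.inl (by rw [h4])
    · exact Or.inr (Or.inl (by rw [h4]))
    · exact Or.inr (Or.inr (by rw [h4, hop]))
  · rintro _ ⟨u, rfl⟩ hu _ ⟨v, rfl⟩ hv h1
    rw [Ne, hB0, Bool.not_eq_false] at h1
    exact bal u v (ho' u hu) (ho' v hv) h1
  · rintro _ ⟨u, rfl⟩ hu _ ⟨v, rfl⟩ hv huv h1
    rw [hB0] at h1
    exact iso u v (ho' u hu) (ho' v hv) (fun h => huv (by rw [h])) h1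

end

end Cfsg.Agent.Lib.SymParam
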