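import Mathlib
import Cfsg.Agent.Lib.SymFrame
import Cfsg.Agent.Lib.KleinGen

/-!
# Local conditions for the symplectic frame

`LocBal π a` and `LocIso π a b` are conditions on the quotient `X` of `C(b)` by its odd core which imply the two
core inclusions of `SymFrame.Frame`.
-/

set_option autoImplicit false

namespace Cfsg.Agent.Lib.SymLocal

open Subgroup
open Cfsg
open Cfsg.Agent.SignalizersComponents
open Cfsg.Agent.StandardComponent (CentCore.core_le CentCore.core_odd CentCore.core_conj_mem)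

/-- No nontrivial subgroup of odd order centralises `x` and is normalised by `C_X(x)`. -/
def LocBal {X : Type*} [Group X] (x : X) : Prop :=
  ∀ R : Subgroup X, Odd (Nat.card R) → (∀ r ∈ R, r * x = x * r) →
    (∀ y, y * x = x * y → ∀ r ∈ R, y * r * y⁻¹ ∈ R) → ∀ r ∈ R, r = 1

/-- No nontrivial subgroup of odd order centralises `x` and `y` and is normalised by `C_X(x)`. -/
def LocIso {X : Type*} [Group X] (x y : X) : Prop :=
  ∀ R : Subgroup X, Odd (Nat.card R) → (∀ r ∈ R, r * x = x * r) → (∀ r ∈ R, r * y = y * r) →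
    (∀ y, y * x = x * y → ∀ r ∈ R, y * r * y⁻¹ ∈ R) → ∀ r ∈ R, r = 1

section
variable {G : Type*} [Group G] [Finite G]

theorem exists_lift {H X : Type*} [Group H] [Finite H] [Group X] (π : H →* X) (hπ : Function.Surjective π)
    (hodd : Odd (Nat.card π.ker)) {a : H} (ha : a * a = 1) {y : X} (hy : y * π a = π a * y) :
    ∃ g : H, g * a = a * g ∧ π g = y := by
  have : Fact (Nat.Prime 2) := ⟨Nat.prime_two⟩
  obtain ⟨y₀, rfl⟩ := hπ y
  have hP : IsPGroup 2 (zpowers a) := by
    rintro ⟨g, hg⟩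
    obtain ⟨n, rfl⟩ := mem_zpowers_iff.mp hg
    refine ⟨1, Subtype.ext ?_⟩
    change (a ^ n) ^ (2 ^ 1) = 1
    rw [pow_one, pow_two, ← zpow_add, ← two_mul, zpow_mul, zpow_two, ha, one_zpow]
  obtain ⟨g, hg, hgc⟩ := CoreOfCentralizer.exists_centralizing_of_quotient (zpowers a) hP π.ker
    (fun h => (Nat.not_even_iff_odd.mpr hodd) (even_iff_two_dvd.mpr h)) (QuotientGroup.mk' π.ker y₀) (by
      intro b hb
      rw [← map_mul, ← map_mul]
      refine (QuotientGroup.eq).mpr ?_
      rw [MonoidHom.mem_ker]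
      obtain ⟨n, rfl⟩ := mem_zpowers_iff.mp hb
      have hc : Commute (π y₀) (π a) := hy
      rw [map_mul, map_inv, map_mul, map_mul, map_zpow, (hc.zpow_right n).eq, inv_mul_cancel])
  refine ⟨g, (hg a (mem_zpowers a)).symm, ?_⟩
  have h1 : g⁻¹ * y₀ ∈ π.ker := (QuotientGroup.eq).mp hgc
  rw [MonoidHom.mem_ker, map_mul, map_inv, inv_mul_eq_one] at h1
  exact h1

variable {X : Type*} [Group X] {b : G}

/-- the image of a subgroup of `C(b)` -/
def img (π : ↥(centralizer ({b} : Set G)) →* X) (N : Subgroup G) : Subgroup X :=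
  (N.subgroupOf (centralizer ({b} : Set G))).map π

omit [Finite G] in
theorem mem_img {π : ↥(centralizer ({b} : Set G)) →* X} {N : Subgroup G} {r : X} :
    r ∈ img π N ↔ ∃ g : ↥(centralizer ({b} : Set G)), (g : G) ∈ N ∧ π g = r := by
  constructor
  · rintro ⟨g, hg, rfl⟩
    exact ⟨g, hg, rfl⟩
  · rintro ⟨g, hg, rfl⟩
    exact ⟨g, hg, rfl⟩

omit [Finite G] in
theorem odd_img {π : ↥(centralizer ({b} : Set G)) →* X} {N : Subgroup G} (hN : Odd (Nat.card N)) :
    Odd (Nat.card (img π N)) := by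
  refine Odd.of_dvd_nat ?_ (Subgroup.card_map_dvd _ π)
  have h1 : Nat.card (N.subgroupOf (centralizer ({b} : Set G))) ∣ Nat.card N := by
    rw [← card_map_of_injective (subtype_injective (centralizer ({b} : Set G))), subgroupOf_map_subtype]
    exact card_dvd_of_le inf_le_left
  exact Odd.of_dvd_nat hN h1

theorem inf_le_of_locBal (π : ↥(centralizer ({b} : Set G)) →* X) (hπ : Function.Surjective π)
    (hker : π.ker = oddCore ↥(centralizer ({b} : Set G))) {a : G} (ha : a * a = 1)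
    (hab : a ∈ centralizer ({b} : Set G)) (h : LocBal (π ⟨a, hab⟩)) :
    centralizerPPrimeCore 2 a ⊓ centralizer ({b} : Set G) ≤ centralizerPPrimeCore 2 b := by
  have hodd : Odd (Nat.card π.ker) := by
    rw [hker]
    exact Nat.Coprime.odd_of_right (Lib.Cores.pPrimeCore_coprime 2)
  intro x hx
  obtain ⟨hxa, hxb⟩ := mem_inf.mp hx
  have key := h (img π (centralizerPPrimeCore 2 a)) (odd_img (CentCore.core_odd a)) ?_ ?_ (π ⟨x, hxb⟩)
    (mem_img.mpr ⟨⟨x, hxb⟩, hxa, rfl⟩)
  · rw [← MonoidHom.mem_ker, hker] at key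
    exact ⟨⟨x, hxb⟩, key, rfl⟩
  · intro r hr
    obtain ⟨g, hg, rfl⟩ := mem_img.mp hr
    rw [← map_mul, ← map_mul]
    congr 1
    ext
    exact mem_centralizer_singleton_iff.mp (CentCore.core_le a hg)
  · intro y hy r hr
    obtain ⟨g, hg, rfl⟩ := mem_img.mp hr
    obtain ⟨k, hk, rfl⟩ := exists_lift π hπ hodd (a := ⟨a, hab⟩) (Subtype.ext ha) hy
    refine mem_img.mpr ⟨k * g * k⁻¹, ?_, by rw [map_mul, map_mul, map_inv]⟩
    exact CentCore.core_conj_mem (congrArg Subtype.val hk) hg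

/-- For a totally isotropic four-group `{1, a, a', a a'}`, `b` perpendicular to `a`, `c` to `a'`, `b c` to `a a'`. -/
theorem inf_le_of_locIso {a a' b c : G} (ha : a * a = 1) (ha' : a' * a' = 1) (hb : b * b = 1) (hc : c * c = 1)
    (haa : a' * a = a * a') (hba : b * a = a * b) (hba' : b * a' = a' * b) (hca : c * a = a * c)
    (hca' : c * a' = a' * c) (hbc : b * c = c * b)
    (π : ↥(centralizer ({a} : Set G)) →* X) (hπ : Function.Surjective π)
    (hker : π.ker = oddCore ↥(centralizer ({a} : Set G)))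
    (h1 : centralizerPPrimeCore 2 (a * a') ⊓ centralizer ({c} : Set G) ≤ centralizerPPrimeCore 2 c)
    (h2 : centralizerPPrimeCore 2 c ⊓ centralizer ({a} : Set G) ≤ centralizerPPrimeCore 2 a)
    (h3 : centralizerPPrimeCore 2 a' ⊓ centralizer ({b * c} : Set G) ≤ centralizerPPrimeCore 2 (b * c))
    (h4 : centralizerPPrimeCore 2 (b * c) ⊓ centralizer ({a} : Set G) ≤ centralizerPPrimeCore 2 a)
    (h : LocIso (π ⟨a', mem_centralizer_singleton_iff.mpr haa⟩) (π ⟨b, mem_centralizer_singleton_iff.mpr hba⟩)) :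
    centralizerPPrimeCore 2 a' ⊓ centralizerPPrimeCore 2 (a * a') ≤ centralizerPPrimeCore 2 a := by
  have hodd : Odd (Nat.card π.ker) := by
    rw [hker]
    exact Nat.Coprime.odd_of_right (Lib.Cores.pPrimeCore_coprime 2)
  set N : Subgroup G := centralizerPPrimeCore 2 a' ⊓ centralizerPPrimeCore 2 (a * a') with hN
  have hNodd : Odd (Nat.card N) := Odd.of_dvd_nat (CentCore.core_odd a') (card_dvd_of_le inf_le_left)
  -- elements of `N` centralise `a'`, `a a'`, `a`
  have hNa' : ∀ x ∈ N, x * a' = a' * x := fun x hx =>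
    mem_centralizer_singleton_iff.mp (CentCore.core_le a' (mem_inf.mp hx).1)
  have hNaa : ∀ x ∈ N, x * (a * a') = a * a' * x := fun x hx =>
    mem_centralizer_singleton_iff.mp (CentCore.core_le _ (mem_inf.mp hx).2)
  have hNa : ∀ x ∈ N, x * a = a * x := by
    intro x hx
    have e1 : x * (a * a') * a' = x * a := by rw [mul_assoc, mul_assoc, ha', mul_one]
    have e2 : a * a' * x * a' = a * x := by
      rw [mul_assoc, hNa' x hx, ← mul_assoc, mul_assoc a a' a', ha', mul_one]
    rw [← e1, hNaa x hx, e2]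
  -- elements centralising `a`, `a'` normalise `N`
  have hnorm : ∀ y, y * a = a * y → y * a' = a' * y → ∀ x ∈ N, y * x * y⁻¹ ∈ N := by
    intro y hya hya' x hx
    refine mem_inf.mpr ⟨CentCore.core_conj_mem hya' (mem_inf.mp hx).1,
      CentCore.core_conj_mem ?_ (mem_inf.mp hx).2⟩
    rw [← mul_assoc, hya, mul_assoc, hya', mul_assoc]
  set Nb : Subgroup G := N ⊓ centralizer ({b} : Set G) with hNb
  let M : Subgroup G := ((img π Nb).comap π).map (centralizer ({a} : Set G)).subtype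
  have hker_le : centralizerPPrimeCore 2 a ≤ M := by
    rintro _ ⟨x, hx, rfl⟩
    refine ⟨x, ?_, rfl⟩
    have hx' : x ∈ π.ker := by rw [hker]; exact hx
    rw [SetLike.mem_coe, mem_comap, MonoidHom.mem_ker.mp hx']
    exact one_mem _
  have hNM : N ≤ M := by
    refine KleinGen.le_of_klein N M hNodd b c hb hc hbc (hnorm b hba hba') (hnorm c hca hca') ?_ ?_ ?_
    · intro x hx
      have hxa := mem_centralizer_singleton_iff.mpr (hNa x (mem_inf.mp hx).1)
      exact ⟨⟨x, hxa⟩, mem_img.mpr ⟨⟨x, hxa⟩, hx, rfl⟩, rfl⟩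
    · intro x hx
      obtain ⟨hxN, hxc⟩ := mem_inf.mp hx
      apply hker_le
      refine h2 (mem_inf.mpr ⟨h1 (mem_inf.mpr ⟨(mem_inf.mp hxN).2, hxc⟩), ?_⟩)
      exact mem_centralizer_singleton_iff.mpr (hNa x hxN)
    · intro x hx
      obtain ⟨hxN, hxc⟩ := mem_inf.mp hx
      apply hker_le
      refine h4 (mem_inf.mpr ⟨h3 (mem_inf.mpr ⟨(mem_inf.mp hxN).1, hxc⟩), ?_⟩)
      exact mem_centralizer_singleton_iff.mpr (hNa x hxN)
  have himg : ∀ r ∈ img π N, ∃ g : ↥(centralizer ({a} : Set G)), (g : G) ∈ Nb ∧ π g = r := by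
    intro r hr
    obtain ⟨g, hg, rfl⟩ := mem_img.mp hr
    obtain ⟨g', hg', he⟩ := hNM hg
    have he' : g' = g := Subtype.ext he
    rw [← he']
    exact mem_img.mp hg'
  have key : ∀ r ∈ img π N, r = 1 := by
    refine h (img π N) (odd_img hNodd) ?_ ?_ ?_
    · intro r hr
      obtain ⟨g, hg, rfl⟩ := mem_img.mp hr
      rw [← map_mul, ← map_mul]
      congr 1
      exact Subtype.ext (hNa' g hg)
    · intro r hr
      obtain ⟨g, hg, rfl⟩ := himg r hr
      rw [← map_mul, ← map_mul]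
      congr 1
      exact Subtype.ext (mem_centralizer_singleton_iff.mp (mem_inf.mp hg).2)
    · intro y hy r hr
      obtain ⟨g, hg, rfl⟩ := mem_img.mp hr
      obtain ⟨k, hk, rfl⟩ := exists_lift π hπ hodd (Subtype.ext ha' : (⟨a', _⟩ : ↥(centralizer ({a} : Set G))) * _ = 1) hy
      refine mem_img.mpr ⟨k * g * k⁻¹, ?_, by rw [map_mul, map_mul, map_inv]⟩
      exact hnorm k (mem_centralizer_singleton_iff.mp k.2) (congrArg Subtype.val hk) g hg
  intro x hx
  have hxa : x ∈ centralizer ({a} : Set G) := mem_centralizer_singleton_iff.mpr (hNa x hx)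
  have h5 := key (π ⟨x, hxa⟩) (mem_img.mpr ⟨⟨x, hxa⟩, hx, rfl⟩)
  rw [← MonoidHom.mem_ker, hker] at h5
  exact ⟨⟨x, hxa⟩, h5, rfl⟩

end

end Cfsg.Agent.Lib.SymLocal
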