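import Mathlib
import Cfsg.Agent.Lib.SymLocal
import Cfsg.Agent.LFourA.AutTwo

/-!
# The local conditions of the symplectic frame for `SL(2,F) * SL(2,F)` and `PSL(2,F)`
-/

set_option autoImplicit false

namespace Cfsg.Agent.Lib.SymSL

open Subgroup
open Cfsg.Agent.Lib.SymLocal
open Cfsg.Agent.LFourA.AutTwo

section
variable {X : Type*} [Group X] {F : Type*} [Field F] [Finite F]

theorem order_pow {R : Subgroup X} (hR : Odd (Nat.card R)) {r : X} (hr : r ∈ R) : Odd (orderOf r) := by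
  have h1 := orderOf_dvd_natCard (⟨r, hr⟩ : R)
  rw [Subgroup.orderOf_mk] at h1
  exact Odd.of_dvd_nat hR h1

/-- An element of odd order which maps `y` to `y` or to `c * y`, `c` fixed of order 2 commuting.., fixes `y`. -/
theorem comm_of_conj_mul {g y c : X} (hg : Odd (orderOf g)) (h : g * y * g⁻¹ = y * c) (hc : c * c = 1)
    (hgc : g * c = c * g) : g * y = y * g := by
  -- `g ^ k` maps `y` to `y * c ^ k`
  have key : ∀ k : ℕ, g ^ k * y * (g ^ k)⁻¹ = y * c ^ k := by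
    intro k
    induction k with
    | zero => simp
    | succ k ih =>
      have h1 : g ^ (k + 1) * y * (g ^ (k + 1))⁻¹ = g ^ k * (g * y * g⁻¹) * (g ^ k)⁻¹ := by
        rw [pow_succ]; group
      have h2 : g ^ k * c = c * g ^ k := ((show Commute g c from hgc).pow_left k)
      rw [h1, h]
      calc g ^ k * (y * c) * (g ^ k)⁻¹ = g ^ k * y * (g ^ k)⁻¹ * (g ^ k * c * (g ^ k)⁻¹) := by group
        _ = y * c ^ k * c := by rw [ih, h2, mul_assoc c, mul_inv_cancel, mul_one]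
        _ = y * c ^ (k + 1) := by rw [pow_succ, mul_assoc]
  obtain ⟨m, hm⟩ := hg
  have h3 := key (orderOf g)
  rw [pow_orderOf_eq_one, one_mul, inv_one, mul_one, hm, pow_succ, pow_mul, pow_two, hc, one_pow, one_mul] at h3
  have hc1 : c = 1 := by
    have h4 : y * 1 = y * c := by rw [mul_one]; exact h3
    exact (mul_left_cancel h4).symm
  rw [hc1, mul_one, mul_inv_eq_iff_eq_mul] at h
  exact h

theorem sl_cent_of_aut (h2 : (2 : F) ≠ 0) {A : Subgroup X} (e : A ≃* Matrix.SpecialLinearGroup (Fin 2) F)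
    {x g b : X} (hxA : x ∈ A) (hx1 : x * x ≠ 1) (hx : (x * x) * (x * x) = 1)
    (hg : g ∈ normalizer (A : Set X)) (hb : b ∈ normalizer (A : Set X)) (hn : Odd (orderOf g))
    (hgx : g * x = x * g) (hgb : g * b = b * g)
    (hfix : ∀ y ∈ A, y * x = x * y → Odd (orderOf y) → g * y = y * g)
    (hinv : ∀ y ∈ A, y * x = x * y → Odd (orderOf y) → b * y * b⁻¹ = y⁻¹) :
    ∀ y ∈ A, g * y = y * g := by
  set x' : MulAut (Matrix.SpecialLinearGroup (Fin 2) F) := MulAut.congr e (A.normalizerMonoidHom ⟨g, hg⟩) with hx'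
  set j' : MulAut (Matrix.SpecialLinearGroup (Fin 2) F) := MulAut.congr e (A.normalizerMonoidHom ⟨b, hb⟩) with hj'
  have hx'e : ∀ y, x' (e y) = e (A.normalizerMonoidHom ⟨g, hg⟩ y) := fun y => by
    rw [hx']
    change e (A.normalizerMonoidHom ⟨g, hg⟩ (e.symm (e y))) = _
    rw [e.symm_apply_apply]
  have hj'e : ∀ y, j' (e y) = e (A.normalizerMonoidHom ⟨b, hb⟩ y) := fun y => by
    rw [hj']
    change e (A.normalizerMonoidHom ⟨b, hb⟩ (e.symm (e y))) = _
    rw [e.symm_apply_apply]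
  have h1 : x' = 1 := by
    refine sl_eq_one_of_aut h2 (X := e ⟨x, hxA⟩) (j := j') ?_ hn ?_ ?_ ?_ ?_ ?_
    · have h3 : (e (⟨x, hxA⟩ * ⟨x, hxA⟩)) * (e (⟨x, hxA⟩ * ⟨x, hxA⟩)) = 1 := by
        rw [← map_mul]
        rw [show ((⟨x, hxA⟩ : A) * ⟨x, hxA⟩ * (⟨x, hxA⟩ * ⟨x, hxA⟩)) = 1 from Subtype.ext hx, map_one]
      rcases Cfsg.Agent.Lib.PSL2Inv.sq_eq_one h2 h3 with h4 | h4
      · exact absurd (congrArg Subtype.val ((map_eq_one_iff e e.injective).mp h4)) hx1
      · rw [← map_mul, h4]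
    · rw [hx', ← map_pow, conj_pow_eq_one hg (pow_orderOf_eq_one g), map_one]
    · rw [hx'e, (conj_apply_eq hg _).mpr hgx]
    · rw [hj', hx', ← map_mul, ← map_mul, ← map_mul, ← map_mul]
      congr 2
      exact Subtype.ext hgb.symm
    · intro y hy hyo
      obtain ⟨y, rfl⟩ := e.surjective y
      have hy' : (y : X) * x = x * y := by
        have := e.injective (show e (y * ⟨x, hxA⟩) = e (⟨x, hxA⟩ * y) by rw [map_mul, map_mul, hy])
        exact congrArg Subtype.val this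
      rw [hx'e, (conj_apply_eq hg _).mpr (hfix y y.2 hy' (by rwa [e.orderOf_eq, Subgroup.orderOf_coe] at *))]
    · intro y hy hyo
      obtain ⟨y, rfl⟩ := e.surjective y
      have hy' : (y : X) * x = x * y := by
        have := e.injective (show e (y * ⟨x, hxA⟩) = e (⟨x, hxA⟩ * y) by rw [map_mul, map_mul, hy])
        exact congrArg Subtype.val this
      have h5 := hinv y y.2 hy' (by rwa [e.orderOf_eq, Subgroup.orderOf_coe] at *)
      rw [hj'e, ← map_inv]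
      congr 1
      exact Subtype.ext h5
  intro y hy
  refine (conj_apply_eq hg ⟨y, hy⟩).mp ?_
  apply e.injective
  rw [← hx'e, h1, MulAut.one_apply]

/-- the same for `PSL(2,F)` -/
theorem psl_cent_of_aut (h2 : (2 : F) ≠ 0) {A : Subgroup X} (e : A ≃* Matrix.ProjectiveSpecialLinearGroup (Fin 2) F)
    {t g b : X} (htA : t ∈ A) (ht1 : t ≠ 1) (ht : t * t = 1)
    (hg : g ∈ normalizer (A : Set X)) (hb : b ∈ normalizer (A : Set X)) (hn : Odd (orderOf g))
    (hgt : g * t = t * g) (hgb : g * b = b * g)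
    (hfix : ∀ y ∈ A, y * t = t * y → Odd (orderOf y) → g * y = y * g)
    (hinv : ∀ y ∈ A, y * t = t * y → Odd (orderOf y) → b * y * b⁻¹ = y⁻¹) :
    ∀ y ∈ A, g * y = y * g := by
  have h1 : A.normalizerMonoidHom ⟨g, hg⟩ = 1 := by
    refine psl_eq_one_of_aut h2 e (t := ⟨t, htA⟩) (fun h => ht1 (congrArg Subtype.val h)) (Subtype.ext ht)
      (j := A.normalizerMonoidHom ⟨b, hb⟩) hn (conj_pow_eq_one hg (pow_orderOf_eq_one g))
      ((conj_apply_eq hg _).mpr hgt) ?_ ?_ ?_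
    · rw [← map_mul, ← map_mul]
      congr 1
      exact Subtype.ext hgb.symm
    · intro y hy hyo
      exact (conj_apply_eq hg _).mpr (hfix y y.2 (congrArg Subtype.val hy) (by rwa [Subgroup.orderOf_coe]))
    · intro y hy hyo
      exact Subtype.ext (hinv y y.2 (congrArg Subtype.val hy) (by rwa [Subgroup.orderOf_coe]))
  intro y hy
  exact (conj_apply_eq hg ⟨y, hy⟩).mp (by rw [h1, MulAut.one_apply])

/-- `R` odd, commuting with `b` and with an element `x`; an element `y` of odd order normalising `R`, with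
`r y r⁻¹ y⁻¹` inverted by `b`: then `r` commutes with `y`. -/
theorem comm_of_inverted {R : Subgroup X} (hR : Odd (Nat.card R)) {b r y : X} (hr : r ∈ R)
    (hRb : ∀ r ∈ R, r * b = b * r) (hy : y * r⁻¹ * y⁻¹ ∈ R)
    (hinv : b * (r * y * r⁻¹ * y⁻¹) * b⁻¹ = (r * y * r⁻¹ * y⁻¹)⁻¹) : r * y = y * r := by
  set c := r * y * r⁻¹ * y⁻¹ with hc
  have hcR : c ∈ R := by
    have h1 : c = r * (y * r⁻¹ * y⁻¹) := by rw [hc]; group
    rw [h1]
    exact mul_mem hr hy
  have h2 : c = c⁻¹ := by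
    rw [← hinv, ← hRb c hcR, mul_assoc, mul_inv_cancel, mul_one]
  have h3 : c * c = 1 := by
    nth_rewrite 1 [h2]
    exact inv_mul_cancel c
  obtain ⟨m, hm⟩ := order_pow hR hcR
  have h4 := pow_orderOf_eq_one c
  rw [hm, pow_succ, pow_mul, pow_two, h3, one_pow, one_mul] at h4
  rw [hc, mul_inv_eq_one, mul_inv_eq_iff_eq_mul] at h4
  exact h4

/-- **(N), z-type.** -/
theorem locIso_sl (h2 : (2 : F) ≠ 0) {K₁ K₂ : Subgroup X} (e₁ : K₁ ≃* Matrix.SpecialLinearGroup (Fin 2) F)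
    (e₂ : K₂ ≃* Matrix.SpecialLinearGroup (Fin 2) F) (hcomm : ∀ k ∈ K₁, ∀ l ∈ K₂, k * l = l * k)
    (hnorm₁ : ∀ g : X, Odd (orderOf g) → g ∈ normalizer (K₁ : Set X))
    (hnorm₂ : ∀ g : X, Odd (orderOf g) → g ∈ normalizer (K₂ : Set X))
    (hcent : ∀ g : X, Odd (orderOf g) → (∀ k ∈ K₁, g * k = k * g) → (∀ k ∈ K₂, g * k = k * g) → g = 1)
    {x₁ x₂ b : X} (hx₁ : x₁ ∈ K₁) (hx₂ : x₂ ∈ K₂) (h₁1 : x₁ * x₁ ≠ 1) (h₁ : (x₁ * x₁) * (x₁ * x₁) = 1)
    (h₂1 : x₂ * x₂ ≠ 1) (h₂ : (x₂ * x₂) * (x₂ * x₂) = 1)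
    (hb₁ : b ∈ normalizer (K₁ : Set X)) (hb₂ : b ∈ normalizer (K₂ : Set X))
    (hinv₁ : ∀ y ∈ K₁, y * x₁ = x₁ * y → Odd (orderOf y) → b * y * b⁻¹ = y⁻¹)
    (hinv₂ : ∀ y ∈ K₂, y * x₂ = x₂ * y → Odd (orderOf y) → b * y * b⁻¹ = y⁻¹) :
    LocIso (x₁ * x₂) b := by
  intro R hR hRx hRb hRn
  -- the common elements are central involutions
  have hcen : ∀ c, c ∈ K₁ → c ∈ K₂ → c * c = 1 := by
    intro c hc1 hc2
    have h3 : e₁ ⟨c, hc1⟩ ∈ center (Matrix.SpecialLinearGroup (Fin 2) F) := by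
      rw [mem_center_iff]
      intro y
      obtain ⟨y, rfl⟩ := e₁.surjective y
      rw [← map_mul, ← map_mul]
      congr 1
      exact Subtype.ext (hcomm y y.2 c hc2)
    have h4 : e₁ (⟨c, hc1⟩ * ⟨c, hc1⟩) = 1 := by
      rw [map_mul]
      rcases (mem_center_iff' h2).mp h3 with h5 | h5
      · rw [h5, one_mul]
      · rw [h5, neg_mul_neg, one_mul]
    exact congrArg Subtype.val ((map_eq_one_iff e₁ e₁.injective).mp h4)
  have hodd : ∀ r ∈ R, Odd (orderOf r) := fun r hr => order_pow hR hr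
  -- `R` commutes with `x₁` and `x₂`
  have hx : ∀ r ∈ R, r * x₁ = x₁ * r ∧ r * x₂ = x₂ * r := by
    intro r hr
    have hr1 := hnorm₁ r (hodd r hr)
    have hr2 := hnorm₂ r (hodd r hr)
    set c := x₁⁻¹ * (r * x₁ * r⁻¹) with hc
    have hc1 : c ∈ K₁ := mul_mem (inv_mem hx₁) ((mem_normalizer_iff.mp hr1 x₁).mp hx₁)
    have hc2' : c = x₂ * (r * x₂ * r⁻¹)⁻¹ := by
      have h5 : (r * x₁ * r⁻¹) * (r * x₂ * r⁻¹) = x₁ * x₂ := by
        have h6 : (r * x₁ * r⁻¹) * (r * x₂ * r⁻¹) = r * (x₁ * x₂) * r⁻¹ := by group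
        rw [h6, hRx r hr, mul_assoc, mul_inv_cancel, mul_one]
      rw [hc, inv_mul_eq_iff_eq_mul, ← mul_assoc, ← h5, mul_assoc (r * x₁ * r⁻¹), mul_inv_cancel, mul_one]
    have hc2 : c ∈ K₂ := by
      rw [hc2']
      exact mul_mem hx₂ (inv_mem ((mem_normalizer_iff.mp hr2 x₂).mp hx₂))
    have hcc := hcen c hc1 hc2
    -- `r` commutes with `c`
    have hd1 : c⁻¹ * (r * c * r⁻¹) ∈ K₁ := mul_mem (inv_mem hc1) ((mem_normalizer_iff.mp hr1 c).mp hc1)
    have hgc : r * c = c * r := by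
      -- `c` and `r c r⁻¹` lie in `K₁ ⊓ K₂`, of order at most 2
      have hin1 : r * c * r⁻¹ ∈ K₁ := (mem_normalizer_iff.mp hr1 c).mp hc1
      have hin2 : r * c * r⁻¹ ∈ K₂ := (mem_normalizer_iff.mp hr2 c).mp hc2
      have hcen' : ∀ d, (h1 : d ∈ K₁) → d ∈ K₂ → e₁ ⟨d, h1⟩ = 1 ∨ e₁ ⟨d, h1⟩ = -1 := by
        intro d h1 h2'
        rw [← mem_center_iff' h2, mem_center_iff]
        intro y
        obtain ⟨y, rfl⟩ := e₁.surjective y
        rw [← map_mul, ← map_mul]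
        congr 1
        exact Subtype.ext (hcomm y y.2 d h2')
      have heq : r * c * r⁻¹ = c := by
        by_cases hc0 : c = 1
        · rw [hc0, mul_one, mul_inv_cancel]
        · have hne : ∀ d, (h1 : d ∈ K₁) → d ∈ K₂ → d ≠ 1 → e₁ ⟨d, h1⟩ = -1 := by
            intro d h1 h2' hd
            rcases hcen' d h1 h2' with h5 | h5
            · exact absurd (congrArg Subtype.val ((map_eq_one_iff e₁ e₁.injective).mp h5)) hd
            · exact h5
          have hrc : r * c * r⁻¹ ≠ 1 := by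
            intro h5
            apply hc0
            rw [mul_inv_eq_one] at h5
            exact mul_left_cancel (h5.trans (mul_one r).symm)
          have h6 := (hne _ hin1 hin2 hrc).trans (hne c hc1 hc2 hc0).symm
          exact congrArg Subtype.val (e₁.injective h6)
      rw [mul_inv_eq_iff_eq_mul] at heq
      exact heq
    have h7 : r * x₁ = x₁ * r := by
      refine comm_of_conj_mul (hodd r hr) (c := c) ?_ hcc hgc
      rw [hc, mul_inv_cancel_left]
    refine ⟨h7, ?_⟩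
    have h8 : r * (x₁ * x₂) = x₁ * (r * x₂) := by rw [← mul_assoc, h7, mul_assoc]
    have h9 : x₁ * (r * x₂) = x₁ * (x₂ * r) := by rw [← h8, hRx r hr, mul_assoc]
    exact mul_left_cancel h9
  intro r hr
  have hr1 := hnorm₁ r (hodd r hr)
  have hr2 := hnorm₂ r (hodd r hr)
  refine hcent r (hodd r hr) ?_ ?_
  · refine sl_cent_of_aut h2 e₁ hx₁ h₁1 h₁ hr1 hb₁ (hodd r hr) (hx r hr).1 (hRb r hr) ?_ hinv₁
    intro y hy hyx hyo
    have hyn : ∀ s ∈ R, y * s * y⁻¹ ∈ R := by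
      apply hRn
      rw [← mul_assoc, hyx, mul_assoc, hcomm y hy x₂ hx₂, mul_assoc]
    refine comm_of_inverted hR hr hRb (hyn _ (inv_mem hr)) (hinv₁ _ ?_ ?_ ?_)
    · exact mul_mem ((mem_normalizer_iff.mp hr1 y).mp hy) (inv_mem hy)
    · have h5 : Commute y x₁ := hyx
      have h6 : Commute r x₁ := (hx r hr).1
      exact (((h6.mul_left h5).mul_left h6.inv_left).mul_left h5.inv_left)
    · refine order_pow hR ?_
      have h5 : r * y * r⁻¹ * y⁻¹ = r * (y * r⁻¹ * y⁻¹) := by group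
      rw [h5]
      exact mul_mem hr (hyn _ (inv_mem hr))
  · refine sl_cent_of_aut h2 e₂ hx₂ h₂1 h₂ hr2 hb₂ (hodd r hr) (hx r hr).2 (hRb r hr) ?_ hinv₂
    intro y hy hyx hyo
    have hyn : ∀ s ∈ R, y * s * y⁻¹ ∈ R := by
      apply hRn
      rw [← mul_assoc, ← hcomm x₁ hx₁ y hy, mul_assoc, hyx, mul_assoc]
    refine comm_of_inverted hR hr hRb (hyn _ (inv_mem hr)) (hinv₂ _ ?_ ?_ ?_)
    · exact mul_mem ((mem_normalizer_iff.mp hr2 y).mp hy) (inv_mem hy)
    · have h5 : Commute y x₂ := hyx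
      have h6 : Commute r x₂ := (hx r hr).2
      exact (((h6.mul_left h5).mul_left h6.inv_left).mul_left h5.inv_left)
    · refine order_pow hR ?_
      have h5 : r * y * r⁻¹ * y⁻¹ = r * (y * r⁻¹ * y⁻¹) := by group
      rw [h5]
      exact mul_mem hr (hyn _ (inv_mem hr))

/-- **(N), t-type.** -/
theorem locIso_psl (h2 : (2 : F) ≠ 0) {K : Subgroup X} (e : K ≃* Matrix.ProjectiveSpecialLinearGroup (Fin 2) F)
    (hnorm : ∀ g : X, Odd (orderOf g) → g ∈ normalizer (K : Set X))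
    (hcent : ∀ g : X, Odd (orderOf g) → (∀ k ∈ K, g * k = k * g) → g = 1)
    {t b : X} (htK : t ∈ K) (ht1 : t ≠ 1) (ht : t * t = 1) (hb : b ∈ normalizer (K : Set X))
    (hinv : ∀ y ∈ K, y * t = t * y → Odd (orderOf y) → b * y * b⁻¹ = y⁻¹) :
    LocIso t b := by
  intro R hR hRx hRb hRn r hr
  have hodd : ∀ r ∈ R, Odd (orderOf r) := fun r hr => order_pow hR hr
  have hr1 := hnorm r (hodd r hr)
  refine hcent r (hodd r hr) ?_
  refine psl_cent_of_aut h2 e htK ht1 ht hr1 hb (hodd r hr) (hRx r hr) (hRb r hr) ?_ hinv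
  intro y hy hyx hyo
  have hyn : ∀ s ∈ R, y * s * y⁻¹ ∈ R := hRn y hyx
  refine comm_of_inverted hR hr hRb (hyn _ (inv_mem hr)) (hinv _ ?_ ?_ ?_)
  · exact mul_mem ((mem_normalizer_iff.mp hr1 y).mp hy) (inv_mem hy)
  · have h5 : Commute y t := hyx
    have h6 : Commute r t := hRx r hr
    exact (((h6.mul_left h5).mul_left h6.inv_left).mul_left h5.inv_left)
  · refine order_pow hR ?_
    have h5 : r * y * r⁻¹ * y⁻¹ = r * (y * r⁻¹ * y⁻¹) := by group
    rw [h5]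
    exact mul_mem hr (hyn _ (inv_mem hr))

end

end Cfsg.Agent.Lib.SymSL
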