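import Mathlib
import Cfsg.Agent.Lib.SymLocal
import Cfsg.Agent.Lib.SymSL
import Cfsg.Agent.LFourA.AutTwo
import Cfsg.Agent.LFourA.FieldInv
import Cfsg.Agent.TwoFusion.SLTwoFacts

/-!
# The local balance condition for `SL(2,F) * SL(2,F)` (swap) and `PSL(2,F)` (field involution)
-/

set_option autoImplicit false

namespace Cfsg.Agent.Lib.SymBal

open Subgroup
open Cfsg.Agent.Lib.SymLocal Cfsg.Agent.Lib.SymSL
open Cfsg.Agent.Lib.SL2Mat Cfsg.Agent.Lib.PSL2Torus Cfsg.Agent.Lib.PSL2Inv Cfsg.Agent.LFourA.AutTwo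
open Cfsg.Agent.LFourA.FieldInv

section
variable {F : Type*} [Field F] [Finite F]

theorem exists_four {L : Type*} [Group L] (h2 : (2 : F) ≠ 0)
    (e : L ≃* Matrix.ProjectiveSpecialLinearGroup (Fin 2) F) :
    ∃ t u : L, t ≠ 1 ∧ t * t = 1 ∧ u ≠ 1 ∧ u * u = 1 ∧ u ≠ t ∧ u * t = t * u := by
  obtain ⟨π, hπ, hk⟩ := exists_hom h2 e
  have hj : jm F * jm F = -1 := by
    have hn : ∀ i j : Fin 2, ent (-1 : Matrix.SpecialLinearGroup (Fin 2) F) i j =
        -(ent (1 : Matrix.SpecialLinearGroup (Fin 2) F) i j) := fun i j => rfl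
    apply ext_ent <;> simp [ent_mul, hn]
  have ht1 : π (jm F) ≠ 1 := by
    intro h
    rw [hk] at h
    rcases h with h | h
    · have := congrArg (fun x => ent x 1 0) h
      simp at this
    · have := congrArg (fun x => ent x 1 0) h
      have hn' : ent (-1 : Matrix.SpecialLinearGroup (Fin 2) F) 1 0 = 0 := by
        change -(ent (1 : Matrix.SpecialLinearGroup (Fin 2) F) 1 0) = 0
        rw [ent_one_10, neg_zero]
      rw [hn', jm_10] at this
      exact one_ne_zero this
  have ht : π (jm F) * π (jm F) = 1 := by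
    rw [← map_mul, hj, hk]
    exact Or.inr rfl
  obtain ⟨T, m, hT, -⟩ := exists_torus h2 e ht1 ht
  obtain ⟨u, hut, huT⟩ := hT.ex
  obtain ⟨h1, h3, -⟩ := hT.out u hut huT
  exact ⟨π (jm F), u, ht1, ht, h1, h3, fun h => huT (h ▸ hT.mem), hut⟩

/-- `PSL(2,F)` has no nontrivial normal subgroup of odd order. -/
theorem psl_odd_normal {L : Type*} [Group L] (h2 : (2 : F) ≠ 0)
    (e : L ≃* Matrix.ProjectiveSpecialLinearGroup (Fin 2) F) (N : Subgroup L) [hN : N.Normal]
    (hodd : Odd (Nat.card N)) : N = ⊥ := by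
  have : Finite L := Finite.of_equiv _ e.symm.toEquiv
  have hF : Fintype F := Fintype.ofFinite F
  obtain ⟨t, u, ht1, ht, hu1, hu, hut, hc⟩ := exists_four h2 e
  have hno : ∀ x ∈ N, x * x = 1 → x = 1 := by
    intro x hx hxx
    have h1 := order_pow hodd hx
    have h3 : orderOf x ∣ 2 := orderOf_dvd_of_pow_eq_one (by rw [pow_two]; exact hxx)
    rcases (Nat.dvd_prime Nat.prime_two).mp h3 with h4 | h4
    · exact orderOf_eq_one_iff.mp h4
    · rw [h4] at h1
      exact absurd h1 (by decide)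
  by_cases h3 : 3 < Fintype.card F
  · have hs : IsSimpleGroup (Matrix.ProjectiveSpecialLinearGroup (Fin 2) F) :=
      Cfsg.Agent.TwoFusion.SLTwoFacts.isSimpleGroup_psl h3
    have hs' : IsSimpleGroup L := MulEquiv.isSimpleGroup e
    rcases IsSimpleGroup.eq_bot_or_eq_top_of_normal N hN with h | h
    · exact h
    · exfalso
      exact ht1 (hno t (h ▸ mem_top t) ht)
  · -- `|F| = 3`
    have hcard : Nat.card F = 3 := by
      have h4 := odd_card (F := F) h2
      have h5 : 1 < Fintype.card F := Fintype.one_lt_card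
      rw [Nat.card_eq_fintype_card] at h4 ⊢
      omega
    have key : ∀ s : L, s ≠ 1 → s * s = 1 → ∀ x ∈ N, x * s = s * x → x = 1 := by
      intro s hs1 hs x hx hxs
      obtain ⟨T, m, hT, hm⟩ := exists_torus h2 e hs1 hs
      have h4 := hT.card_centralizer
      have hm2 : m = 2 := by
        rcases hm with h | h
        · omega
        · omega
      rw [hm2] at h4
      have h5 := orderOf_dvd_natCard (⟨x, mem_centralizer_singleton_iff.mpr hxs⟩ : centralizer ({s} : Set L))
      rw [Subgroup.orderOf_mk, h4] at h5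
      have h6 := order_pow hodd hx
      have h7 : orderOf x ∣ 2 ^ 2 := h5
      obtain ⟨k, hk, h8⟩ := (Nat.dvd_prime_pow Nat.prime_two).mp h7
      rw [h8] at h6
      rcases Nat.eq_zero_or_pos k with hk0 | hk0
      · rw [hk0, pow_zero] at h8
        exact orderOf_eq_one_iff.mp h8
      · exfalso
        exact (Nat.not_even_iff_odd.mpr h6) (Even.pow_of_ne_zero even_two hk0.ne')
    -- involutions invert `N`
    have hinv : ∀ s : L, s ≠ 1 → s * s = 1 → ∀ x ∈ N, s * x * s⁻¹ = x⁻¹ := by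
      intro s hs1 hs x hx
      have hsx : ∀ y ∈ N, s * y * s⁻¹ ∈ N := fun y hy => hN.conj_mem y hy s
      have hs' : s⁻¹ = s := inv_eq_of_mul_eq_one_right hs
      let φ : N →* N :=
        { toFun := fun y => ⟨s * y * s⁻¹, hsx y y.2⟩
          map_one' := Subtype.ext (by simp)
          map_mul' := fun y z => Subtype.ext (by
            change s * ((y : L) * z) * s⁻¹ = s * y * s⁻¹ * (s * z * s⁻¹)
            group) }
      have hφ : MonoidHom.FixedPointFree φ := by
        intro y hy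
        have h1 : s * (y : L) * s⁻¹ = y := congrArg Subtype.val hy
        exact Subtype.ext (key s hs1 hs y y.2 ((mul_inv_eq_iff_eq_mul.mp h1).symm))
      have hφ2 : Function.Involutive φ := by
        intro y
        apply Subtype.ext
        change s * (s * (y : L) * s⁻¹) * s⁻¹ = y
        have h1 : s * (s * (y : L) * s⁻¹) * s⁻¹ = (s * s) * y * (s⁻¹ * s⁻¹) := by group
        rw [h1, hs, hs', hs, one_mul, mul_one]
      have h1 := congrFun (hφ.coe_eq_inv_of_involutive hφ2) ⟨x, hx⟩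
      exact congrArg Subtype.val h1
    rw [eq_bot_iff]
    intro x hx
    have h5 := hinv t ht1 ht x hx
    have h6 := hinv u hu1 hu _ (inv_mem hx)
    have htu : t * u ≠ 1 := by
      intro h
      apply hut
      have h7 : t * (t * u) = t := by rw [h, mul_one]
      rwa [← mul_assoc, ht, one_mul] at h7
    have htu2 : (t * u) * (t * u) = 1 := by
      calc t * u * (t * u) = t * (u * t) * u := by group
        _ = (t * t) * (u * u) := by rw [hc]; group
        _ = 1 := by rw [ht, hu, one_mul]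
    have h7 := hinv (u * t) (by rw [hc]; exact htu) (by rw [hc]; exact htu2) x hx
    have h8 : u * t * x * (u * t)⁻¹ = u * (t * x * t⁻¹) * u⁻¹ := by group
    rw [h8, h5, h6, inv_inv] at h7
    have h9 : x * x = 1 := by
      nth_rw 2 [h7]
      exact mul_inv_cancel x
    exact hno x hx h9

/-- **(B), z-type.** -/
theorem locBal_swap {X : Type*} [Group X] [Finite X] (h2 : (2 : F) ≠ 0) {K₁ : Subgroup X}
    (e₁ : K₁ ≃* Matrix.SpecialLinearGroup (Fin 2) F) {f : X} (hf : f * f = 1)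
    (hcomm : ∀ x ∈ K₁, ∀ y ∈ K₁, x * (f * y * f⁻¹) = (f * y * f⁻¹) * x)
    (hnorm : ∀ r : X, Odd (orderOf r) → ∀ x ∈ K₁, r * x * r⁻¹ ∈ K₁)
    (hcent : ∀ r : X, Odd (orderOf r) → (∀ x ∈ K₁, r * x = x * r) →
      (∀ x ∈ K₁, r * (f * x * f⁻¹) = (f * x * f⁻¹) * r) → r = 1) : LocBal f := by
  intro R hR hRf hRn
  have hf' : f⁻¹ = f := inv_eq_of_mul_eq_one_right hf
  -- `x * x ^ f`
  let d : X → X := fun x => x * (f * x * f⁻¹)
  have hdmul : ∀ x ∈ K₁, ∀ y ∈ K₁, d (x * y) = d x * d y := by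
    intro x hx y hy
    change x * y * (f * (x * y) * f⁻¹) = x * (f * x * f⁻¹) * (y * (f * y * f⁻¹))
    calc x * y * (f * (x * y) * f⁻¹) = x * (y * (f * x * f⁻¹)) * (f * y * f⁻¹) := by group
      _ = x * ((f * x * f⁻¹) * y) * (f * y * f⁻¹) := by rw [hcomm y hy x hx]
      _ = _ := by group
  have hdone : d 1 = 1 := by
    change 1 * (f * 1 * f⁻¹) = 1
    group
  have hdinv : ∀ x ∈ K₁, d x⁻¹ = (d x)⁻¹ := by
    intro x hx
    rw [eq_inv_iff_mul_eq_one, ← hdmul _ (inv_mem hx) _ hx, inv_mul_cancel, hdone]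
  have hdf : ∀ x ∈ K₁, d x * f = f * d x := by
    intro x hx
    have h1 : f * d x * f⁻¹ = d x := by
      change f * (x * (f * x * f⁻¹)) * f⁻¹ = x * (f * x * f⁻¹)
      calc f * (x * (f * x * f⁻¹)) * f⁻¹ = (f * x * f⁻¹) * ((f * f) * x * (f⁻¹ * f⁻¹)) := by group
        _ = (f * x * f⁻¹) * x := by rw [hf', hf, one_mul, mul_one]
        _ = x * (f * x * f⁻¹) := (hcomm x hx x hx).symm
    exact (mul_inv_eq_iff_eq_mul.mp h1).symm
  have hdR : ∀ x ∈ K₁, ∀ r ∈ R, d x * r * (d x)⁻¹ ∈ R := fun x hx r hr => hRn _ (hdf x hx) r hr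
  let N : Subgroup K₁ :=
    { carrier := {x | d x ∈ R}
      mul_mem' := fun {x y} hx hy => by
        change d ((x : X) * y) ∈ R
        rw [hdmul _ x.2 _ y.2]
        exact mul_mem hx hy
      one_mem' := by
        change d ((1 : K₁) : X) ∈ R
        rw [Subgroup.coe_one, hdone]
        exact one_mem _
      inv_mem' := fun {x} hx => by
        change d ((x : X)⁻¹) ∈ R
        rw [hdinv _ x.2]
        exact inv_mem hx }
  have hNn : N.Normal := ⟨fun x hx g => by
    change d ((g : X) * x * (g : X)⁻¹) ∈ R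
    rw [hdmul _ (mul_mem g.2 x.2) _ (inv_mem g.2), hdmul _ g.2 _ x.2, hdinv _ g.2]
    exact hdR _ g.2 _ hx⟩
  let π : K₁ →* Matrix.ProjectiveSpecialLinearGroup (Fin 2) F :=
    (QuotientGroup.mk' (center (Matrix.SpecialLinearGroup (Fin 2) F))).comp e₁.toMonoidHom
  have hπs : Function.Surjective π := (QuotientGroup.mk'_surjective _).comp e₁.surjective
  have hπ1 : ∀ x, π x = 1 ↔ e₁ x ∈ center (Matrix.SpecialLinearGroup (Fin 2) F) := fun x =>
    QuotientGroup.eq_one_iff _
  have hNbn : (N.map π).Normal := hNn.map π hπs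
  have hNodd : Odd (Nat.card (N.map π)) := by
    by_contra hev
    rw [Nat.not_odd_iff_even, even_iff_two_dvd] at hev
    have : Fact (Nat.Prime 2) := ⟨Nat.prime_two⟩
    obtain ⟨⟨y, hy'⟩, hord⟩ := exists_prime_orderOf_dvd_card' 2 hev
    rw [Subgroup.orderOf_mk] at hord
    obtain ⟨n, hn, hy⟩ := hy'
    have hm : (d n) ^ Nat.card R = 1 := by
      have h1 : (⟨d n, hn⟩ : R) ^ Nat.card R = 1 := pow_card_eq_one'
      exact congrArg Subtype.val h1
    have hcm : Commute (n : X) (f * n * f⁻¹) := hcomm n n.2 n n.2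
    have h3 : (n : X) ^ Nat.card R * (f * n * f⁻¹) ^ Nat.card R = 1 := by
      rw [← hcm.mul_pow]
      exact hm
    have h4 : π (n ^ Nat.card R) = 1 := by
      rw [hπ1, mem_center_iff]
      intro g
      obtain ⟨k, rfl⟩ := e₁.surjective g
      rw [← map_mul, ← map_mul]
      congr 1
      apply Subtype.ext
      change (k : X) * (n : X) ^ Nat.card R = (n : X) ^ Nat.card R * k
      have h5 : (n : X) ^ Nat.card R = f * (((n : X) ^ Nat.card R)⁻¹) * f⁻¹ := by
        rw [conj_pow] at h3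
        exact (eq_inv_of_mul_eq_one_left h3).trans (by group)
      rw [h5]
      exact hcomm k k.2 _ (inv_mem (pow_mem n.2 _))
    rw [map_pow, hy] at h4
    have h5 := orderOf_dvd_of_pow_eq_one h4
    rw [hord] at h5
    exact (Nat.not_even_iff_odd.mpr hR) (even_iff_two_dvd.mpr h5)
  have hNb := psl_odd_normal h2 (MulEquiv.refl _) (N.map π) hNodd
  have hN1 : ∀ c ∈ K₁, d c ∈ R → c * c = 1 ∧ ∀ r : X, (∀ x ∈ K₁, r * x * r⁻¹ ∈ K₁) → r * c = c * r := by
    intro c hc hdc
    have h1 : π ⟨c, hc⟩ ∈ N.map π := ⟨⟨c, hc⟩, hdc, rfl⟩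
    rw [hNb, mem_bot, hπ1, mem_center_iff' h2] at h1
    have hsq : ∀ x : K₁, (x : X) * x = 1 → x = 1 ∨ e₁ x = -1 := by
      intro x hx
      have h3 : e₁ x * e₁ x = 1 := by
        rw [← map_mul, map_eq_one_iff e₁ e₁.injective]
        exact Subtype.ext hx
      rcases sq_eq_one h2 h3 with h4 | h4
      · left
        exact (map_eq_one_iff e₁ e₁.injective).mp h4
      · exact Or.inr h4
    have hcc : c * c = 1 := by
      have h3 : e₁ (⟨c, hc⟩ * ⟨c, hc⟩) = 1 := by
        rw [map_mul]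
        rcases h1 with h1 | h1
        · rw [h1, one_mul]
        · rw [h1, neg_mul_neg, one_mul]
      exact congrArg Subtype.val ((map_eq_one_iff e₁ e₁.injective).mp h3)
    refine ⟨hcc, fun r hr => ?_⟩
    have h3 : r * c * r⁻¹ * (r * c * r⁻¹) = 1 := by
      calc r * c * r⁻¹ * (r * c * r⁻¹) = r * (c * c) * r⁻¹ := by group
        _ = 1 := by rw [hcc, mul_one, mul_inv_cancel]
    have h4 : r * c * r⁻¹ = c := by
      rcases hsq ⟨r * c * r⁻¹, hr c hc⟩ h3 with h5 | h5
      · have h6 : r * c * r⁻¹ = 1 := congrArg Subtype.val h5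
        have h7 : c = 1 := by
          have : c = r⁻¹ * (r * c * r⁻¹) * r := by group
          rw [this, h6]; group
        rw [h6, h7]
      · rcases h1 with h1 | h1
        · have h7 : c = 1 := congrArg Subtype.val ((map_eq_one_iff e₁ e₁.injective).mp h1)
          rw [h7]; group
        · exact congrArg Subtype.val (e₁.injective (h5.trans h1.symm))
    exact mul_inv_eq_iff_eq_mul.mp h4
  have hRK : ∀ r ∈ R, ∀ l ∈ K₁, r * l = l * r := by
    intro r hr l hl
    have hro := order_pow hR hr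
    have hl' := hnorm r hro l hl
    have hc : l⁻¹ * (r * l * r⁻¹) ∈ K₁ := mul_mem (inv_mem hl) hl'
    have hdl' : d (r * l * r⁻¹) = r * d l * r⁻¹ := by
      change r * l * r⁻¹ * (f * (r * l * r⁻¹) * f⁻¹) = r * (l * (f * l * f⁻¹)) * r⁻¹
      have h1 : f * r = r * f := (hRf r hr).symm
      have h3 : f * (r * l * r⁻¹) * f⁻¹ = r * (f * l * f⁻¹) * r⁻¹ := by
        calc f * (r * l * r⁻¹) * f⁻¹ = (f * r) * l * (f * r)⁻¹ := by group
          _ = (r * f) * l * (r * f)⁻¹ := by rw [h1]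
          _ = _ := by group
      rw [h3]; group
    have hdc : d (l⁻¹ * (r * l * r⁻¹)) ∈ R := by
      rw [hdmul _ (inv_mem hl) _ hl', hdl']
      have h1 : d l⁻¹ * (r * d l * r⁻¹) = (d l⁻¹ * r * (d l⁻¹)⁻¹) * r⁻¹ := by
        rw [hdinv l hl]; group
      rw [h1]
      exact mul_mem (hdR _ (inv_mem hl) r hr) (inv_mem hr)
    obtain ⟨hcc, hcr⟩ := hN1 _ hc hdc
    exact comm_of_conj_mul hro (c := l⁻¹ * (r * l * r⁻¹)) (by group) hcc (hcr r (hnorm r hro))
  intro r hr
  refine hcent r (order_pow hR hr) (hRK r hr) ?_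
  intro x hx
  have h1 : r = f * r * f⁻¹ := by rw [← hRf r hr, mul_assoc, mul_inv_cancel, mul_one]
  have h3 := hRK r hr x hx
  calc r * (f * x * f⁻¹) = (f * r * f⁻¹) * (f * x * f⁻¹) := by rw [← h1]
    _ = f * (r * x) * f⁻¹ := by group
    _ = f * (x * r) * f⁻¹ := by rw [h3]
    _ = (f * x * f⁻¹) * (f * r * f⁻¹) := by group
    _ = (f * x * f⁻¹) * r := by rw [← h1]

/-- An automorphism of odd order fixing the elements of `SL(2,K)`, `K` the fixed field of `σ`, up to sign. -/
theorem aut_eq_one {L : Type*} [Group L] {π : Matrix.SpecialLinearGroup (Fin 2) F →* L} {α : MulAut L}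
    {σ : F ≃+* F} {K : Subfield F} (h : FInv π α σ K) {β : MulAut L} {m : ℕ} (hm : Odd m) (hβ : β ^ m = 1)
    (hfix : ∀ x : Matrix.SpecialLinearGroup (Fin 2) F, fieldAut σ x = x → β (π x) = π x) : β = 1 := by
  have h2 := h.two
  have h4 : (4 : F) ≠ 0 := by
    have : (4 : F) = 2 * 2 := by norm_num
    rw [this]; exact mul_ne_zero h2 h2
  have hcen : π.ker ≤ Subgroup.center (Matrix.SpecialLinearGroup (Fin 2) F) := by
    intro x hx
    rw [MonoidHom.mem_ker, h.ker] at hx
    rw [mem_center_iff' h2]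
    exact hx
  obtain ⟨g, τ, hg⟩ := Cfsg.Agent.Lib.AutSL2.exists_gl_ringEquiv π h.surj hcen β
  have key : ∀ x, fieldAut σ x = x → tr x = 2 → Cfsg.Agent.Lib.SL2Mat.conjGL g (fieldAut τ x) = x := by
    intro x hx htr
    have h1 := hfix x hx
    rw [hg, map_eq_iff π h.ker] at h1
    rcases h1 with h' | h'
    · exact h'
    · exfalso
      have h5 := congrArg tr h'
      rw [tr_conjGL, tr_fieldAut, htr] at h5
      have hneg : tr (-x) = -tr x := by
        change -ent x 0 0 + -ent x 1 1 = -(ent x 0 0 + ent x 1 1)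
        ring
      rw [hneg, htr, map_ofNat] at h5
      apply h4
      linear_combination h5
  have hup : ∀ b : F, σ b = b → conjGL g (up (τ b)) = up b := fun b hb => by
    rw [← fieldAut_up]; exact key _ (by rw [fieldAut_up, hb]) (by simp [tr]; norm_num)
  have hlo : ∀ b : F, σ b = b → conjGL g (lo (τ b)) = lo b := fun b hb => by
    rw [← fieldAut_lo]; exact key _ (by rw [fieldAut_lo, hb]) (by simp [tr]; norm_num)
  have e1 := hup 1 (map_one σ)
  have e2 := hlo 1 (map_one σ)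
  rw [map_one] at e1 e2
  obtain ⟨c, hc, hk⟩ := exists_scalar e1 e2
  have hg' : ∀ x, β (π x) = π (fieldAut τ x) := fun x => by rw [hg, conjGL_scalar hk]
  have hτ : ∀ b : F, σ b = b → τ b = b := by
    intro b hb
    have h1 := hup b hb
    rw [conjGL_scalar hk] at h1
    exact up_inj h1
  -- `τ ^ 2 = 1`
  have hτ2 : ∀ a, τ (τ a) = a := by
    intro a
    have hs : τ (a + σ a) = a + σ a := hτ _ (by rw [map_add, h.inv, add_comm])
    have hp : τ (a * σ a) = a * σ a := hτ _ (by rw [map_mul, h.inv, mul_comm])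
    have h1 : (τ a - a) * (τ a - σ a) = 0 := by
      rw [map_add] at hs
      rw [map_mul] at hp
      have h3 : τ (σ a) = a + σ a - τ a := by linear_combination hs
      rw [h3] at hp
      linear_combination -hp
    rcases mul_eq_zero.mp h1 with h3 | h3
    · have h5 : τ a = a := by linear_combination h3
      rw [h5, h5]
    · have h5 : τ a = σ a := by linear_combination h3
      rw [map_add, h5] at hs
      rw [h5]
      linear_combination hs
  have hβ2 : β ^ 2 = 1 := by
    ext y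
    obtain ⟨x, rfl⟩ := h.surj y
    rw [pow_two, MulAut.mul_apply, hg', hg', MulAut.one_apply]
    congr 1
    apply ext_ent <;> exact hτ2 _
  obtain ⟨k, hk'⟩ := hm
  rw [hk', pow_succ, pow_mul, hβ2, one_pow, one_mul] at hβ
  exact hβ

/-- **(B), t-type.** -/
theorem locBal_field {X : Type*} [Group X] [Finite X] (h2 : (2 : F) ≠ 0) {K : Subgroup X}
    (hKn : ∀ g : X, ∀ x ∈ K, g * x * g⁻¹ ∈ K)
    (e : K ≃* Matrix.ProjectiveSpecialLinearGroup (Fin 2) F) {f : X} (hf : f * f = 1)
    {t u : X} (htK : t ∈ K) (ht1 : t ≠ 1) (ht : t * t = 1) (huK : u ∈ K) (hu1 : u ≠ 1) (hu : u * u = 1)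
    (hut : u ≠ t) (hc : u * t = t * u) (hft : f * t = t * f) (hfu : f * u = u * f)
    (hout : ¬ ∃ k ∈ K, ∀ x ∈ K, f * x * f⁻¹ = k * x * k⁻¹)
    (hcent : ∀ r : X, Odd (orderOf r) → (∀ x ∈ K, r * x = x * r) → r = 1) : LocBal f := by
  intro R hR hRf hRn
  have hK : K.Normal := ⟨fun x hx g => hKn g x hx⟩
  have hf' : f⁻¹ = f := inv_eq_of_mul_eq_one_right hf
  let act : X →* MulAut K := MulAut.conjNormal
  have hact : ∀ (g : X) (x : K), ((act g x : K) : X) = g * x * g⁻¹ := fun g x => MulAut.conjNormal_apply g x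
  obtain ⟨π₀, hπ₀, hk₀⟩ := exists_hom h2 e
  obtain ⟨h, σ, K₀, hF⟩ := exists_finv_of_four (α := act f) (t := ⟨t, htK⟩) (u := ⟨u, huK⟩) h2 hπ₀ hk₀
    (by
      intro z
      rw [← MulAut.mul_apply, ← map_mul, hf, map_one, MulAut.one_apply])
    (fun h => ht1 (congrArg Subtype.val h)) (Subtype.ext ht) (fun h => hu1 (congrArg Subtype.val h))
    (Subtype.ext hu) (fun h => hut (congrArg Subtype.val h)) (Subtype.ext hc)
    (Subtype.ext (by rw [hact, hft, mul_inv_cancel_right]))
    (Subtype.ext (by rw [hact, hfu, mul_inv_cancel_right]))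
    (by
      rintro ⟨z, hz⟩
      refine hout ⟨z, z.2, fun x hx => ?_⟩
      have h1 := congrArg Subtype.val (hz ⟨x, hx⟩)
      rw [hact] at h1
      exact h1)
  obtain ⟨π, hπ⟩ : ∃ π, π = π₀.comp (Cfsg.Agent.Lib.SL2Mat.conjGL h).toMonoidHom := ⟨_, rfl⟩
  rw [← hπ] at hF
  -- the subgroup `SL(2,K₀)`
  let ι : Matrix.SpecialLinearGroup (Fin 2) K₀ →* Matrix.SpecialLinearGroup (Fin 2) F :=
    Matrix.SpecialLinearGroup.map K₀.subtype
  have hιe : ∀ y i j, ent (ι y) i j = ((ent y i j : K₀) : F) := fun y i j => rfl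
  have hι : ∀ x, fieldAut σ x = x → ∃ y, ι y = x := by
    intro x hx
    have hm : ∀ i j, ent x i j ∈ K₀ := by
      intro i j
      rw [hF.mem]
      nth_rw 2 [← hx]
      rfl
    refine ⟨mk ⟨_, hm 0 0⟩ ⟨_, hm 0 1⟩ ⟨_, hm 1 0⟩ ⟨_, hm 1 1⟩ (Subtype.ext (det_eq x)), ?_⟩
    apply ext_ent <;> rw [hιe] <;> rfl
  have hι' : ∀ y, fieldAut σ (ι y) = ι y := by
    intro y
    apply ext_ent <;> rw [fieldAut_ent, hιe] <;> exact (hF.mem _).mp (Subtype.property _)
  have hιinj : Function.Injective ι := by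
    intro y y' hyy
    have h1 : ∀ i j, ent y i j = ent y' i j := fun i j => Subtype.ext (by rw [← hιe, ← hιe, hyy])
    exact ext_ent (h1 0 0) (h1 0 1) (h1 1 0) (h1 1 1)
  have hιn : ι (-1) = -1 := by
    have h1 : ∀ i j : Fin 2, ((-(ent (1 : Matrix.SpecialLinearGroup (Fin 2) K₀) i j) : K₀) : F) =
        -(ent (1 : Matrix.SpecialLinearGroup (Fin 2) F) i j) := by
      intro i j
      rw [← map_one ι, hιe]
      rfl
    exact ext_ent (h1 0 0) (h1 0 1) (h1 1 0) (h1 1 1)
  have hιK : ∀ y, ι y = -1 → y = -1 := fun y hy => hιinj (hy.trans hιn.symm)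
  have hcf : ∀ y, ((π (ι y) : K) : X) * f = f * (π (ι y) : K) := by
    intro y
    have h1 := hF.act (ι y)
    rw [hι'] at h1
    have h3 := congrArg Subtype.val h1
    rw [hact] at h3
    exact (mul_inv_eq_iff_eq_mul.mp h3).symm
  have h2K : (2 : K₀) ≠ 0 := by
    intro h0
    apply h2
    have h1 : K₀.subtype 2 = K₀.subtype 0 := by rw [h0]
    rwa [map_ofNat, map_zero] at h1
  -- `N` = elements of `SL(2,K₀)` with image in `R`
  let N : Subgroup (Matrix.SpecialLinearGroup (Fin 2) K₀) := R.comap ((K.subtype.comp π).comp ι)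
  have hNmem : ∀ y, y ∈ N ↔ ((π (ι y) : K) : X) ∈ R := fun y => Iff.rfl
  have hNn : N.Normal := ⟨fun x hx g => by
    rw [hNmem, map_mul, map_mul, map_mul, map_mul, map_inv, map_inv]
    exact hRn _ (hcf g) _ hx⟩
  let q := QuotientGroup.mk' (center (Matrix.SpecialLinearGroup (Fin 2) K₀))
  have hNbn : (N.map q).Normal := hNn.map q (QuotientGroup.mk'_surjective _)
  have hNodd : Odd (Nat.card (N.map q)) := by
    by_contra hev
    rw [Nat.not_odd_iff_even, even_iff_two_dvd] at hev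
    have : Fact (Nat.Prime 2) := ⟨Nat.prime_two⟩
    obtain ⟨⟨y, hy'⟩, hord⟩ := exists_prime_orderOf_dvd_card' 2 hev
    rw [Subgroup.orderOf_mk] at hord
    obtain ⟨n, hn, hy⟩ := hy'
    have hm : ((π (ι n) : K) : X) ^ Nat.card R = 1 := by
      have h1 : (⟨((π (ι n) : K) : X), hn⟩ : R) ^ Nat.card R = 1 := pow_card_eq_one'
      exact congrArg Subtype.val h1
    have h3 : π (ι (n ^ Nat.card R)) = 1 := by
      rw [map_pow, map_pow]
      exact Subtype.ext hm
    have h4 : q (n ^ Nat.card R) = 1 := by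
      apply (QuotientGroup.eq_one_iff _).mpr
      rw [mem_center_iff' h2K]
      rw [hF.ker] at h3
      rcases h3 with h3 | h3
      · left
        exact hιinj (h3.trans (map_one ι).symm)
      · exact Or.inr (hιK _ h3)
    rw [map_pow, hy] at h4
    have h5 := orderOf_dvd_of_pow_eq_one h4
    rw [hord] at h5
    exact (Nat.not_even_iff_odd.mpr hR) (even_iff_two_dvd.mpr h5)
  have hNb := psl_odd_normal h2K (MulEquiv.refl _) (N.map q) hNodd
  have hno : ∀ x ∈ R, x * x = 1 → x = 1 := by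
    intro x hx hxx
    have h1 := order_pow hR hx
    have h3 : orderOf x ∣ 2 := orderOf_dvd_of_pow_eq_one (by rw [pow_two]; exact hxx)
    rcases (Nat.dvd_prime Nat.prime_two).mp h3 with h4 | h4
    · exact orderOf_eq_one_iff.mp h4
    · rw [h4] at h1
      exact absurd h1 (by decide)
  have hN1 : ∀ y ∈ N, π (ι y) = 1 := by
    intro y hy
    have h1 : q y ∈ N.map q := ⟨y, hy, rfl⟩
    rw [hNb, mem_bot] at h1
    have h3 := (QuotientGroup.eq_one_iff _).mp h1
    rw [mem_center_iff' h2K] at h3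
    rw [hF.ker]
    rcases h3 with h3 | h3
    · left; rw [h3, map_one]
    · right
      rw [h3, hιn]
  -- `R ∩ K = 1`
  have hRK1 : ∀ r ∈ R, r ∈ K → r = 1 := by
    intro r hr hrK
    apply hno r hr
    obtain ⟨x, hx⟩ := hF.surj ⟨r, hrK⟩
    have h1 : fieldAut σ x = x ∨ fieldAut σ x = -x := by
      rw [← map_eq_iff π hF.ker, ← hF.act, hx]
      apply Subtype.ext
      rw [hact, ← hRf r hr, mul_inv_cancel_right]
    have h3 : fieldAut σ (x * x) = x * x := by
      rw [map_mul]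
      rcases h1 with h1 | h1
      · rw [h1]
      · rw [h1, neg_mul_neg]
    obtain ⟨y, hy⟩ := hι _ h3
    have h5 : π (ι y) = ⟨r, hrK⟩ * ⟨r, hrK⟩ := by rw [hy, map_mul, hx]
    have h6 : y ∈ N := by
      rw [hNmem, h5]
      exact mul_mem hr hr
    have h7 := hN1 y h6
    rw [h5] at h7
    exact congrArg Subtype.val h7
  intro r hr
  have hro := order_pow hR hr
  have hRD : ∀ y, r * (π (ι y) : K) = (π (ι y) : K) * r := by
    intro y
    have h1 : r * (π (ι y) : K) * r⁻¹ * ((π (ι y) : K) : X)⁻¹ = 1 := by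
      apply hRK1
      · have h3 : r * ((π (ι y) : K) : X) * r⁻¹ * ((π (ι y) : K) : X)⁻¹ =
            r * (((π (ι y) : K) : X) * r⁻¹ * ((π (ι y) : K) : X)⁻¹) := by group
        rw [h3]
        exact mul_mem hr (hRn _ (hcf y) _ (inv_mem hr))
      · exact mul_mem (hKn r _ (π (ι y)).2) (inv_mem (π (ι y)).2)
    rw [mul_inv_eq_one, mul_inv_eq_iff_eq_mul] at h1
    exact h1
  have hβ : act r = 1 := by
    refine aut_eq_one hF (m := orderOf r) hro (by rw [← map_pow, pow_orderOf_eq_one, map_one]) ?_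
    intro x hx
    obtain ⟨y, rfl⟩ := hι x hx
    apply Subtype.ext
    rw [hact, hRD, mul_inv_cancel_right]
  apply hcent r hro
  intro x hx
  have h1 := congrArg Subtype.val (DFunLike.congr_fun hβ ⟨x, hx⟩)
  rw [hact] at h1
  exact mul_inv_eq_iff_eq_mul.mp h1

end

end Cfsg.Agent.Lib.SymBal
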