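import Mathlib
import Cfsg.Agent.Lib.SymBal

/-!
# The local balance condition for inner elements, if the tori are 2-groups

If `C(x)` has no elements of odd order (`x` of order four in `SL(2,F)`, an involution in `PSL(2,F)`), then an
automorphism of odd order fixing `x` is trivial.
-/

set_option autoImplicit false

namespace Cfsg.Agent.Lib.SymTwo

open Subgroup
open Cfsg.Agent.Lib.SymLocal Cfsg.Agent.Lib.SymSL
open Cfsg.Agent.Lib.SL2Mat Cfsg.Agent.Lib.PSL2Torus Cfsg.Agent.Lib.PSL2Inv Cfsg.Agent.Lib.PSL2Circle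
open Cfsg.Agent.LFourA.AutTwo

section
variable {L : Type*} [Group L]

/-- If all elements of odd order are trivial, the group is a 2-group. -/
theorem pow_eq_one_of_odd {T : Type*} [Group T] [Finite T] (hT : ∀ y : T, Odd (orderOf y) → y = 1) :
    IsPGroup 2 T := by
  intro y
  obtain ⟨b, c, hc, hbc⟩ := Nat.exists_eq_two_pow_mul_odd (orderOf_pos y).ne'
  refine ⟨b, hT _ ?_⟩
  rw [orderOf_pow, hbc, Nat.gcd_eq_right (Dvd.intro _ rfl), Nat.mul_div_cancel_left _ (by positivity)]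
  exact hc

/-- An automorphism of odd order normalising a cyclic 2-group acts trivially on it. -/
theorem cyclic_fix {T : Subgroup L} [Finite T] (hc : IsCyclic T) (hT : ∀ y ∈ T, Odd (orderOf y) → y = 1)
    {α : MulAut L} {n : ℕ} (hn : Odd n) (hα : α ^ n = 1) (hαT : ∀ y ∈ T, α y ∈ T) : ∀ y ∈ T, α y = y := by
  obtain ⟨g, hg⟩ := IsCyclic.exists_generator (α := T)
  have hP : IsPGroup 2 T := pow_eq_one_of_odd fun y hy => Subtype.ext (hT y y.2 (by rwa [Subgroup.orderOf_coe]))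
  have : Fact (Nat.Prime 2) := ⟨Nat.prime_two⟩
  obtain ⟨a, ha⟩ := hP.exists_card_eq
  have hog : orderOf (g : L) = 2 ^ a := by
    rw [Subgroup.orderOf_coe, orderOf_eq_card_of_forall_mem_zpowers hg, ha]
  obtain ⟨k, hk⟩ : ∃ k : ℕ, α g = (g : L) ^ k := by
    obtain ⟨k, hk⟩ := (mem_powers_iff_mem_zpowers (x := g) (y := ⟨α g, hαT g g.2⟩)).2 (hg _)
    exact ⟨k, (congrArg Subtype.val hk).symm⟩
  have hpow : ∀ j : ℕ, (α ^ j) g = (g : L) ^ k ^ j := by
    intro j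
    induction j with
    | zero => rw [pow_zero, pow_zero, pow_one]; rfl
    | succ j ih => rw [pow_succ', MulAut.mul_apply, ih, map_pow, hk, ← pow_mul, pow_succ' k j]
  have h1 := hpow n
  rw [hα, MulAut.one_apply] at h1
  have h2 : k ^ n ≡ 1 [MOD 2 ^ a] := by
    rw [← hog]
    apply (pow_eq_pow_iff_modEq (x := (g : L))).1
    rw [pow_one]
    exact h1.symm
  have h3 : k ≡ 1 [MOD 2 ^ a] := by
    have hcop : Nat.Coprime k (2 ^ a) := by
      have hn0 : n ≠ 0 := by rintro rfl; exact absurd hn (by decide)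
      have h4 : Nat.Coprime (k ^ n) (2 ^ a) := by
        rw [Nat.Coprime, h2.gcd_eq, Nat.gcd_one_left]
      exact (Nat.coprime_pow_left_iff (Nat.pos_of_ne_zero hn0) _ _).1 h4
    have h5 : (ZMod.unitOfCoprime k hcop) ^ n = 1 := by
      apply Units.ext
      rw [Units.val_pow_eq_pow_val, ZMod.coe_unitOfCoprime, Units.val_one, ← Nat.cast_pow, ← Nat.cast_one]
      exact (ZMod.natCast_eq_natCast_iff _ _ _).2 h2
    have h6 := orderOf_dvd_of_pow_eq_one h5
    have h7 : orderOf (ZMod.unitOfCoprime k hcop) ∣ 2 ^ a := by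
      have h8 := orderOf_dvd_natCard (ZMod.unitOfCoprime k hcop)
      rw [Nat.card_eq_fintype_card, ZMod.card_units_eq_totient] at h8
      have hto : ∀ a : ℕ, Nat.totient (2 ^ a) ∣ 2 ^ a := by
        intro a
        rcases Nat.eq_zero_or_pos a with ha0 | ha0
        · rw [ha0, pow_zero, Nat.totient_one]
        · rw [Nat.totient_prime_pow Nat.prime_two ha0, show 2 - 1 = 1 from rfl, mul_one]
          exact pow_dvd_pow 2 (Nat.sub_le a 1)
      exact h8.trans (hto a)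
    have h9 : ZMod.unitOfCoprime k hcop = 1 := by
      rw [← orderOf_eq_one_iff]
      have h10 : Nat.Coprime n (2 ^ a) := (Nat.coprime_two_right.mpr hn).pow_right a
      exact Nat.eq_one_of_dvd_coprimes h10 h6 h7
    have h11 := congrArg Units.val h9
    rw [ZMod.coe_unitOfCoprime, Units.val_one, ← Nat.cast_one] at h11
    exact (ZMod.natCast_eq_natCast_iff _ _ _).1 h11
  have h4 : α g = (g : L) := by
    rw [hk, ← hog] at *
    have h5 := (pow_eq_pow_iff_modEq (x := (g : L))).2 h3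
    rw [h5, pow_one]
  intro y hy
  obtain ⟨j, hj⟩ := mem_zpowers_iff.1 (hg ⟨y, hy⟩)
  have h5 : y = (g : L) ^ j := (congrArg Subtype.val hj).symm
  rw [h5, map_zpow, h4]

/-- An automorphism of odd order, trivial on `T`, with `u⁻¹ * α u ∈ T`, fixes `u`. -/
theorem coset_fix {T : Subgroup L} (hT : ∀ y ∈ T, Odd (orderOf y) → y = 1)
    {α : MulAut L} {n : ℕ} (hn : Odd n) (hα : α ^ n = 1) (hαT : ∀ y ∈ T, α y = y) {u : L}
    (hu : u⁻¹ * α u ∈ T) : α u = u := by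
  have hpow : ∀ j : ℕ, (α ^ j) u = u * (u⁻¹ * α u) ^ j := by
    intro j
    induction j with
    | zero => rw [pow_zero, pow_zero, mul_one]; rfl
    | succ j ih =>
      rw [pow_succ', MulAut.mul_apply, ih, map_mul, map_pow, hαT _ hu, pow_succ', ← mul_assoc,
        mul_inv_cancel_left]
  have h1 := hpow n
  rw [hα, MulAut.one_apply] at h1
  have h2 : (u⁻¹ * α u) ^ n = 1 := (mul_eq_left.1 h1.symm)
  have h3 := hT _ hu (Odd.of_dvd_nat hn (orderOf_dvd_of_pow_eq_one h2))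
  rw [inv_mul_eq_one] at h3
  exact h3.symm

variable {F : Type*} [Field F] [Finite F]

theorem sl_two (h2 : (2 : F) ≠ 0) {X : Matrix.SpecialLinearGroup (Fin 2) F} (hX : X * X = -1)
    (hT : ∀ y, y * X = X * y → Odd (orderOf y) → y = 1) {x : MulAut (Matrix.SpecialLinearGroup (Fin 2) F)} {n : ℕ}
    (hn : Odd n) (hx : x ^ n = 1) (hxX : x X = X) : x = 1 := by
  have htr := tr_of_sq h2 hX
  have hinv : X⁻¹ = -X := by
    apply inv_eq_of_mul_eq_one_right
    rw [mul_neg, hX, neg_neg]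
  have htr' : ent X⁻¹ 1 1 = - ent X⁻¹ 0 0 := by
    rw [hinv]
    change -(ent X 1 1) = -(-(ent X 0 0))
    rw [htr]
  obtain ⟨j, hj⟩ := exists_conj h2 htr htr'
  have hT' : ∀ y ∈ centralizer ({X} : Set (Matrix.SpecialLinearGroup (Fin 2) F)), Odd (orderOf y) → y = 1 :=
    fun y hy => hT y (mem_centralizer_singleton_iff.1 hy)
  have hxT : ∀ y ∈ centralizer ({X} : Set (Matrix.SpecialLinearGroup (Fin 2) F)), x y ∈
      centralizer ({X} : Set (Matrix.SpecialLinearGroup (Fin 2) F)) := by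
    intro y hy
    rw [mem_centralizer_singleton_iff] at hy ⊢
    rw [← hxX, ← map_mul, hy, map_mul, hxX]
  have h1 := cyclic_fix (isCyclic_centralizer h2 htr) hT' hn hx hxT
  have h3 : x j = j := by
    refine coset_fix hT' hn hx h1 ?_
    rw [mem_centralizer_singleton_iff]
    have h4 : x j * X * (x j)⁻¹ = X⁻¹ := by
      have h5 := congrArg x hj
      rwa [map_mul, map_mul, map_inv, map_inv, hxX] at h5
    have h5 : x j * X = X⁻¹ * x j := mul_inv_eq_iff_eq_mul.1 h4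
    have h6 : j * X = X⁻¹ * j := mul_inv_eq_iff_eq_mul.1 hj
    have h7 : j⁻¹ * X⁻¹ = X * j⁻¹ := by
      rw [inv_mul_eq_iff_eq_mul, ← mul_assoc, h6, mul_assoc, mul_inv_cancel, mul_one]
    rw [mul_assoc, h5, ← mul_assoc, h7, mul_assoc]
  exact sl_eq_one h2 hX hj hn hx hxX h3 (fun y hy hyo => by rw [hT y hy hyo, map_one])

theorem psl_two (h2 : (2 : F) ≠ 0) (e : L ≃* Matrix.ProjectiveSpecialLinearGroup (Fin 2) F) {t : L}
    (ht1 : t ≠ 1) (ht : t * t = 1) (hT : ∀ y, y * t = t * y → Odd (orderOf y) → y = 1) {x : MulAut L} {n : ℕ}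
    (hn : Odd n) (hx : x ^ n = 1) (hxt : x t = t) : x = 1 := by
  have : Finite L := Finite.of_equiv _ e.symm.toEquiv
  obtain ⟨T, m, hTt, -⟩ := exists_torus h2 e ht1 ht
  obtain ⟨u, hut, huT⟩ := hTt.ex
  obtain ⟨hu1, hu, huinv⟩ := hTt.out u hut huT
  have hT' : ∀ y ∈ T, Odd (orderOf y) → y = 1 := fun y hy => hT y (hTt.comm y hy)
  have hcomm : ∀ y, y * t = t * y → x y * t = t * x y := by
    intro y hy
    nth_rewrite 1 [← hxt]
    rw [← map_mul, hy, map_mul, hxt]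
  -- `x` normalises `T`
  have hxT : ∀ y ∈ T, x y ∈ T := by
    by_cases hm : m = 2
    · intro y hy
      have h3 := hTt.card
      rw [hm] at h3
      have h4 : y * y = 1 := by
        have h5 : (⟨y, hy⟩ : T) ^ Nat.card T = 1 := pow_card_eq_one'
        rw [h3, pow_two] at h5
        exact congrArg Subtype.val h5
      rcases hTt.eq_of_sq hy h4 with h5 | h5
      · rw [h5, map_one]; exact one_mem _
      · rw [h5, hxt]; exact hTt.mem
    · obtain ⟨g, hg⟩ := hTt.cyclic.exists_generator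
      have hog : orderOf g = m := by rw [orderOf_eq_card_of_forall_mem_zpowers hg, hTt.card]
      have hxg : x g ∈ T := by
        by_contra hn'
        obtain ⟨-, h3, -⟩ := hTt.out (x g) (hcomm g (hTt.comm g g.2)) hn'
        rw [← map_mul, map_eq_one_iff x x.injective] at h3
        have h4 : orderOf g ∣ 2 := orderOf_dvd_of_pow_eq_one (by rw [pow_two]; exact Subtype.ext h3)
        rw [hog] at h4
        rcases (Nat.dvd_prime Nat.prime_two).1 h4 with h5 | h5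
        · apply ht1
          have h6 := hTt.card
          rw [h5, card_eq_one] at h6
          have h7 := hTt.mem
          rw [h6] at h7
          exact mem_bot.1 h7
        · exact hm h5
      intro y hy
      obtain ⟨j, hj⟩ := mem_zpowers_iff.1 (hg ⟨y, hy⟩)
      have h5 : y = (g : L) ^ j := (congrArg Subtype.val hj).symm
      rw [h5, map_zpow]
      exact zpow_mem hxg j
  have h1 := cyclic_fix hTt.cyclic hT' hn hx hxT
  have h3 : x u = u := by
    refine coset_fix hT' hn hx h1 ?_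
    have h4 : x u ∉ T := by
      intro h5
      apply huT
      have h6 := h1 _ h5
      rw [← x.injective h6]
      exact h5
    have h5 : u⁻¹ ∉ T := fun h6 => huT (by rw [← inv_inv u]; exact inv_mem h6)
    refine hTt.mul _ _ ?_ h5 (hcomm u hut) h4
    have h6 : u⁻¹ = u := inv_eq_of_mul_eq_one_right hu
    rw [h6]; exact hut
  exact psl_eq_one h2 e ht1 ht hu1 hu (fun h => huT (h ▸ hTt.mem)) hut hn hx hxt h3
    (fun y hy hyo => by rw [hT y hy hyo, map_one])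

end

section
variable {X : Type*} [Group X] {F : Type*} [Field F] [Finite F]

/-- an element of odd order normalising `A ≃ SL(2,F)` and commuting with `x`, `C_A(x)` a 2-group, centralises `A` -/
theorem sl_cent_two (h2 : (2 : F) ≠ 0) {A : Subgroup X} (e : A ≃* Matrix.SpecialLinearGroup (Fin 2) F)
    {x g : X} (hxA : x ∈ A) (hx1 : x * x ≠ 1) (hx : (x * x) * (x * x) = 1)
    (hg : g ∈ normalizer (A : Set X)) (hn : Odd (orderOf g)) (hgx : g * x = x * g)
    (hT : ∀ y ∈ A, y * x = x * y → Odd (orderOf y) → y = 1) : ∀ y ∈ A, g * y = y * g := by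
  set x' : MulAut (Matrix.SpecialLinearGroup (Fin 2) F) := MulAut.congr e (A.normalizerMonoidHom ⟨g, hg⟩) with hx'
  have hx'e : ∀ y, x' (e y) = e (A.normalizerMonoidHom ⟨g, hg⟩ y) := fun y => by
    rw [hx']
    change e (A.normalizerMonoidHom ⟨g, hg⟩ (e.symm (e y))) = _
    rw [e.symm_apply_apply]
  have h1 : x' = 1 := by
    refine sl_two h2 (X := e ⟨x, hxA⟩) ?_ ?_ hn ?_ ?_
    · have h3 : (e (⟨x, hxA⟩ * ⟨x, hxA⟩)) * (e (⟨x, hxA⟩ * ⟨x, hxA⟩)) = 1 := by
        rw [← map_mul]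
        rw [show ((⟨x, hxA⟩ : A) * ⟨x, hxA⟩ * (⟨x, hxA⟩ * ⟨x, hxA⟩)) = 1 from Subtype.ext hx, map_one]
      rcases Cfsg.Agent.Lib.PSL2Inv.sq_eq_one h2 h3 with h4 | h4
      · exact absurd (congrArg Subtype.val ((map_eq_one_iff e e.injective).mp h4)) hx1
      · rw [← map_mul, h4]
    · intro y hy hyo
      obtain ⟨y, rfl⟩ := e.surjective y
      have hy' : (y : X) * x = x * y := by
        have := e.injective (show e (y * ⟨x, hxA⟩) = e (⟨x, hxA⟩ * y) by rw [map_mul, map_mul, hy])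
        exact congrArg Subtype.val this
      rw [map_eq_one_iff e e.injective]
      exact Subtype.ext (hT y y.2 hy' (by rwa [e.orderOf_eq, Subgroup.orderOf_coe] at *))
    · rw [hx', ← map_pow, conj_pow_eq_one hg (pow_orderOf_eq_one g), map_one]
    · rw [hx'e, (conj_apply_eq hg _).mpr hgx]
  intro y hy
  refine (conj_apply_eq hg ⟨y, hy⟩).mp ?_
  apply e.injective
  rw [← hx'e, h1, MulAut.one_apply]

/-- the same for `PSL(2,F)` -/
theorem psl_cent_two (h2 : (2 : F) ≠ 0) {A : Subgroup X} (e : A ≃* Matrix.ProjectiveSpecialLinearGroup (Fin 2) F)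
    {t g : X} (htA : t ∈ A) (ht1 : t ≠ 1) (ht : t * t = 1)
    (hg : g ∈ normalizer (A : Set X)) (hn : Odd (orderOf g)) (hgt : g * t = t * g)
    (hT : ∀ y ∈ A, y * t = t * y → Odd (orderOf y) → y = 1) : ∀ y ∈ A, g * y = y * g := by
  have h1 : A.normalizerMonoidHom ⟨g, hg⟩ = 1 := by
    refine psl_two h2 e (t := ⟨t, htA⟩) (fun h => ht1 (congrArg Subtype.val h)) (Subtype.ext ht) ?_ hn
      (conj_pow_eq_one hg (pow_orderOf_eq_one g)) ((conj_apply_eq hg _).mpr hgt)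
    intro y hy hyo
    exact Subtype.ext (hT y y.2 (congrArg Subtype.val hy) (by rwa [Subgroup.orderOf_coe]))
  intro y hy
  exact (conj_apply_eq hg ⟨y, hy⟩).mp (by rw [h1, MulAut.one_apply])

omit [Finite F] in
/-- an element of odd order normalising `K₁`, `K₂` and commuting with `x₁ x₂` commutes with `x₁` and `x₂` -/
theorem comm_factors (h2 : (2 : F) ≠ 0) {K₁ K₂ : Subgroup X} (e₁ : K₁ ≃* Matrix.SpecialLinearGroup (Fin 2) F)
    (hcomm : ∀ k ∈ K₁, ∀ l ∈ K₂, k * l = l * k) {x₁ x₂ r : X} (hx₁ : x₁ ∈ K₁) (hx₂ : x₂ ∈ K₂)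
    (hro : Odd (orderOf r)) (hr1 : r ∈ normalizer (K₁ : Set X)) (hr2 : r ∈ normalizer (K₂ : Set X))
    (hrx : r * (x₁ * x₂) = x₁ * x₂ * r) : r * x₁ = x₁ * r ∧ r * x₂ = x₂ * r := by
  have hcen' : ∀ d, (h1 : d ∈ K₁) → d ∈ K₂ → e₁ ⟨d, h1⟩ = 1 ∨ e₁ ⟨d, h1⟩ = -1 := by
    intro d h1 h2'
    rw [← mem_center_iff' h2, mem_center_iff]
    intro y
    obtain ⟨y, rfl⟩ := e₁.surjective y
    rw [← map_mul, ← map_mul]
    congr 1
    exact Subtype.ext (hcomm y y.2 d h2')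
  have hcen : ∀ c, c ∈ K₁ → c ∈ K₂ → c * c = 1 := by
    intro c hc1 hc2
    have h4 : e₁ (⟨c, hc1⟩ * ⟨c, hc1⟩) = 1 := by
      rw [map_mul]
      rcases hcen' c hc1 hc2 with h5 | h5
      · rw [h5, one_mul]
      · rw [h5, neg_mul_neg, one_mul]
    exact congrArg Subtype.val ((map_eq_one_iff e₁ e₁.injective).mp h4)
  set c := x₁⁻¹ * (r * x₁ * r⁻¹) with hc
  have hc1 : c ∈ K₁ := mul_mem (inv_mem hx₁) ((mem_normalizer_iff.mp hr1 x₁).mp hx₁)
  have hc2' : c = x₂ * (r * x₂ * r⁻¹)⁻¹ := by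
    have h5 : (r * x₁ * r⁻¹) * (r * x₂ * r⁻¹) = x₁ * x₂ := by
      have h6 : (r * x₁ * r⁻¹) * (r * x₂ * r⁻¹) = r * (x₁ * x₂) * r⁻¹ := by group
      rw [h6, hrx, mul_assoc, mul_inv_cancel, mul_one]
    rw [hc, inv_mul_eq_iff_eq_mul, ← mul_assoc, ← h5, mul_assoc (r * x₁ * r⁻¹), mul_inv_cancel, mul_one]
  have hc2 : c ∈ K₂ := by
    rw [hc2']
    exact mul_mem hx₂ (inv_mem ((mem_normalizer_iff.mp hr2 x₂).mp hx₂))
  have hcc := hcen c hc1 hc2
  have hgc : r * c = c * r := by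
    have hin1 : r * c * r⁻¹ ∈ K₁ := (mem_normalizer_iff.mp hr1 c).mp hc1
    have hin2 : r * c * r⁻¹ ∈ K₂ := (mem_normalizer_iff.mp hr2 c).mp hc2
    have heq : r * c * r⁻¹ = c := by
      by_cases hc0 : c = 1
      · rw [hc0, mul_one, mul_inv_cancel]
      · have hne : ∀ d, (h1 : d ∈ K₁) → d ∈ K₂ → d ≠ 1 → e₁ ⟨d, h1⟩ = -1 := by
          intro d h1 h2' hd
          rcases hcen' d h1 h2' with h5 | h5
          · exact absurd (congrArg Subtype.val ((map_eq_one_iff e₁ e₁.injective).mp h5)) hd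
          · exact h5
        have hrc : r * c * r⁻¹ ≠ 1 := by
          intro h5
          apply hc0
          rw [mul_inv_eq_one] at h5
          exact mul_left_cancel (h5.trans (mul_one r).symm)
        have h6 := (hne _ hin1 hin2 hrc).trans (hne c hc1 hc2 hc0).symm
        exact congrArg Subtype.val (e₁.injective h6)
    exact mul_inv_eq_iff_eq_mul.mp heq
  have h7 : r * x₁ = x₁ * r := by
    refine comm_of_conj_mul hro (c := c) ?_ hcc hgc
    rw [hc, mul_inv_cancel_left]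
  refine ⟨h7, ?_⟩
  have h8 : r * (x₁ * x₂) = x₁ * (r * x₂) := by rw [← mul_assoc, h7, mul_assoc]
  have h9 : x₁ * (r * x₂) = x₁ * (x₂ * r) := by rw [← h8, hrx, mul_assoc]
  exact mul_left_cancel h9

/-- an element of odd order commuting with `x₁ x₂` is trivial -/
theorem odd_eq_one_sl (h2 : (2 : F) ≠ 0) {K₁ K₂ : Subgroup X} (e₁ : K₁ ≃* Matrix.SpecialLinearGroup (Fin 2) F)
    (e₂ : K₂ ≃* Matrix.SpecialLinearGroup (Fin 2) F) (hcomm : ∀ k ∈ K₁, ∀ l ∈ K₂, k * l = l * k)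
    (hnorm₁ : ∀ g : X, Odd (orderOf g) → g ∈ normalizer (K₁ : Set X))
    (hnorm₂ : ∀ g : X, Odd (orderOf g) → g ∈ normalizer (K₂ : Set X))
    (hcent : ∀ g : X, Odd (orderOf g) → (∀ k ∈ K₁, g * k = k * g) → (∀ k ∈ K₂, g * k = k * g) → g = 1)
    {x₁ x₂ : X} (hx₁ : x₁ ∈ K₁) (hx₂ : x₂ ∈ K₂) (h₁1 : x₁ * x₁ ≠ 1) (h₁ : (x₁ * x₁) * (x₁ * x₁) = 1)
    (h₂1 : x₂ * x₂ ≠ 1) (h₂ : (x₂ * x₂) * (x₂ * x₂) = 1)
    (hT₁ : ∀ y ∈ K₁, y * x₁ = x₁ * y → Odd (orderOf y) → y = 1)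
    (hT₂ : ∀ y ∈ K₂, y * x₂ = x₂ * y → Odd (orderOf y) → y = 1) {r : X} (hr : Odd (orderOf r))
    (hrx : r * (x₁ * x₂) = x₁ * x₂ * r) : r = 1 := by
  obtain ⟨h3, h4⟩ := comm_factors h2 e₁ hcomm hx₁ hx₂ hr (hnorm₁ r hr) (hnorm₂ r hr) hrx
  exact hcent r hr (sl_cent_two h2 e₁ hx₁ h₁1 h₁ (hnorm₁ r hr) hr h3 hT₁)
    (sl_cent_two h2 e₂ hx₂ h₂1 h₂ (hnorm₂ r hr) hr h4 hT₂)

/-- If all elements of odd order commuting with `x` are trivial, then `LocBal x`. -/
theorem locBal_of_odd {x : X} (h : ∀ r : X, Odd (orderOf r) → r * x = x * r → r = 1) : LocBal x :=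
  fun _ hR hRx _ r hr => h r (order_pow hR hr) (hRx r hr)

/-- `|C(X)|` in `SL(2,3)` and `SL(2,F)`, `|F| ∈ {3, 5, 7, 9}`: the centraliser of an element of order four has no
elements of odd order if `q - 1` (`q = 1 mod 4`) resp. `q + 1` (`q = 3 mod 4`) is a power of two. -/
theorem sl_no_odd (h2 : (2 : F) ≠ 0) {K : Subgroup X} (e : K ≃* Matrix.SpecialLinearGroup (Fin 2) F)
    (hF : ∃ a : ℕ, (Nat.card F % 4 = 1 ∧ Nat.card F - 1 = 2 ^ a) ∨ (Nat.card F % 4 = 3 ∧ Nat.card F + 1 = 2 ^ a))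
    {x : X} (hx : x ∈ K) (hx1 : x * x ≠ 1) (hx4 : (x * x) * (x * x) = 1) :
    ∀ y ∈ K, y * x = x * y → Odd (orderOf y) → y = 1 := by
  intro y hy hyx hyo
  have h3 : e ⟨x, hx⟩ * e ⟨x, hx⟩ = -1 := by
    have h3 : (e (⟨x, hx⟩ * ⟨x, hx⟩)) * (e (⟨x, hx⟩ * ⟨x, hx⟩)) = 1 := by
      rw [← map_mul]
      rw [show ((⟨x, hx⟩ : K) * ⟨x, hx⟩ * (⟨x, hx⟩ * ⟨x, hx⟩)) = 1 from Subtype.ext hx4, map_one]
    rcases Cfsg.Agent.Lib.PSL2Inv.sq_eq_one h2 h3 with h4 | h4
    · exact absurd (congrArg Subtype.val ((map_eq_one_iff e e.injective).mp h4)) hx1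
    · rw [← map_mul, h4]
  have h4 := card_centralizer h2 (tr_of_sq h2 h3)
  have h5 := orderOf_dvd_natCard (⟨e ⟨y, hy⟩, mem_centralizer_singleton_iff.2 (by
    rw [← map_mul, ← map_mul]
    congr 1
    exact Subtype.ext hyx)⟩ : centralizer ({e ⟨x, hx⟩} : Set (Matrix.SpecialLinearGroup (Fin 2) F)))
  rw [h4, Subgroup.orderOf_mk, e.orderOf_eq, Subgroup.orderOf_mk] at h5
  obtain ⟨a, ha⟩ := hF
  have h6 : orderOf y ∣ 2 ^ a := by
    rcases card_circ h2 with ⟨h7, h8⟩ | ⟨h7, h8⟩ <;> rcases ha with ⟨h9, h10⟩ | ⟨h9, h10⟩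
    · rwa [h8, h10] at h5
    · omega
    · omega
    · rwa [h8, h10] at h5
  have h7 : Nat.Coprime (orderOf y) (2 ^ a) := (Nat.coprime_two_right.mpr hyo).pow_right a
  exact orderOf_eq_one_iff.mp (Nat.eq_one_of_dvd_coprimes h7 dvd_rfl h6)

/-- the same for `PSL(2,F)` -/
theorem psl_no_odd (h2 : (2 : F) ≠ 0) {K : Subgroup X} (e : K ≃* Matrix.ProjectiveSpecialLinearGroup (Fin 2) F)
    (hF : ∃ a : ℕ, (Nat.card F % 4 = 1 ∧ Nat.card F - 1 = 2 ^ a) ∨ (Nat.card F % 4 = 3 ∧ Nat.card F + 1 = 2 ^ a))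
    {t : X} (ht : t ∈ K) (ht1 : t ≠ 1) (htt : t * t = 1) :
    ∀ y ∈ K, y * t = t * y → Odd (orderOf y) → y = 1 := by
  intro y hy hyt hyo
  obtain ⟨T, m, hT, hm⟩ := exists_torus h2 e (t := ⟨t, ht⟩) (fun h => ht1 (congrArg Subtype.val h)) (Subtype.ext htt)
  have h4 := hT.card_centralizer
  have h5 := orderOf_dvd_natCard (⟨⟨y, hy⟩, mem_centralizer_singleton_iff.2 (Subtype.ext hyt)⟩ :
    centralizer ({⟨t, ht⟩} : Set K))
  rw [h4, Subgroup.orderOf_mk, Subgroup.orderOf_mk] at h5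
  obtain ⟨a, ha⟩ := hF
  have h6 : orderOf y ∣ 2 ^ a := by
    rcases hm with ⟨h7, h8⟩ | ⟨h7, h8⟩ <;> rcases ha with ⟨h9, h10⟩ | ⟨h9, h10⟩
    · rwa [h8, h10] at h5
    · omega
    · omega
    · rwa [h8, h10] at h5
  have h7 : Nat.Coprime (orderOf y) (2 ^ a) := (Nat.coprime_two_right.mpr hyo).pow_right a
  exact orderOf_eq_one_iff.mp (Nat.eq_one_of_dvd_coprimes h7 dvd_rfl h6)

end

end Cfsg.Agent.Lib.SymTwo
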