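import Cfsg.Agent.Lib.SimpleByPrime

/-!
# Simplicity criterion by a prime, normal closure version

As `Cfsg.Agent.Lib.SimpleByPrime.isSimpleGroup_of_prime_list`, but only for one element `s` whose normal closure is `G`.
-/

set_option autoImplicit false

namespace Cfsg.Agent.Lib.SimpleByPrimeNC

open Subgroup

variable {G : Type*} [Group G]

/-- Normal subgroups of order divisible by `p` are everything. -/
theorem eq_top_of_dvd [Finite G] {p : ℕ} (hp : p.Prime) (hp2 : ¬ p ^ 2 ∣ Nat.card G)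
    (s : G) (hs : Subgroup.normalClosure {s} = ⊤)
    (w : G) (hw : orderOf w = p) (hws : orderOf (w * s) = p)
    (N : Subgroup G) [hN : N.Normal] (hpN : p ∣ Nat.card N) : N = ⊤ := by
  have h1 := SimpleByPrime.mem_of_orderOf_eq hp hp2 N hpN w hw
  have h2 := SimpleByPrime.mem_of_orderOf_eq hp hp2 N hpN (w * s) hws
  have h3 : s ∈ N := by
    have h := N.mul_mem (N.inv_mem h1) h2
    simpa using h
  rw [eq_top_iff, ← hs]
  exact Subgroup.normalClosure_le_normal (Set.singleton_subset_iff.mpr h3)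

/-- **Simplicity criterion.** `|G| = p * ∏ r ^ e` over `(r, e) ∈ L`; `s` has normal closure `G`; `w` and `w * s` have
order `p`; the centre is trivial. -/
theorem isSimpleGroup_of_prime_list (p : ℕ) (hp : p.Prime) (L : List (ℕ × ℕ))
    (hcard : Nat.card G = p * (L.map fun q => q.1 ^ q.2).prod)
    (hL : ∀ q ∈ L, q.1.Prime) (hnd : (L.map Prod.fst).Nodup)
    (hLp : ∀ q ∈ L, q.1 ≠ p ∧ ∀ i ∈ List.range q.2, q.1 ^ (i + 1) % p ≠ 1)
    (s : G) (hs : Subgroup.normalClosure {s} = ⊤)
    (w : G) (hw : orderOf w = p) (hws : orderOf (w * s) = p)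
    (hZ : Subgroup.center G = ⊥) : IsSimpleGroup G := by
  have hcop : Nat.Coprime p ((L.map fun q => q.1 ^ q.2).prod) := by
    rw [hp.coprime_iff_not_dvd]
    intro hdv
    obtain ⟨a, ha, hra⟩ := (Prime.dvd_prod_iff hp.prime).mp hdv
    obtain ⟨q', hq', rfl⟩ := List.mem_map.mp ha
    have h1 : p ∣ q'.1 := hp.dvd_of_dvd_pow hra
    have h2 : p = q'.1 := (Nat.prime_dvd_prime_iff_eq hp (hL q' hq')).mp h1
    exact (hLp q' hq').1 h2.symm
  have hpos : Nat.card G ≠ 0 := by
    rw [hcard]
    apply mul_ne_zero hp.ne_zero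
    rw [Ne, List.prod_eq_zero_iff]
    intro h0
    obtain ⟨q, hq, h⟩ := List.mem_map.mp h0
    exact (pow_pos (hL q hq).pos q.2).ne' h
  have : Finite G := (Nat.card_ne_zero.mp hpos).2
  have hpG : p ∣ Nat.card G := by rw [hcard]; exact dvd_mul_right _ _
  have hp2 : ¬ p ^ 2 ∣ Nat.card G := by
    rw [hcard, pow_two]
    intro h
    have h1 := Nat.dvd_of_mul_dvd_mul_left hp.pos h
    exact (hp.coprime_iff_not_dvd.mp hcop) h1
  have hord : ∀ r i : ℕ, r.Prime → r ≠ p → 0 < i → r ^ i ∣ Nat.card G → ¬ r ^ i ≡ 1 [MOD p] := by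
    intro r i hr hrp hi hd hmod
    rw [hcard] at hd
    have hc : Nat.Coprime (r ^ i) p := Nat.Coprime.pow_left i ((Nat.coprime_primes hr hp).mpr hrp)
    have hd' := hc.dvd_of_dvd_mul_left hd
    obtain ⟨q, hq, rfl, hiq⟩ := SimpleByPrime.exists_mem_of_pow_dvd_prod L hL hnd hr hi hd'
    have h1 := (hLp q hq).2 (i - 1) (List.mem_range.mpr (by omega))
    rw [Nat.sub_add_cancel hi] at h1
    apply h1
    have h2 : q.1 ^ i % p = 1 % p := hmod
    rwa [Nat.mod_eq_of_lt hp.one_lt] at h2
  have key : ∀ N : Subgroup G, N.Normal → p ∣ Nat.card N → N = ⊤ := fun N hN hpN =>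
    eq_top_of_dvd hp hp2 s hs w hw hws N hpN
  have : Nontrivial G := by
    refine ⟨w, 1, ?_⟩
    rintro rfl
    rw [orderOf_one] at hw
    exact hp.one_lt.ne hw
  refine ⟨fun N hN => ?_⟩
  by_cases hpN : p ∣ Nat.card N
  · right; exact key N hN hpN
  · left
    have hcomm := SimpleByPrime.commute_of_normal hp N hpN
      (fun r i hr hi hd => hord r i hr
        (by rintro rfl; exact hpN ((dvd_pow_self r hi.ne').trans hd)) hi
        (hd.trans (Subgroup.card_subgroup_dvd_card N))) w (by rw [← hw]; exact pow_orderOf_eq_one w)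
    have hwC : w ∈ Subgroup.centralizer (N : Set G) := by
      rw [Subgroup.mem_centralizer_iff]
      intro x hx
      exact (hcomm x hx).symm
    have hpC : p ∣ Nat.card (Subgroup.centralizer (N : Set G)) := by
      have h := Subgroup.orderOf_dvd_natCard _ hwC
      rwa [hw] at h
    have hCtop := key (Subgroup.centralizer (N : Set G)) inferInstance hpC
    rw [eq_bot_iff, ← hZ]
    intro x hx
    rw [Subgroup.mem_center_iff]
    intro g
    have hg : g ∈ Subgroup.centralizer (N : Set G) := by rw [hCtop]; exact Subgroup.mem_top g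
    exact ((Subgroup.mem_centralizer_iff.mp hg) x hx).symm

end Cfsg.Agent.Lib.SimpleByPrimeNC
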