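import Mathlib
import Cfsg.Agent.S1299
import Cfsg.Agent.SignalizersComponents.SFTwo
import Cfsg.Agent.SignalizersComponents.CoprimeGen
import Cfsg.Agent.Dichotomy.CoreTools

/-!
# `k`-balanced families on one elementary abelian `p`-subgroup `A`

`X D` (`D ≤ A`, `|D| ≥ p ^ k`) is a family of `p'`-subgroups with `X D ⊓ C(E) ≤ X E` (balance on `A` only), inside
solvable `p'`-groups `K a` (`a ∈ A`, `a ≠ 1`). Then `θ a = ⟨X D ⊓ C(a)⟩` is a signalizer functor and (`p = 2`)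
`W = ⟨X D⟩` has odd order, `C_W(D) = X D`, and `W = ⟨X D : D ≤ E⟩` for every `E ≤ A` with `|E| ≥ 2 ^ (k + 1)`.

`ofDelta`: the case `X D = Δ(D)`, `K a = O(C(a))`.
-/

set_option autoImplicit false
set_option linter.unusedSectionVars false

namespace Cfsg.Agent.Lib.KFamily

open Subgroup Cfsg
open Cfsg.Agent.SignalizersComponents

variable {G : Type*} [Group G]

/-- the join of the `X D`, `D ≤ E` of order `c` -/
def WW (X : Subgroup G → Subgroup G) (E : Subgroup G) (c : ℕ) : Subgroup G :=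
  ⨆ D : {D : Subgroup G // D ≤ E ∧ Nat.card D = c}, X (D : Subgroup G)

theorem le_WW {X : Subgroup G → Subgroup G} {E D : Subgroup G} {c : ℕ} (hD : D ≤ E) (hc : Nat.card D = c) :
    X D ≤ WW X E c :=
  le_iSup (fun D : {D : Subgroup G // D ≤ E ∧ Nat.card D = c} => X (D : Subgroup G)) ⟨D, hD, hc⟩

theorem WW_mono {X : Subgroup G → Subgroup G} {E F : Subgroup G} (h : E ≤ F) (c : ℕ) : WW X E c ≤ WW X F c :=
  iSup_le fun D => le_WW (D.2.1.trans h) D.2.2

/-- a `k`-balanced family on `A` -/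
structure Fam (p k : ℕ) (A : Subgroup G) (K : G → Subgroup G) (X : Subgroup G → Subgroup G) : Prop where
  one_le : 1 ≤ k
  elem : IsElementaryAbelian p A
  card : p ^ (k + 2) ≤ Nat.card A
  solv : ∀ a ∈ A, a ≠ 1 → Group.IsSolvable ↥(K a)
  coprime : ∀ a ∈ A, a ≠ 1 → ¬ p ∣ Nat.card (K a)
  inv : ∀ a ∈ A, a ≠ 1 → ∀ b ∈ A, ∀ x ∈ K a, b * x * b⁻¹ ∈ K a
  cent : ∀ a ∈ A, a ≠ 1 → K a ≤ centralizer {a}
  le : ∀ D ≤ A, p ^ k ≤ Nat.card D → ∀ a ∈ D, a ≠ 1 → X D ≤ K a
  conj : ∀ D ≤ A, p ^ k ≤ Nat.card D → ∀ a ∈ D, a ≠ 1 → ∀ h ∈ K a, h ∈ centralizer (D : Set G) →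
    ∀ x ∈ X D, h * x * h⁻¹ ∈ X D
  invX : ∀ D ≤ A, p ^ k ≤ Nat.card D → ∀ b ∈ A, ∀ x ∈ X D, b * x * b⁻¹ ∈ X D
  bal : ∀ D ≤ A, p ^ k ≤ Nat.card D → ∀ E ≤ A, p ^ k ≤ Nat.card E → X D ⊓ centralizer (E : Set G) ≤ X E

/-- the functor -/
def th (X : Subgroup G → Subgroup G) (A : Subgroup G) (c : ℕ) (a : G) : Subgroup G :=
  ⨆ D : {D : Subgroup G // D ≤ A ∧ Nat.card ↥D = c}, X (D : Subgroup G) ⊓ centralizer {a}

section

variable [Finite G] {p k : ℕ} [Fact p.Prime] {A : Subgroup G} {K : G → Subgroup G} {X : Subgroup G → Subgroup G}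

omit [Finite G] [Fact p.Prime] in
theorem Fam.comm (F : Fam p k A K X) {a b : G} (ha : a ∈ A) (hb : b ∈ A) : a * b = b * a := by
  have h1 := F.elem.1.is_comm.comm (⟨a, ha⟩ : A) ⟨b, hb⟩
  exact congrArg Subtype.val h1

omit [Finite G] [Fact p.Prime] in
theorem Fam.isPGroup (F : Fam p k A K X) : IsPGroup p A := fun a => ⟨1, by
  apply Subtype.ext
  have := F.elem.2 a a.2
  simpa using this⟩

theorem Fam.card_ne (F : Fam p k A K X) {D : Subgroup G} (h : p ^ k ≤ Nat.card D) :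
    ∃ a ∈ D, a ≠ 1 := by
  have hpp : p.Prime := Fact.out
  by_contra hc
  push Not at hc
  have h1 : D = ⊥ := (eq_bot_iff_forall D).2 hc
  rw [h1, card_bot] at h
  have h2 : p ≤ p ^ k := Nat.le_self_pow (by have := F.one_le; omega) p
  have := hpp.one_lt
  omega

theorem Fam.ne_bot (F : Fam p k A K X) : A ≠ ⊥ := by
  rintro rfl
  have hpp : p.Prime := Fact.out
  have hAk := F.card
  rw [card_bot] at hAk
  have h1 : p ≤ p ^ (k + 2) := Nat.le_self_pow (by omega) p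
  have := hpp.one_lt
  omega

theorem Fam.exists_sub (F : Fam p k A K X) {D : Subgroup G} (hD : D ≤ A) {j : ℕ} (hcard : p ^ j ≤ Nat.card D) :
    ∃ D₀ ≤ D, Nat.card D₀ = p ^ j := by
  have hpp : p.Prime := Fact.out
  obtain ⟨m, hm⟩ := IsPGroup.iff_card.mp (F.isPGroup.to_le hD)
  rw [hm] at hcard
  have hkm : j ≤ m := (Nat.pow_le_pow_iff_right hpp.one_lt).mp hcard
  obtain ⟨D₁, hD₁⟩ := Sylow.exists_subgroup_card_pow_prime p
    (show p ^ j ∣ Nat.card D by rw [hm]; exact pow_dvd_pow p hkm)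
  refine ⟨D₁.map D.subtype, map_subtype_le D₁, ?_⟩
  rw [card_map_of_injective D.subtype_injective, hD₁]

theorem Fam.le_cent (F : Fam p k A K X) {D : Subgroup G} (hD : D ≤ A) (hc : p ^ k ≤ Nat.card D) :
    X D ≤ centralizer (D : Set G) := by
  intro x hx
  rw [mem_centralizer_iff]
  intro d hd
  rcases eq_or_ne d 1 with rfl | hd1
  · rw [one_mul, mul_one]
  · exact mem_centralizer_iff.mp (F.cent d (hD hd) hd1 (F.le D hD hc d hd hd1 hx)) d rfl

theorem Fam.anti (F : Fam p k A K X) {D E : Subgroup G} (hE : E ≤ A) (h : D ≤ E) (hc : p ^ k ≤ Nat.card D) :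
    X E ≤ X D := by
  have hcE : p ^ k ≤ Nat.card E := hc.trans (card_le_of_le h)
  intro x hx
  refine F.bal E hE hcE D (h.trans hE) hc ⟨hx, ?_⟩
  exact centralizer_le h (F.le_cent hE hcE hx)

theorem Fam.cardF (F : Fam p k A K X) {j : ℕ} {E : Subgroup G} (hE : E ≤ A) (hEc : p ^ (j + 1) ≤ Nat.card E)
    {B : Subgroup G} (hB : B ≤ E) (hi : B.relIndex E ≤ p) : p ^ j ≤ Nat.card B := by
  have hpp : p.Prime := Fact.out
  have h1 : Nat.card B * B.relIndex E = Nat.card E := by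
    have := relIndex_mul_relIndex (⊥ : Subgroup G) B E bot_le hB
    rwa [relIndex_bot_left, relIndex_bot_left] at this
  have h2 : p ^ j * p ≤ Nat.card B * p := by
    calc p ^ j * p = p ^ (j + 1) := by ring
      _ ≤ Nat.card E := hEc
      _ = Nat.card B * B.relIndex E := h1.symm
      _ ≤ Nat.card B * p := Nat.mul_le_mul_left _ hi
  exact Nat.le_of_mul_le_mul_right h2 hpp.pos

theorem Fam.coprimeX (F : Fam p k A K X) {D : Subgroup G} (hD : D ≤ A) (hc : p ^ k ≤ Nat.card D) :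
    ¬ p ∣ Nat.card (X D) := by
  obtain ⟨a, ha, ha1⟩ := F.card_ne hc
  exact fun h => F.coprime a (hD ha) ha1 (h.trans (card_dvd_of_le (F.le D hD hc a ha ha1)))

/-- the functor in terms of the large subgroups containing `a` -/
theorem Fam.th_eq (F : Fam p k A K X) {a : G} (ha : a ∈ A) (ha1 : a ≠ 1) :
    th X A (p ^ k) a = ⨆ E : {D : Subgroup G | D ≤ A ∧ a ∈ D ∧ p ^ k ≤ Nat.card D}, X (E : Subgroup G) := by
  apply le_antisymm
  · refine iSup_le ?_
    rintro ⟨D, hDA, hDc⟩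
    have hzA : zpowers a ≤ A := by rwa [zpowers_le]
    have hE : D ⊔ zpowers a ∈ {D : Subgroup G | D ≤ A ∧ a ∈ D ∧ p ^ k ≤ Nat.card D} := by
      refine ⟨sup_le hDA hzA, mem_sup_right (mem_zpowers a), ?_⟩
      rw [← hDc]
      exact card_le_of_le le_sup_left
    refine le_iSup_of_le (⟨D ⊔ zpowers a, hE⟩ :
      {D : Subgroup G | D ≤ A ∧ a ∈ D ∧ p ^ k ≤ Nat.card D}) ?_
    rintro x ⟨hxD, hxa⟩
    refine F.bal D hDA hDc.ge _ hE.1 hE.2.2 ⟨hxD, ?_⟩
    have hxC : D ⊔ zpowers a ≤ centralizer ({x} : Set G) := by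
      refine sup_le ?_ ?_
      · intro d hd
        rw [mem_centralizer_singleton_iff]
        exact mem_centralizer_iff.mp (F.le_cent hDA hDc.ge hxD) d hd
      · rw [zpowers_le, mem_centralizer_singleton_iff]
        exact mem_centralizer_iff.mp hxa a rfl
    refine mem_centralizer_iff.2 ?_
    intro e he
    exact mem_centralizer_singleton_iff.mp (hxC he)
  · refine iSup_le ?_
    rintro ⟨E, hEA, haE, hEc⟩
    obtain ⟨D₀, hD₀, hc⟩ := F.exists_sub hEA hEc
    refine le_iSup_of_le (⟨D₀, hD₀.trans hEA, hc⟩ : {D : Subgroup G // D ≤ A ∧ Nat.card ↥D = p ^ k}) ?_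
    refine le_inf (F.anti hEA hD₀ hc.ge) ?_
    exact (F.le E hEA hEc a haE ha1).trans (F.cent a ha ha1)

theorem Fam.th_le (F : Fam p k A K X) {a : G} (ha : a ∈ A) (ha1 : a ≠ 1) : th X A (p ^ k) a ≤ K a := by
  rw [F.th_eq ha ha1]
  refine iSup_le ?_
  rintro ⟨E, hEA, haE, hEc⟩
  exact F.le E hEA hEc a haE ha1

theorem Fam.th_inv (F : Fam p k A K X) {a : G} (ha : a ∈ A) (ha1 : a ≠ 1) :
    ∀ b ∈ A, ∀ x ∈ th X A (p ^ k) a, b * x * b⁻¹ ∈ th X A (p ^ k) a := by
  intro b hb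
  rw [F.th_eq ha ha1]
  refine NormalFunctor.conj_mem_iSup _ _ b ?_
  intro E x hx
  exact mem_iSup_of_mem E (F.invX E E.2.1 E.2.2.2 b hb x hx)

theorem Fam.th_coprime (F : Fam p k A K X) {a : G} (ha : a ∈ A) (ha1 : a ≠ 1) :
    ¬ p ∣ Nat.card (th X A (p ^ k) a) := fun h =>
  F.coprime a ha ha1 (h.trans (card_dvd_of_le (F.th_le ha ha1)))

theorem Fam.th_inf (F : Fam p k A K X) {a : G} (ha : a ∈ A) (ha1 : a ≠ 1) {D : Subgroup G} (hD : D ≤ A)
    (haD : a ∈ D) (hc : p ^ k ≤ Nat.card D) : th X A (p ^ k) a ⊓ centralizer (D : Set G) ≤ X D := by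
  have hpp : p.Prime := Fact.out
  have hAC : ∀ D ≤ A, A ≤ centralizer (D : Set G) := by
    intro D hD a ha
    rw [mem_centralizer_iff]
    intro d hd
    exact F.comm (hD hd) ha
  let 𝒟 : Set (Subgroup G) := {D | D ≤ A ∧ a ∈ D ∧ p ^ k ≤ Nat.card D}
  let ℱ : Set (Subgroup G) := {F | F ≤ A ∧ a ∈ F ∧ F.relIndex A ≤ p}
  have hFD : ℱ ⊆ 𝒟 := by
    rintro B ⟨hBA, haB, hi⟩
    refine ⟨hBA, haB, le_trans ?_ (F.cardF (j := k + 1) le_rfl F.card hBA hi)⟩
    exact Nat.pow_le_pow_right hpp.pos (Nat.le_succ k)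
  have hint : ∀ F ∈ ℱ, ∀ F' ∈ ℱ, ∃ D ∈ 𝒟, D ≤ F ∧ D ≤ F' := by
    rintro B ⟨hFA, haF, hi⟩ B' ⟨hFA', haF', hi'⟩
    refine ⟨B ⊓ B', ⟨inf_le_left.trans hFA, ⟨haF, haF'⟩, ?_⟩, inf_le_left, inf_le_right⟩
    have h1 : Nat.card ↥(B ⊓ B') * (B ⊓ B').relIndex A = Nat.card A := by
      have := relIndex_mul_relIndex (⊥ : Subgroup G) (B ⊓ B') A bot_le (inf_le_left.trans hFA)
      rwa [relIndex_bot_left, relIndex_bot_left] at this
    have h3 : (B ⊓ B').relIndex A ≤ p * p :=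
      (relIndex_inf_le (H := B) (K := B') (L := A)).trans (Nat.mul_le_mul hi hi')
    have h2 : p ^ k * (p * p) ≤ Nat.card ↥(B ⊓ B') * (p * p) := by
      calc p ^ k * (p * p) = p ^ (k + 2) := by ring
        _ ≤ Nat.card A := F.card
        _ = Nat.card ↥(B ⊓ B') * (B ⊓ B').relIndex A := h1.symm
        _ ≤ Nat.card ↥(B ⊓ B') * (p * p) := Nat.mul_le_mul_left _ h3
    exact Nat.le_of_mul_le_mul_right h2 (Nat.mul_pos hpp.pos hpp.pos)
  rw [F.th_eq ha ha1]
  refine NormalFunctor.iSup_inf_centralizer_le_aux (p := p) A F.isPGroup 𝒟 ℱ (fun D hD => hD.1) hFD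
    hint _ (K a) X rfl (F.solv a ha ha1) (F.coprime a ha ha1) (F.inv a ha ha1) ?_ ?_ ?_ ?_ ?_ ?_ D
    ⟨hD, haD, hc⟩
  · intro K' hK hKA
    have hKc : K' ≤ centralizer ((zpowers a : Subgroup G) : Set G) := by
      intro x hx
      have h1 : zpowers a ≤ centralizer ({x} : Set G) := by
        rw [zpowers_le, mem_centralizer_singleton_iff]
        exact mem_centralizer_iff.mp (F.cent a ha ha1 (hK hx)) a rfl
      rw [mem_centralizer_iff]
      intro y hy
      exact mem_centralizer_singleton_iff.mp (h1 hy)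
    refine (S1299.gen F.elem F.ne_bot K' (zpowers a)
      (fun h => F.coprime a ha ha1 (h.trans (card_dvd_of_le hK))) hKA (by rwa [zpowers_le]) hKc).trans ?_
    refine iSup_le ?_
    rintro ⟨B, hBA, haB, hi⟩
    exact le_iSup_of_le (⟨B, hBA, haB (mem_zpowers a), hi⟩ : ℱ) le_rfl
  · intro D hD
    exact F.le D hD.1 hD.2.2 a hD.2.1 ha1
  · intro D hD
    exact F.le_cent hD.1 hD.2.2
  · intro D hD h hh hh' x hx
    exact F.conj D hD.1 hD.2.2 a hD.2.1 ha1 h hh hh' x hx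
  · intro D hD b hb x hx
    exact F.invX D hD.1 hD.2.2 b hb x hx
  · intro D hD E hE
    exact F.bal D hD.1 hD.2.2 E hE.1 hE.2.2

theorem Fam.th_bal (F : Fam p k A K X) {a b : G} (ha : a ∈ A) (ha1 : a ≠ 1) (hb : b ∈ A) (hb1 : b ≠ 1) :
    th X A (p ^ k) a ⊓ centralizer {b} ≤ th X A (p ^ k) b := by
  have hpp : p.Prime := Fact.out
  let K' : Subgroup G := th X A (p ^ k) a ⊓ centralizer {b}
  have hKA : ∀ c ∈ A, ∀ x ∈ K', c * x * c⁻¹ ∈ K' := by
    rintro c hc x ⟨hx1, hx2⟩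
    refine ⟨F.th_inv ha ha1 c hc x hx1, ?_⟩
    have hc' : c ∈ centralizer ({b} : Set G) := by
      rw [mem_centralizer_iff]
      intro y hy
      rw [Set.mem_singleton_iff.mp hy]
      exact F.comm hb hc
    exact (centralizer ({b} : Set G)).mul_mem ((centralizer ({b} : Set G)).mul_mem hc' hx2)
      ((centralizer ({b} : Set G)).inv_mem hc')
  have hKc : K' ≤ centralizer ((zpowers a ⊔ zpowers b : Subgroup G) : Set G) := by
    rintro x ⟨hx1, hx2⟩
    have h1 : zpowers a ⊔ zpowers b ≤ centralizer ({x} : Set G) := by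
      refine sup_le ?_ ?_
      · rw [zpowers_le, mem_centralizer_singleton_iff]
        exact mem_centralizer_iff.mp (F.cent a ha ha1 (F.th_le ha ha1 hx1)) a rfl
      · rw [zpowers_le, mem_centralizer_singleton_iff]
        exact mem_centralizer_iff.mp hx2 b rfl
    rw [mem_centralizer_iff]
    intro y hy
    exact mem_centralizer_singleton_iff.mp (h1 hy)
  refine (S1299.gen F.elem F.ne_bot K' (zpowers a ⊔ zpowers b)
    (fun h => F.th_coprime ha ha1 (h.trans (card_dvd_of_le inf_le_left)))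
    hKA (sup_le (by rwa [zpowers_le]) (by rwa [zpowers_le])) hKc).trans ?_
  refine iSup_le ?_
  rintro ⟨B, hBA, habB, hi⟩
  have haB : a ∈ B := habB (mem_sup_left (mem_zpowers a))
  have hbB : b ∈ B := habB (mem_sup_right (mem_zpowers b))
  have hc : p ^ k ≤ Nat.card B := by
    refine le_trans ?_ (F.cardF (j := k + 1) le_rfl F.card hBA hi)
    exact Nat.pow_le_pow_right hpp.pos (Nat.le_succ k)
  have h1 : K' ⊓ centralizer (B : Set G) ≤ X B :=
    (inf_le_inf_right _ inf_le_left).trans (F.th_inf ha ha1 hBA haB hc)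
  refine h1.trans ?_
  rw [F.th_eq hb hb1]
  exact le_iSup_of_le (⟨B, hBA, hbB, hc⟩ :
    {D : Subgroup G | D ≤ A ∧ b ∈ D ∧ p ^ k ≤ Nat.card D}) le_rfl

/-- `θ` is a signalizer functor -/
theorem Fam.functor (F : Fam p k A K X) : IsSignalizerFunctor p A (th X A (p ^ k)) := by
  refine ⟨?_, fun a ha ha1 => F.th_coprime ha ha1, fun a ha ha1 => F.th_inv ha ha1, ?_⟩
  · intro a ha ha1
    exact iSup_le fun D => inf_le_right
  · intro a ha ha1 b hb hb1
    exact F.th_bal ha ha1 hb hb1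

theorem Fam.normalizes (F : Fam p k A K X) {D : Subgroup G} (hD : D ≤ A) (hc : p ^ k ≤ Nat.card D)
    {E : Subgroup G} (hE : E ≤ A) : E ≤ normalizer (X D : Set G) := by
  intro x hx
  rw [mem_normalizer_iff]
  intro y
  refine ⟨fun hy => F.invX D hD hc x (hE hx) y hy, fun hy => ?_⟩
  have h1 := F.invX D hD hc x⁻¹ (inv_mem (hE hx)) _ hy
  have h2 : x⁻¹ * (x * y * x⁻¹) * x⁻¹⁻¹ = y := by group
  rwa [h2] at h1

theorem Fam.elem_le (F : Fam p k A K X) {E : Subgroup G} (hE : E ≤ A) : IsElementaryAbelian p E :=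
  ⟨⟨⟨fun x y => Subtype.ext (F.comm (hE x.2) (hE y.2))⟩⟩, fun x hx => F.elem.2 x (hE hx)⟩

/-- generation: `X D` lies in the join over any `E ≤ A` of order at least `p ^ (k + 1)` -/
theorem Fam.le_WW (F : Fam p k A K X) {D E : Subgroup G} (hD : D ≤ A) (hc : p ^ k ≤ Nat.card D) (hE : E ≤ A)
    (hEc : p ^ (k + 1) ≤ Nat.card E) : X D ≤ WW X E (p ^ k) := by
  have hpp : p.Prime := Fact.out
  have hE1 : E ≠ ⊥ := by
    rintro rfl
    rw [card_bot] at hEc
    have h1 : p ≤ p ^ (k + 1) := Nat.le_self_pow (by omega) p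
    have := hpp.one_lt
    omega
  have h1 := Lib.CoprimeHyperplane.iSup_centralizer_hyperplane (F.elem_le hE) hE1
    (F.coprimeX hD hc) (F.normalizes hD hc hE)
  rw [← h1]
  refine iSup_le ?_
  rintro ⟨B, hBE, hBi⟩
  have h3 : p ^ k ≤ Nat.card B := F.cardF hE hEc hBE hBi.le
  obtain ⟨D₀, hD₀, hD₀c⟩ := F.exists_sub (hBE.trans hE) h3
  refine le_trans ?_ (KFamily.le_WW (hD₀.trans hBE) hD₀c)
  refine le_trans ?_ (F.anti (hBE.trans hE) hD₀ hD₀c.ge)
  exact F.bal D hD hc B (hBE.trans hE) h3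

theorem Fam.WW_eq (F : Fam p k A K X) {E : Subgroup G} (hE : E ≤ A) (hEc : p ^ (k + 1) ≤ Nat.card E) :
    WW X E (p ^ k) = WW X A (p ^ k) := by
  apply le_antisymm
  · exact WW_mono hE _
  · refine iSup_le ?_
    rintro ⟨D, hD, hDc⟩
    exact F.le_WW hD hDc.ge hE hEc

theorem Fam.iSup_th (F : Fam p k A K X) :
    (⨆ a : {a : G // a ∈ A ∧ a ≠ 1}, th X A (p ^ k) a) = WW X A (p ^ k) := by
  have hpp : p.Prime := Fact.out
  apply le_antisymm
  · refine iSup_le fun a => iSup_le fun D => ?_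
    exact inf_le_left.trans (KFamily.le_WW D.2.1 D.2.2)
  · refine iSup_le ?_
    rintro ⟨D, hD, hDc⟩
    have hS4 : p ^ 2 ≤ Nat.card A := le_trans (Nat.pow_le_pow_right hpp.pos (by omega)) F.card
    refine (CoprimeGen.le_iSup_centralizer_ne_one F.elem hS4 (F.coprimeX hD hDc.ge)
      (F.normalizes hD hDc.ge le_rfl)).trans ?_
    refine iSup_mono ?_
    rintro ⟨a, ha, ha1⟩
    exact le_iSup (fun D : {D : Subgroup G // D ≤ A ∧ Nat.card D = p ^ k} =>
      X (D : Subgroup G) ⊓ centralizer {a}) ⟨D, hD, hDc⟩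

end

section two

variable [Finite G] {k : ℕ} {A : Subgroup G} {K : G → Subgroup G} {X : Subgroup G → Subgroup G}

theorem Fam.solv_th (F : Fam 2 k A K X) {a : G} (ha : a ∈ A) (ha1 : a ≠ 1) :
    Group.IsSolvable (th X A (2 ^ k) a) := by
  have := F.solv a ha ha1
  exact Group.isSolvable_of_isSolvable_injective (Subgroup.inclusion_injective (F.th_le ha ha1))

theorem Fam.main (F : Fam 2 k A K X) : ¬ 2 ∣ Nat.card (WW X A (2 ^ k)) ∧
    ∀ a ∈ A, a ≠ 1 → WW X A (2 ^ k) ⊓ centralizer {a} = th X A (2 ^ k) a := by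
  have h8 : 2 ^ 3 ≤ Nat.card A := le_trans (Nat.pow_le_pow_right two_pos (by have := F.one_le; omega)) F.card
  have h := SFTwo.result A (fun a ha b hb => F.comm ha hb) F.elem.2 h8 (th X A (2 ^ k))
    (F.functor.1) F.functor.2.1 F.functor.2.2.1 (fun a ha ha1 => F.solv_th ha ha1) F.functor.2.2.2
  rw [F.iSup_th] at h
  exact h

/-- `W` has odd order -/
theorem Fam.odd (F : Fam 2 k A K X) : ¬ 2 ∣ Nat.card (WW X A (2 ^ k)) := F.main.1

/-- `C_W(D) = X D` -/
theorem Fam.inf_centralizer (F : Fam 2 k A K X) {D : Subgroup G} (hD : D ≤ A) (hc : 2 ^ k ≤ Nat.card D) :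
    WW X A (2 ^ k) ⊓ centralizer (D : Set G) = X D := by
  obtain ⟨a, ha, ha1⟩ := F.card_ne hc
  apply le_antisymm
  · rintro x ⟨hx1, hx2⟩
    refine F.th_inf (hD ha) ha1 hD ha hc ⟨?_, hx2⟩
    rw [← F.main.2 a (hD ha) ha1]
    refine ⟨hx1, mem_centralizer_iff.2 ?_⟩
    intro y hy
    rw [Set.mem_singleton_iff.mp hy]
    exact mem_centralizer_iff.mp hx2 a ha
  · refine le_inf ?_ (F.le_cent hD hc)
    obtain ⟨D₀, hD₀, hD₀c⟩ := F.exists_sub hD hc
    exact (F.anti hD hD₀ hD₀c.ge).trans (KFamily.le_WW (hD₀.trans hD) hD₀c)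

/-- `C_W(a) = θ a ≤ K a` -/
theorem Fam.inf_singleton_le (F : Fam 2 k A K X) {a : G} (ha : a ∈ A) (ha1 : a ≠ 1) :
    WW X A (2 ^ k) ⊓ centralizer {a} ≤ K a := by
  rw [F.main.2 a ha ha1]
  exact F.th_le ha ha1

/-- every `A`-invariant subgroup `N` of odd order with `N ⊓ C(D) ≤ X D` for all `D ≤ A` of order `2 ^ (k+1)` lies in `W` -/
theorem Fam.le_of_hyperplane (F : Fam 2 k A K X) {N : Subgroup G} (hN : ¬ 2 ∣ Nat.card N)
    {E : Subgroup G} (hE : E ≤ A) (hEc : 2 ^ (k + 1) ≤ Nat.card E) (hEN : E ≤ normalizer (N : Set G))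
    (hle : ∀ D ≤ E, 2 ^ k ≤ Nat.card D → N ⊓ centralizer (D : Set G) ≤ X D) : N ≤ WW X A (2 ^ k) := by
  have hE1 : E ≠ ⊥ := by
    rintro rfl
    rw [card_bot] at hEc
    have h1 : 2 ≤ 2 ^ (k + 1) := Nat.le_self_pow (by omega) 2
    omega
  have h1 := Lib.CoprimeHyperplane.iSup_centralizer_hyperplane (F.elem_le hE) hE1 hN hEN
  rw [← h1]
  refine iSup_le ?_
  rintro ⟨B, hBE, hBi⟩
  have h3 : 2 ^ k ≤ Nat.card B := F.cardF hE hEc hBE hBi.le
  refine (hle B hBE h3).trans ?_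
  rw [← F.inf_centralizer (hBE.trans hE) h3]
  exact inf_le_left

end two

/-! ### conjugation -/

/-- equivariance of the family -/
def Equi (X : Subgroup G → Subgroup G) : Prop :=
  ∀ (D : Subgroup G) (g : G), (X D).map (MulAut.conj g).toMonoidHom ≤ X (D.map (MulAut.conj g).toMonoidHom)

theorem WW_conj_le {X : Subgroup G → Subgroup G} (h : Equi X) (E : Subgroup G) (c : ℕ) (g : G) :
    (WW X E c).map (MulAut.conj g).toMonoidHom ≤ WW X (E.map (MulAut.conj g).toMonoidHom) c := by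
  rw [WW, Subgroup.map_iSup]
  refine iSup_le ?_
  rintro ⟨D, hD, hDc⟩
  refine (h D g).trans (le_WW (map_mono hD) ?_)
  rw [card_map_of_injective (MulAut.conj g).injective, hDc]

theorem normalizer_le_normalizer_WW [Finite G] {X : Subgroup G → Subgroup G} (h : Equi X) (E : Subgroup G)
    (c : ℕ) : normalizer (E : Set G) ≤ normalizer (WW X E c : Set G) := by
  intro g hg
  have key : (WW X E c).map (MulAut.conj g).toMonoidHom ≤ WW X E c := by
    have h1 := WW_conj_le h E c g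
    have h2 : E.map (MulAut.conj g).toMonoidHom = E := mem_normalizer_iff_map_conj_eq.1 hg
    rwa [h2] at h1
  rw [mem_normalizer_iff_map_conj_eq]
  exact eq_of_le_of_card_ge key (by rw [card_map_of_injective (MulAut.conj g).injective])

/-- `N_G(E) ≤ N_G(W)` for `E ≤ A` of order at least `p ^ (k + 1)` -/
theorem Fam.normalizer_le [Finite G] {p k : ℕ} [Fact p.Prime] {A : Subgroup G} {K : G → Subgroup G}
    {X : Subgroup G → Subgroup G} (F : Fam p k A K X) (h : Equi X) {E : Subgroup G} (hE : E ≤ A)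
    (hEc : p ^ (k + 1) ≤ Nat.card E) : normalizer (E : Set G) ≤ normalizer (WW X A (p ^ k) : Set G) := by
  rw [← F.WW_eq hE hEc]
  exact normalizer_le_normalizer_WW h E _

/-- two families (same `X`) on `A`, `A'` with a large intersection have the same `W` -/
theorem Fam.WW_eq_of_inf [Finite G] {p k : ℕ} [Fact p.Prime] {A A' : Subgroup G} {K K' : G → Subgroup G}
    {X : Subgroup G → Subgroup G} (F : Fam p k A K X) (F' : Fam p k A' K' X)
    (h : p ^ (k + 1) ≤ Nat.card ↥(A ⊓ A')) : WW X A (p ^ k) = WW X A' (p ^ k) := by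
  rw [← F.WW_eq inf_le_left h, ← F'.WW_eq inf_le_right h]

/-! ### the standard family `Δ(D)` -/

theorem delta_equi [Finite G] (p : ℕ) [Fact p.Prime] : Equi (fun D : Subgroup G => signalizerDelta p D) := by
  rintro D g _ ⟨y, hy, rfl⟩
  refine mem_iInf.mpr ?_
  rintro ⟨_, ⟨a, ha, rfl⟩, ha1⟩
  have ha1' : a ≠ 1 := by
    rintro rfl
    exact ha1 (map_one _)
  have h1 := Dichotomy.CoreTools.core_conj p a g
  show (MulAut.conj g).toMonoidHom y ∈ centralizerPPrimeCore p (g * a * g⁻¹)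
  rw [h1]
  exact ⟨y, S1299.delta_le p ha ha1' hy, rfl⟩

theorem ofDelta [Finite G] {p k : ℕ} [Fact p.Prime] (hk : 1 ≤ k) {A : Subgroup G}
    (hA : IsElementaryAbelian p A) (hAk : p ^ (k + 2) ≤ Nat.card A)
    (hsolv : ∀ a ∈ A, a ≠ 1 → Group.IsSolvable ↥(centralizerPPrimeCore p a))
    (hbal : ∀ D ≤ A, Nat.card D = p ^ k → ∀ e ∈ A, e ≠ 1 →
      signalizerDelta p D ⊓ centralizer ({e} : Set G) ≤ centralizerPPrimeCore p e) :
    Fam p k A (centralizerPPrimeCore p) (signalizerDelta p) := by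
  have hpp : p.Prime := Fact.out
  have hcomm : ∀ a ∈ A, ∀ b ∈ A, a * b = b * a := fun a ha b hb => by
    have h1 := hA.1.is_comm.comm (⟨a, ha⟩ : A) ⟨b, hb⟩
    exact congrArg Subtype.val h1
  have hApg : IsPGroup p A := fun a => ⟨1, by
    apply Subtype.ext
    have := hA.2 a a.2
    simpa using this⟩
  have hsub : ∀ D : Subgroup G, D ≤ A → p ^ k ≤ Nat.card D → ∃ D₀ ≤ D, Nat.card D₀ = p ^ k := by
    intro D hD hcard
    obtain ⟨m, hm⟩ := IsPGroup.iff_card.mp (hApg.to_le hD)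
    rw [hm] at hcard
    have hkm : k ≤ m := (Nat.pow_le_pow_iff_right hpp.one_lt).mp hcard
    obtain ⟨D₁, hD₁⟩ := Sylow.exists_subgroup_card_pow_prime p
      (show p ^ k ∣ Nat.card D by rw [hm]; exact pow_dvd_pow p hkm)
    refine ⟨D₁.map D.subtype, map_subtype_le D₁, ?_⟩
    rw [card_map_of_injective D.subtype_injective, hD₁]
  refine ⟨hk, hA, hAk, hsolv, ?_, ?_, ?_, ?_, ?_, ?_, ?_⟩
  · intro a _ _ h
    exact (hpp.coprime_iff_not_dvd.mp (CoreOfCentralizer.card_centralizerPPrimeCore_coprime p a).symm) h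
  · intro a ha _ b hb x hx
    have h1 : b ∈ centralizer ({a} : Set G) := by
      rw [mem_centralizer_iff]
      intro y hy
      rw [Set.mem_singleton_iff.mp hy]
      exact hcomm a ha b hb
    exact (mem_normalizer_iff.mp
      (CoreOfCentralizer.centralizer_le_normalizer_centralizerPPrimeCore p a h1) x).mp hx
  · intro a _ _
    exact CoreOfCentralizer.centralizerPPrimeCore_le p a
  · intro D _ _ a ha ha1
    exact S1299.delta_le p ha ha1
  · intro D _ _ a _ _ h _ hh x hx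
    exact S1299.conj_mem_delta p hh hx
  · intro D hD _ b hb x hx
    refine S1299.conj_mem_delta p ?_ hx
    rw [mem_centralizer_iff]
    intro d hd
    exact hcomm d (hD hd) b hb
  · intro D hD hDc E hE _
    obtain ⟨D₀, hD₀, hc⟩ := hsub D hD hDc
    rintro x ⟨hx1, hx2⟩
    refine mem_iInf.mpr ?_
    rintro ⟨e, he, he1⟩
    refine hbal D₀ (hD₀.trans hD) hc e (hE he) he1 ⟨S1299.delta_antitone p hD₀ hx1, ?_⟩
    refine mem_centralizer_singleton_iff.2 ?_
    exact (mem_centralizer_iff.1 hx2 e he).symm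

end Cfsg.Agent.Lib.KFamily
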