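import Mathlib

/-!
Counting tuples one entry at a time, and counting solutions of independent linear systems over
finite fields. Used for counting frames (isotropic, hyperbolic, orthonormal, ...) in classical
geometries.
-/

set_option autoImplicit false

namespace Cfsg.Agent.Lib.TowerCount

section Tower

variable {V : Type*}

/-- Splitting off the last entry of a tuple satisfying `P (n+1)`. -/
def splitEquiv (P : ∀ n, (Fin n → V) → Prop) (n : ℕ)
    (hinit : ∀ v : Fin (n + 1) → V, P (n + 1) v → P n (Fin.init v)) :
    {v : Fin (n + 1) → V // P (n + 1) v} ≃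
      Σ v : {v : Fin n → V // P n v}, {x : V // P (n + 1) (Fin.snoc (α := fun _ => V) v.1 x)} where
  toFun v := ⟨⟨Fin.init v.1, hinit v.1 v.2⟩, ⟨v.1 (Fin.last n), by
    rw [Fin.snoc_init_self]; exact v.2⟩⟩
  invFun w := ⟨Fin.snoc (α := fun _ => V) w.1.1 w.2.1, w.2.2⟩
  left_inv v := by
    apply Subtype.ext
    exact Fin.snoc_init_self _
  right_inv w := by
    obtain ⟨⟨v, hv⟩, ⟨x, hx⟩⟩ := w
    have h1 : Fin.init (Fin.snoc (α := fun _ => V) v x) = v := Fin.init_snoc _ _
    have h2 : (Fin.snoc (α := fun _ => V) v x : Fin (n + 1) → V) (Fin.last n) = x :=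
      Fin.snoc_last _ _
    refine Sigma.ext (Subtype.ext h1) ?_
    simp only
    refine (Subtype.heq_iff_coe_eq ?_).2 h2
    intro y
    rw [h1]

/-- **Tower counting**: if every `n`-tuple satisfying `P n` has exactly `c n` extensions
satisfying `P (n+1)`, the number of `N`-tuples satisfying `P N` is `∏ i < N, c i`. -/
theorem card_tower [Finite V] (P : ∀ n, (Fin n → V) → Prop) (c : ℕ → ℕ) (N : ℕ)
    (h0 : ∀ v, P 0 v)
    (hinit : ∀ n < N, ∀ v : Fin (n + 1) → V, P (n + 1) v → P n (Fin.init v))
    (hc : ∀ n < N, ∀ v : Fin n → V, P n v →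
      Nat.card {x : V // P (n + 1) (Fin.snoc (α := fun _ => V) v x)} = c n) :
    Nat.card {v : Fin N → V // P N v} = ∏ i ∈ Finset.range N, c i := by
  induction N with
  | zero =>
    rw [Finset.prod_range_zero]
    letI : Unique {v : Fin 0 → V // P 0 v} :=
      { default := ⟨Fin.elim0, h0 _⟩
        uniq := fun a => Subtype.ext (Subsingleton.elim _ _) }
    exact Nat.card_unique
  | succ n ih =>
    rw [Finset.prod_range_succ, ← ih (fun k hk => hinit k (hk.trans (Nat.lt_succ_self n)))
      (fun k hk => hc k (hk.trans (Nat.lt_succ_self n))),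
      Nat.card_congr (splitEquiv P n (hinit n (Nat.lt_succ_self n)))]
    have : Finite {v : Fin n → V // P n v} := Subtype.finite
    have := Fintype.ofFinite {v : Fin n → V // P n v}
    rw [Nat.card_sigma, Finset.sum_congr rfl
      (fun v _ => hc n (Nat.lt_succ_self n) v.1 v.2), Finset.sum_const, Finset.card_univ,
      smul_eq_mul, Nat.card_eq_fintype_card]

end Tower

section Linear

variable {F : Type*} [Field F] [Fintype F] {V : Type*} [AddCommGroup V] [Module F V]
  [FiniteDimensional F V]

/-- The number of points of a finite-dimensional space over a finite field. -/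
theorem card_eq_pow (F : Type*) [Field F] [Fintype F] (V : Type*) [AddCommGroup V] [Module F V]
    [FiniteDimensional F V] :
    Nat.card V = Fintype.card F ^ Module.finrank F V := by
  have : Finite V := Module.finite_of_finite F
  have := Fintype.ofFinite V
  rw [Nat.card_eq_fintype_card, Module.card_eq_pow_finrank (K := F)]

/-- The fibres of a linear map over points of its range all have the size of the kernel. -/
theorem card_fiber_eq {W : Type*} [AddCommGroup W] [Module F W] (L : V →ₗ[F] W) (x₀ : V) :
    Nat.card {x : V // L x = L x₀} = Fintype.card F ^ Module.finrank F (LinearMap.ker L) := by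
  rw [← card_eq_pow F (LinearMap.ker L)]
  refine Nat.card_congr
    { toFun := fun x => ⟨x.1 - x₀, by rw [LinearMap.mem_ker, map_sub, x.2, sub_self]⟩
      invFun := fun y => ⟨y.1 + x₀, by rw [map_add, LinearMap.mem_ker.1 y.2, zero_add]⟩
      left_inv := fun x => Subtype.ext (by simp)
      right_inv := fun y => Subtype.ext (by simp) }

omit [Fintype F] [FiniteDimensional F V] in
/-- A linear map given by linearly independent functionals is surjective. -/
theorem pi_surjective {ι : Type*} [Finite ι] {φ : ι → Module.Dual F V}
    (hφ : LinearIndependent F φ) : Function.Surjective (LinearMap.pi φ) := by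
  classical
  have := Fintype.ofFinite ι
  rw [← LinearMap.range_eq_top]
  by_contra hne
  obtain ⟨f, hf, hle⟩ := Submodule.exists_le_ker_of_lt_top _ (lt_top_iff_ne_top.2 hne)
  have h1 : ∑ i, f (Pi.single i 1) • φ i = 0 := by
    ext x
    have h2 : f (LinearMap.pi φ x) = 0 := hle ⟨x, rfl⟩
    have h3 : f (LinearMap.pi φ x) = ∑ i, (φ i x) * f (Pi.single i 1) := by
      rw [LinearMap.pi_apply_eq_sum_univ f (LinearMap.pi φ x)]
      refine Finset.sum_congr rfl fun i _ => ?_
      have h4 : (fun j => if i = j then (1 : F) else 0) = Pi.single i 1 := by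
        ext j
        by_cases hij : i = j
        · subst hij; simp
        · rw [if_neg hij, Pi.single_eq_of_ne (Ne.symm hij)]
      rw [h4, LinearMap.pi_apply, smul_eq_mul]
    rw [h2] at h3
    simp only [LinearMap.sum_apply, LinearMap.smul_apply, smul_eq_mul, LinearMap.zero_apply]
    rw [h3]
    exact Finset.sum_congr rfl fun i _ => mul_comm _ _
  have h4 := Fintype.linearIndependent_iff.1 hφ _ h1
  apply hf
  refine LinearMap.pi_ext' fun i => LinearMap.ext_ring ?_
  simpa using h4 i

omit [Fintype F] in
/-- The solution space of an independent homogeneous system. -/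
theorem finrank_ker_pi {ι : Type*} [Fintype ι] {φ : ι → Module.Dual F V}
    (hφ : LinearIndependent F φ) :
    Module.finrank F (LinearMap.ker (LinearMap.pi φ)) =
      Module.finrank F V - Fintype.card ι := by
  have h3 := LinearMap.finrank_range_add_finrank_ker (LinearMap.pi φ)
  rw [LinearMap.range_eq_top.2 (pi_surjective hφ), finrank_top,
    Module.finrank_fintype_fun_eq_card] at h3
  omega

/-- The number of solutions of an independent linear system. -/
theorem card_dual_solutions {ι : Type*} [Fintype ι] {φ : ι → Module.Dual F V}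
    (hφ : LinearIndependent F φ) (c : ι → F) :
    Nat.card {x : V // ∀ i, φ i x = c i} =
      Fintype.card F ^ (Module.finrank F V - Fintype.card ι) := by
  obtain ⟨x₀, hx₀⟩ := pi_surjective hφ c
  have h := card_fiber_eq (LinearMap.pi φ) x₀
  rw [finrank_ker_pi hφ] at h
  rw [← h]
  refine Nat.card_congr (Equiv.subtypeEquivRight fun x => ?_)
  rw [hx₀, funext_iff]
  rfl

end Linear

end Cfsg.Agent.Lib.TowerCount
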