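/-
Kernel-fast matrices modulo `p` (any `n`, `p`), by Kronecker packing.

Digits have `s` bits.  A row vector `a` (length `n`) is the natural number `∑ a_j 2^(s (n-1-j))`; a matrix `g` is the
natural number `∑ g_jk 2^(s (j + n k))`.  The product of a row by a matrix is one big multiplication, one mask
(positions `n-1+n k`), one `mod (2^(s(n+1)) - 1)` (gathers the result row) and a digitwise reduction modulo `p`.

Main results:
* `step_spec`  : soundness of `step` (row times matrix);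
* `runWord_spec` : soundness of a word;
* `prod_eq_of_check` : equality of two products of matrices from a kernel check.
-/
import Mathlib

set_option autoImplicit false

namespace Cfsg.Agent.Lib.PackMat

open Finset

/-! ### Digits -/

/-- The `i`-th digit of `X` in base `2^s`. -/
def dg (s X i : ℕ) : ℕ := X / 2 ^ (s * i) % 2 ^ s

/-- The number with "digits" `f i` (not necessarily smaller than the base). -/
def E (s : ℕ) (f : ℕ → ℕ) (L : ℕ) : ℕ := ∑ i ∈ range L, f i * 2 ^ (s * i)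

theorem dg_def (s X i : ℕ) : dg s X i = X / 2 ^ (s * i) % 2 ^ s := rfl

theorem E_def (s : ℕ) (f : ℕ → ℕ) (L : ℕ) : E s f L = ∑ i ∈ range L, f i * 2 ^ (s * i) := rfl

theorem E_zero (s : ℕ) (f : ℕ → ℕ) : E s f 0 = 0 := by simp [E_def]

theorem E_succ (s : ℕ) (f : ℕ → ℕ) (L : ℕ) : E s f (L + 1) = E s f L + f L * 2 ^ (s * L) := by
  rw [E_def, sum_range_succ, ← E_def]

theorem E_congr {s : ℕ} {f g : ℕ → ℕ} {L : ℕ} (h : ∀ i < L, f i = g i) : E s f L = E s g L := by
  rw [E_def, E_def]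
  exact sum_congr rfl fun i hi => by rw [h i (mem_range.mp hi)]

theorem E_add (s : ℕ) (f g : ℕ → ℕ) (L : ℕ) : E s f L + E s g L = E s (fun i => f i + g i) L := by
  rw [E_def, E_def, E_def, ← sum_add_distrib]
  exact sum_congr rfl fun i _ => by ring

theorem E_mul_const (s : ℕ) (f : ℕ → ℕ) (L c : ℕ) : E s f L * c = E s (fun i => f i * c) L := by
  rw [E_def, E_def, sum_mul]
  exact sum_congr rfl fun i _ => by ring

theorem E_lt {s : ℕ} {f : ℕ → ℕ} {L : ℕ} (h : ∀ i < L, f i < 2 ^ s) : E s f L < 2 ^ (s * L) := by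
  induction L with
  | zero => simp [E_zero]
  | succ L ih =>
    have h1 := ih fun i hi => h i (Nat.lt_succ_of_lt hi)
    have h2 := h L (Nat.lt_succ_self L)
    rw [E_succ]
    have h3 : 2 ^ (s * (L + 1)) = 2 ^ (s * L) * 2 ^ s := by rw [← pow_add]; ring_nf
    rw [h3]
    nlinarith [Nat.two_pow_pos (s * L)]

theorem dg_lt (s X i : ℕ) : dg s X i < 2 ^ s := Nat.mod_lt _ (Nat.two_pow_pos s)

theorem dg_eq_zero {s X i L : ℕ} (hX : X < 2 ^ (s * L)) (hi : L ≤ i) : dg s X i = 0 := by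
  rw [dg_def, Nat.div_eq_of_lt, Nat.zero_mod]
  exact lt_of_lt_of_le hX (Nat.pow_le_pow_right (by norm_num) (Nat.mul_le_mul_left s hi))

theorem dg_E {s : ℕ} {f : ℕ → ℕ} {L i : ℕ} (h : ∀ i < L, f i < 2 ^ s) (hi : i < L) :
    dg s (E s f L) i = f i := by
  induction L with
  | zero => omega
  | succ L ih =>
    have h1 := fun i hi => h i (Nat.lt_succ_of_lt hi)
    rw [E_succ]
    rcases Nat.lt_succ_iff_lt_or_eq.mp hi with h3 | rfl
    · rw [← ih h1 h3, dg_def, dg_def]
      have e : 2 ^ (s * L) = 2 ^ (s * i) * (2 ^ s * 2 ^ (s * (L - i - 1))) := by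
        rw [← pow_add, ← pow_add]
        congr 1
        obtain ⟨k, rfl⟩ := Nat.exists_eq_add_of_lt h3
        have : i + k + 1 - i - 1 = k := by omega
        rw [this]
        ring
      rw [e, show f L * (2 ^ (s * i) * (2 ^ s * 2 ^ (s * (L - i - 1)))) =
        2 ^ (s * i) * (2 ^ s * (f L * 2 ^ (s * (L - i - 1)))) by ring,
        Nat.add_mul_div_left _ _ (Nat.two_pow_pos _), Nat.add_mul_mod_self_left]
    · rw [dg_def, Nat.add_mul_div_right _ _ (Nat.two_pow_pos _), Nat.div_eq_of_lt (E_lt h1), zero_add,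
        Nat.mod_eq_of_lt (h i hi)]

theorem E_dg_mod (s X L : ℕ) : E s (dg s X) L = X % 2 ^ (s * L) := by
  induction L with
  | zero => simp [E_zero, Nat.mod_one]
  | succ L ih =>
    rw [E_succ, ih, dg_def, Nat.mul_succ, pow_add, Nat.mod_mul]
    ring

theorem E_dg {s X L : ℕ} (hX : X < 2 ^ (s * L)) : E s (dg s X) L = X := by
  rw [E_dg_mod, Nat.mod_eq_of_lt hX]

theorem ext_dg {s X Y L : ℕ} (hX : X < 2 ^ (s * L)) (hY : Y < 2 ^ (s * L))
    (h : ∀ i < L, dg s X i = dg s Y i) : X = Y := by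
  rw [← E_dg hX, ← E_dg hY]
  exact E_congr h

/-! ### Bitwise operations -/

theorem testBit_dg (s X i j : ℕ) : (dg s X i).testBit j = (decide (j < s) && X.testBit (s * i + j)) := by
  rw [dg_def, Nat.testBit_mod_two_pow, Nat.testBit_div_two_pow, Nat.add_comm]

theorem dg_land (s X Y i : ℕ) : dg s (X &&& Y) i = dg s X i &&& dg s Y i := by
  apply Nat.eq_of_testBit_eq
  intro j
  simp only [testBit_dg, Nat.testBit_and]
  cases decide (j < s) <;> simp

theorem dg_shift_land {s r X Y i : ℕ} (hr : r ≤ s) (hY : dg s Y i = 2 ^ (s - r) - 1) :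
    dg s ((X >>> r) &&& Y) i = dg s X i / 2 ^ r := by
  apply Nat.eq_of_testBit_eq
  intro j
  rw [dg_land, hY, Nat.testBit_and, Nat.testBit_two_pow_sub_one, Nat.testBit_div_two_pow]
  simp only [testBit_dg, Nat.testBit_shiftRight]
  by_cases h : j < s - r
  · have h1 : j < s := by omega
    have h2 : j + r < s := by omega
    have h3 : r + (s * i + j) = s * i + (j + r) := by ring
    simp [h, h1, h2, h3]
  · have h2 : ¬ (j + r < s) := by omega
    simp [h, h2]

/-- The number with `L` equal digits `1`. -/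
def rep (s L : ℕ) : ℕ := (2 ^ (s * L) - 1) / (2 ^ s - 1)

theorem rep_def (s L : ℕ) : rep s L = (2 ^ (s * L) - 1) / (2 ^ s - 1) := rfl

theorem rep_eq {s : ℕ} (hs : 0 < s) (L : ℕ) : rep s L = E s (fun _ => 1) L := by
  have h1 : 2 ^ s - 1 ≠ 0 := by
    have := Nat.one_lt_two_pow (n := s) (by omega)
    omega
  have h2 : (2 ^ s - 1) * E s (fun _ => 1) L = 2 ^ (s * L) - 1 := by
    induction L with
    | zero => simp [E_zero]
    | succ L ih =>
      rw [E_succ, mul_add, ih, one_mul, Nat.mul_succ, pow_add]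
      have h3 := Nat.one_le_two_pow (n := s)
      have h4 := Nat.one_le_two_pow (n := s * L)
      zify [h3, h4, Nat.one_le_iff_ne_zero.mpr (Nat.mul_ne_zero (Nat.two_pow_pos (s * L)).ne'
        (Nat.two_pow_pos s).ne')]
      ring
  rw [rep_def, ← h2, Nat.mul_div_cancel_left _ (Nat.pos_of_ne_zero h1)]

theorem rep_mul {s : ℕ} (hs : 0 < s) (L c : ℕ) : c * rep s L = E s (fun _ => c) L := by
  rw [rep_eq hs, mul_comm, E_mul_const]
  exact E_congr fun i _ => by simp

theorem dg_rep {s L i c : ℕ} (hs : 0 < s) (hc : c < 2 ^ s) (hi : i < L) :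
    dg s (c * rep s L) i = c := by
  rw [rep_mul hs, dg_E (fun _ _ => hc) hi]

theorem rep_lt {s L c : ℕ} (hs : 0 < s) (hc : c < 2 ^ s) : c * rep s L < 2 ^ (s * L) := by
  rw [rep_mul hs]
  exact E_lt fun _ _ => hc

theorem land_lt {X Y b : ℕ} (h : Y < b) : X &&& Y < b := lt_of_le_of_lt Nat.and_le_right h

/-- Masking each of the first `L` digits with `c`. -/
theorem land_rep {s L c : ℕ} (hs : 0 < s) (hc : c < 2 ^ s) (X : ℕ) :
    X &&& (c * rep s L) = E s (fun i => dg s X i &&& c) L := by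
  have h1 : ∀ i < L, (dg s X i &&& c) < 2 ^ s := fun i _ => land_lt hc
  apply ext_dg (s := s) (L := L) (land_lt (rep_lt hs hc)) (E_lt h1)
  intro i hi
  rw [dg_E h1 hi, dg_land, dg_rep hs hc hi]

/-- Digitwise quotient by `2^r`. -/
theorem shift_land_rep {s r L : ℕ} (hs : 0 < s) (hr : r ≤ s) (X : ℕ) :
    (X >>> r) &&& ((2 ^ (s - r) - 1) * rep s L) = E s (fun i => dg s X i / 2 ^ r) L := by
  have hc : 2 ^ (s - r) - 1 < 2 ^ s := by
    have h1 : 2 ^ (s - r) ≤ 2 ^ s := Nat.pow_le_pow_right (by norm_num) (by omega)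
    have h2 := Nat.two_pow_pos (s - r)
    omega
  have h1 : ∀ i < L, dg s X i / 2 ^ r < 2 ^ s := fun i _ =>
    lt_of_le_of_lt (Nat.div_le_self _ _) (dg_lt s X i)
  apply ext_dg (s := s) (L := L) (land_lt (rep_lt hs hc)) (E_lt h1)
  intro i hi
  rw [dg_E h1 hi, dg_shift_land hr (dg_rep hs hc hi)]

/-! ### Convolution -/

theorem shifted_sum {s G L N i : ℕ} (hG : G < 2 ^ (s * L)) (hi : i + L ≤ N) :
    ∑ l ∈ range N, (if i ≤ l then dg s G (l - i) else 0) * 2 ^ (s * l) = 2 ^ (s * i) * G := by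
  obtain ⟨k, rfl⟩ := Nat.exists_eq_add_of_le hi
  rw [add_assoc, sum_range_add]
  have h1 : ∑ l ∈ range i, (if i ≤ l then dg s G (l - i) else 0) * 2 ^ (s * l) = 0 := by
    apply sum_eq_zero
    intro l hl
    rw [if_neg (by have := mem_range.mp hl; omega), zero_mul]
  have h2 : ∀ x ∈ range (L + k), (if i ≤ i + x then dg s G (i + x - i) else 0) * 2 ^ (s * (i + x)) =
      2 ^ (s * i) * (dg s G x * 2 ^ (s * x)) := by
    intro x _
    rw [if_pos (by omega), Nat.add_sub_cancel_left, mul_add, pow_add]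
    ring
  rw [h1, zero_add, sum_congr rfl h2, ← mul_sum, ← E_def, E_dg]
  exact lt_of_lt_of_le hG (Nat.pow_le_pow_right (by norm_num) (Nat.mul_le_mul_left s (by omega)))

/-- The digits of a product before carrying. -/
def conv (s R G n l : ℕ) : ℕ := ∑ i ∈ range n, dg s R i * (if i ≤ l then dg s G (l - i) else 0)

theorem conv_def (s R G n l : ℕ) :
    conv s R G n l = ∑ i ∈ range n, dg s R i * (if i ≤ l then dg s G (l - i) else 0) := rfl

theorem mul_eq_conv {s R G n L : ℕ} (hR : R < 2 ^ (s * n)) (hG : G < 2 ^ (s * L)) :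
    R * G = E s (conv s R G n) (n + L) := by
  calc R * G = E s (dg s R) n * G := by rw [E_dg hR]
    _ = ∑ i ∈ range n, dg s R i * (2 ^ (s * i) * G) := by
        rw [E_def, sum_mul]
        exact sum_congr rfl fun i _ => by ring
    _ = ∑ i ∈ range n, ∑ l ∈ range (n + L),
          dg s R i * ((if i ≤ l then dg s G (l - i) else 0) * 2 ^ (s * l)) := by
        apply sum_congr rfl
        intro i hi
        rw [← shifted_sum (N := n + L) hG (by have := mem_range.mp hi; omega), mul_sum]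
    _ = E s (conv s R G n) (n + L) := by
        rw [sum_comm, E_def]
        apply sum_congr rfl
        intro l _
        rw [conv_def, sum_mul]
        exact sum_congr rfl fun i _ => by ring

theorem dg_mul {s R G n L l : ℕ} (hR : R < 2 ^ (s * n)) (hG : G < 2 ^ (s * L))
    (hb : ∀ l, conv s R G n l < 2 ^ s) (hl : l < n + L) : dg s (R * G) l = conv s R G n l := by
  rw [mul_eq_conv hR hG, dg_E (fun i _ => hb i) hl]

theorem conv_le {s R G n a b : ℕ} (hR : ∀ i < n, dg s R i ≤ a) (hG : ∀ i, dg s G i ≤ b) (l : ℕ) :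
    conv s R G n l ≤ n * (a * b) := by
  rw [conv_def]
  calc _ ≤ ∑ i ∈ range n, a * b := by
        apply sum_le_sum
        intro i hi
        apply Nat.mul_le_mul (hR i (mem_range.mp hi))
        split_ifs
        · exact hG _
        · exact Nat.zero_le _
    _ = n * (a * b) := by simp

/-- The digit of the product at position `n - 1 + n k` is a matrix entry. -/
theorem conv_at {s R G n k : ℕ} :
    conv s R G n (n - 1 + n * k) = ∑ j ∈ range n, dg s R (n - 1 - j) * dg s G (j + n * k) := by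
  rw [conv_def, ← sum_range_reflect]
  apply sum_congr rfl
  intro j hj
  have := mem_range.mp hj
  rw [if_pos (by omega)]
  congr 2
  omega

/-! ### Gathering -/

/-- The mask selecting the positions `n - 1 + n k`. -/
def gmask (s n : ℕ) : ℕ := ((2 ^ s - 1) * 2 ^ (s * (n - 1))) * rep (s * n) n

theorem gmask_def (s n : ℕ) :
    gmask s n = ((2 ^ s - 1) * 2 ^ (s * (n - 1))) * rep (s * n) n := rfl

theorem land_top {a s y : ℕ} (hy : y < 2 ^ (a + s)) :
    y &&& ((2 ^ s - 1) * 2 ^ a) = (y / 2 ^ a) * 2 ^ a := by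
  apply Nat.eq_of_testBit_eq
  intro j
  rw [Nat.testBit_and, Nat.testBit_mul_two_pow, Nat.testBit_mul_two_pow, Nat.testBit_two_pow_sub_one,
    Nat.testBit_div_two_pow]
  by_cases h : a ≤ j
  · by_cases h2 : j - a < s
    · simp [h, h2, Nat.sub_add_cancel h]
    · have h3 : y.testBit j = false := by
        apply Nat.testBit_lt_two_pow
        exact lt_of_lt_of_le hy (Nat.pow_le_pow_right (by norm_num) (by omega))
      simp [h, h2, Nat.sub_add_cancel h, h3]
  · simp [h]

theorem dg_top {s n X k : ℕ} (hn : 0 < n) :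
    dg (s * n) X k / 2 ^ (s * (n - 1)) = dg s X (n - 1 + n * k) := by
  apply Nat.eq_of_testBit_eq
  intro j
  rw [Nat.testBit_div_two_pow, testBit_dg, testBit_dg]
  have h1 : s * n * k + (j + s * (n - 1)) = s * (n - 1 + n * k) + j := by ring
  have h2 : (j + s * (n - 1) < s * n) ↔ j < s := by
    obtain ⟨m, rfl⟩ := Nat.exists_eq_succ_of_ne_zero hn.ne'
    simp only [Nat.succ_eq_add_one, Nat.add_sub_cancel]
    rw [Nat.mul_succ, Nat.add_comm, Nat.add_lt_add_iff_left]
  rw [h1, decide_eq_decide.mpr h2]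

theorem land_gmask {s n X : ℕ} (hs : 0 < s) (hn : 0 < n) :
    X &&& gmask s n = ∑ k ∈ range n, dg s X (n - 1 + n * k) * 2 ^ (s * (n - 1 + n * k)) := by
  have hsn : 0 < s * n := Nat.mul_pos hs hn
  have e : s * (n - 1) + s = s * n := by
    obtain ⟨m, rfl⟩ := Nat.exists_eq_succ_of_ne_zero hn.ne'
    simp only [Nat.succ_eq_add_one, Nat.add_sub_cancel]
    ring
  have hc : (2 ^ s - 1) * 2 ^ (s * (n - 1)) < 2 ^ (s * n) := by
    rw [← e, pow_add, mul_comm]
    apply Nat.mul_lt_mul_of_pos_left _ (Nat.two_pow_pos _)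
    have := Nat.two_pow_pos s
    omega
  rw [gmask_def, land_rep hsn hc, E_def]
  apply sum_congr rfl
  intro k _
  rw [land_top (by rw [e]; exact dg_lt _ _ _), dg_top hn, mul_assoc, ← pow_add]
  congr 2
  ring

/-- Folding modulo `2^(s(n+1)) - 1` gathers the digits at the positions `n - 1 + n k`. -/
theorem gather_mod {s n : ℕ} (hs : 0 < s) (hn : 0 < n) (c : ℕ → ℕ) (hc : ∀ k < n, c k < 2 ^ s) :
    (∑ k ∈ range n, c k * 2 ^ (s * (n - 1 + n * k))) % (2 ^ (s * (n + 1)) - 1) =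
      E s (fun i => c (n - 1 - i)) n := by
  have hlt : E s (fun i => c (n - 1 - i)) n < 2 ^ (s * n) := by
    apply E_lt
    intro i hi
    exact hc _ (by omega)
  have h1 : 2 ^ (s * n) ≤ 2 ^ (s * (n + 1)) - 1 := by
    have h2 : 2 ^ (s * n) < 2 ^ (s * (n + 1)) :=
      Nat.pow_lt_pow_right (by norm_num) (by rw [Nat.mul_succ]; omega)
    omega
  rw [← Nat.mod_eq_of_lt (lt_of_lt_of_le hlt h1)]
  change Nat.ModEq _ _ _
  have e0 : E s (fun i => c (n - 1 - i)) n =
      ∑ k ∈ range n, c (n - 1 - (n - 1 - k)) * 2 ^ (s * (n - 1 - k)) := by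
    rw [E_def]
    exact (sum_range_reflect (fun i => c (n - 1 - i) * 2 ^ (s * i)) n).symm
  rw [e0]
  have key : ∀ k ∈ range n, c k * 2 ^ (s * (n - 1 + n * k)) ≡
      c (n - 1 - (n - 1 - k)) * 2 ^ (s * (n - 1 - k)) [MOD 2 ^ (s * (n + 1)) - 1] := by
    intro k hk
    have hk' := mem_range.mp hk
    have e1 : n - 1 - (n - 1 - k) = k := by omega
    have e2 : s * (n - 1 + n * k) = s * (n - 1 - k) + s * (n + 1) * k := by
      have : n - 1 + n * k = n - 1 - k + (n + 1) * k := by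
        obtain ⟨d, hd⟩ := Nat.exists_eq_add_of_le (show k ≤ n - 1 by omega)
        rw [hd, Nat.add_sub_cancel_left]
        ring
      rw [this]
      ring
    rw [e1, e2, pow_add, ← mul_assoc, pow_mul 2 (s * (n + 1)) k]
    have e3 : 2 ^ (s * (n + 1)) ≡ 1 [MOD 2 ^ (s * (n + 1)) - 1] := by
      have h4 : 2 ^ (s * (n + 1)) = (2 ^ (s * (n + 1)) - 1) + 1 := by
        have := Nat.two_pow_pos (s * (n + 1))
        omega
      conv_lhs => rw [h4]
      exact Nat.ModEq.trans (Nat.ModEq.add_right 1 (Nat.modEq_zero_iff_dvd.mpr dvd_rfl)) (by rfl)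
    have h5 := Nat.ModEq.mul_left (c k * 2 ^ (s * (n - 1 - k))) (e3.pow k)
    rw [one_pow, mul_one] at h5
    exact h5
  exact Nat.ModEq.sum key

/-! ### Configurations and the kernel functions -/

/-- Parameters: dimension `n`, digit width `s`, modulus `p`, entries of matrices `≤ 2^w - 1`, `nf` foldings with
`2^r = 1` modulo `p`, quotient by `p` as `x * m / 2^t`. -/
structure Cfg where
  n : ℕ
  s : ℕ
  p : ℕ
  w : ℕ
  nf : ℕ
  r : ℕ
  m : ℕ
  t : ℕ

/-- Bound for a digit after one folding. -/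
def foldBound (r b : ℕ) : ℕ := (2 ^ r - 1) + b / 2 ^ r

/-- Bound for a digit after `k` foldings. -/
def foldBoundIter (r : ℕ) : ℕ → ℕ → ℕ
  | 0, b => b
  | k + 1, b => foldBoundIter r k (foldBound r b)

/-- Evaluate `e` before passing it to `k` (in the kernel). -/
noncomputable def force {α : Type} (e : ℕ) (k : ℕ → α) : α :=
  Nat.rec (motive := fun _ => α) (k 0) (fun m _ => k m) (Nat.add e 1)

theorem force_eq {α : Type} (e : ℕ) (k : ℕ → α) : force e k = k e := rfl

/-- `f x` holds for all `x < k`. -/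
noncomputable def allBelow (f : ℕ → Bool) (k : ℕ) : Bool :=
  Nat.rec (motive := fun _ => Bool) true (fun x ih => bif f x then ih else false) k

theorem allBelow_spec {f : ℕ → Bool} {k : ℕ} (h : allBelow f k = true) : ∀ x < k, f x = true := by
  induction k with
  | zero => intro x hx; omega
  | succ k ih =>
    change (bif f k then allBelow f k else false) = true at h
    intro x hx
    cases hb : f k with
    | false => rw [hb] at h; simp at h
    | true =>
      rw [hb, cond_true] at h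
      rcases Nat.lt_succ_iff_lt_or_eq.mp hx with h1 | rfl
      · exact ih h x h1
      · exact hb

/-- Check that the parameters are correct (evaluate with `decide +kernel`). -/
noncomputable def Cfg.good (C : Cfg) : Bool :=
  decide (0 < C.n) && decide (0 < C.s) && decide (0 < C.p) && decide (C.p ≤ 2 ^ C.w) && decide (C.r ≤ C.s) &&
  decide (C.t ≤ C.s) && decide (C.nf = 0 ∨ (2 ^ C.r) % C.p = 1 % C.p) &&
  decide (C.n * ((C.p - 1) * (2 ^ C.w - 1)) < 2 ^ C.s) && decide (C.w ≤ C.s) &&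
  decide (foldBoundIter C.r C.nf (C.n * ((C.p - 1) * (2 ^ C.w - 1))) * C.m < 2 ^ C.s) &&
  force C.m (fun m => force (2 ^ C.t) fun q => force C.p fun p =>
    allBelow (fun x => Nat.beq (Nat.div (Nat.mul x m) q) (Nat.div x p))
      (foldBoundIter C.r C.nf (C.n * ((C.p - 1) * (2 ^ C.w - 1))) + 1))

/-- `nf` foldings. -/
noncomputable def foldK (r LO HI : ℕ) : ℕ → ℕ → ℕ
  | 0, F => F
  | k + 1, F => force (Nat.add (Nat.land F LO) (Nat.land (Nat.shiftRight F r) HI)) fun F' => foldK r LO HI k F'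

/-- One step: row times matrix. -/
noncomputable def stepK (p r m t nf GM FM LO HI HT : ℕ) (R G : ℕ) : ℕ :=
  force (Nat.mod (Nat.land (Nat.mul R G) GM) FM) fun F =>
  force (foldK r LO HI nf F) fun F =>
  Nat.sub F (Nat.mul p (Nat.land (Nat.shiftRight (Nat.mul F m) t) HT))

/-- A word: row times a product of matrices. -/
noncomputable def runK (p r m t nf GM FM LO HI HT : ℕ) : List ℕ → ℕ → ℕ
  | [], R => R
  | g :: gs, R => force (stepK p r m t nf GM FM LO HI HT R g) fun R' =>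
      runK p r m t nf GM FM LO HI HT gs R'

noncomputable def GMc (C : Cfg) : ℕ := gmask C.s C.n
noncomputable def FMc (C : Cfg) : ℕ := 2 ^ (C.s * (C.n + 1)) - 1
noncomputable def LOc (C : Cfg) : ℕ := (2 ^ C.r - 1) * rep C.s C.n
noncomputable def HIc (C : Cfg) : ℕ := (2 ^ (C.s - C.r) - 1) * rep C.s C.n
noncomputable def HTc (C : Cfg) : ℕ := (2 ^ (C.s - C.t) - 1) * rep C.s C.n

/-- Run a word with the constants of the configuration. -/
noncomputable def run (C : Cfg) (w : List ℕ) (R : ℕ) : ℕ :=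
  runK C.p C.r C.m C.t C.nf (GMc C) (FMc C) (LOc C) (HIc C) (HTc C) w R

/-- One step with the constants of the configuration. -/
noncomputable def step (C : Cfg) (R G : ℕ) : ℕ :=
  stepK C.p C.r C.m C.t C.nf (GMc C) (FMc C) (LOc C) (HIc C) (HTc C) R G

theorem run_nil (C : Cfg) (R : ℕ) : run C [] R = R := rfl

theorem run_cons (C : Cfg) (g : ℕ) (gs : List ℕ) (R : ℕ) : run C (g :: gs) R = run C gs (step C R g) := rfl

/-! ### Semantics -/

/-- The row vector encoded by `R`. -/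
def rowVec (C : Cfg) (R : ℕ) : Fin C.n → ZMod C.p := fun j => (dg C.s R (C.n - 1 - j) : ZMod C.p)

/-- The matrix encoded by `G`. -/
def mat (C : Cfg) (G : ℕ) : Matrix (Fin C.n) (Fin C.n) (ZMod C.p) :=
  fun j k => (dg C.s G (j + C.n * k) : ZMod C.p)

theorem rowVec_def (C : Cfg) (R : ℕ) (j : Fin C.n) : rowVec C R j = (dg C.s R (C.n - 1 - j) : ZMod C.p) := rfl

theorem mat_def (C : Cfg) (G : ℕ) (j k : Fin C.n) : mat C G j k = (dg C.s G (j + C.n * k) : ZMod C.p) := rfl

/-- Valid row: all digits are reduced modulo `p`. -/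
def OkR (C : Cfg) (R : ℕ) : Prop := R < 2 ^ (C.s * C.n) ∧ ∀ i < C.n, dg C.s R i < C.p

/-- Kernel check of a matrix code. -/
noncomputable def okG (C : Cfg) (G : ℕ) : Bool := Nat.beq (Nat.land G ((2 ^ C.w - 1) * rep C.s (C.n * C.n))) G

structure Good (C : Cfg) : Prop where
  hn : 0 < C.n
  hs : 0 < C.s
  hp : 0 < C.p
  hw : C.p ≤ 2 ^ C.w
  hr : C.r ≤ C.s
  ht : C.t ≤ C.s
  hfold : C.nf = 0 ∨ (2 ^ C.r) % C.p = 1 % C.p
  hb : C.n * ((C.p - 1) * (2 ^ C.w - 1)) < 2 ^ C.s
  hws : C.w ≤ C.s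
  hm : foldBoundIter C.r C.nf (C.n * ((C.p - 1) * (2 ^ C.w - 1))) * C.m < 2 ^ C.s
  hq : ∀ x < foldBoundIter C.r C.nf (C.n * ((C.p - 1) * (2 ^ C.w - 1))) + 1, x * C.m / 2 ^ C.t = x / C.p

theorem good_of_check {C : Cfg} (h : C.good = true) : Good C := by
  unfold Cfg.good at h
  simp only [Bool.and_eq_true, decide_eq_true_eq] at h
  obtain ⟨⟨⟨⟨⟨⟨⟨⟨⟨⟨h1, h2⟩, h3⟩, h4⟩, h5⟩, h6⟩, h7⟩, h8⟩, h9⟩, h10⟩, h11⟩ := h
  simp only [force_eq] at h11
  exact ⟨h1, h2, h3, h4, h5, h6, h7, h8, h9, h10, fun x hx =>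
    Nat.eq_of_beq_eq_true (allBelow_spec h11 x hx)⟩

theorem okG_spec {C : Cfg} (hC : Good C) {G : ℕ} (h : okG C G = true) :
    G < 2 ^ (C.s * (C.n * C.n)) ∧ ∀ i, dg C.s G i ≤ 2 ^ C.w - 1 := by
  have h1 : G &&& ((2 ^ C.w - 1) * rep C.s (C.n * C.n)) = G := Nat.eq_of_beq_eq_true h
  have hc : 2 ^ C.w - 1 < 2 ^ C.s := by
    have h2 := Nat.pow_le_pow_right (n := 2) (by norm_num) hC.hws
    have h3 := Nat.two_pow_pos C.w
    omega
  have hlt : G < 2 ^ (C.s * (C.n * C.n)) := by
    rw [← h1]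
    exact land_lt (rep_lt hC.hs hc)
  refine ⟨hlt, fun i => ?_⟩
  by_cases hi : i < C.n * C.n
  · rw [← h1, dg_land, dg_rep hC.hs hc hi]
    exact Nat.and_le_right
  · rw [dg_eq_zero hlt (by omega)]
    exact Nat.zero_le _

/-- Effect of one folding on digits. -/
theorem fold_spec {C : Cfg} (hC : Good C) {F b : ℕ} (_hF : F < 2 ^ (C.s * C.n))
    (hb : ∀ i < C.n, dg C.s F i ≤ b) (hf : (2 ^ C.r) % C.p = 1 % C.p) :
    let F' := (F &&& LOc C) + ((F >>> C.r) &&& HIc C)
    F' < 2 ^ (C.s * C.n) ∧ (∀ i < C.n, dg C.s F' i ≤ foldBound C.r b) ∧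
      ∀ i < C.n, ((dg C.s F' i : ℕ) : ZMod C.p) = (dg C.s F i : ZMod C.p) := by
  intro F'
  have hc : 2 ^ C.r - 1 < 2 ^ C.s := by
    have h2 := Nat.pow_le_pow_right (n := 2) (by norm_num) hC.hr
    have h3 := Nat.two_pow_pos C.r
    omega
  have e1 : F' = E C.s (fun i => dg C.s F i % 2 ^ C.r + dg C.s F i / 2 ^ C.r) C.n := by
    change (F &&& ((2 ^ C.r - 1) * rep C.s C.n)) + ((F >>> C.r) &&& ((2 ^ (C.s - C.r) - 1) * rep C.s C.n)) = _
    rw [land_rep hC.hs hc, shift_land_rep hC.hs hC.hr, E_add]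
    apply E_congr
    intro i _
    rw [Nat.and_two_pow_sub_one_eq_mod]
  have hle : ∀ x : ℕ, x % 2 ^ C.r + x / 2 ^ C.r ≤ x := by
    intro x
    have h1 := Nat.mod_add_div x (2 ^ C.r)
    have h2 : x / 2 ^ C.r ≤ 2 ^ C.r * (x / 2 ^ C.r) := Nat.le_mul_of_pos_left _ (Nat.two_pow_pos _)
    omega
  have hlt : ∀ i < C.n, dg C.s F i % 2 ^ C.r + dg C.s F i / 2 ^ C.r < 2 ^ C.s := fun i _ =>
    lt_of_le_of_lt (hle _) (dg_lt _ _ _)
  have e2 : ∀ i < C.n, dg C.s F' i = dg C.s F i % 2 ^ C.r + dg C.s F i / 2 ^ C.r := by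
    intro i hi
    rw [e1, dg_E hlt hi]
  refine ⟨?_, ?_, ?_⟩
  · rw [e1]
    exact E_lt hlt
  · intro i hi
    rw [e2 i hi]
    have h1 : dg C.s F i % 2 ^ C.r ≤ 2 ^ C.r - 1 := by
      have := Nat.mod_lt (dg C.s F i) (Nat.two_pow_pos C.r)
      omega
    have h2 : dg C.s F i / 2 ^ C.r ≤ b / 2 ^ C.r := Nat.div_le_div_right (hb i hi)
    unfold foldBound
    omega
  · intro i hi
    rw [e2 i hi]
    have h1 : (2 : ZMod C.p) ^ C.r = 1 := by
      have := (ZMod.natCast_eq_natCast_iff _ _ _).mpr hf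
      simpa using this
    conv_rhs => rw [← Nat.mod_add_div (dg C.s F i) (2 ^ C.r)]
    push_cast
    rw [h1, one_mul]

theorem foldK_spec {C : Cfg} (hC : Good C) (hf : (2 ^ C.r) % C.p = 1 % C.p) (k : ℕ) :
    ∀ {F b : ℕ}, F < 2 ^ (C.s * C.n) → (∀ i < C.n, dg C.s F i ≤ b) →
      foldK C.r (LOc C) (HIc C) k F < 2 ^ (C.s * C.n) ∧
      (∀ i < C.n, dg C.s (foldK C.r (LOc C) (HIc C) k F) i ≤ foldBoundIter C.r k b) ∧
      ∀ i < C.n, ((dg C.s (foldK C.r (LOc C) (HIc C) k F) i : ℕ) : ZMod C.p) = (dg C.s F i : ZMod C.p) := by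
  induction k with
  | zero => intro F b hF hb; exact ⟨hF, hb, fun _ _ => rfl⟩
  | succ k ih =>
    intro F b hF hb
    obtain ⟨h1, h2, h3⟩ := fold_spec hC hF hb hf
    obtain ⟨h4, h5, h6⟩ := ih h1 h2
    refine ⟨h4, h5, fun i hi => ?_⟩
    rw [← h3 i hi]
    exact h6 i hi

/-- Soundness of one step. -/
theorem step_spec {C : Cfg} (hC : Good C) {R G : ℕ} (hR : OkR C R) (hG : okG C G = true) :
    OkR C (step C R G) ∧ rowVec C (step C R G) = Matrix.vecMul (rowVec C R) (mat C G) := by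
  obtain ⟨hG1, hG2⟩ := okG_spec hC hG
  obtain ⟨hR1, hR2⟩ := hR
  have hn := hC.hn
  have hs := hC.hs
  have hbd : ∀ l, conv C.s R G C.n l ≤ C.n * ((C.p - 1) * (2 ^ C.w - 1)) :=
    conv_le (fun i hi => by have := hR2 i hi; omega) hG2
  have hbd' : ∀ l, conv C.s R G C.n l < 2 ^ C.s := fun l => lt_of_le_of_lt (hbd l) hC.hb
  -- the gathered row
  set F : ℕ := ((R * G) &&& gmask C.s C.n) % (2 ^ (C.s * (C.n + 1)) - 1) with hF
  have hpos : ∀ k < C.n, C.n - 1 + C.n * k < C.n + C.n * C.n := by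
    intro k hk
    have : C.n * k ≤ C.n * C.n := Nat.mul_le_mul_left _ hk.le
    omega
  have eF : F = E C.s (fun i => conv C.s R G C.n (C.n - 1 + C.n * (C.n - 1 - i))) C.n := by
    rw [hF, land_gmask hs hn, gather_mod hs hn (fun k => dg C.s (R * G) (C.n - 1 + C.n * k))
      (fun k _ => dg_lt _ _ _)]
    apply E_congr
    intro i hi
    exact dg_mul hR1 hG1 hbd' (hpos _ (by omega))
  have dF : ∀ i < C.n, dg C.s F i = conv C.s R G C.n (C.n - 1 + C.n * (C.n - 1 - i)) := by
    intro i hi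
    rw [eF, dg_E (fun i _ => hbd' _) hi]
  have hF1 : F < 2 ^ (C.s * C.n) := by
    rw [eF]
    exact E_lt fun i _ => hbd' _
  have hF2 : ∀ i < C.n, dg C.s F i ≤ C.n * ((C.p - 1) * (2 ^ C.w - 1)) := by
    intro i hi
    rw [dF i hi]
    exact hbd _
  -- foldings
  obtain ⟨F2, hF2eq, k1, k2, k3⟩ : ∃ F2, F2 = foldK C.r (LOc C) (HIc C) C.nf F ∧ F2 < 2 ^ (C.s * C.n) ∧
      (∀ i < C.n, dg C.s F2 i ≤ foldBoundIter C.r C.nf (C.n * ((C.p - 1) * (2 ^ C.w - 1)))) ∧
      ∀ i < C.n, ((dg C.s F2 i : ℕ) : ZMod C.p) = (dg C.s F i : ZMod C.p) := by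
    refine ⟨_, rfl, ?_⟩
    rcases hC.hfold with h0 | h0
    · rw [h0]
      exact ⟨hF1, hF2, fun _ _ => rfl⟩
    · exact foldK_spec hC h0 C.nf hF1 hF2
  -- final reduction
  have hst : step C R G = F2 - C.p * (((F2 * C.m) >>> C.t) &&& HTc C) := by
    rw [hF2eq]
    rfl
  have hmul : F2 * C.m = E C.s (fun i => dg C.s F2 i * C.m) C.n := by
    conv_lhs => rw [← E_dg k1]
    rw [E_mul_const]
  have hmb : ∀ i < C.n, dg C.s F2 i * C.m < 2 ^ C.s := fun i hi =>
    lt_of_le_of_lt (Nat.mul_le_mul_right _ (k2 i hi)) hC.hm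
  have hQ : ((F2 * C.m) >>> C.t) &&& HTc C = E C.s (fun i => dg C.s F2 i / C.p) C.n := by
    change ((F2 * C.m) >>> C.t) &&& ((2 ^ (C.s - C.t) - 1) * rep C.s C.n) = _
    rw [shift_land_rep hs hC.ht]
    apply E_congr
    intro i hi
    rw [hmul, dg_E hmb hi, hC.hq _ (Nat.lt_succ_of_le (k2 i hi))]
  have hres : step C R G = E C.s (fun i => dg C.s F2 i % C.p) C.n := by
    rw [hst, hQ, mul_comm, E_mul_const]
    have h5 : E C.s (dg C.s F2) C.n = E C.s (fun i => dg C.s F2 i % C.p) C.n +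
        E C.s (fun i => dg C.s F2 i / C.p * C.p) C.n := by
      rw [E_add]
      apply E_congr
      intro i _
      rw [mul_comm, Nat.mod_add_div]
    rw [E_dg k1] at h5
    exact Nat.sub_eq_of_eq_add h5
  have hlt : ∀ i < C.n, dg C.s F2 i % C.p < 2 ^ C.s := fun i _ =>
    lt_of_le_of_lt (Nat.mod_le _ _) (dg_lt _ _ _)
  have dS : ∀ i < C.n, dg C.s (step C R G) i = dg C.s F2 i % C.p := by
    intro i hi
    rw [hres, dg_E hlt hi]
  refine ⟨⟨by rw [hres]; exact E_lt hlt, fun i hi => by rw [dS i hi]; exact Nat.mod_lt _ hC.hp⟩, ?_⟩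
  funext k
  have hk := k.2
  rw [rowVec_def, dS _ (by omega), ZMod.natCast_mod, k3 _ (by omega), dF _ (by omega)]
  have e3 : C.n - 1 - (C.n - 1 - (k : ℕ)) = k := by omega
  rw [e3, conv_at]
  push_cast
  rw [Finset.sum_range]
  rfl

/-- Soundness of a word. -/
theorem run_spec {C : Cfg} (hC : Good C) (w : List ℕ) (hw : ∀ g ∈ w, okG C g = true) :
    ∀ {R : ℕ}, OkR C R → OkR C (run C w R) ∧
      rowVec C (run C w R) = Matrix.vecMul (rowVec C R) (w.map (mat C)).prod := by
  induction w with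
  | nil =>
    intro R hR
    refine ⟨hR, ?_⟩
    rw [run_nil, List.map_nil, List.prod_nil, Matrix.vecMul_one]
  | cons g gs ih =>
    intro R hR
    obtain ⟨h1, h2⟩ := step_spec hC hR (hw g (List.mem_cons_self ..))
    obtain ⟨h3, h4⟩ := ih (fun x hx => hw x (List.mem_cons_of_mem _ hx)) h1
    refine ⟨h3, ?_⟩
    rw [run_cons, h4, h2, Matrix.vecMul_vecMul, List.map_cons, List.prod_cons]

/-- Code of the `i`-th unit row, times `c`. -/
def unitRow (C : Cfg) (c i : ℕ) : ℕ := c * 2 ^ (C.s * (C.n - 1 - i))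

theorem unitRow_E {C : Cfg} (c i : ℕ) (hi : i < C.n) :
    unitRow C c i = E C.s (fun j => if j = C.n - 1 - i then c else 0) C.n := by
  rw [E_def, Finset.sum_eq_single (C.n - 1 - i)]
  · simp [unitRow]
  · intro b _ hb
    simp [hb]
  · intro h
    exact absurd (mem_range.mpr (by omega)) h

theorem unitRow_ok {C : Cfg} (hC : Good C) {c i : ℕ} (hc : c < C.p) (hi : i < C.n) :
    OkR C (unitRow C c i) ∧ rowVec C (unitRow C c i) = (c : ZMod C.p) • Pi.single ⟨i, hi⟩ 1 := by
  have hps : C.p ≤ 2 ^ C.s := hC.hw.trans (Nat.pow_le_pow_right (by norm_num) hC.hws)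
  have hlt : ∀ j < C.n, (if j = C.n - 1 - i then c else 0) < 2 ^ C.s := by
    intro j _
    split_ifs
    · exact lt_of_lt_of_le hc hps
    · exact Nat.two_pow_pos _
  have hd : ∀ j < C.n, dg C.s (unitRow C c i) j = if j = C.n - 1 - i then c else 0 := by
    intro j hj
    rw [unitRow_E c i hi, dg_E hlt hj]
  refine ⟨⟨?_, ?_⟩, ?_⟩
  · rw [unitRow_E c i hi]
    exact E_lt hlt
  · intro j hj
    rw [hd j hj]
    split_ifs
    · exact hc
    · exact hC.hp
  · funext j
    have hj := j.2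
    rw [rowVec_def, hd _ (by omega)]
    rw [Pi.smul_apply, Pi.single_apply, smul_eq_mul]
    by_cases h : (j : ℕ) = i
    · have : j = ⟨i, hi⟩ := Fin.ext h
      rw [if_pos (by omega), if_pos this, mul_one]
    · have h2 : ¬ j = ⟨i, hi⟩ := fun h' => h (congrArg Fin.val h')
      rw [if_neg (by omega), if_neg h2, mul_zero, Nat.cast_zero]

theorem rowVec_injOn {C : Cfg} {R S : ℕ} (hR : OkR C R) (hS : OkR C S)
    (h : rowVec C R = rowVec C S) : R = S := by
  apply ext_dg hR.1 hS.1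
  intro i hi
  have h1 := congrFun h ⟨C.n - 1 - i, by omega⟩
  rw [rowVec_def, rowVec_def] at h1
  have e : C.n - 1 - (C.n - 1 - i) = i := by omega
  simp only [e] at h1
  rw [ZMod.natCast_eq_natCast_iff] at h1
  have h2 := hR.2 i hi
  have h3 := hS.2 i hi
  rwa [Nat.ModEq, Nat.mod_eq_of_lt h2, Nat.mod_eq_of_lt h3] at h1

/-! ### Checks -/

/-- Row-by-row comparison of two words, starting with the unit row `R`. -/
noncomputable def checkEqK (s p r m t nf GM FM LO HI HT : ℕ) (w₁ w₂ : List ℕ) : ℕ → ℕ → Bool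
  | 0, _ => true
  | cnt + 1, R =>
      bif Nat.beq (runK p r m t nf GM FM LO HI HT w₁ R) (runK p r m t nf GM FM LO HI HT w₂ R) then
        force (Nat.shiftRight R s) fun R' => checkEqK s p r m t nf GM FM LO HI HT w₁ w₂ cnt R'
      else false

/-- Row-by-row comparison of a word with the scalar `c`, starting with the unit row `R`. -/
noncomputable def checkScalarK (s p r m t nf GM FM LO HI HT : ℕ) (w : List ℕ) (c : ℕ) : ℕ → ℕ → Bool
  | 0, _ => true
  | cnt + 1, R =>
      bif Nat.beq (runK p r m t nf GM FM LO HI HT w R) (Nat.mul c R) then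
        force (Nat.shiftRight R s) fun R' => checkScalarK s p r m t nf GM FM LO HI HT w c cnt R'
      else false

/-- Evaluate all constants of the configuration once. -/
noncomputable def withC {α : Type} (C : Cfg) (k : ℕ → ℕ → ℕ → ℕ → ℕ → ℕ → ℕ → ℕ → ℕ → ℕ → ℕ → α) : α :=
  force C.s fun s => force C.p fun p => force C.r fun r => force C.m fun m => force C.t fun t =>
  force C.nf fun nf => force (GMc C) fun GM => force (FMc C) fun FM => force (LOc C) fun LO =>
  force (HIc C) fun HI => force (HTc C) fun HT => k s p r m t nf GM FM LO HI HT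

/-- Kernel check: for the rows `i` with `lo ≤ i < lo + cnt`, the row `e_i · w₁` equals `e_i · w₂`. -/
noncomputable def checkEq (C : Cfg) (w₁ w₂ : List ℕ) (lo cnt : ℕ) : Bool :=
  bif Nat.ble (lo + cnt) C.n then
    withC C fun s p r m t nf GM FM LO HI HT => force (unitRow C 1 lo) fun R =>
      checkEqK s p r m t nf GM FM LO HI HT w₁ w₂ cnt R
  else false

/-- Kernel check: for the rows `i` with `lo ≤ i < lo + cnt`, the row `e_i · w` equals `c · e_i`. -/
noncomputable def checkScalar (C : Cfg) (w : List ℕ) (c lo cnt : ℕ) : Bool :=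
  bif Nat.ble (lo + cnt) C.n then
    withC C fun s p r m t nf GM FM LO HI HT => force (unitRow C 1 lo) fun R =>
      checkScalarK s p r m t nf GM FM LO HI HT w c cnt R
  else false

theorem unitRow_shift {C : Cfg} {lo : ℕ} (h : lo + 1 < C.n) :
    Nat.shiftRight (unitRow C 1 lo) C.s = unitRow C 1 (lo + 1) := by
  change unitRow C 1 lo >>> C.s = _
  unfold unitRow
  rw [Nat.shiftRight_eq_div_pow, one_mul, one_mul]
  have : C.s * (C.n - 1 - lo) = C.s * (C.n - 1 - (lo + 1)) + C.s := by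
    obtain ⟨d, hd⟩ := Nat.exists_eq_add_of_lt h
    have e1 : C.n - 1 - lo = d + 1 := by omega
    have e2 : C.n - 1 - (lo + 1) = d := by omega
    rw [e1, e2]
    ring
  rw [this, pow_add, Nat.mul_div_cancel _ (Nat.two_pow_pos _)]

theorem checkEqK_spec {C : Cfg} {w₁ w₂ : List ℕ} : ∀ (cnt lo : ℕ), lo + cnt ≤ C.n →
    checkEqK C.s C.p C.r C.m C.t C.nf (GMc C) (FMc C) (LOc C) (HIc C) (HTc C) w₁ w₂ cnt (unitRow C 1 lo) = true →
    ∀ i, lo ≤ i → i < lo + cnt → run C w₁ (unitRow C 1 i) = run C w₂ (unitRow C 1 i) := by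
  intro cnt
  induction cnt with
  | zero => intro lo _ _ i h1 h2; omega
  | succ cnt ih =>
    intro lo hle h i h1 h2
    rw [checkEqK] at h
    change (bif Nat.beq (run C w₁ (unitRow C 1 lo)) (run C w₂ (unitRow C 1 lo)) then _ else _) = true at h
    cases hb : Nat.beq (run C w₁ (unitRow C 1 lo)) (run C w₂ (unitRow C 1 lo)) with
    | false => rw [hb] at h; simp at h
    | true =>
      rw [hb, cond_true, force_eq] at h
      rcases Nat.eq_or_lt_of_le h1 with rfl | h3
      · exact Nat.eq_of_beq_eq_true hb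
      · rw [unitRow_shift (by omega)] at h
        exact ih (lo + 1) (by omega) h i h3 (by omega)

theorem checkScalarK_spec {C : Cfg} {w : List ℕ} {c : ℕ} : ∀ (cnt lo : ℕ), lo + cnt ≤ C.n →
    checkScalarK C.s C.p C.r C.m C.t C.nf (GMc C) (FMc C) (LOc C) (HIc C) (HTc C) w c cnt (unitRow C 1 lo) = true →
    ∀ i, lo ≤ i → i < lo + cnt → run C w (unitRow C 1 i) = unitRow C c i := by
  intro cnt
  induction cnt with
  | zero => intro lo _ _ i h1 h2; omega
  | succ cnt ih =>
    intro lo hle h i h1 h2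
    rw [checkScalarK] at h
    have e : Nat.mul c (unitRow C 1 lo) = unitRow C c lo := by
      change c * unitRow C 1 lo = _
      unfold unitRow
      rw [one_mul]
    rw [e] at h
    change (bif Nat.beq (run C w (unitRow C 1 lo)) (unitRow C c lo) then _ else _) = true at h
    cases hb : Nat.beq (run C w (unitRow C 1 lo)) (unitRow C c lo) with
    | false => rw [hb] at h; simp at h
    | true =>
      rw [hb, cond_true, force_eq] at h
      rcases Nat.eq_or_lt_of_le h1 with rfl | h3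
      · exact Nat.eq_of_beq_eq_true hb
      · rw [unitRow_shift (by omega)] at h
        exact ih (lo + 1) (by omega) h i h3 (by omega)

theorem checkEq_spec {C : Cfg} {w₁ w₂ : List ℕ} {lo cnt : ℕ} (h : checkEq C w₁ w₂ lo cnt = true) :
    ∀ i, lo ≤ i → i < lo + cnt → run C w₁ (unitRow C 1 i) = run C w₂ (unitRow C 1 i) := by
  unfold checkEq at h
  cases hb : Nat.ble (lo + cnt) C.n with
  | false => rw [hb] at h; simp at h
  | true =>
    rw [hb, cond_true] at h
    exact checkEqK_spec cnt lo (Nat.le_of_ble_eq_true hb) h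

theorem checkScalar_spec {C : Cfg} {w : List ℕ} {c lo cnt : ℕ} (h : checkScalar C w c lo cnt = true) :
    ∀ i, lo ≤ i → i < lo + cnt → run C w (unitRow C 1 i) = unitRow C c i := by
  unfold checkScalar at h
  cases hb : Nat.ble (lo + cnt) C.n with
  | false => rw [hb] at h; simp at h
  | true =>
    rw [hb, cond_true] at h
    exact checkScalarK_spec cnt lo (Nat.le_of_ble_eq_true hb) h

/-- Equality of two products of matrices from row checks (give one check for all rows, or several for ranges). -/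
theorem prod_eq_of_rows {C : Cfg} (hC : Good C) (hp : 1 < C.p) {w₁ w₂ : List ℕ}
    (h1 : ∀ g ∈ w₁, okG C g = true) (h2 : ∀ g ∈ w₂, okG C g = true)
    (h : ∀ i < C.n, run C w₁ (unitRow C 1 i) = run C w₂ (unitRow C 1 i)) :
    (w₁.map (mat C)).prod = (w₂.map (mat C)).prod := by
  apply Matrix.ext_iff_vecMul.mpr
  intro v
  have key : ∀ i : Fin C.n, Matrix.vecMul (Pi.single i 1) (w₁.map (mat C)).prod =
      Matrix.vecMul (Pi.single i 1) (w₂.map (mat C)).prod := by
    intro i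
    obtain ⟨k1, k2⟩ := unitRow_ok hC hp i.2
    obtain ⟨-, k3⟩ := run_spec hC w₁ h1 k1
    obtain ⟨-, k4⟩ := run_spec hC w₂ h2 k1
    rw [k2, Nat.cast_one, one_smul] at k3 k4
    rw [← k3, ← k4, h i i.2]
  have hv : v = ∑ i, v i • (Pi.single i 1 : Fin C.n → ZMod C.p) := by
    funext j
    simp [Finset.sum_apply, Pi.single_apply]
  rw [hv]
  simp only [Matrix.sum_vecMul, Matrix.smul_vecMul, key]

/-- A product of matrices is a scalar, from row checks. -/
theorem prod_scalar_of_rows {C : Cfg} (hC : Good C) {w : List ℕ} {c : ℕ} (hc : c < C.p) (hp : 1 < C.p)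
    (h1 : ∀ g ∈ w, okG C g = true)
    (h : ∀ i < C.n, run C w (unitRow C 1 i) = unitRow C c i) :
    (w.map (mat C)).prod = (c : ZMod C.p) • (1 : Matrix (Fin C.n) (Fin C.n) (ZMod C.p)) := by
  apply Matrix.ext_iff_vecMul.mpr
  intro v
  have key : ∀ i : Fin C.n, Matrix.vecMul (Pi.single i 1) (w.map (mat C)).prod =
      Matrix.vecMul (Pi.single i 1) ((c : ZMod C.p) • (1 : Matrix (Fin C.n) (Fin C.n) (ZMod C.p))) := by
    intro i
    obtain ⟨k1, k2⟩ := unitRow_ok hC hp i.2
    obtain ⟨-, k5⟩ := unitRow_ok hC hc i.2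
    obtain ⟨-, k3⟩ := run_spec hC w h1 k1
    rw [k2, Nat.cast_one, one_smul] at k3
    rw [← k3, h i i.2, k5, Matrix.vecMul_smul, Matrix.vecMul_one]
  have hv : v = ∑ i, v i • (Pi.single i 1 : Fin C.n → ZMod C.p) := by
    funext j
    simp [Finset.sum_apply, Pi.single_apply]
  rw [hv]
  simp only [Matrix.sum_vecMul, Matrix.smul_vecMul, key]

/-- One-shot version: equality of words. -/
theorem prod_eq_of_check {C : Cfg} (hC : C.good = true) (hp : 1 < C.p) {w₁ w₂ : List ℕ}
    (h1 : ∀ g ∈ w₁, okG C g = true) (h2 : ∀ g ∈ w₂, okG C g = true)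
    (h : checkEq C w₁ w₂ 0 C.n = true) : (w₁.map (mat C)).prod = (w₂.map (mat C)).prod :=
  prod_eq_of_rows (good_of_check hC) hp h1 h2 fun i hi => checkEq_spec h i (Nat.zero_le _) (by omega)

/-- One-shot version: a word is a scalar (`c = 1`: the identity). -/
theorem prod_scalar_of_check {C : Cfg} (hC : C.good = true) {w : List ℕ} {c : ℕ} (hc : c < C.p) (hp : 1 < C.p)
    (h1 : ∀ g ∈ w, okG C g = true) (h : checkScalar C w c 0 C.n = true) :
    (w.map (mat C)).prod = (c : ZMod C.p) • (1 : Matrix (Fin C.n) (Fin C.n) (ZMod C.p)) :=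
  prod_scalar_of_rows (good_of_check hC) hc hp h1 fun i hi => checkScalar_spec h i (Nat.zero_le _) (by omega)

/-- One-shot version: a word is the identity. -/
theorem prod_one_of_check {C : Cfg} (hC : C.good = true) {w : List ℕ} (hp : 1 < C.p)
    (h1 : ∀ g ∈ w, okG C g = true) (h : checkScalar C w 1 0 C.n = true) :
    (w.map (mat C)).prod = 1 := by
  rw [prod_scalar_of_check hC hp hp h1 h, Nat.cast_one, one_smul]

end Cfsg.Agent.Lib.PackMat
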