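import Cfsg.Agent.SporadicRecognition.CosetChain

/-!
Partial coset enumerations: certified proofs that words in elements satisfying given relators are equal to `1`
(or lie in a subgroup `H`).  Same certificate format as `CosetCert` (helper961), but the table need not be complete.
Certificates are produced (and minimised) by `tools/cosetcert/prove.cpp`.
-/

set_option autoImplicit false
set_option linter.unusedSectionVars false
set_option linter.unusedVariables false

namespace Cfsg.Agent.Lib.CosetPartial

open Cfsg.Agent.SporadicRecognition.CosetCert Cfsg.Agent.SporadicRecognition.CosetCertHyp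
  Cfsg.Agent.SporadicRecognition.CosetChain

variable (C : Cert)

/-- all recorded entries of the nodes `lo, ..., lo + n - 1` are verified -/
noncomputable def runP (ib im ci eb em ce lo : Nat) (n : Nat) : Bool :=
  Nat.rec (motive := fun _ => Bool) true
    (fun m ih =>
      Nat.rec (motive := fun _ => Bool) false
        (fun i _ => entryOK C true i C.k (Nat.land (Nat.shiftRight ce (Nat.mul m eb)) em) &&
          rowOK C ib im ci true i m C.k && ih)
        (Nat.succ (Nat.add lo m))) n

/-- the recorded entries of the nodes `lo ≤ i < hi` are verified -/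
def PartP (lo hi : Nat) : Prop :=
  ∀ i, lo ≤ i → i < hi → ∀ x, x ≤ C.k → look C i x = C.mask ∨ ∃ q, main C i x q = true

theorem PartP.append {lo mid hi : Nat} (h1 : PartP C lo mid) (h2 : PartP C mid hi) : PartP C lo hi := by
  intro i hlo hhi x hx
  rcases lt_or_ge i mid with h | h
  · exact h1 i hlo h x hx
  · exact h2 i h hhi x hx

theorem runP_sound {ib im ci eb em ce lo n : Nat} (h : runP C ib im ci eb em ce lo n = true) :
    PartP C lo (lo + n) := by
  induction n with
  | zero => intro i h1 h2; omega
  | succ m ih =>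
    have h' : (entryOK C true (lo + m) C.k (Nat.land (Nat.shiftRight ce (Nat.mul m eb)) em) &&
        rowOK C ib im ci true (lo + m) m C.k && runP C ib im ci eb em ce lo m) = true := h
    rw [Bool.and_eq_true, Bool.and_eq_true] at h'
    obtain ⟨⟨h1, h2⟩, h3⟩ := h'
    intro i hlo hhi x hx
    rcases lt_or_ge i (lo + m) with h4 | h4
    · exact ih h3 i hlo h4 x hx
    · have : i = lo + m := by omega
      subst this
      rcases hx.lt_or_eq with h5 | h5
      · rcases rowOK_sound C h2 x h5 with ⟨_, h6⟩ | h6
        · exact Or.inl h6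
        · exact Or.inr h6
      · subst h5
        rcases entryOK_sound C h1 with ⟨_, h6⟩ | h6
        · exact Or.inl h6
        · exact Or.inr h6

variable {G : Type*} [Group G] (H : Subgroup G) (g : Nat → G)

theorem mem_of_walk (hyp : Hyp C H g) (hP : PartP C 0 C.N) (hm : 0 < C.mask) {w : List Nat}
    (hw : ∀ x ∈ w, x ≤ C.k) (h : walkS C (C.mask - 1) w 0 = 1) : ev g w ∈ H := by
  have hall : ∀ i x, i < C.N → x ≤ C.k → look C i x = C.mask ∨ ∃ q, main C i x q = true :=
    fun i x hi hx => hP i (Nat.zero_le _) hi x hx
  have hgood := good_of_checks C H g (trans C g) hyp (trans_isTrans C g) hall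
  have hb : ∀ i x, i < C.N → x ≤ C.k → look C i x ≤ C.mask - 1 → Good C H g (trans C g) i x := by
    intro i x hi hx hle
    rcases hall i x hi hx with h1 | h1
    · omega
    · exact hgood i x hi hx h1
  obtain ⟨_, h2⟩ := walkS_sound C H g (trans C g) hyp.hk (C.mask - 1) hb w hw 0 0 hyp.hN h
  rw [(trans_isTrans C g).1, one_mul] at h2
  have h3 : ev g w * (1 : G)⁻¹ ∈ H := h2
  simpa using h3

/-- the walks of all targets close -/
noncomputable def okTargets (targets : List (List Nat)) : Bool :=
  Nat.blt 0 C.mask && targets.all fun w => (w.all fun y => Nat.ble y C.k) &&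
    Nat.beq (walkS C (C.mask - 1) w 0) 1

/-- letter `k` is the identity -/
def ext (k : Nat) (g : Nat → G) : Nat → G := fun x => if x < k then g x else 1

theorem ev_ext (k : Nat) (w : List Nat) (hw : ∀ y ∈ w, y < k) : ev (ext k g) w = ev g w := by
  induction w with
  | nil => rfl
  | cons x w ih =>
    rw [ev_cons, ev_cons, ih (fun y hy => hw y (by simp [hy]))]
    simp [ext, hw x (by simp)]

/-- all letters of the words are `< k`, and `inv` maps `{x | x < k}` to itself -/
def okLetters (k : Nat) (inv : Nat → Nat) (L : List (List Nat)) : Bool :=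
  (L.all fun w => w.all fun y => Nat.blt y k) && ((List.range k).all fun x => Nat.blt (inv x) k)

theorem mem_of_checks (rels subw targets : List (List Nat))
    (h0 : (okLetters C.k C.inv rels && okLetters C.k C.inv subw && okLetters C.k C.inv targets &&
      checkHyp C rels subw) = true)
    (hinv : ∀ x, x < C.k → g x * g (C.inv x) = 1)
    (hrel : ∀ r ∈ rels, ev g r = 1) (hsub : ∀ s ∈ subw, ev g s ∈ H)
    (hP : PartP C 0 C.N) (h1 : okTargets C targets = true) : ∀ w ∈ targets, ev g w ∈ H := by
  rw [Bool.and_eq_true, Bool.and_eq_true, Bool.and_eq_true] at h0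
  obtain ⟨⟨⟨ha, hb⟩, hc⟩, hd⟩ := h0
  have key : ∀ L : List (List Nat), okLetters C.k C.inv L = true →
      (∀ w ∈ L, ∀ y ∈ w, y < C.k) ∧ ∀ x, x < C.k → C.inv x < C.k := by
    intro L hL
    unfold okLetters at hL
    rw [Bool.and_eq_true] at hL
    refine ⟨fun w hw y hy => ?_, fun x hx => ?_⟩
    · have := List.all_eq_true.mp hL.1 w hw
      exact Nat.le_of_ble_eq_true (List.all_eq_true.mp this y hy)
    · exact Nat.le_of_ble_eq_true (List.all_eq_true.mp hL.2 x (List.mem_range.mpr hx))
  obtain ⟨ha, hi⟩ := key _ ha
  obtain ⟨hb, _⟩ := key _ hb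
  obtain ⟨hc, _⟩ := key _ hc
  have hyp : Hyp C H (ext C.k g) := by
    refine hyp_of_checks H (ext C.k g) C rels subw (by simp [ext]) ?_ ?_ ?_ hd
    · intro x hx
      exact ⟨hi x hx, by simpa [ext, hx, hi x hx] using hinv x hx⟩
    · intro r hr
      rw [ev_ext g C.k r (ha r hr)]
      exact hrel r hr
    · intro s hs
      rw [ev_ext g C.k s (hb s hs)]
      exact hsub s hs
  intro w hw
  unfold okTargets at h1
  rw [Bool.and_eq_true] at h1
  have h2 := List.all_eq_true.mp h1.2 w hw
  rw [Bool.and_eq_true] at h2
  have h3 := mem_of_walk C H (ext C.k g) hyp hP (Nat.le_of_ble_eq_true h1.1)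
    (fun x hx => (hc w hw x hx).le) (Nat.eq_of_beq_eq_true h2.2)
  rwa [ev_ext g C.k w (hc w hw)] at h3

end Cfsg.Agent.Lib.CosetPartial
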