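import Cfsg.Agent.Lib.PermNet

/-!
Pointwise evaluation of words of swap networks by the kernel: the masks are cut into chunks of 4096 bits, which the
kernel caches, and all intermediate points are forced to literals.
-/

set_option autoImplicit false
set_option exponentiation.threshold 5000

namespace Cfsg.Agent.Lib.PermNetPt

open Cfsg.Agent.Lib.PermNet

/-- `force n k = k n`, but the kernel evaluates `n` first and passes on a literal (or `Nat.succ` of a literal). -/
noncomputable def force {α : Type} (n : ℕ) (k : ℕ → α) : α :=
  Nat.rec (motive := fun _ => α) (k 0) (fun m _ => k (Nat.succ m)) n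

theorem force_eq {α : Type} (n : ℕ) (k : ℕ → α) : force n k = k n := by
  unfold force; cases n <;> rfl

/-- The chunk `j` of 4096 bits of `M`. -/
noncomputable def chunk (M j : ℕ) : ℕ := Nat.mod (Nat.shiftRight M (Nat.mul 4096 j)) (Nat.pow 2 4096)

/-- Test of a bit through the chunk containing it. -/
noncomputable def tbc (M p : ℕ) : Bool :=
  force (Nat.div p 4096) fun j => Nat.beq (Nat.land (Nat.shiftRight (chunk M j) (Nat.mod p 4096)) 1) 1

theorem tbc_eq (M p : ℕ) : tbc M p = M.testBit p := by
  unfold tbc
  rw [force_eq]
  have h := tb_eq (chunk M (Nat.div p 4096)) (Nat.mod p 4096)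
  unfold tb at h
  rw [h]
  show Nat.testBit ((M >>> (4096 * (p / 4096))) % 2 ^ 4096) (p % 4096) = _
  rw [Nat.testBit_mod_two_pow, Nat.testBit_shiftRight, Nat.div_add_mod]
  simp [Nat.mod_lt]

/-- The point map of a stage, followed by `k`. -/
noncomputable def stepK (M d : ℕ) (k : ℕ → ℕ) (p : ℕ) : ℕ :=
  Bool.rec (Bool.rec (k p) (Bool.rec (k p) (force (Nat.sub p d) k) (tbc M (Nat.sub p d))) (Nat.ble d p))
    (force (Nat.add p d) k) (tbc M p)

theorem stepK_eq (M d : ℕ) (k : ℕ → ℕ) (p : ℕ) : stepK M d k p = k (tau M d p) := by
  unfold stepK tau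
  rw [tbc_eq, tbc_eq, force_eq, force_eq]
  by_cases h1 : M.testBit p = true
  · rw [if_pos h1, h1]; rfl
  · rw [if_neg h1, show M.testBit p = false by simpa using h1]
    show (Bool.rec (k p) (Bool.rec (k p) (k (p - d)) (M.testBit (p - d)) : ℕ) (Nat.ble d p) : ℕ) = _
    by_cases h2 : d ≤ p
    · rw [Nat.ble_eq_true_of_le h2]
      by_cases h3 : M.testBit (p - d) = true
      · rw [if_pos ⟨h2, h3⟩, h3]
      · rw [if_neg (fun h => h3 h.2), show M.testBit (p - d) = false by simpa using h3]
    · rw [if_neg (fun h => h2 h.1), show Nat.ble d p = false by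
        rw [← Bool.not_eq_true]; exact fun h => h2 (Nat.le_of_ble_eq_true h)]

/-- Preimage of a point under the permutation of a network. -/
noncomputable def invPt (L : Net) : ℕ → ℕ :=
  Net.rec (motive := fun _ => ℕ → ℕ) (fun p => p) (fun M d _ ih => stepK M d ih) L

theorem invPt_eq {N : ℕ} {L : Net} (h : L.ok N = true) (p : ℕ) : invPt L p = L.perm⁻¹ p := by
  induction L generalizing p with
  | nil => rfl
  | cons M d L ih =>
    obtain ⟨h1, h2, h3⟩ := Net.ok_cons h
    show stepK M d (invPt L) p = _
    rw [stepK_eq, ih h3, Net.perm_cons, mul_inv_rev, Equiv.Perm.mul_apply]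
    congr 1
    rw [Equiv.Perm.eq_inv_iff_eq, stagePerm_apply h1, tau_tau h1]

/-- Preimage of a point under the permutation of a word. -/
noncomputable def winv (w : List Net) : ℕ → ℕ :=
  List.rec (motive := fun _ => ℕ → ℕ) (fun p => p) (fun L _ ih p => force (invPt L p) ih) w

theorem winv_eq {N : ℕ} {w : List Net} (h : WOk N w) (p : ℕ) : winv w p = (wperm w)⁻¹ p := by
  induction w generalizing p with
  | nil => rfl
  | cons L w ih =>
    show force (invPt L p) (winv w) = _
    rw [force_eq, invPt_eq (h L List.mem_cons_self), ih (fun K hK => h K (List.mem_cons_of_mem _ hK)),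
      wperm_cons, mul_inv_rev, Equiv.Perm.mul_apply]

/-- The permutation of the word `w` takes `q` to `p`. -/
noncomputable def chkPt (w : List Net) (q p : ℕ) : Bool := Nat.beq (winv w p) q

theorem chkPt_spec {N : ℕ} {w : List Net} (h : WOk N w) {q p : ℕ} (hc : chkPt w q p = true) :
    wperm w q = p := by
  have h1 : winv w p = q := Nat.eq_of_beq_eq_true hc
  rw [winv_eq h] at h1
  rw [← h1, ← Equiv.Perm.mul_apply, mul_inv_cancel, Equiv.Perm.one_apply]

/-- Every word of the list fixes every point of the list. -/
noncomputable def chkFix (ws : List (List Net)) (ps : List ℕ) : Bool :=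
  List.rec (motive := fun _ => Bool) true
    (fun w _ ih => Bool.rec false ih
      (List.rec (motive := fun _ => Bool) true (fun p _ ih' => Bool.rec false ih' (chkPt w p p)) ps : Bool)) ws

theorem chkFix_aux {w : List Net} {ps : List ℕ}
    (h : (List.rec (motive := fun _ => Bool) true (fun p _ ih' => Bool.rec false ih' (chkPt w p p)) ps : Bool) =
      true) : ∀ p ∈ ps, chkPt w p p = true := by
  induction ps with
  | nil => intro p hp; exact absurd hp (by simp)
  | cons q ps ih =>
    have h' : (Bool.rec false (List.rec (motive := fun _ => Bool) true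
      (fun p _ ih' => Bool.rec false ih' (chkPt w p p)) ps : Bool) (chkPt w q q) : Bool) = true := h
    have h1 : chkPt w q q = true := by
      cases hc : chkPt w q q with
      | false => rw [hc] at h'; exact absurd h' (by simp)
      | true => rfl
    rw [h1] at h'
    intro p hp
    rcases List.mem_cons.1 hp with rfl | hp
    · exact h1
    · exact ih h' p hp

theorem chkFix_spec {N : ℕ} {ws : List (List Net)} {ps : List ℕ} (h : chkFix ws ps = true)
    (hok : ∀ w ∈ ws, WOk N w) : ∀ w ∈ ws, ∀ p ∈ ps, wperm w p = p := by
  induction ws with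
  | nil => intro w hw; exact absurd hw (by simp)
  | cons v ws ih =>
    have h' : (Bool.rec false (chkFix ws ps)
      (List.rec (motive := fun _ => Bool) true (fun p _ ih' => Bool.rec false ih' (chkPt v p p)) ps : Bool) :
        Bool) = true := h
    have h1 : (List.rec (motive := fun _ => Bool) true
        (fun p _ ih' => Bool.rec false ih' (chkPt v p p)) ps : Bool) = true := by
      cases hc : (List.rec (motive := fun _ => Bool) true
        (fun p _ ih' => Bool.rec false ih' (chkPt v p p)) ps : Bool) with
      | false => rw [hc] at h'; exact absurd h' (by simp)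
      | true => rfl
    rw [h1] at h'
    intro w hw
    rcases List.mem_cons.1 hw with rfl | hw
    · exact fun p hp => chkPt_spec (hok w List.mem_cons_self) (chkFix_aux h1 p hp)
    · exact ih h' (fun w hw => hok w (List.mem_cons_of_mem _ hw)) w hw

end Cfsg.Agent.Lib.PermNetPt
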