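import Mathlib

/-!
# Counting conjugates modulo 4 (helper350's observation)

`G` finite without subgroup of index two: every involution `x` acts as an even permutation on every `G`-set `X`,
so `|X| ≡ |Fix(x)| (mod 4)`. In particular `|G : C(z)| ≡ |z^G ∩ C(x)| (mod 4)`.
-/

set_option autoImplicit false

namespace Cfsg.Agent.Lib.ModFour

open Equiv

/-- no homomorphism onto `{±1}` if there is no subgroup of index 2 -/
theorem hom_eq_one {G : Type*} [Group G] (hG : ∀ H : Subgroup G, H.index ≠ 2) (f : G →* ℤˣ) (u : G) :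
    f u = 1 := by
  by_contra hu
  have hu' : f u = -1 := (Int.units_eq_one_or _).resolve_left hu
  have hsurj : Function.Surjective f := by
    intro y
    rcases Int.units_eq_one_or y with h | h
    · exact ⟨1, by rw [map_one, h]⟩
    · exact ⟨u, by rw [hu', h]⟩
  apply hG f.ker
  rw [Subgroup.index_ker, MonoidHom.range_eq_top.2 hsurj, Subgroup.card_top, Nat.card_eq_fintype_card]
  rfl

/-- an even involutory permutation -/
theorem card_modEq_of_sign {X : Type*} [Fintype X] [DecidableEq X] {σ : Perm X} (h2 : σ ^ 2 = 1)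
    (hs : Perm.sign σ = 1) : Fintype.card X ≡ Fintype.card (Function.fixedPoints σ) [MOD 4] := by
  rw [Perm.sign_of_pow_two_eq_one h2] at hs
  have hle : Fintype.card (Function.fixedPoints σ) ≤ Fintype.card X :=
    Fintype.card_subtype_le _
  have h2' : 2 ∣ Fintype.card X - Fintype.card (Function.fixedPoints σ) := by
    have := Perm.card_fixedPoints σ
    have h3 := Perm.cycleType_of_pow_prime_eq_one (p := 2) h2
    rw [this, Nat.sub_sub_self (Perm.sum_cycleType_le σ), h3, Multiset.sum_replicate, smul_eq_mul]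
    exact dvd_mul_left _ _
  have h4 : Even ((Fintype.card X - Fintype.card (Function.fixedPoints σ)) / 2) := by
    by_contra hodd
    rw [Nat.not_even_iff_odd] at hodd
    rw [hodd.neg_one_pow] at hs
    exact absurd hs (by decide)
  obtain ⟨a, ha⟩ := h2'
  rw [ha, Nat.mul_div_cancel_left _ (by norm_num)] at h4
  obtain ⟨b, hb⟩ := h4
  have : Fintype.card X = Fintype.card (Function.fixedPoints σ) + 4 * b := by omega
  rw [this]
  exact (Nat.modEq_iff_dvd' (Nat.le_add_right _ _)).2 ⟨b, by omega⟩ |>.symm

/-- `|X| ≡ |Fix(x)| (mod 4)` for an involution `x`. -/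
theorem card_modEq {G X : Type*} [Group G] [Finite X] (hG : ∀ H : Subgroup G, H.index ≠ 2)
    (ρ : G →* Perm X) {x : G} (hx : x * x = 1) :
    Nat.card X ≡ Nat.card {y : X // ρ x y = y} [MOD 4] := by
  classical
  have : Fintype X := Fintype.ofFinite X
  have h1 : Perm.sign (ρ x) = 1 := hom_eq_one hG (Perm.sign.comp ρ) x
  have h2 : (ρ x) ^ 2 = 1 := by rw [pow_two, ← map_mul, hx, map_one]
  have h3 := card_modEq_of_sign h2 h1
  rw [Nat.card_eq_fintype_card]
  have h4 : Nat.card {y : X // ρ x y = y} = Fintype.card (Function.fixedPoints (ρ x)) := by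
    rw [← Nat.card_eq_fintype_card]
    exact Nat.card_congr (Equiv.refl _)
  rw [h4]
  exact h3

/-- The action on a class. -/
def conjPerm {G : Type*} [Group G] (z : G) : G →* Perm {y : G // IsConj z y} where
  toFun g :=
    { toFun := fun y => ⟨g * y * g⁻¹, y.2.trans (isConj_iff.2 ⟨g, rfl⟩)⟩
      invFun := fun y => ⟨g⁻¹ * y * g, y.2.trans (isConj_iff.2 ⟨g⁻¹, by rw [inv_inv]⟩)⟩
      left_inv := fun y => Subtype.ext (by group)
      right_inv := fun y => Subtype.ext (by group) }
  map_one' := by
    ext y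
    show (1 : G) * y * 1⁻¹ = y
    group
  map_mul' g h := by
    ext y
    show g * h * y * (g * h)⁻¹ = g * (h * y * h⁻¹) * g⁻¹
    group

/-- `|z^G| ≡ |z^G ∩ C(x)| (mod 4)` for an involution `x`. -/
theorem card_conj_modEq {G : Type*} [Group G] [Finite G] (hG : ∀ H : Subgroup G, H.index ≠ 2) (z : G)
    {x : G} (hx : x * x = 1) :
    Nat.card {y : G // IsConj z y} ≡ Nat.card {y : G // IsConj z y ∧ y * x = x * y} [MOD 4] := by
  have h1 := card_modEq hG (conjPerm z) hx
  have e : {y : {y : G // IsConj z y} // conjPerm z x y = y} ≃ {y : G // IsConj z y ∧ y * x = x * y} :=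
    { toFun := fun y => ⟨y.1.1, y.1.2, by
        have h : x * (y.1.1 : G) * x⁻¹ = y.1.1 := congrArg Subtype.val y.2
        rw [mul_inv_eq_iff_eq_mul] at h
        exact h.symm⟩
      invFun := fun y => ⟨⟨y.1, y.2.1⟩, Subtype.ext (by
        show x * (y.1 : G) * x⁻¹ = y.1
        rw [← y.2.2]; group)⟩
      left_inv := fun _ => rfl
      right_inv := fun _ => rfl }
  rwa [Nat.card_congr e] at h1

/-- The size of a class. -/
theorem card_isConj {G : Type*} [Group G] (z : G) :
    Nat.card {y : G // IsConj z y} = (Subgroup.centralizer ({z} : Set G)).index := by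
  have e : {y : G // IsConj z y} ≃ MulAction.orbit (ConjAct G) z :=
    Equiv.subtypeEquivRight fun y => by
      rw [ConjAct.mem_orbit_conjAct, isConj_comm]
  rw [Nat.card_congr e, Nat.card_congr (MulAction.orbitEquivQuotientStabilizer (ConjAct G) z)]
  rw [ConjAct.stabilizer_eq_centralizer]
  rfl

/-- A 2-group acting with all stabilizers of index bigger than 2. -/
theorem four_dvd_card {P X : Type*} [Group P] [Finite P] [MulAction P X] [Finite X] (hP : IsPGroup 2 P)
    (h : ∀ x : X, 2 < (MulAction.stabilizer P x).index) : 4 ∣ Nat.card X := by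
  classical
  have : Fact (Nat.Prime 2) := ⟨Nat.prime_two⟩
  have : Fintype X := Fintype.ofFinite X
  have : Fintype (MulAction.orbitRel.Quotient P X) := Fintype.ofFinite _
  rw [Nat.card_congr (MulAction.selfEquivSigmaOrbits P X), Nat.card_eq_fintype_card, Fintype.card_sigma]
  apply Finset.dvd_sum
  intro ω _
  rw [← Nat.card_eq_fintype_card]
  have e : Nat.card (MulAction.orbit P (Quotient.out ω)) =
      (MulAction.stabilizer P (Quotient.out ω)).index := by
    rw [Nat.card_congr (MulAction.orbitEquivQuotientStabilizer P (Quotient.out ω))]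
    rfl
  rw [e]
  have h1 := h (Quotient.out ω)
  obtain ⟨n, hn⟩ := hP.index (MulAction.stabilizer P (Quotient.out ω))
  rw [hn] at h1 ⊢
  have h2 : 2 ≤ n := by
    by_contra hlt
    have : n = 0 ∨ n = 1 := by omega
    rcases this with rfl | rfl <;> norm_num at h1
  have h3 : (4 : ℕ) = 2 ^ 2 := by norm_num
  rw [h3]
  exact pow_dvd_pow 2 h2

end Cfsg.Agent.Lib.ModFour
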