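import Mathlib

/-!
An explicit, kernel-friendly field with three elements `F3 = {0, 1, m}`, `m = -1`, and the ring isomorphism from
any field with three elements onto it (the analogue of `Cfsg.Agent.Lib.FieldFour`).
-/

set_option autoImplicit false

namespace Cfsg.Agent.Lib.FieldThree

/-- The three elements: `o = 0`, `i = 1`, `m = -1`. -/
inductive F3 : Type
  | o | i | m
  deriving DecidableEq

namespace F3

/-- Addition table. -/
def add : F3 → F3 → F3
  | o, x => x
  | i, o => i
  | i, i => m
  | i, m => o
  | m, o => m
  | m, i => o
  | m, m => i

/-- Multiplication table. -/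
def mul : F3 → F3 → F3
  | o, _ => o
  | i, x => x
  | m, o => o
  | m, i => m
  | m, m => i

/-- Negation table. -/
def neg : F3 → F3
  | o => o
  | i => m
  | m => i

instance instFintype : Fintype F3 where
  elems := {o, i, m}
  complete := by intro x; cases x <;> decide

instance instZero : Zero F3 := ⟨o⟩
instance instOne : One F3 := ⟨i⟩
instance instAdd : Add F3 := ⟨add⟩
instance instMul : Mul F3 := ⟨mul⟩
instance instNeg : Neg F3 := ⟨neg⟩
instance instInv : Inv F3 := ⟨fun x => x⟩

instance instCommRing : CommRing F3 where
  add_assoc := by decide
  zero_add := by decide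
  add_zero := by decide
  nsmul := nsmulRec
  zsmul := zsmulRec
  add_comm := by decide
  left_distrib := by decide
  right_distrib := by decide
  zero_mul := by decide
  mul_zero := by decide
  mul_assoc := by decide
  one_mul := by decide
  mul_one := by decide
  neg_add_cancel := by decide
  mul_comm := by decide

instance instField : Field F3 where
  exists_pair_ne := ⟨0, 1, by decide⟩
  mul_inv_cancel := by decide
  inv_zero := rfl
  nnqsmul := _
  qsmul := _

theorem card : Fintype.card F3 = 3 := rfl

theorem natCard : Nat.card F3 = 3 := by rw [Nat.card_eq_fintype_card, card]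

theorem cases_eq (x : F3) : x = 0 ∨ x = 1 ∨ x = -1 := by
  revert x
  decide

end F3

/-- Any field with three elements is isomorphic to `F3`. -/
noncomputable def equivOfCard {F : Type*} [Field F] [Fintype F] (hF : Fintype.card F = 3) :
    F ≃+* F3 :=
  FiniteField.ringEquivOfCardEq (hF.trans F3.card.symm)

end Cfsg.Agent.Lib.FieldThree
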