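import Mathlib

/-!
A Goursat type recognition lemma with a count: a subgroup `R` of `G × H` projecting onto `G`, such that for
`(g, h) ∈ R` one has `g ∈ N ↔ h ∈ M`, gives an injective homomorphism `G ⧸ N →* H ⧸ M`, which is an isomorphism
when the two finite quotients have the same order.
-/

set_option autoImplicit false

namespace Cfsg.Agent.Lib.GraphIsoCard

/-- A subgroup of the product, surjecting onto the first factor and matching the normal subgroups `N`, `M`,
gives an injective homomorphism of the quotients. -/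
theorem exists_injective {G H : Type*} [Group G] [Group H] (R : Subgroup (G × H))
    (N : Subgroup G) (M : Subgroup H) [N.Normal] [M.Normal]
    (h1 : ∀ g : G, ∃ h : H, (g, h) ∈ R)
    (hN : ∀ (g : G) (h : H), (g, h) ∈ R → (g ∈ N ↔ h ∈ M)) :
    ∃ f : G ⧸ N →* H ⧸ M, Function.Injective f := by
  let φ : R →* G ⧸ N := (QuotientGroup.mk' N).comp ((MonoidHom.fst G H).comp R.subtype)
  let ψ : R →* H ⧸ M := (QuotientGroup.mk' M).comp ((MonoidHom.snd G H).comp R.subtype)
  have hφ : Function.Surjective φ := by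
    intro x
    obtain ⟨g, rfl⟩ := QuotientGroup.mk'_surjective N x
    obtain ⟨h, hh⟩ := h1 g
    exact ⟨⟨(g, h), hh⟩, rfl⟩
  have hk : φ.ker = ψ.ker := by
    ext ⟨⟨g, h⟩, hr⟩
    have e1 : (⟨(g, h), hr⟩ : R) ∈ φ.ker ↔ g ∈ N := by
      rw [MonoidHom.mem_ker]
      exact QuotientGroup.eq_one_iff g
    have e2 : (⟨(g, h), hr⟩ : R) ∈ ψ.ker ↔ h ∈ M := by
      rw [MonoidHom.mem_ker]
      exact QuotientGroup.eq_one_iff h
    rw [e1, e2]
    exact hN g h hr
  let e : G ⧸ N ≃* R ⧸ ψ.ker := (QuotientGroup.quotientKerEquivOfSurjective φ hφ).symm.trans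
    (QuotientGroup.quotientMulEquivOfEq hk)
  refine ⟨(QuotientGroup.kerLift ψ).comp e.toMonoidHom, ?_⟩
  exact (QuotientGroup.kerLift_injective ψ).comp e.injective

/-- A subgroup of the product, surjecting onto the first factor and matching the normal subgroups `N`, `M` whose
quotients have the same finite order, gives an isomorphism of the quotients. -/
theorem nonempty_quotient_equiv {G H : Type*} [Group G] [Group H] (R : Subgroup (G × H))
    (N : Subgroup G) (M : Subgroup H) [N.Normal] [M.Normal]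
    (h1 : ∀ g : G, ∃ h : H, (g, h) ∈ R)
    (hN : ∀ (g : G) (h : H), (g, h) ∈ R → (g ∈ N ↔ h ∈ M))
    [Finite (H ⧸ M)] (hc : Nat.card (H ⧸ M) ≤ Nat.card (G ⧸ N)) :
    Nonempty (G ⧸ N ≃* H ⧸ M) := by
  obtain ⟨f, hf⟩ := exists_injective R N M h1 hN
  exact ⟨MulEquiv.ofBijective f (Function.Injective.bijective_of_nat_card_le hf hc)⟩

end Cfsg.Agent.Lib.GraphIsoCard
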