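import Mathlib

/-!
# Essential subgroups: element-wise definition

`IsEss p P X H`: `X` is a proper subgroup of `P` containing its centralizer in `P`, fully normalized, and
`H / X C_G(X)` is a strongly `p`-embedded subgroup of `N_G(X) / X C_G(X)` containing the image of `N_P(X)`.
-/

set_option autoImplicit false

namespace Cfsg.Agent.Lib.EssDefs

open Subgroup

variable {G : Type*} [Group G]

/-- `X` is essential in `P`, with strongly `p`-embedded subgroup `H` (modulo `X C_G(X)`). -/
structure IsEss (p : ℕ) (P X H : Subgroup G) : Prop where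
  lt : X < P
  cent : centralizer (X : Set G) ⊓ P ≤ X
  not_dvd : ¬ p ∣ (P ⊓ normalizer (X : Set G)).relIndex (normalizer (X : Set G))
  le : H ≤ normalizer (X : Set G)
  ne : H ≠ normalizer (X : Set G)
  sup_le : X ⊔ centralizer (X : Set G) ≤ H
  inf_le : P ⊓ normalizer (X : Set G) ≤ H
  se : ∀ x ∈ normalizer (X : Set G), x ∉ H → ∀ h ∈ H, h ^ p ∈ X ⊔ centralizer (X : Set G) →
    x * h * x⁻¹ ∈ H → h ∈ X ⊔ centralizer (X : Set G)

/-- `X` is an essential subgroup of `P`. -/
def Ess (p : ℕ) (P X : Subgroup G) : Prop := ∃ H, IsEss p P X H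

end Cfsg.Agent.Lib.EssDefs
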