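import Mathlib
import Cfsg.Agent.Lib.EssentialFusion
import Cfsg.Agent.Lib.EssDefs

/-!
# Essential subgroups: equivalence of the two definitions

`EssentialFusion.Ess P X ↔ EssDefs.Ess p P X`; the fusion theorem and the chain lemma for `EssDefs`.
-/

set_option autoImplicit false

namespace Cfsg.Agent.Lib.EssBridge

open Subgroup Cfsg.Agent.Lib.GoldschmidtFusion Cfsg.Agent.Lib.EssentialFusion

variable {G : Type*} [Group G] [Finite G] {p : ℕ} [hp : Fact p.Prime]

omit hp in
/-- a prime dividing a relative index of a normal subgroup gives an element of order `p` modulo it -/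
theorem exists_pow_mem {A D : Subgroup G} (hp : p.Prime) (hAD : A ≤ D) (hD : D ≤ normalizer (A : Set G))
    (h : p ∣ A.relIndex D) : ∃ y ∈ D, y ^ p ∈ A ∧ y ∉ A := by
  have : Fact p.Prime := ⟨hp⟩
  have : (A.subgroupOf D).Normal := (normal_subgroupOf_iff_le_normalizer hAD).2 hD
  have h1 : p ∣ Nat.card (D ⧸ A.subgroupOf D) := h
  obtain ⟨y, hy⟩ := exists_prime_orderOf_dvd_card' p h1
  obtain ⟨⟨d, hd⟩, rfl⟩ := QuotientGroup.mk_surjective y
  refine ⟨d, hd, ?_, ?_⟩
  · have h2 := pow_orderOf_eq_one (QuotientGroup.mk (⟨d, hd⟩ : D) : D ⧸ A.subgroupOf D)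
    rw [hy, ← QuotientGroup.mk_pow, QuotientGroup.eq_one_iff, mem_subgroupOf] at h2
    simpa using h2
  · intro hA
    have h2 : (QuotientGroup.mk (⟨d, hd⟩ : D) : D ⧸ A.subgroupOf D) = 1 := by
      rw [QuotientGroup.eq_one_iff, mem_subgroupOf]; exact hA
    rw [h2, orderOf_one] at hy
    exact hp.one_lt.ne hy

omit [Finite G] hp in
/-- an element of order `p` modulo a normal subgroup -/
theorem dvd_relIndex {A D : Subgroup G} (hp : p.Prime) (hAD : A ≤ D) (hD : D ≤ normalizer (A : Set G)) {y : G}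
    (hy : y ∈ D) (hyp : y ^ p ∈ A) (hyA : y ∉ A) : p ∣ A.relIndex D := by
  have : Fact p.Prime := ⟨hp⟩
  have : (A.subgroupOf D).Normal := (normal_subgroupOf_iff_le_normalizer hAD).2 hD
  have h1 : orderOf (QuotientGroup.mk (⟨y, hy⟩ : D) : D ⧸ A.subgroupOf D) = p := by
    apply orderOf_eq_prime
    · rw [← QuotientGroup.mk_pow, QuotientGroup.eq_one_iff, mem_subgroupOf]
      simpa using hyp
    · rw [Ne, QuotientGroup.eq_one_iff, mem_subgroupOf]
      exact hyA
  have h2 : p ∣ Nat.card (D ⧸ A.subgroupOf D) := h1 ▸ orderOf_dvd_natCard _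
  exact h2

/-- The element-wise form of an essential subgroup. -/
theorem exists_isEss {P : Sylow p G} {X : Subgroup G} (h : Ess P X) :
    EssDefs.Ess p (P : Subgroup G) X := by
  obtain ⟨M, hXCM, hTM, hlt, hM⟩ := h.strong
  refine ⟨M, h.lt, h.centric, h.full, hlt.le, hlt.ne, hXCM, hTM, ?_⟩
  intro x hx hxM k hk hkp hxk
  by_contra hkX
  have hxM' : x⁻¹ ∉ M := fun h => hxM (by simpa using inv_mem h)
  refine hM x⁻¹ (inv_mem hx) hxM' ?_
  have hXCM' : XC X ≤ M ⊓ M.map (MulAut.conj x⁻¹).toMonoidHom := by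
    refine le_inf hXCM ?_
    rw [← map_conj_XC (inv_mem hx)]
    exact map_conj_mono hXCM _
  have hDN : M ⊓ M.map (MulAut.conj x⁻¹).toMonoidHom ≤ normalizer ((XC X : Subgroup G) : Set G) := by
    intro g hg
    rw [mem_normalizer_iff_map_conj]
    exact map_conj_XC (hlt.le hg.1)
  refine dvd_relIndex hp.out hXCM' hDN ⟨hk, ?_⟩ hkp hkX
  change k ∈ M.map (MulAut.conj x⁻¹).toMonoidHom
  rw [mem_map_conj]
  simpa using hxk

/-- The element-wise form implies the other one. -/
theorem ess_of_isEss {P : Sylow p G} {X : Subgroup G} (h : EssDefs.Ess p (P : Subgroup G) X) : Ess P X := by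
  obtain ⟨M, h⟩ := h
  refine ⟨h.lt, h.not_dvd, h.cent, M, h.sup_le, h.inf_le, lt_of_le_of_ne h.le h.ne, ?_⟩
  intro g hg hgM hdvd
  have hXCM' : XC X ≤ M ⊓ M.map (MulAut.conj g).toMonoidHom := by
    refine le_inf h.sup_le ?_
    rw [← map_conj_XC hg]
    exact map_conj_mono h.sup_le _
  have hDN : M ⊓ M.map (MulAut.conj g).toMonoidHom ≤ normalizer ((XC X : Subgroup G) : Set G) := by
    intro k hk
    rw [mem_normalizer_iff_map_conj]
    exact map_conj_XC (h.le hk.1)
  obtain ⟨y, hy, hyp, hyX⟩ := exists_pow_mem hp.out hXCM' hDN hdvd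
  have hgM' : g⁻¹ ∉ M := fun h => hgM (by simpa using inv_mem h)
  apply hyX
  refine h.se g⁻¹ (inv_mem hg) hgM' y hy.1 hyp ?_
  have h2 : y ∈ M.map (MulAut.conj g).toMonoidHom := hy.2
  rw [mem_map_conj] at h2
  simpa using h2

theorem isEss_iff {P : Sylow p G} {X : Subgroup G} : EssDefs.Ess p (P : Subgroup G) X ↔ Ess P X :=
  ⟨ess_of_isEss, exists_isEss⟩

/-- **Alperin–Goldschmidt fusion theorem** for `EssDefs.Ess`. -/
theorem gen_of_conj (P : Sylow p G) (F : Subgroup G → Prop) (hP : F P)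
    (hF : ∀ X : Subgroup G, EssDefs.Ess p (P : Subgroup G) X → F X)
    {A : Subgroup G} (hA : A ≤ P) {g : G} (hg : A.map (MulAut.conj g).toMonoidHom ≤ P) :
    Gen (P : Subgroup G) F A g :=
  gen_of_conj_ess P F hP (fun X hX => hF X (exists_isEss hX)) hA hg

/-! ### Stabilizers of chains -/

/-- `x` stabilizes an `N`-invariant chain `A ≥ A₁ ≥ … ≥ 1`. -/
inductive Stab (N : Subgroup G) (x : G) : Subgroup G → Prop
  | bot : Stab N x ⊥
  | step {A B : Subgroup G} : B ≤ A → N ≤ normalizer (A : Set G) →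
      (∀ e ∈ A, x * e * x⁻¹ * e⁻¹ ∈ B) → Stab N x B → Stab N x A

omit [Finite G] in
theorem Stab.exists_chain {N : Subgroup G} {x : G} {A : Subgroup G} (h : Stab N x A) :
    ∃ (c : ℕ → Subgroup G) (n : ℕ), c 0 = A ∧ c n = ⊥ ∧ (∀ i, c (i + 1) ≤ c i) ∧
      (∀ i, N ≤ normalizer (c i : Set G)) ∧ ∀ i, ∀ e ∈ c i, x * e * x⁻¹ * e⁻¹ ∈ c (i + 1) := by
  induction h with
  | bot =>
    refine ⟨fun _ => ⊥, 0, rfl, rfl, fun _ => le_rfl, fun _ => ?_, fun i e he => ?_⟩
    · intro n _
      rw [mem_normalizer_iff]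
      intro h
      simp only [mem_bot]
      constructor
      · rintro rfl; simp
      · intro h'
        have := congrArg (fun t => n⁻¹ * t * n) h'
        simpa [mul_assoc] using this
    · rw [mem_bot] at he; rw [he]; simp
  | @step A B hBA hN hx _ ih =>
    obtain ⟨c, n, h0, hn, hle, hc, hs⟩ := ih
    refine ⟨fun i => Nat.casesOn i A c, n + 1, rfl, hn, ?_, ?_, ?_⟩
    · intro i
      cases i with
      | zero => exact h0.le.trans hBA
      | succ i => exact hle i
    · intro i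
      cases i with
      | zero => exact hN
      | succ i => exact hc i
    · intro i
      cases i with
      | zero =>
        intro e he
        change x * e * x⁻¹ * e⁻¹ ∈ c 0
        rw [h0]
        exact hx e he
      | succ i => exact hs i

/-- **Chain lemma**. -/
theorem mem_of_stab {P : Sylow p G} {X : Subgroup G} (h : EssDefs.Ess p (P : Subgroup G) X) {x : G}
    (hs : Stab (normalizer (X : Set G)) x X) (hxP : x ∈ (P : Subgroup G))
    (hxN : x ∈ normalizer (X : Set G)) : x ∈ X := by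
  obtain ⟨c, n, h0, hn, hle, hc, hx⟩ := hs.exists_chain
  exact (ess_of_isEss h).mem_of_chain c n h0 hn hle hc hxP hxN hx

end Cfsg.Agent.Lib.EssBridge
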