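import Cfsg.Agent.Lib.PackMatGroup

/-!
# Products of packed matrices modulo `p` in the kernel

`mulM C A B` is the packed product of the packed matrices `A` and `B` (`Cfsg.Agent.Lib.PackMat` format): every row of
`A` is extracted and multiplied with `B`; the digits stay in place, the reduction modulo `p` is done for the whole
matrix at once.  About twice the cost of `n` row steps.

* `mulM_spec` : soundness;
* `redG_of_check` : a kernel check that all entries are reduced;
* `CodesR C g A` : `A` is the reduced packed matrix of `g`; `CodesR.mul`, `CodesR.pow`, `CodesR.eq`, `CodesR.ne`;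
* straight line programs: `runS`, `checkS`, `checkS_sound`.
-/

set_option autoImplicit false

namespace Cfsg.Agent.Lib.PackMatMul

open Finset
open Cfsg.Agent.Lib.PackMat Cfsg.Agent.Lib.PackMatGroup

variable {C : Cfg}

/-! ### Kernel functions -/

/-- Rows of `A` times `B`, the results stay at their places. -/
noncomputable def mulAcc (s GM FM A B : ℕ) : ℕ → ℕ → ℕ
  | 0, acc => acc
  | c + 1, acc =>
    force (Nat.mod (Nat.land (Nat.shiftLeft A (Nat.mul s c)) GM) FM) fun R =>
    force (Nat.add acc (Nat.shiftRight (Nat.land (Nat.mul R B) GM) (Nat.mul s c))) fun acc' =>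
      mulAcc s GM FM A B c acc'

/-- Reduction of all digits. -/
noncomputable def redK (p r m t nf LO HI HT F : ℕ) : ℕ :=
  force (foldK r LO HI nf F) fun F =>
  Nat.sub F (Nat.mul p (Nat.land (Nat.shiftRight (Nat.mul F m) t) HT))

noncomputable def LO2 (C : Cfg) : ℕ := (2 ^ C.r - 1) * rep C.s (C.n * C.n)
noncomputable def HI2 (C : Cfg) : ℕ := (2 ^ (C.s - C.r) - 1) * rep C.s (C.n * C.n)
noncomputable def HT2 (C : Cfg) : ℕ := (2 ^ (C.s - C.t) - 1) * rep C.s (C.n * C.n)

/-- Product of packed matrices, all constants given. -/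
noncomputable def mulMK (n s p r m t nf GM FM LO HI HT A B : ℕ) : ℕ :=
  force (mulAcc s GM FM A B n 0) fun F => redK p r m t nf LO HI HT F

/-- Product of packed matrices. -/
noncomputable def mulM (C : Cfg) (A B : ℕ) : ℕ :=
  mulMK C.n C.s C.p C.r C.m C.t C.nf (GMc C) (FMc C) (LO2 C) (HI2 C) (HT2 C) A B

/-- Evaluate all constants of the configuration once. -/
noncomputable def withM {α : Type} (C : Cfg) (k : (ℕ → ℕ → ℕ) → α) : α :=
  force C.n fun n => force C.s fun s => force C.p fun p => force C.r fun r => force C.m fun m =>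
  force C.t fun t => force C.nf fun nf => force (GMc C) fun GM => force (FMc C) fun FM =>
  force (LO2 C) fun LO => force (HI2 C) fun HI => force (HT2 C) fun HT =>
    k fun A B => mulMK n s p r m t nf GM FM LO HI HT A B

theorem withM_eq {α : Type} (C : Cfg) (k : (ℕ → ℕ → ℕ) → α) : withM C k = k (mulM C) := rfl

/-! ### Semantics -/

/-- Reduced packed matrix. -/
def RedG (C : Cfg) (A : ℕ) : Prop :=
  A < 2 ^ (C.s * (C.n * C.n)) ∧ ∀ i < C.n * C.n, dg C.s A i < C.p

theorem RedG.lt {A : ℕ} (h : RedG C A) (hC : Good C) (i : ℕ) : dg C.s A i < C.p := by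
  by_cases hi : i < C.n * C.n
  · exact h.2 i hi
  · rw [dg_eq_zero h.1 (by omega)]
    exact hC.hp

theorem w_lt_pow (hC : Good C) : 2 ^ C.w - 1 < 2 ^ C.s := by
  have h2 := Nat.pow_le_pow_right (n := 2) (by norm_num) hC.hws
  have h3 := Nat.two_pow_pos C.w
  omega

theorem RedG.okG {A : ℕ} (h : RedG C A) (hC : Good C) : okG C A = true := by
  unfold PackMat.okG
  rw [Nat.beq_eq]
  change A &&& ((2 ^ C.w - 1) * rep C.s (C.n * C.n)) = A
  rw [land_rep hC.hs (w_lt_pow hC)]
  conv_rhs => rw [← E_dg h.1]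
  apply E_congr
  intro i hi
  rw [Nat.and_two_pow_sub_one_eq_mod, Nat.mod_eq_of_lt]
  exact lt_of_lt_of_le (h.2 i hi) hC.hw

theorem redG_inj {A B : ℕ} (hA : RedG C A) (hB : RedG C B) (h : mat C A = mat C B) : A = B := by
  apply ext_dg hA.1 hB.1
  intro i hi
  have hn : 0 < C.n := by
    rcases Nat.eq_zero_or_pos C.n with h0 | h0
    · rw [h0] at hi; simp at hi
    · exact h0
  have h1 : i % C.n < C.n := Nat.mod_lt _ hn
  have h2 : i / C.n < C.n := Nat.div_lt_of_lt_mul hi
  have h3 := congrFun (congrFun h ⟨i % C.n, h1⟩) ⟨i / C.n, h2⟩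
  rw [mat_def, mat_def] at h3
  have e : i % C.n + C.n * (i / C.n) = i := Nat.mod_add_div i C.n
  simp only [e] at h3
  rw [ZMod.natCast_eq_natCast_iff] at h3
  have h4 := hA.2 i hi
  have h5 := hB.2 i hi
  rwa [Nat.ModEq, Nat.mod_eq_of_lt h4, Nat.mod_eq_of_lt h5] at h3

/-- Effect of one folding on the first `L` digits. -/
theorem fold_specL (hC : Good C) (L : ℕ) {F b : ℕ}
    (hb : ∀ i < L, dg C.s F i ≤ b) (hf : (2 ^ C.r) % C.p = 1 % C.p) :
    let F' := (F &&& ((2 ^ C.r - 1) * rep C.s L)) + ((F >>> C.r) &&& ((2 ^ (C.s - C.r) - 1) * rep C.s L))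
    F' < 2 ^ (C.s * L) ∧ (∀ i < L, dg C.s F' i ≤ foldBound C.r b) ∧
      ∀ i < L, ((dg C.s F' i : ℕ) : ZMod C.p) = (dg C.s F i : ZMod C.p) := by
  intro F'
  have hc : 2 ^ C.r - 1 < 2 ^ C.s := by
    have h2 := Nat.pow_le_pow_right (n := 2) (by norm_num) hC.hr
    have h3 := Nat.two_pow_pos C.r
    omega
  have e1 : F' = E C.s (fun i => dg C.s F i % 2 ^ C.r + dg C.s F i / 2 ^ C.r) L := by
    change (F &&& ((2 ^ C.r - 1) * rep C.s L)) + ((F >>> C.r) &&& ((2 ^ (C.s - C.r) - 1) * rep C.s L)) = _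
    rw [land_rep hC.hs hc, shift_land_rep hC.hs hC.hr, E_add]
    apply E_congr
    intro i _
    rw [Nat.and_two_pow_sub_one_eq_mod]
  have hle : ∀ x : ℕ, x % 2 ^ C.r + x / 2 ^ C.r ≤ x := by
    intro x
    have h1 := Nat.mod_add_div x (2 ^ C.r)
    have h2 : x / 2 ^ C.r ≤ 2 ^ C.r * (x / 2 ^ C.r) := Nat.le_mul_of_pos_left _ (Nat.two_pow_pos _)
    omega
  have hlt : ∀ i < L, dg C.s F i % 2 ^ C.r + dg C.s F i / 2 ^ C.r < 2 ^ C.s := fun i _ =>
    lt_of_le_of_lt (hle _) (dg_lt _ _ _)
  have e2 : ∀ i < L, dg C.s F' i = dg C.s F i % 2 ^ C.r + dg C.s F i / 2 ^ C.r := by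
    intro i hi
    rw [e1, dg_E hlt hi]
  refine ⟨?_, ?_, ?_⟩
  · rw [e1]
    exact E_lt hlt
  · intro i hi
    rw [e2 i hi]
    have h1 : dg C.s F i % 2 ^ C.r ≤ 2 ^ C.r - 1 := by
      have := Nat.mod_lt (dg C.s F i) (Nat.two_pow_pos C.r)
      omega
    have h2 : dg C.s F i / 2 ^ C.r ≤ b / 2 ^ C.r := Nat.div_le_div_right (hb i hi)
    unfold foldBound
    omega
  · intro i hi
    rw [e2 i hi]
    have h1 : (2 : ZMod C.p) ^ C.r = 1 := by
      have := (ZMod.natCast_eq_natCast_iff _ _ _).mpr hf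
      simpa using this
    conv_rhs => rw [← Nat.mod_add_div (dg C.s F i) (2 ^ C.r)]
    push_cast
    rw [h1, one_mul]

theorem foldK_specL (hC : Good C) (L : ℕ) (hf : (2 ^ C.r) % C.p = 1 % C.p) (k : ℕ) :
    ∀ {F b : ℕ}, F < 2 ^ (C.s * L) → (∀ i < L, dg C.s F i ≤ b) →
      foldK C.r ((2 ^ C.r - 1) * rep C.s L) ((2 ^ (C.s - C.r) - 1) * rep C.s L) k F < 2 ^ (C.s * L) ∧
      (∀ i < L, dg C.s (foldK C.r ((2 ^ C.r - 1) * rep C.s L) ((2 ^ (C.s - C.r) - 1) * rep C.s L) k F) i ≤
        foldBoundIter C.r k b) ∧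
      ∀ i < L, ((dg C.s (foldK C.r ((2 ^ C.r - 1) * rep C.s L) ((2 ^ (C.s - C.r) - 1) * rep C.s L) k F) i : ℕ) :
        ZMod C.p) = (dg C.s F i : ZMod C.p) := by
  induction k with
  | zero => intro F b hF hb; exact ⟨hF, hb, fun _ _ => rfl⟩
  | succ k ih =>
    intro F b hF hb
    obtain ⟨h1, h2, h3⟩ := fold_specL hC L hb hf
    obtain ⟨h4, h5, h6⟩ := ih h1 h2
    refine ⟨h4, h5, fun i hi => ?_⟩
    rw [← h3 i hi]
    exact h6 i hi

/-- Soundness of the reduction. -/
theorem redK_spec (hC : Good C) (L : ℕ) {F : ℕ} (hF1 : F < 2 ^ (C.s * L))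
    (hF2 : ∀ i < L, dg C.s F i ≤ C.n * ((C.p - 1) * (2 ^ C.w - 1))) :
    let G := redK C.p C.r C.m C.t C.nf ((2 ^ C.r - 1) * rep C.s L) ((2 ^ (C.s - C.r) - 1) * rep C.s L)
      ((2 ^ (C.s - C.t) - 1) * rep C.s L) F
    G < 2 ^ (C.s * L) ∧ (∀ i < L, dg C.s G i < C.p) ∧
      ∀ i < L, ((dg C.s G i : ℕ) : ZMod C.p) = (dg C.s F i : ZMod C.p) := by
  intro G
  have hs := hC.hs
  obtain ⟨F2, hF2eq, k1, k2, k3⟩ : ∃ F2, F2 = foldK C.r ((2 ^ C.r - 1) * rep C.s L)
      ((2 ^ (C.s - C.r) - 1) * rep C.s L) C.nf F ∧ F2 < 2 ^ (C.s * L) ∧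
      (∀ i < L, dg C.s F2 i ≤ foldBoundIter C.r C.nf (C.n * ((C.p - 1) * (2 ^ C.w - 1)))) ∧
      ∀ i < L, ((dg C.s F2 i : ℕ) : ZMod C.p) = (dg C.s F i : ZMod C.p) := by
    refine ⟨_, rfl, ?_⟩
    rcases hC.hfold with h0 | h0
    · rw [h0]
      exact ⟨hF1, hF2, fun _ _ => rfl⟩
    · exact foldK_specL hC L h0 C.nf hF1 hF2
  have hst : G = F2 - C.p * (((F2 * C.m) >>> C.t) &&& ((2 ^ (C.s - C.t) - 1) * rep C.s L)) := by
    rw [hF2eq]
    rfl
  have hmul : F2 * C.m = E C.s (fun i => dg C.s F2 i * C.m) L := by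
    conv_lhs => rw [← E_dg k1]
    rw [E_mul_const]
  have hmb : ∀ i < L, dg C.s F2 i * C.m < 2 ^ C.s := fun i hi =>
    lt_of_le_of_lt (Nat.mul_le_mul_right _ (k2 i hi)) hC.hm
  have hQ : ((F2 * C.m) >>> C.t) &&& ((2 ^ (C.s - C.t) - 1) * rep C.s L) =
      E C.s (fun i => dg C.s F2 i / C.p) L := by
    rw [shift_land_rep hs hC.ht]
    apply E_congr
    intro i hi
    rw [hmul, dg_E hmb hi, hC.hq _ (Nat.lt_succ_of_le (k2 i hi))]
  have hres : G = E C.s (fun i => dg C.s F2 i % C.p) L := by
    rw [hst, hQ, mul_comm, E_mul_const]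
    have h5 : E C.s (dg C.s F2) L = E C.s (fun i => dg C.s F2 i % C.p) L +
        E C.s (fun i => dg C.s F2 i / C.p * C.p) L := by
      rw [E_add]
      apply E_congr
      intro i _
      rw [mul_comm, Nat.mod_add_div]
    rw [E_dg k1] at h5
    exact Nat.sub_eq_of_eq_add h5
  have hlt : ∀ i < L, dg C.s F2 i % C.p < 2 ^ C.s := fun i _ =>
    lt_of_le_of_lt (Nat.mod_le _ _) (dg_lt _ _ _)
  have dS : ∀ i < L, dg C.s G i = dg C.s F2 i % C.p := by
    intro i hi
    rw [hres, dg_E hlt hi]
  refine ⟨by rw [hres]; exact E_lt hlt, fun i hi => by rw [dS i hi]; exact Nat.mod_lt _ hC.hp, ?_⟩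
  intro i hi
  rw [dS i hi, ZMod.natCast_mod, k3 i hi]

/-- The packed row `j` of `A`. -/
theorem row_spec (hC : Good C) {A : ℕ} {j c : ℕ} (hj : j + c + 1 = C.n) :
    Nat.mod (Nat.land (Nat.shiftLeft A (Nat.mul C.s c)) (GMc C)) (FMc C) =
      E C.s (fun i => dg C.s A (j + C.n * (C.n - 1 - i))) C.n := by
  have hs := hC.hs
  have hn := hC.hn
  change ((A <<< (C.s * c)) &&& gmask C.s C.n) % (2 ^ (C.s * (C.n + 1)) - 1) = _
  rw [land_gmask hs hn, gather_mod hs hn (fun k => dg C.s (A <<< (C.s * c)) (C.n - 1 + C.n * k))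
    (fun k _ => dg_lt _ _ _)]
  apply E_congr
  intro i hi
  have e : C.n - 1 + C.n * (C.n - 1 - i) = (j + C.n * (C.n - 1 - i)) + c := by omega
  rw [e]
  generalize j + C.n * (C.n - 1 - i) = q
  rw [dg_def, dg_def, Nat.shiftLeft_eq, mul_add, pow_add, Nat.mul_div_mul_right _ _ (Nat.two_pow_pos _)]

theorem mulAcc_zero (s GM FM A B acc : ℕ) : mulAcc s GM FM A B 0 acc = acc := rfl

theorem mulAcc_succ (s GM FM A B c acc : ℕ) : mulAcc s GM FM A B (c + 1) acc =
    mulAcc s GM FM A B c (acc + ((((Nat.mod (Nat.land (Nat.shiftLeft A (Nat.mul s c)) GM) FM) * B) &&& GM)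
      >>> (s * c))) := rfl

/-- Unreduced entries of the product. -/
def cv (C : Cfg) (A B j k : ℕ) : ℕ :=
  ∑ i ∈ range C.n, dg C.s A (j + C.n * i) * dg C.s B (i + C.n * k)

theorem cv_def (A B j k : ℕ) : cv C A B j k =
    ∑ i ∈ range C.n, dg C.s A (j + C.n * i) * dg C.s B (i + C.n * k) := rfl

theorem cv_le (hC : Good C) {A B : ℕ} (hA : RedG C A) (hB : RedG C B) (j k : ℕ) :
    cv C A B j k ≤ C.n * ((C.p - 1) * (2 ^ C.w - 1)) := by
  rw [cv_def]
  calc _ ≤ ∑ i ∈ range C.n, (C.p - 1) * (2 ^ C.w - 1) := by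
        apply sum_le_sum
        intro i _
        have h1 := hA.lt hC (j + C.n * i)
        have h2 := hB.lt hC (i + C.n * k)
        have h3 := hC.hw
        exact Nat.mul_le_mul (by omega) (by omega)
    _ = C.n * ((C.p - 1) * (2 ^ C.w - 1)) := by simp

/-- One row of the product. -/
theorem rowmul_spec (hC : Good C) {A B : ℕ} (hA : RedG C A) (hB : RedG C B) {j c : ℕ} (hj : j + c + 1 = C.n) :
    (((Nat.mod (Nat.land (Nat.shiftLeft A (Nat.mul C.s c)) (GMc C)) (FMc C)) * B) &&& GMc C) >>> (C.s * c) =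
      ∑ k ∈ range C.n, cv C A B j k * 2 ^ (C.s * (j + C.n * k)) := by
  have hs := hC.hs
  have hn := hC.hn
  rw [row_spec hC hj]
  set R := E C.s (fun i => dg C.s A (j + C.n * (C.n - 1 - i))) C.n with hR
  have hR1 : R < 2 ^ (C.s * C.n) := E_lt fun i _ => dg_lt _ _ _
  have hR2 : ∀ i < C.n, dg C.s R i = dg C.s A (j + C.n * (C.n - 1 - i)) := fun i hi => by
    rw [hR, dg_E (fun i _ => dg_lt _ _ _) hi]
  have hbd : ∀ l, conv C.s R B C.n l < 2 ^ C.s := by
    intro l
    refine lt_of_le_of_lt (conv_le (a := C.p - 1) (b := 2 ^ C.w - 1) ?_ ?_ l) hC.hb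
    · intro i hi
      rw [hR2 i hi]
      have := hA.lt hC (j + C.n * (C.n - 1 - i))
      omega
    · intro i
      have := hB.lt hC i
      have := hC.hw
      omega
  change ((R * B) &&& gmask C.s C.n) >>> (C.s * c) = _
  rw [land_gmask hs hn, Nat.shiftRight_eq_div_pow]
  have e : ∑ k ∈ range C.n, dg C.s (R * B) (C.n - 1 + C.n * k) * 2 ^ (C.s * (C.n - 1 + C.n * k)) =
      2 ^ (C.s * c) * ∑ k ∈ range C.n, cv C A B j k * 2 ^ (C.s * (j + C.n * k)) := by
    rw [mul_sum]
    apply sum_congr rfl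
    intro k hk
    have hk' := mem_range.mp hk
    have hpos : C.n - 1 + C.n * k < C.n + C.n * C.n := by
      have : C.n * k ≤ C.n * C.n := Nat.mul_le_mul_left _ hk'.le
      omega
    rw [dg_mul hR1 hB.1 hbd hpos, conv_at]
    have e1 : ∑ i ∈ range C.n, dg C.s R (C.n - 1 - i) * dg C.s B (i + C.n * k) = cv C A B j k := by
      rw [cv_def]
      apply sum_congr rfl
      intro i hi
      have hi' := mem_range.mp hi
      rw [hR2 _ (by omega)]
      congr 3
      congr 1
      omega
    have e2 : C.n - 1 + C.n * k = c + (j + C.n * k) := by omega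
    rw [e1, e2, mul_add, pow_add]
    ring
  rw [e, Nat.mul_div_cancel_left _ (Nat.two_pow_pos _)]

theorem mulAcc_spec (hC : Good C) {A B : ℕ} (hA : RedG C A) (hB : RedG C B) (c : ℕ) :
    ∀ acc, c ≤ C.n → mulAcc C.s (GMc C) (FMc C) A B c acc = acc +
      ∑ j ∈ (range C.n).filter (fun j => C.n ≤ j + c), ∑ k ∈ range C.n, cv C A B j k * 2 ^ (C.s * (j + C.n * k)) := by
  induction c with
  | zero =>
    intro acc _
    rw [mulAcc_zero, sum_filter, sum_eq_zero, add_zero]
    intro j hj
    rw [if_neg (by have := mem_range.mp hj; omega)]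
  | succ c ih =>
    intro acc hc
    obtain ⟨j, hj⟩ : ∃ j, j + c + 1 = C.n := ⟨C.n - (c + 1), by omega⟩
    rw [mulAcc_succ, ih _ (by omega), rowmul_spec hC hA hB hj, add_assoc]
    congr 1
    have hs : (range C.n).filter (fun j => C.n ≤ j + (c + 1)) =
        insert j ((range C.n).filter (fun j => C.n ≤ j + c)) := by
      ext i
      simp only [mem_filter, mem_range, mem_insert]
      omega
    rw [hs, sum_insert]
    simp only [mem_filter, mem_range, not_and]
    intro _
    omega

theorem sum_eq_E (s n : ℕ) (hn : 0 < n) (f : ℕ → ℕ → ℕ) :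
    ∑ j ∈ range n, ∑ k ∈ range n, f j k * 2 ^ (s * (j + n * k)) = E s (fun i => f (i % n) (i / n)) (n * n) := by
  rw [E_def, sum_comm, ← sum_product', ← Finset.sum_bij (i := fun (a : ℕ × ℕ) _ => a.2 + n * a.1) (s := range n ×ˢ range n)
    (t := range (n * n))]
  · intro a ha
    obtain ⟨h1, h2⟩ := mem_product.mp ha
    have h1' := mem_range.mp h1
    have h2' := mem_range.mp h2
    rw [mem_range]
    calc a.2 + n * a.1 < n + n * a.1 := by omega
      _ = n * (a.1 + 1) := by ring
      _ ≤ n * n := Nat.mul_le_mul_left _ (by omega)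
  · intro a ha b hb hab
    obtain ⟨h1, h2⟩ := mem_product.mp ha
    obtain ⟨h3, h4⟩ := mem_product.mp hb
    have h2' := mem_range.mp h2
    have h4' := mem_range.mp h4
    have e1 : a.2 = b.2 := by
      have := congrArg (· % n) hab
      simpa [Nat.add_mul_mod_self_left, Nat.mod_eq_of_lt h2', Nat.mod_eq_of_lt h4'] using this
    have e2 : a.1 = b.1 := by
      have h5 : n * a.1 = n * b.1 := by
        have hab' : a.2 + n * a.1 = b.2 + n * b.1 := hab
        omega
      exact Nat.eq_of_mul_eq_mul_left hn h5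
    exact Prod.ext e2 e1
  · intro i hi
    have hi' := mem_range.mp hi
    refine ⟨(i / n, i % n), ?_, ?_⟩
    · rw [mem_product, mem_range, mem_range]
      exact ⟨Nat.div_lt_of_lt_mul hi', Nat.mod_lt _ hn⟩
    · exact Nat.mod_add_div i n
  · intro a ha
    obtain ⟨h1, h2⟩ := mem_product.mp ha
    have h2' := mem_range.mp h2
    rw [Nat.add_mul_mod_self_left, Nat.mod_eq_of_lt h2', Nat.add_mul_div_left _ _ hn,
      Nat.div_eq_of_lt h2', zero_add]

/-- **Soundness of the product.** -/
theorem mulM_spec (hC : Good C) {A B : ℕ} (hA : RedG C A) (hB : RedG C B) :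
    RedG C (mulM C A B) ∧ mat C (mulM C A B) = mat C A * mat C B := by
  have hn := hC.hn
  set F := mulAcc C.s (GMc C) (FMc C) A B C.n 0 with hF
  have e1 : F = E C.s (fun i => cv C A B (i % C.n) (i / C.n)) (C.n * C.n) := by
    rw [hF, mulAcc_spec hC hA hB C.n 0 le_rfl, zero_add, ← sum_eq_E C.s C.n hn]
    congr 1
    ext i
    simp only [mem_filter, mem_range, and_iff_left_iff_imp]
    omega
  have hlt : ∀ i < C.n * C.n, cv C A B (i % C.n) (i / C.n) < 2 ^ C.s := fun i _ =>
    lt_of_le_of_lt (cv_le hC hA hB _ _) hC.hb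
  have hF1 : F < 2 ^ (C.s * (C.n * C.n)) := by
    rw [e1]
    exact E_lt hlt
  have hF2 : ∀ i < C.n * C.n, dg C.s F i = cv C A B (i % C.n) (i / C.n) := fun i hi => by
    rw [e1, dg_E hlt hi]
  obtain ⟨k1, k2, k3⟩ := redK_spec hC (C.n * C.n) hF1 (fun i hi => by rw [hF2 i hi]; exact cv_le hC hA hB _ _)
  have hres : mulM C A B = redK C.p C.r C.m C.t C.nf ((2 ^ C.r - 1) * rep C.s (C.n * C.n))
      ((2 ^ (C.s - C.r) - 1) * rep C.s (C.n * C.n)) ((2 ^ (C.s - C.t) - 1) * rep C.s (C.n * C.n)) F := rfl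
  rw [← hres] at k1 k2 k3
  refine ⟨⟨k1, k2⟩, ?_⟩
  funext j k
  have hj := j.2
  have hk := k.2
  have hi : (j : ℕ) + C.n * k < C.n * C.n := by
    calc (j : ℕ) + C.n * k < C.n + C.n * k := by omega
      _ = C.n * (k + 1) := by ring
      _ ≤ C.n * C.n := Nat.mul_le_mul_left _ (by omega)
  rw [mat_def, k3 _ hi, hF2 _ hi, Nat.add_mul_mod_self_left, Nat.mod_eq_of_lt hj,
    Nat.add_mul_div_left _ _ hn, Nat.div_eq_of_lt hj, zero_add, cv_def, Matrix.mul_apply]
  push_cast
  rw [Finset.sum_range]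
  rfl

/-! ### Check of reduced matrices -/

/-- Kernel check that all entries are reduced. -/
noncomputable def redC (C : Cfg) (A : ℕ) : Bool :=
  bif okG C A then
    bif Nat.blt C.w C.s then
      Nat.beq (Nat.land (Nat.add A ((2 ^ C.w - C.p) * rep C.s (C.n * C.n))) (2 ^ C.w * rep C.s (C.n * C.n))) 0
    else false
  else false

theorem redG_of_check (hC : Good C) {A : ℕ} (h : redC C A = true) : RedG C A := by
  unfold redC at h
  rcases h1 : PackMat.okG C A with _ | _
  · rw [h1] at h; simp at h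
  rw [h1, cond_true] at h
  rcases h2 : Nat.blt C.w C.s with _ | _
  · rw [h2] at h; simp at h
  rw [h2, cond_true] at h
  have h3 : (A + (2 ^ C.w - C.p) * rep C.s (C.n * C.n)) &&& (2 ^ C.w * rep C.s (C.n * C.n)) = 0 :=
    Nat.eq_of_beq_eq_true h
  have hws : C.w < C.s := by simpa [Nat.blt_eq] using h2
  obtain ⟨k1, k2⟩ := okG_spec hC h1
  have hpw : 2 ^ (C.w + 1) ≤ 2 ^ C.s := Nat.pow_le_pow_right (by norm_num) hws
  have hw0 := Nat.two_pow_pos C.w
  have hp0 := hC.hp
  have hpw2 := hC.hw
  rw [pow_succ] at hpw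
  refine ⟨k1, fun i hi => ?_⟩
  have hlt : ∀ i < C.n * C.n, dg C.s A i + (2 ^ C.w - C.p) < 2 ^ C.s := by
    intro i _
    have := k2 i
    omega
  have e1 : A + (2 ^ C.w - C.p) * rep C.s (C.n * C.n) =
      E C.s (fun i => dg C.s A i + (2 ^ C.w - C.p)) (C.n * C.n) := by
    conv_lhs => rw [← E_dg k1, rep_mul hC.hs]
    rw [E_add]
  have e2 : dg C.s ((A + (2 ^ C.w - C.p) * rep C.s (C.n * C.n)) &&& (2 ^ C.w * rep C.s (C.n * C.n))) i = 0 := by
    rw [h3, dg_def, Nat.zero_div, Nat.zero_mod]
  rw [dg_land, e1, dg_E hlt hi, dg_rep hC.hs (by omega) hi] at e2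
  by_contra hcon
  have hge : 2 ^ C.w ≤ dg C.s A i + (2 ^ C.w - C.p) := by omega
  have hle : dg C.s A i + (2 ^ C.w - C.p) < 2 ^ (C.w + 1) := by
    have := k2 i
    rw [pow_succ]
    omega
  have e3 := congrArg (fun a => a.testBit C.w) e2
  simp only [Nat.testBit_and, Nat.zero_testBit, Nat.testBit_two_pow_self, Bool.and_true] at e3
  rw [Nat.testBit_eq_decide_div_mod_eq] at e3
  have e4 : (dg C.s A i + (2 ^ C.w - C.p)) / 2 ^ C.w = 1 := by
    rw [pow_succ] at hle
    exact Nat.div_eq_of_lt_le (by omega) (by omega)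
  rw [e4] at e3
  simp at e3

/-! ### Elements of the group with reduced packed matrices -/

/-- `A` is the reduced packed matrix of `g`. -/
def CodesR (C : Cfg) (g : U C) (A : ℕ) : Prop := RedG C A ∧ (g : M C) = mat C A

theorem CodesR.codes (hC : Good C) {g : U C} {A : ℕ} (h : CodesR C g A) : Codes C g A := ⟨h.1.okG hC, h.2⟩

theorem Codes.red (hC : Good C) {g : U C} {A : ℕ} (h : Codes C g A) (hA : redC C A = true) : CodesR C g A :=
  ⟨redG_of_check hC hA, h.2⟩

theorem CodesR.mul (hC : Good C) {g h : U C} {A B : ℕ} (hg : CodesR C g A) (hh : CodesR C h B) :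
    CodesR C (g * h) (mulM C A B) := by
  obtain ⟨h1, h2⟩ := mulM_spec hC hg.1 hh.1
  exact ⟨h1, by rw [h2, ← hg.2, ← hh.2, Units.val_mul]⟩

theorem CodesR.inj {g h : U C} {A : ℕ} (hg : CodesR C g A) (hh : CodesR C h A) : g = h :=
  Units.ext (by rw [hg.2, hh.2])

theorem CodesR.eq {g h : U C} {A B : ℕ} (hg : CodesR C g A) (hh : CodesR C h B) (e : A = B) : g = h := by
  subst e
  exact hg.inj hh

theorem CodesR.code_eq {g : U C} {A B : ℕ} (hg : CodesR C g A) (hh : CodesR C g B) : A = B :=
  redG_inj hg.1 hh.1 (by rw [← hg.2, ← hh.2])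

/-- The packed identity matrix. -/
noncomputable def oneM (C : Cfg) : ℕ := rep (C.s * (C.n + 1)) C.n

theorem codesR_one (hC : Good C) (hp : 1 < C.p) : CodesR C 1 (oneM C) := by
  have hn := hC.hn
  have hs := hC.hs
  have hps : C.p ≤ 2 ^ C.s := hC.hw.trans (Nat.pow_le_pow_right (by norm_num) hC.hws)
  have e : oneM C = E C.s (fun i => if i % C.n = i / C.n then 1 else 0) (C.n * C.n) := by
    have h1 := sum_eq_E C.s C.n hn (fun j k => if j = k then 1 else 0)
    rw [← h1]
    unfold oneM
    rw [rep_eq (Nat.mul_pos hs (Nat.succ_pos _)), E_def]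
    apply sum_congr rfl
    intro j hj
    rw [sum_eq_single_of_mem j hj]
    · rw [if_pos rfl]
      congr 2
      rw [Nat.succ_eq_add_one]
      ring
    · intro k _ hk
      rw [if_neg (fun h => hk h.symm), zero_mul]
  have hlt : ∀ i < C.n * C.n, (if i % C.n = i / C.n then 1 else 0) < 2 ^ C.s := by
    intro i _
    have := Nat.one_lt_two_pow hs.ne'
    split_ifs
    · omega
    · omega
  refine ⟨⟨by rw [e]; exact E_lt hlt, fun i hi => ?_⟩, ?_⟩
  · rw [e, dg_E hlt hi]
    split_ifs
    · exact hp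
    · exact hC.hp
  · funext j k
    have hj := j.2
    have hk := k.2
    have hi : (j : ℕ) + C.n * k < C.n * C.n := by
      calc (j : ℕ) + C.n * k < C.n + C.n * k := by omega
        _ = C.n * (k + 1) := by ring
        _ ≤ C.n * C.n := Nat.mul_le_mul_left _ (by omega)
    rw [mat_def, e, dg_E hlt hi, Nat.add_mul_mod_self_left, Nat.mod_eq_of_lt hj,
      Nat.add_mul_div_left _ _ hn, Nat.div_eq_of_lt hj, zero_add, Units.val_one, Matrix.one_apply]
    by_cases h : j = k
    · rw [if_pos h, if_pos (congrArg Fin.val h), Nat.cast_one]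
    · rw [if_neg h, if_neg (fun h' => h (Fin.ext h')), Nat.cast_zero]

/-! ### Straight line programs -/

/-- Product of a nonempty word; `f` is the multiplication. -/
noncomputable def evL (f : ℕ → ℕ → ℕ) (L : List ℕ) (w : List ℕ) : ℕ → ℕ :=
  List.rec (motive := fun _ => ℕ → ℕ) (fun acc => acc)
    (fun i _ ih acc => force (f acc (get L i)) fun acc' => ih acc') w

theorem evL_nil (f : ℕ → ℕ → ℕ) (L : List ℕ) (acc : ℕ) : evL f L [] acc = acc := rfl
theorem evL_cons (f : ℕ → ℕ → ℕ) (L : List ℕ) (i : ℕ) (w : List ℕ) (acc : ℕ) :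
    evL f L (i :: w) acc = evL f L w (f acc (get L i)) := rfl

/-- Run a straight line program.  A step is a pair (first letter, remaining letters) of indices of results so far
(the newest result has index `0`). -/
noncomputable def runS (f : ℕ → ℕ → ℕ) (ws : List (ℕ × List ℕ)) (L : List ℕ) (k : List ℕ → Bool) : Bool :=
  List.rec (motive := fun _ => List ℕ → Bool) k
    (fun w _ ih L => force (evL f L w.2 (get L w.1)) fun v => ih (v :: L)) ws L

theorem runS_nil (f : ℕ → ℕ → ℕ) (L : List ℕ) (k : List ℕ → Bool) : runS f [] L k = k L := rfl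
theorem runS_cons (f : ℕ → ℕ → ℕ) (w : ℕ × List ℕ) (ws : List (ℕ × List ℕ)) (L : List ℕ) (k : List ℕ → Bool) :
    runS f (w :: ws) L k = runS f ws (evL f L w.2 (get L w.1) :: L) k := rfl

/-- The straight line program in a group. -/
def runG {G : Type*} [Group G] : List (ℕ × List ℕ) → List G → List G
  | [], LG => LG
  | w :: ws, LG => runG ws (evG LG (w.1 :: w.2) :: LG)

theorem runG_nil {G : Type*} [Group G] (LG : List G) : runG [] LG = LG := rfl
theorem runG_cons {G : Type*} [Group G] (w : ℕ × List ℕ) (ws : List (ℕ × List ℕ)) (LG : List G) :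
    runG (w :: ws) LG = runG ws (evG LG (w.1 :: w.2) :: LG) := rfl

theorem runG_map {G H : Type*} [Group G] [Group H] (f : G →* H) (ws : List (ℕ × List ℕ))
    (LG : List G) : runG ws (LG.map f) = (runG ws LG).map f := by
  induction ws generalizing LG with
  | nil => rfl
  | cons w ws ih => rw [runG_cons, runG_cons, evG_map, ← List.map_cons, ih]

theorem runG_mem {G : Type*} [Group G] (K : Subgroup G) (ws : List (ℕ × List ℕ)) {LG : List G}
    (hL : ∀ g ∈ LG, g ∈ K) : ∀ g ∈ runG ws LG, g ∈ K := by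
  induction ws generalizing LG with
  | nil => exact hL
  | cons w ws ih =>
    rw [runG_cons]
    apply ih
    intro g hg
    rcases List.mem_cons.mp hg with rfl | hg
    · exact evG_mem K hL _
    · exact hL g hg

/-- All indices of a program are in range (`k` = length of the list so far). -/
def okS (ws : List (ℕ × List ℕ)) (k : ℕ) : Bool :=
  List.rec (motive := fun _ => ℕ → Bool) (fun _ => true)
    (fun w _ ih k => bif Nat.blt w.1 k then bif okW k w.2 then ih (Nat.succ k) else false else false) ws k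

theorem okS_cons {w : ℕ × List ℕ} {ws : List (ℕ × List ℕ)} {k : ℕ} (h : okS (w :: ws) k = true) :
    w.1 < k ∧ okW k w.2 = true ∧ okS ws (k + 1) = true := by
  have h' : (bif Nat.blt w.1 k then bif okW k w.2 then okS ws (k + 1) else false else false) = true := h
  rcases h1 : Nat.blt w.1 k with _ | _
  · rw [h1] at h'; simp at h'
  rw [h1, cond_true] at h'
  rcases h2 : okW k w.2 with _ | _
  · rw [h2] at h'; simp at h'
  rw [h2, cond_true] at h'
  exact ⟨by simpa [Nat.blt_eq] using h1, rfl, h'⟩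

theorem codesR_get {LG : List (U C)} {L : List ℕ} (h : List.Forall₂ (CodesR C) LG L) {i : ℕ}
    (hi : i < L.length) : CodesR C (LG.getD i 1) (get L i) := by
  induction h generalizing i with
  | nil => simp at hi
  | cons h1 _ ih =>
    rcases i with _ | i
    · exact h1
    · rw [List.getD_cons_succ, get_cons_succ]
      exact ih (by simpa using hi)

theorem codesR_evL (hC : Good C) {LG : List (U C)} {L : List ℕ} (h : List.Forall₂ (CodesR C) LG L)
    {w : List ℕ} (hw : okW L.length w = true) :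
    ∀ {g : U C} {acc : ℕ}, CodesR C g acc → CodesR C (g * evG LG w) (evL (mulM C) L w acc) := by
  induction w with
  | nil =>
    intro g acc hg
    rw [evG_nil, mul_one]
    exact hg
  | cons i w ih =>
    intro g acc hg
    obtain ⟨h1, h2⟩ := okW_cons hw
    rw [evG_cons, ← mul_assoc, evL_cons]
    exact ih h2 (hg.mul hC (codesR_get h h1))

theorem codesR_ev (hC : Good C) {LG : List (U C)} {L : List ℕ} (h : List.Forall₂ (CodesR C) LG L)
    {i : ℕ} (hi : i < L.length) {w : List ℕ} (hw : okW L.length w = true) :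
    CodesR C (evG LG (i :: w)) (evL (mulM C) L w (get L i)) := by
  rw [evG_cons]
  exact codesR_evL hC h hw (codesR_get h hi)

theorem runS_sound (hC : Good C) {ws : List (ℕ × List ℕ)} {LG : List (U C)} {L : List ℕ}
    {k : List ℕ → Bool} (h : List.Forall₂ (CodesR C) LG L) (hok : okS ws L.length = true)
    (hr : runS (mulM C) ws L k = true) :
    ∃ L', List.Forall₂ (CodesR C) (runG ws LG) L' ∧ k L' = true := by
  induction ws generalizing LG L with
  | nil => exact ⟨L, h, hr⟩
  | cons w ws ih =>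
    obtain ⟨h1, h2, h3⟩ := okS_cons hok
    rw [runS_cons] at hr
    rw [runG_cons]
    exact ih (List.Forall₂.cons (codesR_ev hC h h1 h2) h) h3 hr

/-- The results with indices `(a, b)` in the list have equal codes. -/
noncomputable def eqS (es : List (ℕ × ℕ)) (L : List ℕ) : Bool :=
  List.rec true (fun q _ ih => bif Nat.beq (get L q.1) (get L q.2) then ih else false) es

/-- The results with indices `(a, b)` in the list have different codes. -/
noncomputable def neS (es : List (ℕ × ℕ)) (L : List ℕ) : Bool :=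
  List.rec true (fun q _ ih => bif Nat.beq (get L q.1) (get L q.2) then false else ih) es

/-- The complete check: run the program, compare results. -/
noncomputable def checkS (C : Cfg) (ws : List (ℕ × List ℕ)) (es ns : List (ℕ × ℕ)) (L : List ℕ) : Bool :=
  bif okS ws L.length then
    withM C fun f => runS f ws L fun L => bif eqS es L then neS ns L else false
  else false

theorem eqS_sound {es : List (ℕ × ℕ)} {LG : List (U C)} {L : List ℕ} (h : List.Forall₂ (CodesR C) LG L)
    (he : eqS es L = true) (hr : ∀ q ∈ es, q.1 < L.length ∧ q.2 < L.length) :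
    ∀ q ∈ es, LG.getD q.1 1 = LG.getD q.2 1 := by
  induction es with
  | nil => intro q hq; simp at hq
  | cons a es ih =>
    have he' : (bif Nat.beq (get L a.1) (get L a.2) then eqS es L else false) = true := he
    rcases hb : Nat.beq (get L a.1) (get L a.2) with _ | _
    · rw [hb] at he'; simp at he'
    rw [hb, cond_true] at he'
    intro q hq
    rcases List.mem_cons.mp hq with rfl | hq
    · obtain ⟨h1, h2⟩ := hr q List.mem_cons_self
      exact (codesR_get h h1).eq (codesR_get h h2) (Nat.eq_of_beq_eq_true hb)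
    · exact ih he' (fun q hq => hr q (List.mem_cons_of_mem _ hq)) q hq

theorem neS_sound {es : List (ℕ × ℕ)} {LG : List (U C)} {L : List ℕ} (h : List.Forall₂ (CodesR C) LG L)
    (he : neS es L = true) (hr : ∀ q ∈ es, q.1 < L.length ∧ q.2 < L.length) :
    ∀ q ∈ es, LG.getD q.1 1 ≠ LG.getD q.2 1 := by
  induction es with
  | nil => intro q hq; simp at hq
  | cons a es ih =>
    have he' : (bif Nat.beq (get L a.1) (get L a.2) then false else neS es L) = true := he
    rcases hb : Nat.beq (get L a.1) (get L a.2) with _ | _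
    · rw [hb, cond_false] at he'
      intro q hq
      rcases List.mem_cons.mp hq with rfl | hq
      · obtain ⟨h1, h2⟩ := hr q List.mem_cons_self
        intro heq
        have h3 := codesR_get h h1
        have h4 := codesR_get h h2
        rw [heq] at h3
        rw [h3.code_eq h4, Nat.beq_refl] at hb
        exact absurd hb (by simp)
      · exact ih he' (fun q hq => hr q (List.mem_cons_of_mem _ hq)) q hq
    · rw [hb] at he'; simp at he'

theorem forall₂_length {LG : List (U C)} {L : List ℕ} (h : List.Forall₂ (CodesR C) LG L) :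
    LG.length = L.length := h.length_eq

/-- **Soundness of the complete check**: `LG'` is the list of results. -/
theorem checkS_sound (hC : Good C) {LG : List (U C)} {L : List ℕ} (h : List.Forall₂ (CodesR C) LG L)
    {ws : List (ℕ × List ℕ)} {es ns : List (ℕ × ℕ)} (hc : checkS C ws es ns L = true)
    (hr : ∀ q ∈ es ++ ns, q.1 < ws.length + L.length ∧ q.2 < ws.length + L.length) :
    (∀ q ∈ es, (runG ws LG).getD q.1 1 = (runG ws LG).getD q.2 1) ∧
      (∀ q ∈ ns, (runG ws LG).getD q.1 1 ≠ (runG ws LG).getD q.2 1) := by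
  unfold checkS at hc
  rcases h1 : okS ws L.length with _ | _
  · rw [h1] at hc; simp at hc
  rw [h1, cond_true, withM_eq] at hc
  obtain ⟨L', hL', hk⟩ := runS_sound hC h h1 hc
  have hlen : L'.length = ws.length + L.length := by
    have e1 := hL'.length_eq
    have e2 := h.length_eq
    rw [← e1]
    clear hL' hk hc h1 hr e1
    induction ws generalizing LG L with
    | nil => rw [runG_nil, e2, List.length_nil, zero_add]
    | cons w ws ih =>
      rw [runG_cons]
      have hl : (evG LG (w.1 :: w.2) :: LG).length = (0 :: L).length := by simp [e2]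
      have : ∀ (LG : List (U C)) (m : ℕ), LG.length = m → (runG ws LG).length = ws.length + m := by
        clear ih hl e2 h
        induction ws with
        | nil => intro LG m hm; rw [runG_nil, hm, List.length_nil, zero_add]
        | cons w ws ih =>
          intro LG m hm
          rw [runG_cons, ih _ (m + 1) (by simp [hm]), List.length_cons]
          omega
      rw [this _ (L.length + 1) (by simp [e2]), List.length_cons]
      omega
  rw [← hlen] at hr
  rcases hb : eqS es L' with _ | _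
  · rw [hb] at hk; simp at hk
  rw [hb, cond_true] at hk
  exact ⟨eqS_sound hL' hb fun q hq => hr q (List.mem_append_left _ hq),
    neS_sound hL' hk fun q hq => hr q (List.mem_append_right _ hq)⟩

/-! ### Powers -/

/-- Binary exponentiation: `bits` are the remaining binary digits of the exponent, highest first. -/
noncomputable def powB (f : ℕ → ℕ → ℕ) (A : ℕ) (bits : List Bool) : ℕ → ℕ :=
  List.rec (motive := fun _ => ℕ → ℕ) (fun acc => acc)
    (fun b _ ih acc => force (f acc acc) fun q => bif b then force (f q A) fun q' => ih q' else ih q) bits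

/-- The exponent. -/
def bval (bits : List Bool) (k : ℕ) : ℕ :=
  match bits with
  | [] => k
  | b :: bs => bval bs (bif b then 2 * k + 1 else 2 * k)

theorem codesR_powB (hC : Good C) {g : U C} {A : ℕ} (hg : CodesR C g A) (bits : List Bool) :
    ∀ {k acc : ℕ}, CodesR C (g ^ k) acc → CodesR C (g ^ bval bits k) (powB (mulM C) A bits acc) := by
  induction bits with
  | nil => intro k acc h; exact h
  | cons b bits ih =>
    intro k acc h
    have h2 : CodesR C (g ^ (2 * k)) (mulM C acc acc) := by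
      rw [two_mul, pow_add]
      exact h.mul hC h
    cases b with
    | false => exact ih h2
    | true =>
      have h3 : CodesR C (g ^ (2 * k + 1)) (mulM C (mulM C acc acc) A) := by
        rw [pow_succ]
        exact h2.mul hC hg
      exact ih h3

/-- Kernel check: the word `i :: w` has value `g ≠ 1` with `g ^ bval bits 1 = 1`. -/
noncomputable def ordC (C : Cfg) (L : List ℕ) (i : ℕ) (w : List ℕ) (bits : List Bool) : Bool :=
  bif Nat.blt i L.length then bif okW L.length w then
    withM C fun f => force (oneM C) fun one => force (evL f L w (get L i)) fun A =>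
      bif Nat.beq (powB f A bits A) one then bif Nat.beq A one then false else true else false
  else false else false

theorem ordC_spec (hC : Good C) (hp : 1 < C.p) {LG : List (U C)} {L : List ℕ}
    (h : List.Forall₂ (CodesR C) LG L) {i : ℕ} {w : List ℕ} {bits : List Bool} (hc : ordC C L i w bits = true) :
    (evG LG (i :: w)) ^ bval bits 1 = 1 ∧ evG LG (i :: w) ≠ 1 := by
  unfold ordC at hc
  rcases h1 : Nat.blt i L.length with _ | _
  · rw [h1] at hc; simp at hc
  rw [h1, cond_true] at hc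
  rcases h2 : okW L.length w with _ | _
  · rw [h2] at hc; simp at hc
  rw [h2, cond_true, withM_eq] at hc
  simp only [force_eq] at hc
  have hi : i < L.length := by simpa [Nat.blt_eq] using h1
  have k1 := codesR_ev hC h hi h2
  have k2 := codesR_one hC hp (C := C)
  rcases h3 : Nat.beq (powB (mulM C) (evL (mulM C) L w (get L i)) bits (evL (mulM C) L w (get L i)))
    (oneM C) with _ | _
  · rw [h3] at hc; simp at hc
  rw [h3, cond_true] at hc
  have k3 : CodesR C ((evG LG (i :: w)) ^ 1) (evL (mulM C) L w (get L i)) := by rw [pow_one]; exact k1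
  refine ⟨(codesR_powB hC k1 bits k3).eq k2 (Nat.eq_of_beq_eq_true h3), fun heq => ?_⟩
  rw [heq] at k1
  rw [k1.code_eq k2, Nat.beq_refl] at hc
  simp at hc

end Cfsg.Agent.Lib.PackMatMul
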