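import Cfsg.Agent.Lib.PackMatGroup

/-!
# Orders of groups of matrices modulo `p` from orbits of vectors, in the kernel

`grp LG ws` is the subgroup generated by the values of the words `ws`.  A layer is a vector `R₀` (packed row) fixed by
the words `ws'` and whose orbit under `grp LG ws` has exactly `tree.length + 1` elements (`tree` lists how the orbit is
built: pairs (index of a known point, newest = `0`; index of a word)).  `layer_dvd`: if `ws'` is contained in `ws` and
`m ∣ |grp LG ws'|` then `(tree.length + 1) * m ∣ |grp LG ws|`.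
-/

set_option autoImplicit false

namespace Cfsg.Agent.Lib.PackMatOrbit

open Cfsg.Agent.Lib.PackMat Cfsg.Agent.Lib.PackMatGroup

variable {C : Cfg}

/-- `run` with all constants of the configuration evaluated. -/
noncomputable def withR {α : Type} (C : Cfg) (k : (List ℕ → ℕ → ℕ) → α) : α :=
  force C.p fun p => force C.r fun r => force C.m fun m => force C.t fun t =>
  force C.nf fun nf => force (GMc C) fun GM => force (FMc C) fun FM => force (LOc C) fun LO =>
  force (HIc C) fun HI => force (HTc C) fun HT => k fun w R => runK p r m t nf GM FM LO HI HT w R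

theorem withR_eq {α : Type} (C : Cfg) (k : (List ℕ → ℕ → ℕ) → α) : withR C k = k (run C) := rfl

/-- `j`-th word. -/
def getW (ws : List (List ℕ)) (j : ℕ) : List ℕ :=
  List.rec (motive := fun _ => ℕ → List ℕ) (fun _ => [])
    (fun a _ ih i => Nat.rec a (fun j _ => ih j) i) ws j

theorem getW_mem {ws : List (List ℕ)} {j : ℕ} : getW ws j ∈ ws ∨ getW ws j = [] := by
  induction ws generalizing j with
  | nil => exact Or.inr rfl
  | cons a ws ih =>
    rcases j with _ | j
    · exact Or.inl List.mem_cons_self
    · rcases ih (j := j) with h | h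
      · exact Or.inl (List.mem_cons_of_mem _ h)
      · exact Or.inr h

/-- `i`-th entry with default `d`. -/
def getO (d : ℕ) (O : List ℕ) (i : ℕ) : ℕ :=
  List.rec (motive := fun _ => ℕ → ℕ) (fun _ => d)
    (fun a _ ih i => Nat.rec a (fun j _ => ih j) i) O i

theorem getO_prop {Q : ℕ → Prop} {d : ℕ} (hd : Q d) {O : List ℕ} (hO : ∀ o ∈ O, Q o) (i : ℕ) :
    Q (getO d O i) := by
  induction O generalizing i with
  | nil => exact hd
  | cons a O ih =>
    rcases i with _ | i
    · exact hO a List.mem_cons_self
    · exact ih (fun o ho => hO o (List.mem_cons_of_mem _ ho)) i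

/-- Build the orbit, newest point first. -/
noncomputable def buildO (d : ℕ) (f : List ℕ → ℕ → ℕ) (ws : List (List ℕ)) (tree : List (ℕ × ℕ)) (O : List ℕ)
    (k : List ℕ → Bool) : Bool :=
  List.rec (motive := fun _ => List ℕ → Bool) k
    (fun q _ ih O => force (f (getW ws q.2) (getO d O q.1)) fun v => ih (v :: O)) tree O

/-- Membership. -/
noncomputable def memB (v : ℕ) (O : List ℕ) : Bool :=
  List.rec false (fun a _ ih => bif Nat.beq a v then true else ih) O

/-- No repetition. -/
noncomputable def nodupB (O : List ℕ) : Bool :=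
  List.rec true (fun a l ih => bif memB a l then false else ih) O

/-- All images of `o` under the words are in `O`. -/
noncomputable def imgB (f : List ℕ → ℕ → ℕ) (ws : List (List ℕ)) (O : List ℕ) (o : ℕ) : Bool :=
  List.rec true (fun w _ ih => bif force (f w o) (fun v => memB v O) then ih else false) ws

/-- `O` is closed under the words. -/
noncomputable def closedB (f : List ℕ → ℕ → ℕ) (ws : List (List ℕ)) (O P : List ℕ) : Bool :=
  List.rec true (fun o _ ih => bif imgB f ws O o then ih else false) P

/-- `R` is fixed by the words. -/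
noncomputable def fixB (f : List ℕ → ℕ → ℕ) (ws : List (List ℕ)) (R : ℕ) : Bool :=
  List.rec true (fun w _ ih => bif Nat.beq (f w R) R then ih else false) ws

/-- The check of a layer, on lists of codes. -/
noncomputable def layerB (f : List ℕ → ℕ → ℕ) (ws ws' : List (List ℕ)) (tree : List (ℕ × ℕ)) (R : ℕ) : Bool :=
  bif fixB f ws' R then buildO R f ws tree [R] fun O => bif closedB f ws O O then nodupB O else false else false

/-- Code lists of the words. -/
def cws (L : List ℕ) (ws : List (List ℕ)) : List (List ℕ) :=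
  List.rec [] (fun w _ ih => cw L w :: ih) ws

/-- All indices of all words are smaller than `k`. -/
def okWs (k : ℕ) (ws : List (List ℕ)) : Bool :=
  List.rec true (fun w _ ih => bif okW k w then ih else false) ws

/-- The complete kernel check of a layer. -/
noncomputable def layerC (C : Cfg) (L : List ℕ) (ws ws' : List (List ℕ)) (tree : List (ℕ × ℕ)) (R : ℕ) : Bool :=
  bif okWs L.length ws then bif okWs L.length ws' then bif okR C R then
    withR C fun f => layerB f (cws L ws) (cws L ws') tree R
  else false else false else false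

/-! ### Soundness -/

theorem cws_eq (L : List ℕ) (ws : List (List ℕ)) : cws L ws = ws.map (cw L) := by
  induction ws with
  | nil => rfl
  | cons w ws ih => rw [List.map_cons, ← ih]; rfl

theorem okWs_spec {k : ℕ} {ws : List (List ℕ)} (h : okWs k ws = true) : ∀ w ∈ ws, okW k w = true := by
  induction ws with
  | nil => intro w hw; simp at hw
  | cons a ws ih =>
    have h' : (bif okW k a then okWs k ws else false) = true := h
    rcases hb : okW k a with _ | _
    · rw [hb] at h'; simp at h'
    rw [hb, cond_true] at h'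
    intro w hw
    rcases List.mem_cons.mp hw with rfl | hw
    · exact hb
    · exact ih h' w hw

theorem memB_spec {v : ℕ} {O : List ℕ} : memB v O = true ↔ v ∈ O := by
  induction O with
  | nil => simp [memB]
  | cons a O ih =>
    have h' : memB v (a :: O) = (bif Nat.beq a v then true else memB v O) := rfl
    rw [h', List.mem_cons]
    rcases hb : Nat.beq a v with _ | _
    · rw [cond_false, ih]
      have : a ≠ v := fun h => by rw [h, Nat.beq_refl] at hb; exact absurd hb (by simp)
      constructor
      · exact Or.inr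
      · rintro (h | h)
        · exact absurd h.symm this
        · exact h
    · rw [cond_true]
      have := Nat.eq_of_beq_eq_true hb
      simp [this]

theorem nodupB_spec {O : List ℕ} (h : nodupB O = true) : O.Nodup := by
  induction O with
  | nil => exact List.nodup_nil
  | cons a O ih =>
    have h' : (bif memB a O then false else nodupB O) = true := h
    rcases hb : memB a O with _ | _
    · rw [hb, cond_false] at h'
      rw [List.nodup_cons]
      refine ⟨fun hm => ?_, ih h'⟩
      rw [memB_spec.mpr hm] at hb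
      exact absurd hb (by simp)
    · rw [hb] at h'; simp at h'

theorem imgB_spec {f : List ℕ → ℕ → ℕ} {ws : List (List ℕ)} {O : List ℕ} {o : ℕ}
    (h : imgB f ws O o = true) : ∀ w ∈ ws, f w o ∈ O := by
  induction ws with
  | nil => intro w hw; simp at hw
  | cons a ws ih =>
    have h' : (bif memB (f a o) O then imgB f ws O o else false) = true := h
    rcases hb : memB (f a o) O with _ | _
    · rw [hb] at h'; simp at h'
    rw [hb, cond_true] at h'
    intro w hw
    rcases List.mem_cons.mp hw with rfl | hw
    · exact memB_spec.mp hb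
    · exact ih h' w hw

theorem closedB_spec {f : List ℕ → ℕ → ℕ} {ws : List (List ℕ)} {O P : List ℕ}
    (h : closedB f ws O P = true) : ∀ o ∈ P, ∀ w ∈ ws, f w o ∈ O := by
  induction P with
  | nil => intro o ho; simp at ho
  | cons a P ih =>
    have h' : (bif imgB f ws O a then closedB f ws O P else false) = true := h
    rcases hb : imgB f ws O a with _ | _
    · rw [hb] at h'; simp at h'
    rw [hb, cond_true] at h'
    intro o ho
    rcases List.mem_cons.mp ho with rfl | ho
    · exact imgB_spec hb
    · exact ih h' o ho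

theorem fixB_spec {f : List ℕ → ℕ → ℕ} {ws : List (List ℕ)} {R : ℕ}
    (h : fixB f ws R = true) : ∀ w ∈ ws, f w R = R := by
  induction ws with
  | nil => intro w hw; simp at hw
  | cons a ws ih =>
    have h' : (bif Nat.beq (f a R) R then fixB f ws R else false) = true := h
    rcases hb : Nat.beq (f a R) R with _ | _
    · rw [hb] at h'; simp at h'
    rw [hb, cond_true] at h'
    intro w hw
    rcases List.mem_cons.mp hw with rfl | hw
    · exact Nat.eq_of_beq_eq_true hb
    · exact ih h' w hw

theorem buildO_spec {d : ℕ} {f : List ℕ → ℕ → ℕ} {ws : List (List ℕ)} {k : List ℕ → Bool} {Q : ℕ → Prop}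
    (hd : Q d) (hf : ∀ j o, Q o → Q (f (getW ws j) o)) (tree : List (ℕ × ℕ)) :
    ∀ O : List ℕ, (∀ o ∈ O, Q o) → buildO d f ws tree O k = true →
      ∃ O' : List ℕ, (∀ o ∈ O', Q o) ∧ O'.length = tree.length + O.length ∧ (∀ o ∈ O, o ∈ O') ∧
        k O' = true := by
  induction tree with
  | nil => intro O hO h; exact ⟨O, hO, by simp, fun _ => id, h⟩
  | cons q tree ih =>
    intro O hO h
    have h' : buildO d f ws tree (f (getW ws q.2) (getO d O q.1) :: O) k = true := h
    obtain ⟨O', h1, h2, h3, h4⟩ := ih _ (by
      intro o ho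
      rcases List.mem_cons.mp ho with rfl | ho
      · exact hf _ _ (getO_prop hd hO _)
      · exact hO o ho) h'
    refine ⟨O', h1, ?_, fun o ho => h3 o (List.mem_cons_of_mem _ ho), h4⟩
    rw [h2, List.length_cons, List.length_cons]
    omega

/-- The subgroup generated by the values of words. -/
def grp {G : Type*} [Group G] (LG : List G) (ws : List (List ℕ)) : Subgroup G :=
  Subgroup.closure {g | ∃ w ∈ ws, g = evG LG w}

theorem evG_mem_grp {G : Type*} [Group G] {LG : List G} {ws : List (List ℕ)} {w : List ℕ} (hw : w ∈ ws) :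
    evG LG w ∈ grp LG ws := Subgroup.subset_closure ⟨w, hw, rfl⟩

theorem grp_mono {G : Type*} [Group G] {LG : List G} {ws ws' : List (List ℕ)} (h : ∀ w ∈ ws', w ∈ ws) :
    grp LG ws' ≤ grp LG ws := by
  apply Subgroup.closure_mono
  rintro _ ⟨w, hw, rfl⟩
  exact ⟨w, h w hw, rfl⟩

theorem grp_nil {G : Type*} [Group G] (LG : List G) : grp LG [] = ⊥ := by
  unfold grp
  simp

/-- Row vectors. -/
def Row (C : Cfg) : Type := Fin C.n → ZMod C.p

/-- Row times matrix. -/
def vmul (v : Row C) (g : M C) : Row C := Matrix.vecMul (v : Fin C.n → ZMod C.p) g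

theorem vmul_one (v : Row C) : vmul v 1 = v := Matrix.vecMul_one _

theorem vmul_vmul (v : Row C) (g h : M C) : vmul (vmul v g) h = vmul v (g * h) := Matrix.vecMul_vecMul _ _ _

/-- The left action `g • v = v g⁻¹` on row vectors. -/
instance instRowAction : MulAction (U C) (Row C) where
  smul g v := vmul v ((g⁻¹ : U C) : M C)
  one_smul v := by
    change vmul v (((1 : U C)⁻¹ : U C) : M C) = v
    rw [inv_one, Units.val_one, vmul_one]
  mul_smul g h v := by
    change vmul v (((g * h)⁻¹ : U C) : M C) = vmul (vmul v ((h⁻¹ : U C) : M C)) ((g⁻¹ : U C) : M C)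
    rw [mul_inv_rev, Units.val_mul, vmul_vmul]

theorem smul_row (g : U C) (v : Row C) : g • v = vmul v ((g⁻¹ : U C) : M C) := rfl

/-- Orbit-stabiliser in divisibility form. -/
theorem card_dvd_of_orbit {K K' : Subgroup (U C)} (hle : K' ≤ K) (v : Row C)
    (hfix : ∀ g ∈ K', vmul v (g : M C) = v) (O : Finset (Row C)) (hv : v ∈ O)
    (hO : ∀ u ∈ O, ∃ g ∈ K, u = vmul v ((g : U C) : M C))
    (hcl : ∀ u ∈ O, ∀ g ∈ K, vmul u ((g : U C) : M C) ∈ O) :
    O.card * Nat.card K' ∣ Nat.card K := by
  have horb : MulAction.orbit K v = (O : Set (Row C)) := by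
    ext u
    constructor
    · rintro ⟨g, rfl⟩
      change (g : U C) • v ∈ (O : Set (Row C))
      rw [smul_row]
      exact hcl v hv _ (K.inv_mem g.2)
    · intro hu
      obtain ⟨g, hg, rfl⟩ := hO u hu
      refine ⟨⟨g⁻¹, K.inv_mem hg⟩, ?_⟩
      change (g⁻¹ : U C) • v = _
      rw [smul_row, inv_inv]
  have h1 : Nat.card (MulAction.stabilizer K v) * O.card = Nat.card K := by
    have h2 := Subgroup.card_mul_index (MulAction.stabilizer K v)
    rw [MulAction.index_stabilizer, horb, Set.ncard_coe_finset] at h2
    exact h2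
  have h3 : Nat.card K' ∣ Nat.card (MulAction.stabilizer K v) := by
    have h4 : K'.subgroupOf K ≤ MulAction.stabilizer K v := by
      intro g hg
      rw [MulAction.mem_stabilizer_iff]
      change (g : U C) • v = v
      rw [smul_row]
      exact hfix _ (K'.inv_mem (Subgroup.mem_subgroupOf.mp hg))
    rw [← Nat.card_congr (Subgroup.subgroupOfEquivOfLe hle).toEquiv]
    exact Subgroup.card_dvd_of_le h4
  rw [← h1, mul_comm]
  exact Nat.mul_dvd_mul_right h3 _

theorem vmul_inv_cancel (v : Row C) (a : U C) : vmul (vmul v (a : M C)) ((a⁻¹ : U C) : M C) = v := by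
  rw [vmul_vmul, ← Units.val_mul, mul_inv_cancel, Units.val_one, vmul_one]

/-- A finite set of vectors closed under generators is closed under the group. -/
theorem closed_closure (S : Set (U C)) (O : Finset (Row C))
    (hcl : ∀ u ∈ O, ∀ g ∈ S, vmul u (g : M C) ∈ O) :
    ∀ g ∈ Subgroup.closure S, ∀ u ∈ O, vmul u (g : M C) ∈ O := by
  intro g hg
  induction hg using Subgroup.closure_induction with
  | mem g hg => exact fun u hu => hcl u hu g hg
  | one => intro u hu; rw [Units.val_one, vmul_one]; exact hu
  | mul a b _ _ iha ihb =>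
    intro u hu
    rw [Units.val_mul, ← vmul_vmul]
    exact ihb _ (iha u hu)
  | inv a _ iha =>
    intro u hu
    have hinj : Set.InjOn (fun w : Row C => vmul w (a : M C)) (O : Set (Row C)) := by
      intro w _ w' _ hww
      have h1 := congrArg (fun q : Row C => vmul q ((a⁻¹ : U C) : M C)) hww
      simp only at h1
      rwa [vmul_inv_cancel, vmul_inv_cancel] at h1
    have hmaps : Set.MapsTo (fun w : Row C => vmul w (a : M C)) (O : Set (Row C)) O := iha
    obtain ⟨w, hw, hwu⟩ := (Finset.surjOn_of_injOn_of_card_le _ hmaps hinj le_rfl) hu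
    have h2 : vmul u ((a⁻¹ : U C) : M C) = w := by
      rw [← hwu]
      exact vmul_inv_cancel _ _
    rw [h2]
    exact hw

/-- The row vector of a code. -/
def rowV (C : Cfg) (R : ℕ) : Row C := rowVec C R

theorem rowV_injOn {R S : ℕ} (hR : OkR C R) (hS : OkR C S) (h : rowV C R = rowV C S) : R = S :=
  rowVec_injOn hR hS h

theorem vmul_word (hC : C.good = true) {LG : List (U C)} {L : List ℕ}
    (h : List.Forall₂ (Codes C) LG L) {w : List ℕ} (hw : okW L.length w = true) {R : ℕ} (hR : OkR C R) :
    OkR C (run C (cw L w) R) ∧ rowV C (run C (cw L w) R) = vmul (rowV C R) ((evG LG w : U C) : M C) :=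
  vecMul_word hC h hw hR

/-- **Layer.** -/
theorem layer_dvd (hC : C.good = true) {LG : List (U C)} {L : List ℕ} (h : List.Forall₂ (Codes C) LG L)
    {ws ws' : List (List ℕ)} (hsub : ∀ w ∈ ws', w ∈ ws) {tree : List (ℕ × ℕ)} {R : ℕ}
    (hc : layerC C L ws ws' tree R = true) {m : ℕ} (hm : m ∣ Nat.card (grp LG ws')) :
    (tree.length + 1) * m ∣ Nat.card (grp LG ws) := by
  classical
  unfold layerC at hc
  rcases h1 : okWs L.length ws with _ | _
  · rw [h1] at hc; simp at hc
  rw [h1, cond_true] at hc
  rcases h2 : okWs L.length ws' with _ | _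
  · rw [h2] at hc; simp at hc
  rw [h2, cond_true] at hc
  rcases h3 : okR C R with _ | _
  · rw [h3] at hc; simp at hc
  rw [h3, cond_true, withR_eq, cws_eq, cws_eq] at hc
  have k1 := okWs_spec h1
  have k2 := okWs_spec h2
  have k3 := okR_spec h3
  unfold layerB at hc
  rcases h4 : fixB (run C) (ws'.map (cw L)) R with _ | _
  · rw [h4] at hc; simp at hc
  rw [h4, cond_true] at hc
  have k4 := fixB_spec h4
  set K := grp LG ws with hK
  obtain ⟨O, p1, p2, p3, p4⟩ := buildO_spec
    (Q := fun o => OkR C o ∧ ∃ g ∈ K, rowV C o = vmul (rowV C R) ((g : U C) : M C))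
    (by exact ⟨k3, 1, K.one_mem, by rw [Units.val_one, vmul_one]⟩) (by
      intro j o ho
      have hw : getW (ws.map (cw L)) j = [] ∨ ∃ w ∈ ws, getW (ws.map (cw L)) j = cw L w := by
        rcases getW_mem (ws := ws.map (cw L)) (j := j) with hh | hh
        · obtain ⟨w, hw, hw2⟩ := List.mem_map.mp hh
          exact Or.inr ⟨w, hw, hw2.symm⟩
        · exact Or.inl hh
      rcases hw with hw | ⟨w, hw, hw2⟩
      · rw [hw, run_nil]; exact ho
      · rw [hw2]
        obtain ⟨q1, q2⟩ := vmul_word hC h (k1 w hw) ho.1
        obtain ⟨g, hgK, hge⟩ := ho.2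
        exact ⟨q1, g * evG LG w, K.mul_mem hgK (evG_mem_grp hw), by
          rw [q2, hge, vmul_vmul, Units.val_mul]⟩) tree [R] (by
      intro o ho
      rw [List.mem_singleton] at ho
      rw [ho]
      exact ⟨k3, 1, K.one_mem, by rw [Units.val_one, vmul_one]⟩) hc
  rcases h5 : closedB (run C) (ws.map (cw L)) O O with _ | _
  · rw [h5] at p4; simp at p4
  rw [h5, cond_true] at p4
  have k5 := closedB_spec h5
  have k6 := nodupB_spec p4
  -- the finite set of vectors
  let F : Finset (Row C) := (O.map (fun o => rowV C o)).toFinset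
  have hF : ∀ u : Row C, u ∈ F ↔ ∃ o ∈ O, rowV C o = u := by
    intro u
    rw [List.mem_toFinset, List.mem_map]
  have hcard : F.card = tree.length + 1 := by
    have hnd : (O.map (fun o => rowV C o)).Nodup := by
      apply List.Nodup.map_on _ k6
      intro a ha b hb hab
      exact rowV_injOn (p1 a ha).1 (p1 b hb).1 hab
    rw [List.toFinset_card_of_nodup hnd, List.length_map, p2, List.length_singleton]
  have hfix : ∀ g ∈ grp LG ws', vmul (rowV C R : Row C) ((g : U C) : M C) = rowV C R := by
    intro g hg
    unfold grp at hg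
    induction hg using Subgroup.closure_induction with
    | mem g hg =>
      obtain ⟨w, hw, rfl⟩ := hg
      obtain ⟨-, q2⟩ := vmul_word hC h (k2 w hw) k3
      rw [← q2, k4 (cw L w) (List.mem_map_of_mem hw)]
    | one => rw [Units.val_one, vmul_one]
    | mul a b _ _ iha ihb => rw [Units.val_mul, ← vmul_vmul, iha, ihb]
    | inv a _ iha =>
      conv_lhs => rw [← iha]
      rw [vmul_vmul, ← Units.val_mul, mul_inv_cancel, Units.val_one, vmul_one]
  have hcl : ∀ g ∈ K, ∀ u ∈ F, (vmul u (g : M C) : Row C) ∈ F := by
    apply closed_closure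
    rintro u hu _ ⟨w, hw, rfl⟩
    obtain ⟨o, ho, rfl⟩ := (hF u).mp hu
    obtain ⟨-, q2⟩ := vmul_word hC h (k1 w hw) (p1 o ho).1
    rw [hF]
    exact ⟨_, k5 o ho (cw L w) (List.mem_map_of_mem hw), q2⟩
  have key := card_dvd_of_orbit (grp_mono hsub) (rowV C R : Row C) hfix F
    ((hF _).mpr ⟨R, p3 R (by simp), rfl⟩)
    (fun u hu => by
      obtain ⟨o, ho, rfl⟩ := (hF u).mp hu
      exact (p1 o ho).2)
    (fun u hu g hg => hcl g hg u hu)
  rw [hcard] at key
  exact (Nat.mul_dvd_mul_left _ hm).trans key

end Cfsg.Agent.Lib.PackMatOrbit
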