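import Cfsg.Agent.Lib.PackMatMul
import Cfsg.Agent.Lib.PackMatOrbit

/-!
# Linear identities between products of packed matrices, centralisers are scalars

* `lin_eq_zero` : `∑ cₖ • (product of packed matrices) = 0` from a kernel check, row by row.
* `scalar_of_commute` : let the common fixed space of some elements (words) be spanned by one vector `v` (certificate:
  `∑ (gₖ - 1) Bₖ + COL * ROW = 1`), and let images of `v` under words be the rows of an invertible matrix `V`
  (certificate `W * V = 1`).  Then every matrix commuting with the generators is a scalar.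
-/

set_option autoImplicit false

namespace Cfsg.Agent.Lib.PackMatLin

open Cfsg.Agent.Lib.PackMat Cfsg.Agent.Lib.PackMatGroup Cfsg.Agent.Lib.PackMatMul Cfsg.Agent.Lib.PackMatOrbit

variable {C : Cfg}

/-! ### Kernel functions -/

/-- `∑ c (R · w)`. -/
noncomputable def lcK (f : List ℕ → ℕ → ℕ) (ts : List (ℕ × List ℕ)) (R : ℕ) : ℕ :=
  List.rec 0 (fun q _ ih => Nat.add (Nat.mul q.1 (f q.2 R)) ih) ts

/-- Row loop. -/
noncomputable def linLoop (f : List ℕ → ℕ → ℕ) (red : ℕ → ℕ) (s : ℕ) (ts : List (ℕ × List ℕ)) : ℕ → ℕ → Bool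
  | 0, _ => true
  | cnt + 1, R =>
    bif Nat.beq (red (lcK f ts R)) 0 then force (Nat.shiftRight R s) fun R' => linLoop f red s ts cnt R' else false

/-- Sum of the coefficients. -/
def csum (ts : List (ℕ × List ℕ)) : ℕ := List.rec 0 (fun q _ ih => Nat.add q.1 ih) ts

/-- Constants evaluated once. -/
noncomputable def withL {α : Type} (C : Cfg) (k : (List ℕ → ℕ → ℕ) → (ℕ → ℕ) → α) : α :=
  force C.p fun p => force C.r fun r => force C.m fun m => force C.t fun t =>
  force C.nf fun nf => force (GMc C) fun GM => force (FMc C) fun FM => force (LOc C) fun LO =>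
  force (HIc C) fun HI => force (HTc C) fun HT =>
    k (fun w R => runK p r m t nf GM FM LO HI HT w R) (fun F => redK p r m t nf LO HI HT F)

/-- Reduction of a row. -/
noncomputable def redR (C : Cfg) (F : ℕ) : ℕ := redK C.p C.r C.m C.t C.nf (LOc C) (HIc C) (HTc C) F

theorem withL_eq {α : Type} (C : Cfg) (k : (List ℕ → ℕ → ℕ) → (ℕ → ℕ) → α) : withL C k = k (run C) (redR C) := rfl

/-- All codes in all words are valid. -/
noncomputable def okTs (C : Cfg) (ts : List (ℕ × List ℕ)) : Bool :=
  List.rec true (fun q _ ih => bif List.rec true (fun g _ ih => bif okG C g then ih else false) q.2 then ih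
    else false) ts

/-- The kernel check of `∑ c • product = 0`, rows `lo ≤ i < lo + cnt`. -/
noncomputable def linC (C : Cfg) (ts : List (ℕ × List ℕ)) (lo cnt : ℕ) : Bool :=
  bif Nat.ble (lo + cnt) C.n then
  bif Nat.ble (Nat.mul (csum ts) (C.p - 1)) (C.n * ((C.p - 1) * (2 ^ C.w - 1))) then
    withL C fun f red => force (unitRow C 1 lo) fun R => linLoop f red C.s ts cnt R
  else false else false

/-! ### Soundness -/

theorem redR_spec (hC : Good C) {F : ℕ} (hF1 : F < 2 ^ (C.s * C.n))
    (hF2 : ∀ i < C.n, dg C.s F i ≤ C.n * ((C.p - 1) * (2 ^ C.w - 1))) :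
    OkR C (redR C F) ∧ rowVec C (redR C F) = rowVec C F := by
  obtain ⟨h1, h2, h3⟩ := redK_spec hC C.n hF1 hF2
  refine ⟨⟨h1, h2⟩, ?_⟩
  funext j
  have hj := j.2
  rw [rowVec_def, rowVec_def]
  exact h3 _ (by omega)

theorem lcK_cons (f : List ℕ → ℕ → ℕ) (q : ℕ × List ℕ) (ts : List (ℕ × List ℕ)) (R : ℕ) :
    lcK f (q :: ts) R = q.1 * f q.2 R + lcK f ts R := rfl

theorem csum_cons (q : ℕ × List ℕ) (ts : List (ℕ × List ℕ)) : csum (q :: ts) = q.1 + csum ts := rfl

/-- The sum is the packed row of the sums of the digits. -/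
theorem lcK_E (hC : Good C) (ts : List (ℕ × List ℕ)) (hts : ∀ q ∈ ts, ∀ g ∈ q.2, okG C g = true)
    {R : ℕ} (hR : OkR C R) :
    lcK (run C) ts R = E C.s (fun i => (ts.map fun q => q.1 * dg C.s (run C q.2 R) i).sum) C.n := by
  induction ts with
  | nil =>
    change 0 = _
    rw [E_def]
    simp
  | cons q ts ih =>
    rw [lcK_cons, ih fun q hq => hts q (List.mem_cons_of_mem _ hq)]
    obtain ⟨h1, -⟩ := run_spec hC q.2 (hts q List.mem_cons_self) hR
    have e : q.1 * run C q.2 R = E C.s (fun i => q.1 * dg C.s (run C q.2 R) i) C.n := by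
      conv_lhs => rw [← E_dg h1.1]
      rw [mul_comm, E_mul_const]
      exact E_congr fun i _ => mul_comm _ _
    rw [e, E_add]
    apply E_congr
    intro i _
    rw [List.map_cons, List.sum_cons]

theorem sum_le (hC : Good C) (ts : List (ℕ × List ℕ)) (hts : ∀ q ∈ ts, ∀ g ∈ q.2, okG C g = true)
    {R : ℕ} (hR : OkR C R) {i : ℕ} (hi : i < C.n) :
    (ts.map fun q => q.1 * dg C.s (run C q.2 R) i).sum ≤ csum ts * (C.p - 1) := by
  induction ts with
  | nil => simp [csum]
  | cons q ts ih =>
    rw [List.map_cons, List.sum_cons, csum_cons, Nat.add_mul]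
    obtain ⟨h1, -⟩ := run_spec hC q.2 (hts q List.mem_cons_self) hR
    have h2 := h1.2 i hi
    exact Nat.add_le_add (Nat.mul_le_mul_left _ (by omega))
      (ih fun q hq => hts q (List.mem_cons_of_mem _ hq))

/-- The matrix `∑ c • product`. -/
def linM (C : Cfg) (ts : List (ℕ × List ℕ)) : M C :=
  (ts.map fun q => (q.1 : ZMod C.p) • (q.2.map (mat C)).prod).sum

theorem linM_cons (q : ℕ × List ℕ) (ts : List (ℕ × List ℕ)) :
    linM C (q :: ts) = (q.1 : ZMod C.p) • (q.2.map (mat C)).prod + linM C ts := by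
  unfold linM
  rw [List.map_cons, List.sum_cons]

theorem row_lin (hC : Good C) (ts : List (ℕ × List ℕ)) (hts : ∀ q ∈ ts, ∀ g ∈ q.2, okG C g = true)
    (hb : csum ts * (C.p - 1) ≤ C.n * ((C.p - 1) * (2 ^ C.w - 1))) {R : ℕ} (hR : OkR C R) :
    rowVec C (redR C (lcK (run C) ts R)) = Matrix.vecMul (rowVec C R) (linM C ts) := by
  have hlt : ∀ i < C.n, (ts.map fun q => q.1 * dg C.s (run C q.2 R) i).sum < 2 ^ C.s := fun i hi =>
    lt_of_le_of_lt ((sum_le hC ts hts hR hi).trans hb) hC.hb
  have e := lcK_E hC ts hts hR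
  have hd : ∀ i < C.n, dg C.s (lcK (run C) ts R) i = (ts.map fun q => q.1 * dg C.s (run C q.2 R) i).sum := by
    intro i hi
    rw [e, dg_E hlt hi]
  obtain ⟨-, h2⟩ := redR_spec hC (F := lcK (run C) ts R) (by rw [e]; exact E_lt hlt)
    (fun i hi => by rw [hd i hi]; exact (sum_le hC ts hts hR hi).trans hb)
  rw [h2]
  funext j
  have hj := j.2
  rw [rowVec_def, hd _ (by omega)]
  clear hlt e hd h2 hb
  induction ts with
  | nil => simp [linM]
  | cons q ts ih =>
    rw [List.map_cons, List.sum_cons, linM_cons, Matrix.vecMul_add, Pi.add_apply, Nat.cast_add,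
      ih fun q hq => hts q (List.mem_cons_of_mem _ hq)]
    congr 1
    obtain ⟨-, h3⟩ := run_spec hC q.2 (hts q List.mem_cons_self) hR
    rw [Matrix.vecMul_smul, ← h3, Pi.smul_apply, rowVec_def, Nat.cast_mul, smul_eq_mul]

theorem okTs_spec {ts : List (ℕ × List ℕ)} (h : okTs C ts = true) :
    ∀ q ∈ ts, ∀ g ∈ q.2, okG C g = true := by
  have aux : ∀ l : List ℕ, (List.rec true (fun g _ ih => bif okG C g then ih else false) l : Bool) = true →
      ∀ g ∈ l, okG C g = true := by
    intro l
    induction l with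
    | nil => intro _ g hg; simp at hg
    | cons a l ih =>
      intro h g hg
      have h' : (bif okG C a then (List.rec true (fun g _ ih => bif okG C g then ih else false) l : Bool)
        else false) = true := h
      rcases hb : okG C a with _ | _
      · rw [hb] at h'; simp at h'
      rw [hb, cond_true] at h'
      rcases List.mem_cons.mp hg with rfl | hg
      · exact hb
      · exact ih h' g hg
  induction ts with
  | nil => intro q hq; simp at hq
  | cons a ts ih =>
    have h' : (bif (List.rec true (fun g _ ih => bif okG C g then ih else false) a.2 : Bool) then okTs C ts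
      else false) = true := h
    rcases hb : (List.rec true (fun g _ ih => bif okG C g then ih else false) a.2 : Bool) with _ | _
    · rw [hb] at h'; simp at h'
    rw [hb, cond_true] at h'
    intro q hq
    rcases List.mem_cons.mp hq with rfl | hq
    · exact aux _ hb
    · exact ih h' q hq

theorem linLoop_spec {f : List ℕ → ℕ → ℕ} {red : ℕ → ℕ} {ts : List (ℕ × List ℕ)} : ∀ (cnt lo : ℕ),
    lo + cnt ≤ C.n → linLoop f red C.s ts cnt (unitRow C 1 lo) = true →
    ∀ i, lo ≤ i → i < lo + cnt → red (lcK f ts (unitRow C 1 i)) = 0 := by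
  intro cnt
  induction cnt with
  | zero => intro lo _ _ i h1 h2; omega
  | succ cnt ih =>
    intro lo hle h i h1 h2
    change (bif Nat.beq (red (lcK f ts (unitRow C 1 lo))) 0 then
      linLoop f red C.s ts cnt (Nat.shiftRight (unitRow C 1 lo) C.s) else false) = true at h
    rcases hb : Nat.beq (red (lcK f ts (unitRow C 1 lo))) 0 with _ | _
    · rw [hb] at h; simp at h
    rw [hb, cond_true] at h
    rcases Nat.eq_or_lt_of_le h1 with rfl | h3
    · exact Nat.eq_of_beq_eq_true hb
    · rw [unitRow_shift (by omega)] at h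
      exact ih (lo + 1) (by omega) h i h3 (by omega)

theorem linC_spec {ts : List (ℕ × List ℕ)} {lo cnt : ℕ} (h : linC C ts lo cnt = true) :
    (csum ts * (C.p - 1) ≤ C.n * ((C.p - 1) * (2 ^ C.w - 1))) ∧
      ∀ i, lo ≤ i → i < lo + cnt → redR C (lcK (run C) ts (unitRow C 1 i)) = 0 := by
  unfold linC at h
  rcases h1 : Nat.ble (lo + cnt) C.n with _ | _
  · rw [h1] at h; simp at h
  rw [h1, cond_true] at h
  rcases h2 : Nat.ble (Nat.mul (csum ts) (C.p - 1)) (C.n * ((C.p - 1) * (2 ^ C.w - 1))) with _ | _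
  · rw [h2] at h; simp at h
  rw [h2, cond_true] at h
  exact ⟨Nat.le_of_ble_eq_true h2, linLoop_spec cnt lo (Nat.le_of_ble_eq_true h1) h⟩

theorem rowVec_zero : rowVec C 0 = 0 := by
  funext j
  rw [rowVec_def, dg_def, Nat.zero_div, Nat.zero_mod, Nat.cast_zero, Pi.zero_apply]

theorem vecMul_ext {A B : M C} (h : ∀ i : Fin C.n, Matrix.vecMul (Pi.single i 1) A = Matrix.vecMul (Pi.single i 1) B) :
    A = B := by
  apply Matrix.ext_iff_vecMul.mpr
  intro v
  have hv : v = ∑ i, v i • (Pi.single i 1 : Fin C.n → ZMod C.p) := by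
    funext j
    simp [Finset.sum_apply, Pi.single_apply]
  rw [hv]
  simp only [Matrix.sum_vecMul, Matrix.smul_vecMul, h]

/-- **Linear identity.** -/
theorem lin_eq_zero (hC : C.good = true) (hp : 1 < C.p) {ts : List (ℕ × List ℕ)} (hok : okTs C ts = true)
    (hb : csum ts * (C.p - 1) ≤ C.n * ((C.p - 1) * (2 ^ C.w - 1)))
    (h : ∀ i < C.n, redR C (lcK (run C) ts (unitRow C 1 i)) = 0) : linM C ts = 0 := by
  have hg := good_of_check hC
  apply vecMul_ext
  intro i
  obtain ⟨k1, k2⟩ := unitRow_ok hg hp i.2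
  have h1 := row_lin hg ts (okTs_spec hok) hb k1
  rw [h i i.2, rowVec_zero, k2, Nat.cast_one, one_smul] at h1
  rw [Matrix.vecMul_zero]
  exact h1.symm

/-- One-shot version. -/
theorem lin_eq_zero_of_check (hC : C.good = true) (hp : 1 < C.p) {ts : List (ℕ × List ℕ)} (hok : okTs C ts = true)
    (h : linC C ts 0 C.n = true) : linM C ts = 0 := by
  obtain ⟨h1, h2⟩ := linC_spec h
  exact lin_eq_zero hC hp hok h1 fun i hi => h2 i (Nat.zero_le _) (by omega)

/-! ### Matrices with one column or one row -/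

theorem col_support {A : ℕ} (hA : A < 2 ^ (C.s * C.n)) (j : Fin C.n) {k : Fin C.n} (hk : (k : ℕ) ≠ 0) :
    mat C A j k = 0 := by
  rw [mat_def, dg_eq_zero hA, Nat.cast_zero]
  have h1 : 1 ≤ (k : ℕ) := Nat.one_le_iff_ne_zero.mpr hk
  calc C.n = C.n * 1 := (mul_one _).symm
    _ ≤ C.n * k := Nat.mul_le_mul_left _ h1
    _ ≤ j + C.n * k := Nat.le_add_left _ _

/-- `u * COL` is a multiple of the first unit vector. -/
theorem vecMul_col {A : ℕ} (hA : A < 2 ^ (C.s * C.n)) (hn : 0 < C.n) (u : Fin C.n → ZMod C.p) :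
    ∃ c : ZMod C.p, Matrix.vecMul u (mat C A) = c • Pi.single ⟨0, hn⟩ 1 := by
  refine ⟨Matrix.vecMul u (mat C A) ⟨0, hn⟩, ?_⟩
  funext k
  rw [Pi.smul_apply, Pi.single_apply, smul_eq_mul]
  by_cases hk : k = ⟨0, hn⟩
  · rw [if_pos hk, mul_one, hk]
  · rw [if_neg hk, mul_zero]
    have hk' : (k : ℕ) ≠ 0 := fun h => hk (Fin.ext h)
    change ∑ j, u j * mat C A j k = 0
    apply Finset.sum_eq_zero
    intro j _
    rw [col_support hA j hk', mul_zero]

/-- Terms of the certificate for the fixed space. -/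
def fixTs (p : ℕ) (L : List ℕ) (ps : List (List ℕ × ℕ)) (COL ROW : ℕ) : List (ℕ × List ℕ) :=
  List.rec [(1, [COL, ROW]), (p - 1, [])] (fun q _ ih => (1, cw L q.1 ++ [q.2]) :: (p - 1, [q.2]) :: ih) ps

theorem cast_pred (hp : 1 < C.p) : ((C.p - 1 : ℕ) : ZMod C.p) = -1 := by
  rw [Nat.cast_sub hp.le, ZMod.natCast_self, Nat.cast_one, zero_sub]

/-- If `u` is fixed by the words then `u = c • v` where `v` is the first row of `ROW`. -/
theorem fixed_of_cert (hC : C.good = true) (hp : 1 < C.p) {LG : List (U C)} {L : List ℕ}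
    (h : List.Forall₂ (Codes C) LG L) {ps : List (List ℕ × ℕ)} (hps : ∀ q ∈ ps, okW L.length q.1 = true)
    {COL ROW : ℕ} (hcol : COL < 2 ^ (C.s * C.n)) (hlin : linM C (fixTs C.p L ps COL ROW) = 0)
    {u : Fin C.n → ZMod C.p} (hu : ∀ q ∈ ps, Matrix.vecMul u ((evG LG q.1 : U C) : M C) = u) :
    ∃ c : ZMod C.p, u = c • rowVec C (run C [ROW] (unitRow C 1 0)) ∨ ¬ okG C ROW = true := by
  have hg := good_of_check hC
  have key : Matrix.vecMul u (linM C (fixTs C.p L ps COL ROW)) =
      Matrix.vecMul (Matrix.vecMul u (mat C COL)) (mat C ROW) - u := by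
    clear hlin
    induction ps with
    | nil =>
      change Matrix.vecMul u (linM C [(1, [COL, ROW]), (C.p - 1, [])]) = _
      rw [linM_cons, linM_cons]
      have e0 : linM C [] = 0 := rfl
      rw [e0, add_zero, Matrix.vecMul_add, Matrix.vecMul_smul, Matrix.vecMul_smul, cast_pred hp]
      simp only [List.map_cons, List.map_nil, List.prod_cons, List.prod_nil, mul_one, Nat.cast_one, one_smul,
        Matrix.vecMul_one, Matrix.vecMul_vecMul, neg_smul]
      rw [sub_eq_add_neg]
    | cons q ps ih =>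
      have e1 : fixTs C.p L (q :: ps) COL ROW =
        (1, cw L q.1 ++ [q.2]) :: (C.p - 1, [q.2]) :: fixTs C.p L ps COL ROW := rfl
      rw [e1, linM_cons, linM_cons, Matrix.vecMul_add, Matrix.vecMul_add, Matrix.vecMul_smul,
        Matrix.vecMul_smul, cast_pred hp,
        ih (fun q hq => hps q (List.mem_cons_of_mem _ hq)) fun q hq => hu q (List.mem_cons_of_mem _ hq)]
      simp only [List.map_append, List.map_cons, List.map_nil, List.prod_append, List.prod_cons, List.prod_nil,
        mul_one, Nat.cast_one, one_smul, neg_smul]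
      rw [cw_prod h (hps q List.mem_cons_self), ← Matrix.vecMul_vecMul, hu q List.mem_cons_self,
        ← add_assoc, add_neg_cancel, zero_add]
  rw [hlin, Matrix.vecMul_zero] at key
  obtain ⟨c, hc⟩ := vecMul_col hcol hg.hn u
  refine ⟨c, ?_⟩
  by_cases hR : okG C ROW = true
  · left
    rw [hc, Matrix.smul_vecMul] at key
    obtain ⟨k1, k2⟩ := unitRow_ok hg hp hg.hn
    obtain ⟨-, k3⟩ := run_spec hg [ROW] (by simpa using hR) k1
    rw [k3, k2, Nat.cast_one, one_smul]
    simp only [List.map_cons, List.map_nil, List.prod_cons, List.prod_nil, mul_one]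
    exact (sub_eq_zero.mp key.symm).symm
  · exact Or.inr hR

/-- Row loop for the spinning words: row `i` of `V` is the image of `v` under the `i`-th word. -/
noncomputable def spinLoop (f : List ℕ → ℕ → ℕ) (s : ℕ) (L : List ℕ) (V v : ℕ) (ws : List (List ℕ)) : ℕ → Bool :=
  List.rec (motive := fun _ => ℕ → Bool) (fun _ => true)
    (fun w _ ih R => bif Nat.beq (f [V] R) (f (cw L w) v) then force (Nat.shiftRight R s) fun R' => ih R'
      else false) ws

/-- The kernel check of the spinning words. -/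
noncomputable def spinC (C : Cfg) (L : List ℕ) (V v : ℕ) (ws : List (List ℕ)) : Bool :=
  bif Nat.beq ws.length C.n then bif okWs L.length ws then
    withR C fun f => force (unitRow C 1 0) fun R => spinLoop f C.s L V v ws R
  else false else false

theorem spinLoop_spec {f : List ℕ → ℕ → ℕ} {L : List ℕ} {V v : ℕ} (ws : List (List ℕ)) :
    ∀ lo, lo + ws.length ≤ C.n → spinLoop f C.s L V v ws (unitRow C 1 lo) = true →
    ∀ i, lo ≤ i → i < lo + ws.length → ∃ w ∈ ws, f [V] (unitRow C 1 i) = f (cw L w) v := by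
  induction ws with
  | nil => intro lo _ _ i h1 h2; simp at h2; omega
  | cons w ws ih =>
    intro lo hle h i h1 h2
    rw [List.length_cons] at hle h2
    change (bif Nat.beq (f [V] (unitRow C 1 lo)) (f (cw L w) v) then
      spinLoop f C.s L V v ws (Nat.shiftRight (unitRow C 1 lo) C.s) else false) = true at h
    rcases hb : Nat.beq (f [V] (unitRow C 1 lo)) (f (cw L w) v) with _ | _
    · rw [hb] at h; simp at h
    rw [hb, cond_true] at h
    rcases Nat.eq_or_lt_of_le h1 with rfl | h3
    · exact ⟨w, List.mem_cons_self, Nat.eq_of_beq_eq_true hb⟩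
    · rw [unitRow_shift (by omega)] at h
      obtain ⟨w', h4, h5⟩ := ih (lo + 1) (by omega) h i h3 (by omega)
      exact ⟨w', List.mem_cons_of_mem _ h4, h5⟩

/-- **Centralisers are scalar.**  `ps` : words with matrices `B`; `v` : the spanning vector. -/
theorem scalar_of_commute (hC : C.good = true) (hp : 1 < C.p) {LG : List (U C)} {L : List ℕ}
    (h : List.Forall₂ (Codes C) LG L) {ps : List (List ℕ × ℕ)} (hps : ∀ q ∈ ps, okW L.length q.1 = true)
    {COL ROW v : ℕ} (hcol : COL < 2 ^ (C.s * C.n)) (hrow : okG C ROW = true)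
    (hlin : linM C (fixTs C.p L ps COL ROW) = 0) (hv : run C [ROW] (unitRow C 1 0) = v)
    (hfix : ∀ q ∈ ps, run C (cw L q.1) v = v)
    {V W : ℕ} (hV : okG C V = true) (hW : okG C W = true) {ws : List (List ℕ)} (hspin : spinC C L V v ws = true)
    (hinv : checkScalar C [W, V] 1 0 C.n = true)
    (g : M C) (hgc : ∀ w : List ℕ, ((evG LG w : U C) : M C) * g = g * ((evG LG w : U C) : M C)) :
    ∃ c : ZMod C.p, g = c • (1 : M C) := by
  have hg := good_of_check hC
  obtain ⟨u1, u2⟩ := unitRow_ok hg hp hg.hn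
  have hvok : OkR C v := by
    rw [← hv]
    exact (run_spec hg [ROW] (by simpa using hrow) u1).1
  -- `v g` is fixed, so a multiple of `v`
  obtain ⟨c, hc⟩ := fixed_of_cert hC hp h hps hcol hlin (u := Matrix.vecMul (rowVec C v) g) (by
    intro q hq
    obtain ⟨-, k2⟩ := vecMul_word hC h (hps q hq) hvok
    rw [hfix q hq] at k2
    rw [Matrix.vecMul_vecMul, ← hgc, ← Matrix.vecMul_vecMul, ← k2])
  rw [hv] at hc
  rcases hc with hc | hc
  swap
  · exact absurd hrow hc
  refine ⟨c, ?_⟩
  -- the rows of `V`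
  unfold spinC at hspin
  rcases h1 : Nat.beq ws.length C.n with _ | _
  · rw [h1] at hspin; simp at hspin
  rw [h1, cond_true] at hspin
  rcases h2 : okWs L.length ws with _ | _
  · rw [h2] at hspin; simp at hspin
  rw [h2, cond_true, withR_eq, force_eq] at hspin
  have hlen := Nat.eq_of_beq_eq_true h1
  have k1 := spinLoop_spec ws 0 (by omega) hspin
  have hrowV : mat C V * g = c • mat C V := by
    apply vecMul_ext
    intro i
    obtain ⟨w, hw, hw2⟩ := k1 i (Nat.zero_le _) (by have := i.2; omega)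
    obtain ⟨i1, i2⟩ := unitRow_ok hg hp i.2
    obtain ⟨-, i3⟩ := run_spec hg [V] (by simpa using hV) i1
    obtain ⟨-, i4⟩ := vecMul_word hC h (okWs_spec h2 w hw) hvok
    rw [hw2, i4, i2, Nat.cast_one, one_smul] at i3
    simp only [List.map_cons, List.map_nil, List.prod_cons, List.prod_nil, mul_one] at i3
    rw [← Matrix.vecMul_vecMul, ← i3, Matrix.vecMul_vecMul, hgc, ← Matrix.vecMul_vecMul, hc,
      Matrix.smul_vecMul, Matrix.vecMul_smul, ← i3]
  have hWV : mat C W * mat C V = 1 := mat_mul_eq_one hC hp hW hV hinv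
  calc g = (mat C W * mat C V) * g := by rw [hWV, one_mul]
    _ = mat C W * (c • mat C V) := by rw [mul_assoc, hrowV]
    _ = c • (1 : M C) := by rw [Matrix.mul_smul, hWV]

end Cfsg.Agent.Lib.PackMatLin
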