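import Cfsg.Agent.Lib.PackMat

/-!
# Groups of matrices modulo `p`, checked in the kernel with `Cfsg.Agent.Lib.PackMat`

`Codes C g A` : the matrix group element `g` has packed matrix `A`.  `LG` is a list of group elements (generators and
their inverses), `L` the list of their packed matrices, words are lists of indices in `LG`:
`evG LG w` is the product, `run C (cw L w) R` the image of the packed row `R`.

* `eq_one_of_rows`, `eq_of_rows`, `ne_of_row` : (in)equalities of words;
* `Codes.of_rows` : a packed matrix for a word;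
* `vecMul_word` : the image of a row vector;
* `rows_of_chunks`: to split a check into several theorems (memory of the kernel).
-/

set_option autoImplicit false

namespace Cfsg.Agent.Lib.PackMatGroup

open Cfsg.Agent.Lib.PackMat

variable {C : Cfg}

/-- Matrices with entries modulo `p` and size `n`. -/
abbrev M (C : Cfg) := Matrix (Fin C.n) (Fin C.n) (ZMod C.p)

/-- The group of invertible matrices. -/
abbrev U (C : Cfg) := (Matrix (Fin C.n) (Fin C.n) (ZMod C.p))ˣ

/-- `A` is the packed matrix of `g`. -/
def Codes (C : Cfg) (g : U C) (A : ℕ) : Prop := okG C A = true ∧ (g : M C) = mat C A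

theorem Codes.ok {g : U C} {A : ℕ} (h : Codes C g A) : okG C A = true := h.1
theorem Codes.eq {g : U C} {A : ℕ} (h : Codes C g A) : (g : M C) = mat C A := h.2

/-- The rows checks of a long range from chunks: `k` chunks of size `c`, at most one shorter at the end. -/
theorem rows_of_chunks {P : ℕ → Prop} {n : ℕ} (cs : List (ℕ × ℕ))
    (h : ∀ c ∈ cs, ∀ i, c.1 ≤ i → i < c.1 + c.2 → P i)
    (hc : ∀ i < n, ∃ c ∈ cs, c.1 ≤ i ∧ i < c.1 + c.2) : ∀ i < n, P i := by
  intro i hi
  obtain ⟨c, hc1, hc2, hc3⟩ := hc i hi
  exact h c hc1 i hc2 hc3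

/-- The invertible matrix coded by `A`, with inverse coded by `B`. -/
def unit (C : Cfg) (A B : ℕ) (h : mat C A * mat C B = 1) : U C where
  val := mat C A
  inv := mat C B
  val_inv := h
  inv_val := mul_eq_one_comm.mp h

theorem codes_unit {A B : ℕ} (h : mat C A * mat C B = 1) (hA : okG C A = true) :
    Codes C (unit C A B h) A := ⟨hA, rfl⟩

theorem codes_unit_inv {A B : ℕ} (h : mat C A * mat C B = 1) (hB : okG C B = true) :
    Codes C (unit C A B h)⁻¹ B := ⟨hB, rfl⟩

/-- From a kernel check: the product of two packed matrices is the identity. -/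
theorem mat_mul_eq_one (hC : C.good = true) (hp : 1 < C.p) {A B : ℕ} (hA : okG C A = true) (hB : okG C B = true)
    (h : checkScalar C [A, B] 1 0 C.n = true) : mat C A * mat C B = 1 := by
  have := prod_one_of_check hC (w := [A, B]) hp (by
    intro g hg
    simp only [List.mem_cons, List.not_mem_nil, or_false] at hg
    rcases hg with rfl | rfl <;> assumption) h
  simpa using this

/-- Assemble a big number from its digits in base `2 ^ b`, lowest first (elaborating one literal with `10 ^ 5` digits
is much slower than a list of short ones). -/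
def asm (b : ℕ) (l : List ℕ) : ℕ :=
  match l with
  | [] => 0
  | c :: l => Nat.add c (Nat.shiftLeft (asm b l) b)

/-! ### Words -/

/-- `i`-th entry of a list of numbers. -/
def get (L : List ℕ) (i : ℕ) : ℕ :=
  List.rec (motive := fun _ => ℕ → ℕ) (fun _ => 0)
    (fun a _ ih i => Nat.rec a (fun j _ => ih j) i) L i

theorem get_cons_zero (a : ℕ) (L : List ℕ) : get (a :: L) 0 = a := rfl
theorem get_cons_succ (a : ℕ) (L : List ℕ) (i : ℕ) : get (a :: L) (i + 1) = get L i := rfl

/-- packed matrices of the letters of a word. -/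
def cw (L : List ℕ) (w : List ℕ) : List ℕ :=
  List.rec [] (fun i _ ih => get L i :: ih) w

theorem cw_nil (L : List ℕ) : cw L [] = [] := rfl
theorem cw_cons (L : List ℕ) (i : ℕ) (w : List ℕ) : cw L (i :: w) = get L i :: cw L w := rfl

/-- product of a word in a group (the indices must be smaller than the length). -/
def evG {G : Type*} [Group G] (LG : List G) : List ℕ → G
  | [] => 1
  | i :: w => LG.getD i 1 * evG LG w

theorem evG_nil {G : Type*} [Group G] (LG : List G) : evG LG [] = 1 := rfl
theorem evG_cons {G : Type*} [Group G] (LG : List G) (i : ℕ) (w : List ℕ) :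
    evG LG (i :: w) = LG.getD i 1 * evG LG w := rfl

theorem evG_append {G : Type*} [Group G] (LG : List G) (v w : List ℕ) :
    evG LG (v ++ w) = evG LG v * evG LG w := by
  induction v with
  | nil => rw [List.nil_append, evG_nil, one_mul]
  | cons i v ih => rw [List.cons_append, evG_cons, evG_cons, ih, mul_assoc]

theorem evG_map {G H : Type*} [Group G] [Group H] (f : G →* H) (LG : List G) (w : List ℕ) :
    evG (LG.map f) w = f (evG LG w) := by
  induction w with
  | nil => rw [evG_nil, evG_nil, map_one]
  | cons i w ih =>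
    rw [evG_cons, evG_cons, map_mul, ih]
    congr 1
    rw [List.getD_eq_getElem?_getD, List.getD_eq_getElem?_getD, List.getElem?_map]
    cases LG[i]? with
    | none => simp
    | some a => simp

theorem evG_mem {G : Type*} [Group G] (K : Subgroup G) {LG : List G} (hL : ∀ g ∈ LG, g ∈ K)
    (w : List ℕ) : evG LG w ∈ K := by
  induction w with
  | nil => exact K.one_mem
  | cons i w ih =>
    rw [evG_cons]
    refine K.mul_mem ?_ ih
    rw [List.getD_eq_getElem?_getD]
    cases h : LG[i]? with
    | none => exact K.one_mem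
    | some a => exact hL _ (List.mem_of_getElem? h)

/-- Coded lists: all indices of a word are in range. -/
theorem codes_get {LG : List (U C)} {L : List ℕ} (h : List.Forall₂ (Codes C) LG L) {i : ℕ}
    (hi : i < L.length) : Codes C (LG.getD i 1) (get L i) := by
  induction h generalizing i with
  | nil => simp at hi
  | cons h1 _ ih =>
    rcases i with _ | i
    · exact h1
    · rw [List.getD_cons_succ, get_cons_succ]
      exact ih (by simpa using hi)

/-- All indices of the word are smaller than `k`. -/
def okW (k : ℕ) (w : List ℕ) : Bool :=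
  List.rec true (fun i _ ih => bif Nat.blt i k then ih else false) w

theorem okW_cons {k i : ℕ} {w : List ℕ} (h : okW k (i :: w) = true) : i < k ∧ okW k w = true := by
  have h' : (bif Nat.blt i k then okW k w else false) = true := h
  rcases hb : Nat.blt i k with _ | _
  · rw [hb] at h'; simp at h'
  · rw [hb, cond_true] at h'
    exact ⟨by simpa [Nat.blt_eq] using hb, h'⟩

theorem cw_ok {LG : List (U C)} {L : List ℕ} (h : List.Forall₂ (Codes C) LG L) {w : List ℕ}
    (hw : okW L.length w = true) : ∀ g ∈ cw L w, okG C g = true := by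
  induction w with
  | nil => intro g hg; rw [cw_nil] at hg; simp at hg
  | cons i w ih =>
    obtain ⟨h1, h2⟩ := okW_cons hw
    intro g hg
    rw [cw_cons] at hg
    rcases List.mem_cons.mp hg with rfl | hg
    · exact (codes_get h h1).ok
    · exact ih h2 g hg

theorem cw_prod {LG : List (U C)} {L : List ℕ} (h : List.Forall₂ (Codes C) LG L) {w : List ℕ}
    (hw : okW L.length w = true) : ((cw L w).map (mat C)).prod = ((evG LG w : U C) : M C) := by
  induction w with
  | nil => rw [cw_nil, List.map_nil, List.prod_nil, evG_nil, Units.val_one]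
  | cons i w ih =>
    obtain ⟨h1, h2⟩ := okW_cons hw
    rw [cw_cons, List.map_cons, List.prod_cons, ih h2, evG_cons, Units.val_mul, (codes_get h h1).eq]

/-- A word has value `1`. -/
theorem eq_one_of_rows (hC : C.good = true) (hp : 1 < C.p) {LG : List (U C)} {L : List ℕ}
    (h : List.Forall₂ (Codes C) LG L) {w : List ℕ} (hw : okW L.length w = true)
    (hr : ∀ i < C.n, run C (cw L w) (unitRow C 1 i) = unitRow C 1 i) : evG LG w = 1 := by
  apply Units.ext
  rw [← cw_prod h hw, prod_scalar_of_rows (good_of_check hC) hp hp (cw_ok h hw) hr]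
  simp

/-- Two words have the same value. -/
theorem eq_of_rows (hC : C.good = true) (hp : 1 < C.p) {LG : List (U C)} {L : List ℕ}
    (h : List.Forall₂ (Codes C) LG L) {w₁ w₂ : List ℕ} (hw₁ : okW L.length w₁ = true)
    (hw₂ : okW L.length w₂ = true)
    (hr : ∀ i < C.n, run C (cw L w₁) (unitRow C 1 i) = run C (cw L w₂) (unitRow C 1 i)) :
    evG LG w₁ = evG LG w₂ := by
  apply Units.ext
  rw [← cw_prod h hw₁, ← cw_prod h hw₂]
  exact prod_eq_of_rows (good_of_check hC) hp (cw_ok h hw₁) (cw_ok h hw₂) hr

/-- The image of a row vector under a word. -/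
theorem vecMul_word (hC : C.good = true) {LG : List (U C)} {L : List ℕ}
    (h : List.Forall₂ (Codes C) LG L) {w : List ℕ} (hw : okW L.length w = true) {R : ℕ} (hR : OkR C R) :
    OkR C (run C (cw L w) R) ∧
      rowVec C (run C (cw L w) R) = Matrix.vecMul (rowVec C R) ((evG LG w : U C) : M C) := by
  obtain ⟨h1, h2⟩ := run_spec (good_of_check hC) (cw L w) (cw_ok h hw) hR
  exact ⟨h1, by rw [h2, cw_prod h hw]⟩

/-- Two words with different values on some packed row have different values. -/
theorem ne_of_row (hC : C.good = true) {LG : List (U C)} {L : List ℕ}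
    (h : List.Forall₂ (Codes C) LG L) {w₁ w₂ : List ℕ} (hw₁ : okW L.length w₁ = true)
    (hw₂ : okW L.length w₂ = true) {R : ℕ} (hR : OkR C R)
    (hne : run C (cw L w₁) R ≠ run C (cw L w₂) R) : evG LG w₁ ≠ evG LG w₂ := by
  intro heq
  obtain ⟨h1, h2⟩ := vecMul_word hC h hw₁ hR
  obtain ⟨h3, h4⟩ := vecMul_word hC h hw₂ hR
  exact hne (rowVec_injOn h1 h3 (by rw [h2, h4, heq]))

/-- The packed matrix of a word. -/
theorem Codes.of_rows (hC : C.good = true) (hp : 1 < C.p) {LG : List (U C)} {L : List ℕ}
    (h : List.Forall₂ (Codes C) LG L) {w : List ℕ} (hw : okW L.length w = true) {A : ℕ}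
    (hA : okG C A = true)
    (hr : ∀ i < C.n, run C (cw L w) (unitRow C 1 i) = run C [A] (unitRow C 1 i)) :
    Codes C (evG LG w) A := by
  refine ⟨hA, ?_⟩
  rw [← cw_prod h hw, prod_eq_of_rows (good_of_check hC) hp (cw_ok h hw) (w₂ := [A]) (by simpa using hA) hr]
  simp

/-- Kernel check that `R` is a valid packed row. -/
noncomputable def okR (C : Cfg) (R : ℕ) : Bool :=
  bif Nat.blt R (2 ^ (C.s * C.n)) then allBelow (fun i => Nat.blt (Nat.mod (Nat.shiftRight R (Nat.mul C.s i)) (2 ^ C.s)) C.p) C.n
  else false

theorem okR_spec {R : ℕ} (h : okR C R = true) : OkR C R := by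
  unfold okR at h
  rcases hb : Nat.blt R (2 ^ (C.s * C.n)) with _ | _
  · rw [hb] at h; simp at h
  · rw [hb, cond_true] at h
    refine ⟨by simpa [Nat.blt_eq] using hb, fun i hi => ?_⟩
    have := allBelow_spec h i hi
    have h2 : dg C.s R i = Nat.mod (Nat.shiftRight R (Nat.mul C.s i)) (2 ^ C.s) := by
      rw [dg_def]
      change _ = (R >>> (C.s * i)) % 2 ^ C.s
      rw [Nat.shiftRight_eq_div_pow]
    rw [h2]
    simpa [Nat.blt_eq] using this

end Cfsg.Agent.Lib.PackMatGroup
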