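import Mathlib

/-!
# Packed square matrices over the field with two elements

A natural number `A` codes the `n × n` matrix over `ZMod 2` whose entry `(i, j)` is bit `n * i + j`
of `A`.  The product of two coded matrices costs `n` kernel steps only: the `k`-th column of `A`,
spread out with stride `n`, is multiplied (as a natural number) with the `k`-th row of `B`.
-/

set_option autoImplicit false

namespace Cfsg.Agent.Lib.F2Mat

/-- `force n f` is `f n`, but the kernel evaluates `n` to a literal before it substitutes it. -/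
@[reducible] def force {α : Sort _} (n : ℕ) (f : ℕ → α) : α :=
  Nat.rec (f 0) (fun k _ => f (Nat.succ k)) n

theorem force_eq {α : Sort _} (n : ℕ) (f : ℕ → α) : force n f = f n := by
  cases n <;> rfl

/-- A bit as an element of `ZMod 2`. -/
def bz (b : Bool) : ZMod 2 := cond b 1 0

theorem bz_true : bz true = 1 := rfl
theorem bz_false : bz false = 0 := rfl

theorem bz_xor (a b : Bool) : bz (a ^^ b) = bz a + bz b := by
  cases a <;> cases b <;> decide

theorem bz_and (a b : Bool) : bz (a && b) = bz a * bz b := by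
  cases a <;> cases b <;> decide

theorem bz_inj {a b : Bool} (h : bz a = bz b) : a = b := by
  cases a <;> cases b
  · rfl
  · exact absurd h (by decide)
  · exact absurd h (by decide)
  · rfl

/-- The matrix coded by `A`. -/
def toMat (n A : ℕ) : Matrix (Fin n) (Fin n) (ZMod 2) :=
  fun i j => bz (A.testBit (n * i + j))

theorem toMat_apply (n A : ℕ) (i j : Fin n) : toMat n A i j = bz (A.testBit (n * i + j)) := rfl

/-- The vector coded by `v`. -/
def toVec (n v : ℕ) : Fin n → ZMod 2 := fun j => bz (v.testBit j)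

theorem toVec_apply (n v : ℕ) (j : Fin n) : toVec n v j = bz (v.testBit j) := rfl

/-! ### Blocks -/

/-- `∑_{i < K} a i * 2 ^ (n * i)` -/
def blk (n : ℕ) (a : ℕ → ℕ) : ℕ → ℕ
  | 0 => 0
  | K + 1 => blk n a K + a K * 2 ^ (n * K)

theorem blk_lt {n : ℕ} {a : ℕ → ℕ} (K : ℕ) (ha : ∀ i < K, a i < 2 ^ n) :
    blk n a K < 2 ^ (n * K) := by
  induction K with
  | zero => simp [blk]
  | succ K ih =>
    have h1 := ih fun i hi => ha i (by omega)
    have h2 : a K + 1 ≤ 2 ^ n := ha K (by omega)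
    have h3 : 2 ^ (n * (K + 1)) = 2 ^ (n * K) * 2 ^ n := by rw [Nat.mul_succ, pow_add]
    have h4 : (a K + 1) * 2 ^ (n * K) ≤ 2 ^ n * 2 ^ (n * K) := Nat.mul_le_mul_right _ h2
    rw [h3, blk]
    nlinarith

theorem testBit_blk {n : ℕ} {a : ℕ → ℕ} (K : ℕ) (ha : ∀ i < K, a i < 2 ^ n) {i j : ℕ}
    (hi : i < K) (hj : j < n) : (blk n a K).testBit (n * i + j) = (a i).testBit j := by
  induction K with
  | zero => omega
  | succ K ih =>
    have h1 := blk_lt K fun i hi => ha i (by omega)
    rw [blk, add_comm, mul_comm, Nat.testBit_two_pow_mul_add _ h1]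
    rcases Nat.lt_succ_iff_lt_or_eq.mp hi with hlt | rfl
    · have h2 : n * i + j < n * K := by
        have : n * (i + 1) ≤ n * K := Nat.mul_le_mul_left _ hlt
        rw [Nat.mul_succ] at this
        omega
      rw [if_pos h2, ih (fun i hi => ha i (by omega)) hlt]
    · rw [if_neg (by omega)]
      congr 1
      omega

theorem testBit_blk_ge {n : ℕ} {a : ℕ → ℕ} (K : ℕ) (ha : ∀ i < K, a i < 2 ^ n) {p : ℕ}
    (hp : n * K ≤ p) : (blk n a K).testBit p = false :=
  Nat.testBit_lt_two_pow (lt_of_lt_of_le (blk_lt K ha) (Nat.pow_le_pow_right (by norm_num) hp))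

theorem blk_mul (n : ℕ) (a : ℕ → ℕ) (K r : ℕ) : blk n a K * r = blk n (fun i => a i * r) K := by
  induction K with
  | zero => simp [blk]
  | succ K ih => rw [blk, blk, add_mul, ih]; ring

/-- The mask with bits `0, n, 2 n, …, (n - 1) n`. -/
def msk (n : ℕ) : ℕ := Nat.div (Nat.sub (Nat.pow 2 (Nat.mul n n)) 1) (Nat.sub (Nat.pow 2 n) 1)

theorem blk_one (n K : ℕ) : blk n (fun _ => 1) K = ∑ i ∈ Finset.range K, (2 ^ n) ^ i := by
  induction K with
  | zero => simp [blk]
  | succ K ih => rw [blk, ih, Finset.sum_range_succ, one_mul, ← pow_mul]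

theorem msk_eq {n : ℕ} (hn : 0 < n) : msk n = blk n (fun _ => 1) n := by
  have h2 : 2 ≤ 2 ^ n := by
    calc 2 = 2 ^ 1 := (pow_one 2).symm
      _ ≤ 2 ^ n := Nat.pow_le_pow_right (by norm_num) hn
  rw [blk_one, Nat.geomSum_eq h2, ← pow_mul]
  rfl

/-- The identity matrix. -/
def one (n : ℕ) : ℕ :=
  Nat.div (Nat.sub (Nat.pow 2 (Nat.mul (Nat.succ n) n)) 1) (Nat.sub (Nat.pow 2 (Nat.succ n)) 1)

theorem one_eq (n : ℕ) : one n = blk (n + 1) (fun _ => 1) n := by
  have h2 : 2 ≤ 2 ^ (n + 1) := by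
    calc 2 = 2 ^ 1 := (pow_one 2).symm
      _ ≤ 2 ^ (n + 1) := Nat.pow_le_pow_right (by norm_num) (by omega)
  rw [blk_one, Nat.geomSum_eq h2, ← pow_mul]
  rfl

theorem testBit_lit_one (j : ℕ) : (1 : ℕ).testBit j = decide (j = 0) := by
  rcases j with _ | j
  · rfl
  · rw [Nat.testBit_succ]; simp

theorem testBit_one {n : ℕ} {i j : ℕ} (hi : i < n) (hj : j < n) :
    (one n).testBit (n * i + j) = decide (i = j) := by
  have ha : ∀ i < n, (fun _ : ℕ => 1) i < 2 ^ (n + 1) := fun _ _ => Nat.one_lt_two_pow (by omega)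
  rw [one_eq]
  rcases Nat.lt_or_ge j i with h | h
  · -- position (n+1)*(i-1) + (n+1 - (i-j))
    have h1 : n * i + j = (n + 1) * (i - 1) + (n + 1 - (i - j)) := by
      obtain ⟨k, rfl⟩ : ∃ k, i = k + 1 := ⟨i - 1, by omega⟩
      have : n * (k + 1) = n * k + n := by ring
      have h2 : (n + 1) * (k + 1 - 1) = n * k + k := by
        rw [Nat.add_sub_cancel]; ring
      rw [this, h2]
      omega
    rw [h1, testBit_blk n ha (by omega) (by omega), testBit_lit_one]
    have : ¬ i = j := by omega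
    simp only [this, decide_false, decide_eq_false_iff_not]
    omega
  · have h1 : n * i + j = (n + 1) * i + (j - i) := by
      have : (n + 1) * i = n * i + i := by ring
      omega
    rw [h1, testBit_blk n ha hi (by omega), testBit_lit_one]
    congr 1
    apply propext
    constructor <;> intro h <;> omega

theorem toMat_one (n : ℕ) : toMat n (one n) = 1 := by
  ext i j
  rw [toMat_apply, testBit_one i.2 j.2, Matrix.one_apply]
  by_cases h : i = j
  · subst h; simp [bz]
  · have : ¬ (i : ℕ) = (j : ℕ) := fun h' => h (Fin.ext h')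
    simp [bz, h, this]

/-! ### The product -/

/-- one term of the product: column `k` of `A` times row `k` of `B`. -/
def term (n m A B k : ℕ) : ℕ :=
  Nat.mul (Nat.land (Nat.shiftRight A k) m)
    (Nat.mod (Nat.shiftRight B (Nat.mul n k)) (Nat.pow 2 n))

theorem land_msk {n : ℕ} (hn : 0 < n) (A k : ℕ) :
    Nat.land (Nat.shiftRight A k) (msk n) = blk n (fun i => (A.testBit (n * i + k)).toNat) n := by
  have ha : ∀ i < n, (fun _ : ℕ => 1) i < 2 ^ n := fun _ _ => Nat.one_lt_two_pow (by omega)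
  have hb : ∀ i < n, (fun i => (A.testBit (n * i + k)).toNat) i < 2 ^ n := fun i _ =>
    lt_of_le_of_lt (Bool.toNat_le _) (Nat.one_lt_two_pow (by omega))
  have h0 : Nat.land (Nat.shiftRight A k) (msk n) = (A >>> k) &&& msk n := rfl
  rw [h0, msk_eq hn]
  apply Nat.eq_of_testBit_eq
  intro p
  rw [Nat.testBit_and, Nat.testBit_shiftRight]
  rcases Nat.lt_or_ge p (n * n) with hp | hp
  · obtain ⟨i, j, hi, hj, rfl⟩ : ∃ i j, i < n ∧ j < n ∧ p = n * i + j :=
      ⟨p / n, p % n, Nat.div_lt_of_lt_mul hp, Nat.mod_lt _ hn, (Nat.div_add_mod p n).symm⟩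
    rw [testBit_blk n ha hi hj, testBit_blk n hb hi hj]
    rcases Nat.eq_zero_or_pos j with rfl | hj0
    · have h1 : k + (n * i + 0) = n * i + k := by ring
      rw [h1]
      cases A.testBit (n * i + k) <;> simp
    · have h1 : (1 : ℕ).testBit j = false := by rw [testBit_lit_one]; simp; omega
      rw [h1, Bool.and_false]
      cases A.testBit (n * i + k) <;> simp [h1]
  · rw [testBit_blk_ge n ha hp, testBit_blk_ge n hb hp, Bool.and_false]

theorem term_eq {n : ℕ} (hn : 0 < n) (A B k : ℕ) : term n (msk n) A B k =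
    blk n (fun i => (A.testBit (n * i + k)).toNat * ((B >>> (n * k)) % 2 ^ n)) n := by
  rw [term, land_msk hn]
  exact blk_mul _ _ _ _

theorem term_aux {n : ℕ} (A B k : ℕ) :
    ∀ i < n, (fun i => (A.testBit (n * i + k)).toNat * ((B >>> (n * k)) % 2 ^ n)) i < 2 ^ n := by
  intro i _
  have h1 : (B >>> (n * k)) % 2 ^ n < 2 ^ n := Nat.mod_lt _ (by positivity)
  have h2 : (A.testBit (n * i + k)).toNat ≤ 1 := Bool.toNat_le _
  calc (A.testBit (n * i + k)).toNat * ((B >>> (n * k)) % 2 ^ n)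
      ≤ 1 * ((B >>> (n * k)) % 2 ^ n) := Nat.mul_le_mul_right _ h2
    _ < 2 ^ n := by rwa [one_mul]

theorem testBit_term {n : ℕ} (A B k : ℕ) {i j : ℕ} (hi : i < n) (hj : j < n) :
    (term n (msk n) A B k).testBit (n * i + j) =
      (A.testBit (n * i + k) && B.testBit (n * k + j)) := by
  rw [term_eq (by omega), testBit_blk n (term_aux A B k) hi hj]
  cases A.testBit (n * i + k)
  · simp
  · simp [Nat.testBit_mod_two_pow, hj, Nat.testBit_shiftRight]

theorem term_lt {n : ℕ} (hn : 0 < n) (A B k : ℕ) : term n (msk n) A B k < 2 ^ (n * n) := by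
  rw [term_eq hn]
  exact blk_lt n (term_aux A B k)

/-- partial sums of the product. -/
def mulAux (n m A B : ℕ) (k : ℕ) : ℕ :=
  Nat.rec 0 (fun k ih => Nat.xor ih (term n m A B k)) k

theorem mulAux_succ (n m A B k : ℕ) :
    mulAux n m A B (k + 1) = mulAux n m A B k ^^^ term n m A B k := rfl

theorem mulAux_lt {n : ℕ} (hn : 0 < n) (A B k : ℕ) : mulAux n (msk n) A B k < 2 ^ (n * n) := by
  induction k with
  | zero => exact Nat.two_pow_pos _
  | succ k ih => rw [mulAux_succ]; exact Nat.xor_lt_two_pow ih (term_lt hn A B k)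

theorem bz_testBit_mulAux {n : ℕ} (A B k : ℕ) {i j : ℕ} (hi : i < n) (hj : j < n) :
    bz ((mulAux n (msk n) A B k).testBit (n * i + j)) =
      ∑ l ∈ Finset.range k, bz (A.testBit (n * i + l)) * bz (B.testBit (n * l + j)) := by
  induction k with
  | zero => simp [mulAux, bz]
  | succ k ih =>
    rw [mulAux_succ, Nat.testBit_xor, bz_xor, ih, testBit_term A B k hi hj, bz_and,
      Finset.sum_range_succ]

/-- The product of coded matrices. -/
def mul (n A B : ℕ) : ℕ :=
  force A fun A => force B fun B => force (msk n) fun m => mulAux n m A B n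

theorem mul_eq (n A B : ℕ) : mul n A B = mulAux n (msk n) A B n := by
  rw [mul, force_eq, force_eq, force_eq]

theorem toMat_mul (n A B : ℕ) : toMat n (mul n A B) = toMat n A * toMat n B := by
  ext i j
  rw [toMat_apply, mul_eq, bz_testBit_mulAux A B n i.2 j.2, Matrix.mul_apply, Finset.sum_range]
  rfl

theorem mul_lt {n : ℕ} (hn : 0 < n) (A B : ℕ) : mul n A B < 2 ^ (n * n) := by
  rw [mul_eq]; exact mulAux_lt hn A B n

theorem one_lt' {n : ℕ} : one n < 2 ^ (n * n) := by
  rw [one_eq]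
  rcases Nat.eq_zero_or_pos n with rfl | hn
  · simp [blk]
  · obtain ⟨k, rfl⟩ : ∃ k, n = k + 1 := ⟨n - 1, by omega⟩
    have ha : ∀ i < k, (fun _ : ℕ => 1) i < 2 ^ (k + 1 + 1) := fun _ _ =>
      Nat.one_lt_two_pow (by omega)
    have h1 := blk_lt k ha
    rw [blk, one_mul]
    have h2 : (k + 1 + 1) * k + 1 = (k + 1) * (k + 1) := by ring
    calc blk (k + 1 + 1) (fun _ => 1) k + 2 ^ ((k + 1 + 1) * k)
        < 2 ^ ((k + 1 + 1) * k) + 2 ^ ((k + 1 + 1) * k) := by omega
      _ = 2 ^ ((k + 1 + 1) * k + 1) := by rw [pow_succ]; ring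
      _ = 2 ^ ((k + 1) * (k + 1)) := by rw [h2]

theorem toMat_inj {n A B : ℕ} (hA : A < 2 ^ (n * n)) (hB : B < 2 ^ (n * n))
    (h : toMat n A = toMat n B) : A = B := by
  rcases Nat.eq_zero_or_pos n with rfl | hn
  · simp at hA hB; omega
  apply Nat.eq_of_testBit_eq
  intro p
  rcases Nat.lt_or_ge p (n * n) with hp | hp
  · obtain ⟨i, j, hi, hj, rfl⟩ : ∃ i j, i < n ∧ j < n ∧ p = n * i + j :=
      ⟨p / n, p % n, Nat.div_lt_of_lt_mul hp, Nat.mod_lt _ hn, (Nat.div_add_mod p n).symm⟩
    have h1 := congrFun (congrFun h ⟨i, hi⟩) ⟨j, hj⟩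
    exact bz_inj h1
  · rw [Nat.testBit_lt_two_pow (lt_of_lt_of_le hA (Nat.pow_le_pow_right (by norm_num) hp)),
      Nat.testBit_lt_two_pow (lt_of_lt_of_le hB (Nat.pow_le_pow_right (by norm_num) hp))]

/-! ### Vector times matrix -/

/-- partial sums of the product of a row vector and a matrix. -/
def vmulAux (n v B : ℕ) (k : ℕ) : ℕ :=
  Nat.rec 0 (fun k ih => Nat.xor ih (term n 1 v B k)) k

theorem vmulAux_succ (n v B k : ℕ) :
    vmulAux n v B (k + 1) = vmulAux n v B k ^^^ term n 1 v B k := rfl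

theorem term_one_eq (n v B k : ℕ) :
    term n 1 v B k = (v.testBit k).toNat * ((B >>> (n * k)) % 2 ^ n) := by
  have h0 : Nat.land (Nat.shiftRight v k) 1 = (v >>> k) &&& 1 := rfl
  have h1 : (v >>> k) &&& 1 = (v.testBit k).toNat := by
    rw [Nat.and_one_is_mod, Nat.shiftRight_eq_div_pow, Nat.testBit_eq_decide_div_mod_eq]
    rcases Nat.mod_two_eq_zero_or_one (v / 2 ^ k) with h | h <;> rw [h] <;> rfl
  rw [term, h0, h1]
  rfl

/-- row vector times matrix. -/
def vmul (n v B : ℕ) : ℕ := force v fun v => force B fun B => vmulAux n v B n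

theorem vmul_eq (n v B : ℕ) : vmul n v B = vmulAux n v B n := by
  rw [vmul, force_eq, force_eq]

theorem vmulAux_lt {n : ℕ} (v B k : ℕ) : vmulAux n v B k < 2 ^ n := by
  induction k with
  | zero => exact Nat.two_pow_pos _
  | succ k ih =>
    rw [vmulAux_succ]
    refine Nat.xor_lt_two_pow ih ?_
    rw [term_one_eq]
    have h1 : (B >>> (n * k)) % 2 ^ n < 2 ^ n := Nat.mod_lt _ (by positivity)
    cases v.testBit k
    · simp
    · simpa using h1

theorem vmul_lt {n : ℕ} (v B : ℕ) : vmul n v B < 2 ^ n := by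
  rw [vmul_eq]; exact vmulAux_lt v B n

theorem bz_testBit_vmulAux {n : ℕ} (v B k : ℕ) {j : ℕ} (hj : j < n) :
    bz ((vmulAux n v B k).testBit j) =
      ∑ l ∈ Finset.range k, bz (v.testBit l) * bz (B.testBit (n * l + j)) := by
  induction k with
  | zero => simp [vmulAux, bz]
  | succ k ih =>
    rw [vmulAux_succ, Nat.testBit_xor, bz_xor, ih, term_one_eq, Finset.sum_range_succ, ← bz_and]
    congr 2
    cases v.testBit k
    · simp
    · simp [Nat.testBit_mod_two_pow, hj, Nat.testBit_shiftRight]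

theorem toVec_vmul (n v B : ℕ) : toVec n (vmul n v B) = Matrix.vecMul (toVec n v) (toMat n B) := by
  ext j
  rw [toVec_apply, vmul_eq, bz_testBit_vmulAux v B n j.2, Finset.sum_range]
  rfl

theorem toVec_inj {n v w : ℕ} (hv : v < 2 ^ n) (hw : w < 2 ^ n) (h : toVec n v = toVec n w) :
    v = w := by
  apply Nat.eq_of_testBit_eq
  intro p
  rcases Nat.lt_or_ge p n with hp | hp
  · exact bz_inj (congrFun h ⟨p, hp⟩)
  · rw [Nat.testBit_lt_two_pow (lt_of_lt_of_le hv (Nat.pow_le_pow_right (by norm_num) hp)),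
      Nat.testBit_lt_two_pow (lt_of_lt_of_le hw (Nat.pow_le_pow_right (by norm_num) hp))]

end Cfsg.Agent.Lib.F2Mat
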