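import Mathlib
import Cfsg.Prelude.Def_TwoFusion
import Cfsg.Agent.Lib.EssBridge
import Cfsg.Agent.Hex.SE

/-!
# Essential subgroups of a direct product

`isPr_of_ess`: if the Sylow subgroup `P` is the internal direct product of `S₁` and `S₂`, every essential
subgroup `D` of `P` is the product of its intersections with `S₁` and `S₂`; for `p = 2` it contains `S₁` or `S₂`
(`ess_prod`).
-/

set_option autoImplicit false

namespace Cfsg.Agent.Lib.EssProd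

open Subgroup Cfsg.Agent.Lib.EssDefs Cfsg.Agent.Lib.EssBridge Cfsg.Agent.Lib.GoldschmidtFusion

variable {G : Type*} [Group G] {S₁ S₂ S : Subgroup G}

theorem exists_mul (h : Cfsg.IsInternalDirectProduct S₁ S₂ S) {s : G} (hs : s ∈ S) :
    ∃ a ∈ S₁, ∃ b ∈ S₂, s = a * b := by
  obtain ⟨-, -, hc, -, hsup⟩ := h
  have hn : S₁ ≤ normalizer (S₂ : Set G) := by
    intro a ha
    rw [mem_normalizer_iff_map_conj]
    apply map_conj_of_mem_centralizer
    rw [mem_centralizer_iff]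
    intro b hb
    exact (hc a ha b hb).symm
  have hmem : s ∈ ((S₁ ⊔ S₂ : Subgroup G) : Set G) := by rw [hsup]; exact hs
  rw [coe_mul_of_left_le_normalizer_right S₁ _ hn] at hmem
  obtain ⟨a, ha, b, hb, rfl⟩ := hmem
  exact ⟨a, ha, b, hb, rfl⟩

theorem mul_inj (h : Cfsg.IsInternalDirectProduct S₁ S₂ S) {a a' b b' : G} (ha : a ∈ S₁) (ha' : a' ∈ S₁)
    (hb : b ∈ S₂) (hb' : b' ∈ S₂) (he : a * b = a' * b') : a = a' ∧ b = b' := by
  obtain ⟨-, -, hc, hd, -⟩ := h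
  have h1 : a'⁻¹ * a = b' * b⁻¹ := by
    have := congrArg (fun t => a'⁻¹ * t * b⁻¹) he
    simpa [mul_assoc] using this
  have h2 : a'⁻¹ * a ∈ S₁ ⊓ S₂ :=
    mem_inf.2 ⟨S₁.mul_mem (S₁.inv_mem ha') ha, by rw [h1]; exact S₂.mul_mem hb' (S₂.inv_mem hb)⟩
  rw [hd, mem_bot] at h2
  have h3 : a = a' := (inv_mul_eq_one.1 h2).symm
  refine ⟨h3, ?_⟩
  rw [h3] at he
  exact mul_left_cancel he

/-- `R` is a product subgroup of `S₁ × S₂`. -/
def IsPr (S₁ S₂ S R : Subgroup G) : Prop := R ≤ S ∧ ∀ a ∈ S₁, ∀ b ∈ S₂, a * b ∈ R → a ∈ R ∧ b ∈ R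

theorem IsPr.exists_mul {R : Subgroup G} (hR : IsPr S₁ S₂ S R) (h : Cfsg.IsInternalDirectProduct S₁ S₂ S) {r : G}
    (hr : r ∈ R) : ∃ a ∈ S₁, ∃ b ∈ S₂, a ∈ R ∧ b ∈ R ∧ r = a * b := by
  obtain ⟨a, ha, b, hb, rfl⟩ := EssProd.exists_mul h (hR.1 hr)
  obtain ⟨h1, h2⟩ := hR.2 a ha b hb hr
  exact ⟨a, ha, b, hb, h1, h2, rfl⟩

theorem IsPr.sup_eq {R : Subgroup G} (hR : IsPr S₁ S₂ S R) (h : Cfsg.IsInternalDirectProduct S₁ S₂ S) :
    R = (R ⊓ S₁) ⊔ (R ⊓ S₂) := by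
  apply le_antisymm
  · intro r hr
    obtain ⟨a, ha, b, hb, haR, hbR, rfl⟩ := hR.exists_mul h hr
    exact mul_mem (mem_sup_left ⟨haR, ha⟩) (mem_sup_right ⟨hbR, hb⟩)
  · exact sup_le inf_le_left inf_le_left

/-- commutators in a direct product are computed componentwise -/
theorem comm_mul (hc : ∀ a ∈ S₁, ∀ b ∈ S₂, a * b = b * a) {a b x y : G} (ha : a ∈ S₁) (hb : b ∈ S₂)
    (hx : x ∈ S₁) (hy : y ∈ S₂) :
    a * b * (x * y) * (a * b)⁻¹ * (x * y)⁻¹ = (a * x * a⁻¹ * x⁻¹) * (b * y * b⁻¹ * y⁻¹) := by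
  have e1 : b * x = x * b := (hc x hx b hb).symm
  have e2 : b⁻¹ * a⁻¹ = a⁻¹ * b⁻¹ := (hc _ (inv_mem ha) _ (inv_mem hb)).symm
  have e3 : ∀ z ∈ S₁, y⁻¹ * z = z * y⁻¹ := fun z hz => (hc z hz _ (inv_mem hy)).symm
  have e4 : y⁻¹ * x⁻¹ = x⁻¹ * y⁻¹ := e3 _ (inv_mem hx)
  have h1 : (b * y * b⁻¹) * (a⁻¹ * x⁻¹) = (a⁻¹ * x⁻¹) * (b * y * b⁻¹) :=
    (hc _ (mul_mem (inv_mem ha) (inv_mem hx)) _ (mul_mem (mul_mem hb hy) (inv_mem hb))).symm
  calc a * b * (x * y) * (a * b)⁻¹ * (x * y)⁻¹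
      = a * (b * x) * y * (b⁻¹ * a⁻¹) * (y⁻¹ * x⁻¹) := by simp only [mul_inv_rev]; group
    _ = a * (x * b) * y * (a⁻¹ * b⁻¹) * (x⁻¹ * y⁻¹) := by rw [e1, e2, e4]
    _ = a * (x * b) * y * (b⁻¹ * a⁻¹) * (x⁻¹ * y⁻¹) := by rw [e2]
    _ = a * x * ((b * y * b⁻¹) * (a⁻¹ * x⁻¹)) * y⁻¹ := by group
    _ = a * x * ((a⁻¹ * x⁻¹) * (b * y * b⁻¹)) * y⁻¹ := by rw [h1]
    _ = (a * x * a⁻¹ * x⁻¹) * (b * y * b⁻¹ * y⁻¹) := by group

/-! ### The chain `A ≥ [A, D] ≥ [A, D, D] ≥ …` -/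

/-- `[A, D, …, D]` -/
def lc (D A : Subgroup G) : ℕ → Subgroup G
  | 0 => A
  | n + 1 => ⁅lc D A n, D⁆

theorem lc_mono {D A B : Subgroup G} (h : A ≤ B) : ∀ n, lc D A n ≤ lc D B n
  | 0 => h
  | n + 1 => commutator_mono (lc_mono h n) le_rfl

theorem lc_eq (D : Subgroup G) : ∀ n, lc D D n = D.lowerCentralSeries n
  | 0 => rfl
  | n + 1 => by rw [lc, lc_eq D n]; rfl

theorem exists_lc_eq_bot [Finite G] {p : ℕ} [Fact p.Prime] {D : Subgroup G} (hD : IsPGroup p D) {A : Subgroup G}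
    (hA : A ≤ D) : ∃ n, lc D A n = ⊥ := by
  have : Group.IsNilpotent ↥D := hD.isNilpotent
  obtain ⟨n, hn⟩ := (Subgroup.isNilpotent_iff_lowerCentralSeries D).1 this
  refine ⟨n, eq_bot_iff.2 ?_⟩
  refine (lc_mono hA n).trans ?_
  rw [lc_eq, hn]

theorem lc_le_normalizer {D A N : Subgroup G} (hD : N ≤ normalizer (D : Set G)) (hA : N ≤ normalizer (A : Set G)) :
    ∀ n, N ≤ normalizer (lc D A n : Set G)
  | 0 => hA
  | n + 1 => by
    intro g hg
    rw [mem_normalizer_iff_map_conj, lc, map_commutator, mem_normalizer_iff_map_conj.1 (hD hg),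
      mem_normalizer_iff_map_conj.1 (lc_le_normalizer hD hA n hg)]

theorem lc_succ_le {D A : Subgroup G} (hA : A ≤ D) (hAD : D ≤ normalizer (A : Set G)) (n : ℕ) :
    lc D A (n + 1) ≤ lc D A n := by
  have h := lc_le_normalizer (N := D) le_normalizer hAD n
  rw [lc, commutator_le]
  intro a ha d hd
  have := (mem_normalizer_iff.1 (h hd) a⁻¹).1 (inv_mem ha)
  rw [commutatorElement_def]
  have e : a * d * a⁻¹ * d⁻¹ = a * (d * a⁻¹ * d⁻¹) := by group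
  rw [e]
  exact mul_mem ha this

theorem lc_le {D A : Subgroup G} (hA : A ≤ D) (hAD : D ≤ normalizer (A : Set G)) : ∀ n, lc D A n ≤ A
  | 0 => le_rfl
  | n + 1 => (lc_succ_le hA hAD n).trans (lc_le hA hAD n)

/-- If `A` is a product subgroup, so are all `[A, D, …, D]`, for every `D ≤ S`. -/
theorem isPr_commutator (h : Cfsg.IsInternalDirectProduct S₁ S₂ S) {D A : Subgroup G} (hD : D ≤ S)
    (hAn : D ≤ normalizer (A : Set G)) (hAD : A ≤ D) (hA : IsPr S₁ S₂ S A) : IsPr S₁ S₂ S ⁅A, D⁆ := by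
  have hle : ⁅A, D⁆ ≤ A := by
    have := lc_succ_le (D := D) (A := A) hAD hAn 0
    exact this
  refine ⟨hle.trans hA.1, ?_⟩
  -- the product of the two intersections contains all commutators
  have hc := h.2.2.1
  set C := ⁅A, D⁆ with hC
  have hcomp : ∀ x ∈ C, ∃ a ∈ S₁, ∃ b ∈ S₂, a ∈ C ∧ b ∈ C ∧ x = a * b := by
    let T : Subgroup G :=
      { carrier := {x | ∃ a ∈ S₁, ∃ b ∈ S₂, a ∈ C ∧ b ∈ C ∧ x = a * b}
        one_mem' := ⟨1, one_mem _, 1, one_mem _, one_mem _, one_mem _, by simp⟩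
        mul_mem' := by
          rintro _ _ ⟨a, ha, b, hb, haC, hbC, rfl⟩ ⟨a', ha', b', hb', haC', hbC', rfl⟩
          refine ⟨a * a', mul_mem ha ha', b * b', mul_mem hb hb', mul_mem haC haC', mul_mem hbC hbC', ?_⟩
          have := hc a' ha' b hb
          calc a * b * (a' * b') = a * (b * a') * b' := by group
            _ = a * (a' * b) * b' := by rw [this]
            _ = a * a' * (b * b') := by group
        inv_mem' := by
          rintro _ ⟨a, ha, b, hb, haC, hbC, rfl⟩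
          refine ⟨a⁻¹, inv_mem ha, b⁻¹, inv_mem hb, inv_mem haC, inv_mem hbC, ?_⟩
          rw [mul_inv_rev]
          exact (hc _ (inv_mem ha) _ (inv_mem hb)).symm }
    have hCT : C ≤ T := by
      rw [hC, commutator_le]
      intro a ha d hd
      obtain ⟨a₁, h1, a₂, h2, ha₁, ha₂, rfl⟩ := hA.exists_mul h ha
      obtain ⟨d₁, hd1, d₂, hd2, rfl⟩ := EssProd.exists_mul h (hD hd)
      refine ⟨a₁ * d₁ * a₁⁻¹ * d₁⁻¹, ?_, a₂ * d₂ * a₂⁻¹ * d₂⁻¹, ?_, ?_, ?_, ?_⟩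
      · exact mul_mem (mul_mem (mul_mem h1 hd1) (inv_mem h1)) (inv_mem hd1)
      · exact mul_mem (mul_mem (mul_mem h2 hd2) (inv_mem h2)) (inv_mem hd2)
      · have := commutator_mem_commutator ha₁ hd
        rw [commutatorElement_def] at this
        have e := comm_mul hc h1 (one_mem S₂) hd1 hd2
        simp only [mul_one, one_mul, mul_inv_cancel, inv_one] at e
        rw [e] at this
        exact this
      · have := commutator_mem_commutator ha₂ hd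
        rw [commutatorElement_def] at this
        have e := comm_mul hc (one_mem S₁) h2 hd1 hd2
        simp only [one_mul, inv_one, mul_one, mul_inv_cancel] at e
        rw [e] at this
        exact this
      · rw [commutatorElement_def]
        exact comm_mul hc h1 h2 hd1 hd2
    intro x hx
    exact hCT hx
  intro a ha b hb hab
  obtain ⟨a', ha', b', hb', haC, hbC, he⟩ := hcomp _ hab
  obtain ⟨rfl, rfl⟩ := mul_inj h ha ha' hb hb' he
  exact ⟨haC, hbC⟩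

theorem isPr_lc (h : Cfsg.IsInternalDirectProduct S₁ S₂ S) {D A : Subgroup G} (hD : D ≤ S)
    (hAn : D ≤ normalizer (A : Set G)) (hAD : A ≤ D) (hA : IsPr S₁ S₂ S A) : ∀ n, IsPr S₁ S₂ S (lc D A n)
  | 0 => hA
  | n + 1 => isPr_commutator h hD (lc_le_normalizer le_normalizer hAn n) ((lc_le hAD hAn n).trans hAD)
      (isPr_lc h hD hAn hAD hA n)

/-! ### Chains -/

section Chain

variable [Finite G] {p : ℕ} [hp : Fact p.Prime]

omit [Finite G] hp in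
theorem stab_lc {N D A : Subgroup G} {x : G} (hAD : A ≤ D) (hA : D ≤ normalizer (A : Set G))
    (hDN : N ≤ normalizer (D : Set G)) (hAN : N ≤ normalizer (A : Set G))
    (hx : ∀ i, ∀ e ∈ lc D A i, x * e * x⁻¹ * e⁻¹ ∈ lc D A (i + 1)) {n : ℕ} (hn : lc D A n = ⊥) :
    Stab N x A := by
  have key : ∀ k i, i + k = n → Stab N x (lc D A i) := by
    intro k
    induction k with
    | zero =>
      intro i hi
      rw [add_zero] at hi
      rw [hi, hn]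
      exact Stab.bot
    | succ k ih =>
      intro i hi
      exact Stab.step (lc_succ_le hAD hA i) (lc_le_normalizer hDN hAN i) (hx i) (ih (i + 1) (by omega))
  exact key n 0 (by omega)

/-- **(A)**: an essential subgroup of a direct product is a product. -/
theorem isPr_of_ess {P : Sylow p G} (h : Cfsg.IsInternalDirectProduct S₁ S₂ (P : Subgroup G)) {D : Subgroup G}
    (hD : EssDefs.Ess p (P : Subgroup G) D) : IsPr S₁ S₂ (P : Subgroup G) D := by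
  have hDP : D ≤ P := by obtain ⟨H, hH⟩ := hD; exact hH.lt.le
  have hc := h.2.2.1
  set N : Subgroup G := normalizer (D : Set G) with hN
  have hDN : D ≤ N := le_normalizer
  have hDp : IsPGroup p D := P.isPGroup'.to_le hDP
  -- a maximal invariant product subgroup
  set F : Set (Subgroup G) := {R | R ≤ D ∧ N ≤ normalizer (R : Set G) ∧ IsPr S₁ S₂ (P : Subgroup G) R} with hF
  have hbot : (⊥ : Subgroup G) ∈ F := by
    refine ⟨bot_le, ?_, bot_le, ?_⟩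
    · intro n _
      rw [mem_normalizer_iff_map_conj, Subgroup.map_bot]
    · intro a ha b hb hab
      rw [mem_bot] at hab
      obtain ⟨h1, h2⟩ := mul_inj h ha (one_mem _) hb (one_mem _) (by rw [hab, mul_one])
      rw [h1, h2]
      exact ⟨one_mem _, one_mem _⟩
  obtain ⟨R, hR⟩ := (Set.toFinite F).exists_maximal ⟨_, hbot⟩
  obtain ⟨⟨hRD, hRN, hRP⟩, hmax⟩ := hR
  by_cases hRD' : D ≤ R
  · have : D = R := le_antisymm hRD' hRD
    rw [this]; exact hRP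
  exfalso
  -- `U / R = Z(D / R)`
  have conjR : ∀ {n r : G}, n ∈ N → r ∈ R → n * r * n⁻¹ ∈ R := fun hn hr => (mem_normalizer_iff.1 (hRN hn) _).1 hr
  have conjD : ∀ {n r : G}, n ∈ N → r ∈ D → n * r * n⁻¹ ∈ D := fun hn hr => (mem_normalizer_iff.1 hn _).1 hr
  let U : Subgroup G :=
    { carrier := {u | u ∈ D ∧ ∀ d ∈ D, u * d * u⁻¹ * d⁻¹ ∈ R}
      one_mem' := ⟨one_mem _, fun d _ => by simp [one_mem]⟩
      mul_mem' := by
        rintro a b ⟨ha, ha'⟩ ⟨hb, hb'⟩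
        refine ⟨mul_mem ha hb, fun d hd => ?_⟩
        have e : a * b * d * (a * b)⁻¹ * d⁻¹ = a * (b * d * b⁻¹ * d⁻¹) * a⁻¹ * (a * d * a⁻¹ * d⁻¹) := by group
        rw [e]
        exact mul_mem (conjR (hDN ha) (hb' d hd)) (ha' d hd)
      inv_mem' := by
        rintro a ⟨ha, ha'⟩
        refine ⟨inv_mem ha, fun d hd => ?_⟩
        have e : a⁻¹ * d * a⁻¹⁻¹ * d⁻¹ = a⁻¹ * (a * d * a⁻¹ * d⁻¹)⁻¹ * a⁻¹⁻¹ := by group
        rw [e]
        exact conjR (hDN (inv_mem ha)) (inv_mem (ha' d hd)) }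
  have memU : ∀ {u}, u ∈ U ↔ u ∈ D ∧ ∀ d ∈ D, u * d * u⁻¹ * d⁻¹ ∈ R := Iff.rfl
  have hRU : R ≤ U := by
    intro r hr
    refine ⟨hRD hr, fun d hd => ?_⟩
    have e : r * d * r⁻¹ * d⁻¹ = r * (d * r⁻¹ * d⁻¹) := by group
    rw [e]
    exact mul_mem hr (conjR (hDN hd) (inv_mem hr))
  have hUN : N ≤ normalizer (U : Set G) := by
    rw [le_normalizer_iff]
    rintro n hn u ⟨hu, hu'⟩
    refine ⟨conjD hn hu, fun d hd => ?_⟩
    have e : n * u * n⁻¹ * d * (n * u * n⁻¹)⁻¹ * d⁻¹ =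
        n * (u * (n⁻¹ * d * n) * u⁻¹ * (n⁻¹ * d * n)⁻¹) * n⁻¹ := by group
    rw [e]
    apply conjR hn
    apply hu'
    have := conjD (inv_mem hn) hd
    simpa using this
  -- `U` is strictly larger than `R`
  have hUR : ¬ U ≤ R := by
    obtain ⟨n, hn⟩ := exists_lc_eq_bot hDp (le_refl D)
    have hex : ∃ n, lc D D n ≤ R := ⟨n, by rw [hn]; exact bot_le⟩
    classical
    have h1 := Nat.find_spec hex
    have h0 : Nat.find hex ≠ 0 := by
      intro h0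
      rw [h0] at h1
      exact hRD' h1
    obtain ⟨k, hk⟩ := Nat.exists_eq_succ_of_ne_zero h0
    have h2 : ¬ lc D D k ≤ R := Nat.find_min hex (by omega)
    rw [hk] at h1
    intro hUR
    apply h2
    intro u hu
    apply hUR
    refine ⟨lc_le le_rfl le_normalizer k hu, fun d hd => ?_⟩
    apply h1
    have := commutator_mem_commutator hu hd
    exact this
  -- the components of an element of `U` lie in `D`
  have key : ∀ {u v : G}, v * u ∈ U ∨ u * v ∈ U → (∀ d ∈ D, u * d * u⁻¹ * d⁻¹ ∈ R) →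
      (∀ i, ∀ e ∈ lc D R i, u * e * u⁻¹ * e⁻¹ ∈ lc D R (i + 1)) → u ∈ (P : Subgroup G) → u ∈ D := by
    intro u v _ h1 h2 huP
    have huN : u ∈ N := by
      rw [hN, mem_normalizer_iff_map_conj]
      apply map_conj_le_of_le_normalizer
      rintro _ ⟨d, hd, rfl⟩
      have e : u * d * u⁻¹ = (u * d * u⁻¹ * d⁻¹) * d := by group
      change u * d * u⁻¹ ∈ D
      rw [e]
      exact mul_mem (hRD (h1 d hd)) hd
    obtain ⟨m, hm⟩ := exists_lc_eq_bot hDp hRD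
    have hs : Stab N u R := stab_lc hRD (hDN.trans hRN) le_rfl hRN h2 hm
    exact mem_of_stab hD (Stab.step hRD le_rfl h1 hs) huP huN
  have hPrLc := isPr_lc h hDP (hDN.trans hRN) hRD hRP
  -- components
  have hcomp : ∀ a ∈ S₁, ∀ b ∈ S₂, a * b ∈ U → a ∈ U ∧ b ∈ U := by
    intro a ha b hb hab
    have hA1 : ∀ d ∈ D, a * d * a⁻¹ * d⁻¹ ∈ R ∧ b * d * b⁻¹ * d⁻¹ ∈ R := by
      intro d hd
      have h3 := hab.2 d hd
      obtain ⟨x, hx, y, hy, rfl⟩ := EssProd.exists_mul h (hDP hd)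
      rw [comm_mul hc ha hb hx hy] at h3
      have h4 := hRP.2 _ (mul_mem (mul_mem (mul_mem ha hx) (inv_mem ha)) (inv_mem hx)) _
        (mul_mem (mul_mem (mul_mem hb hy) (inv_mem hb)) (inv_mem hy)) h3
      have e1 := comm_mul hc ha (one_mem S₂) hx hy
      have e2 := comm_mul hc (one_mem S₁) hb hx hy
      simp only [mul_one, one_mul, mul_inv_cancel, inv_one] at e1 e2
      rw [e1, e2]
      exact h4
    have hA2 : ∀ i, ∀ e ∈ lc D R i, a * e * a⁻¹ * e⁻¹ ∈ lc D R (i + 1) ∧ b * e * b⁻¹ * e⁻¹ ∈ lc D R (i + 1) := by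
      intro i e he
      have heD : e ∈ D := hRD (lc_le hRD (hDN.trans hRN) i he)
      have h3 : (a * b) * e * (a * b)⁻¹ * e⁻¹ ∈ lc D R (i + 1) := by
        have h4 := commutator_mem_commutator he hab.1
        have h5 : (e * (a * b) * e⁻¹ * (a * b)⁻¹)⁻¹ ∈ lc D R (i + 1) := inv_mem h4
        have e5 : (e * (a * b) * e⁻¹ * (a * b)⁻¹)⁻¹ = (a * b) * e * (a * b)⁻¹ * e⁻¹ := by group
        rw [← e5]; exact h5
      obtain ⟨x, hx, y, hy, rfl⟩ := EssProd.exists_mul h (hDP heD)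
      rw [comm_mul hc ha hb hx hy] at h3
      have h4 := (hPrLc (i + 1)).2 _ (mul_mem (mul_mem (mul_mem ha hx) (inv_mem ha)) (inv_mem hx)) _
        (mul_mem (mul_mem (mul_mem hb hy) (inv_mem hb)) (inv_mem hy)) h3
      have e1 := comm_mul hc ha (one_mem S₂) hx hy
      have e2 := comm_mul hc (one_mem S₁) hb hx hy
      simp only [mul_one, one_mul, mul_inv_cancel, inv_one] at e1 e2
      rw [e1, e2]
      exact h4
    have haD : a ∈ D := key (Or.inr hab) (fun d hd => (hA1 d hd).1) (fun i e he => (hA2 i e he).1) (h.1 ha)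
    have hbD : b ∈ D := key (Or.inl hab) (fun d hd => (hA1 d hd).2) (fun i e he => (hA2 i e he).2) (h.2.1 hb)
    exact ⟨⟨haD, fun d hd => (hA1 d hd).1⟩, ⟨hbD, fun d hd => (hA1 d hd).2⟩⟩
  have hUF : U ∈ F := ⟨fun u hu => hu.1, hUN, fun u hu => hDP hu.1, hcomp⟩
  exact hUR (hmax hUF hRU)

end Chain

/-! ### One factor is contained in an essential subgroup -/

section Two

open Cfsg.Agent.Hex.SEAbs Cfsg.Agent.Hex.SE

/-- the fixed points of `g` on `A / A₀` -/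
def Fx (A A₀ : Subgroup G) (g : G) : Set G := {a | a ∈ A ∧ g * a * g⁻¹ * a⁻¹ ∈ A₀}

theorem Fx_mul {A A₀ : Subgroup G} {g k : G} (hg : g ∈ normalizer (A₀ : Set G))
    (hk : ∀ a ∈ A, k * a * k⁻¹ * a⁻¹ ∈ A₀) : Fx A A₀ (g * k) = Fx A A₀ g := by
  ext a
  constructor
  · rintro ⟨ha, h⟩
    refine ⟨ha, ?_⟩
    have e : g * a * g⁻¹ * a⁻¹ = (g * (k * a * k⁻¹ * a⁻¹)⁻¹ * g⁻¹) * (g * k * a * (g * k)⁻¹ * a⁻¹) := by group
    rw [e]
    exact mul_mem ((mem_normalizer_iff.1 hg _).1 (inv_mem (hk a ha))) h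
  · rintro ⟨ha, h⟩
    refine ⟨ha, ?_⟩
    have e : g * k * a * (g * k)⁻¹ * a⁻¹ = (g * (k * a * k⁻¹ * a⁻¹) * g⁻¹) * (g * a * g⁻¹ * a⁻¹) := by group
    rw [e]
    exact mul_mem ((mem_normalizer_iff.1 hg _).1 (hk a ha)) h

theorem ncard_Fx_conj {A A₀ : Subgroup G} {n : G} (g : G) (hA : n ∈ normalizer (A : Set G))
    (hA₀ : n ∈ normalizer (A₀ : Set G)) : (Fx A A₀ (n * g * n⁻¹)).ncard = (Fx A A₀ g).ncard := by
  have h : Fx A A₀ (n * g * n⁻¹) = (fun a => n * a * n⁻¹) '' Fx A A₀ g := by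
    ext a
    constructor
    · rintro ⟨ha, h⟩
      refine ⟨n⁻¹ * a * n, ⟨?_, ?_⟩, by group⟩
      · rw [mem_normalizer_iff.1 hA]
        have e : n * (n⁻¹ * a * n) * n⁻¹ = a := by group
        rw [e]; exact ha
      · rw [mem_normalizer_iff.1 hA₀]
        have e : n * (g * (n⁻¹ * a * n) * g⁻¹ * (n⁻¹ * a * n)⁻¹) * n⁻¹ =
            n * g * n⁻¹ * a * (n * g * n⁻¹)⁻¹ * a⁻¹ := by group
        rw [e]; exact h
    · rintro ⟨b, ⟨hb, h⟩, rfl⟩
      refine ⟨(mem_normalizer_iff.1 hA _).1 hb, ?_⟩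
      have e : n * g * n⁻¹ * (n * b * n⁻¹) * (n * g * n⁻¹)⁻¹ * (n * b * n⁻¹)⁻¹ =
          n * (g * b * g⁻¹ * b⁻¹) * n⁻¹ := by group
      change n * g * n⁻¹ * (n * b * n⁻¹) * (n * g * n⁻¹)⁻¹ * (n * b * n⁻¹)⁻¹ ∈ A₀
      rw [e]
      exact (mem_normalizer_iff.1 hA₀ _).1 h
  rw [h]
  apply Set.ncard_image_of_injective
  intro a b hab
  exact mul_left_cancel (mul_right_cancel hab)

variable [Finite G]

/-- A `2`-element outside `D`, normalizing `D`, with square in `D`. -/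
theorem exists_sq_mem {T D : Subgroup G} (hT : IsPGroup 2 T) (hD : D < T) :
    ∃ b ∈ T, b ∈ normalizer (D : Set G) ∧ b ∉ D ∧ b * b ∈ D := by
  have : Fact (Nat.Prime 2) := ⟨Nat.prime_two⟩
  obtain ⟨y, hy, hyD⟩ := SetLike.exists_of_lt (lt_inf_normalizer hT hD)
  obtain ⟨n, hn⟩ := hT ⟨y, hy.1⟩
  have hn' : y ^ 2 ^ n = 1 := by
    have := congrArg Subtype.val hn
    simpa using this
  have hex : ∃ n, y ^ 2 ^ n ∈ D := ⟨n, by rw [hn']; exact one_mem _⟩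
  classical
  have h1 := Nat.find_spec hex
  have h0 : Nat.find hex ≠ 0 := by
    intro h0
    rw [h0, pow_zero, pow_one] at h1
    exact hyD h1
  obtain ⟨k, hk⟩ := Nat.exists_eq_succ_of_ne_zero h0
  have h2 := Nat.find_min hex (m := k) (by omega)
  rw [hk] at h1
  refine ⟨y ^ 2 ^ k, pow_mem hy.1 _, pow_mem hy.2 _, h2, ?_⟩
  have e : y ^ 2 ^ k * y ^ 2 ^ k = y ^ 2 ^ (k + 1) := by
    rw [← pow_add, pow_succ, mul_two]
  rw [e]
  exact h1

/-- **(B)**: an essential subgroup of a direct product contains one of the factors. -/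
theorem le_or_le_of_ess {P : Sylow 2 G} (h : Cfsg.IsInternalDirectProduct S₁ S₂ (P : Subgroup G)) {D : Subgroup G}
    (hD : EssDefs.Ess 2 (P : Subgroup G) D) : S₁ ≤ D ∨ S₂ ≤ D := by
  have : Fact (Nat.Prime 2) := ⟨Nat.prime_two⟩
  by_contra hcon
  push Not at hcon
  obtain ⟨hc1, hc2⟩ := hcon
  have hPr := isPr_of_ess h hD
  obtain ⟨H, hH⟩ := hD
  have hDP : D ≤ P := hH.lt.le
  have hc := h.2.2.1
  have hS₁p : IsPGroup 2 S₁ := P.isPGroup'.to_le h.1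
  have hS₂p : IsPGroup 2 S₂ := P.isPGroup'.to_le h.2.1
  have hDp : IsPGroup 2 D := P.isPGroup'.to_le hDP
  set N : Subgroup G := normalizer (D : Set G) with hN
  -- the two elements
  obtain ⟨b₁, hb₁, hn₁, hb₁D, hb₁b⟩ := exists_sq_mem (D := D ⊓ S₁) hS₁p
    (lt_of_le_of_ne inf_le_right (fun hh => hc1 (by rw [← hh]; exact inf_le_left)))
  obtain ⟨b₂, hb₂, hn₂, hb₂D, hb₂b⟩ := exists_sq_mem (D := D ⊓ S₂) hS₂p
    (lt_of_le_of_ne inf_le_right (fun hh => hc2 (by rw [← hh]; exact inf_le_left)))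
  have hb₁D' : b₁ ∉ D := fun hh => hb₁D ⟨hh, hb₁⟩
  have hb₂D' : b₂ ∉ D := fun hh => hb₂D ⟨hh, hb₂⟩
  have hN₁ : b₁ ∈ N := by
    rw [hN, mem_normalizer_iff_map_conj]
    apply map_conj_le_of_le_normalizer
    rintro _ ⟨d, hd, rfl⟩
    obtain ⟨x, hx, y, hy, hxD, hyD, rfl⟩ := hPr.exists_mul h hd
    have e : b₁ * (x * y) * b₁⁻¹ = (b₁ * x * b₁⁻¹) * y := by
      have := hc _ (inv_mem hb₁) y hy
      calc b₁ * (x * y) * b₁⁻¹ = b₁ * x * (y * b₁⁻¹) := by group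
        _ = b₁ * x * (b₁⁻¹ * y) := by rw [this]
        _ = (b₁ * x * b₁⁻¹) * y := by group
    change b₁ * (x * y) * b₁⁻¹ ∈ D
    rw [e]
    exact mul_mem ((mem_normalizer_iff.1 hn₁ x).1 ⟨hxD, hx⟩).1 hyD
  have hN₂ : b₂ ∈ N := by
    rw [hN, mem_normalizer_iff_map_conj]
    apply map_conj_le_of_le_normalizer
    rintro _ ⟨d, hd, rfl⟩
    obtain ⟨x, hx, y, hy, hxD, hyD, rfl⟩ := hPr.exists_mul h hd
    have e : b₂ * (x * y) * b₂⁻¹ = x * (b₂ * y * b₂⁻¹) := by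
      have := hc x hx b₂ hb₂
      calc b₂ * (x * y) * b₂⁻¹ = (b₂ * x) * y * b₂⁻¹ := by group
        _ = (x * b₂) * y * b₂⁻¹ := by rw [this]
        _ = x * (b₂ * y * b₂⁻¹) := by group
    change b₂ * (x * y) * b₂⁻¹ ∈ D
    rw [e]
    exact mul_mem hxD ((mem_normalizer_iff.1 hn₂ y).1 ⟨hyD, hy⟩).1
  have hP₁ : b₁ ∈ (P : Subgroup G) := h.1 hb₁
  have hP₂ : b₂ ∈ (P : Subgroup G) := h.2.1 hb₂
  have hbb : b₁ * b₂ * (b₁ * b₂) ∈ D := by
    have e : b₁ * b₂ * (b₁ * b₂) = (b₁ * b₁) * (b₂ * b₂) := by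
      have := hc b₁ hb₁ b₂ hb₂
      calc b₁ * b₂ * (b₁ * b₂) = b₁ * (b₂ * b₁) * b₂ := by group
        _ = b₁ * (b₁ * b₂) * b₂ := by rw [this]
        _ = (b₁ * b₁) * (b₂ * b₂) := by group
    rw [e]
    exact mul_mem hb₁b.1 hb₂b.1
  have hb12D : b₁ * b₂ ∉ D := fun hh => hb₁D' (hPr.2 _ hb₁ _ hb₂ hh).1
  -- involutions of the quotient are conjugate
  have hse := semb hH
  set Hb := (H.subgroupOf (normalizer (D : Set G))).map (pr D) with hHb
  have conj : ∀ {c : G} (hcN : c ∈ N), c ∈ (P : Subgroup G) → c ∉ D → c * c ∈ D →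
      ∃ n ∈ N, ∃ k ∈ K0 D, n * b₁ * n⁻¹ = c * k := by
    intro c hcN hcP hcD hcc
    have h1 : pr D ⟨b₁, hN₁⟩ ∈ Hb := (mem_map_pr hH _).2 (hH.inf_le ⟨hP₁, hN₁⟩)
    have h2 : pr D ⟨b₁, hN₁⟩ * pr D ⟨b₁, hN₁⟩ = 1 := by
      rw [← map_mul, pr_eq_one]
      exact (le_sup_left : D ≤ K0 D) hb₁b.1
    have h3 : pr D ⟨b₁, hN₁⟩ ≠ 1 := by
      rw [Ne, pr_eq_one]
      intro hh
      exact hb₁D' (mem_of_mem_K0 hH hP₁ hh)
    have h4 : pr D ⟨c, hcN⟩ * pr D ⟨c, hcN⟩ = 1 := by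
      rw [← map_mul, pr_eq_one]
      exact (le_sup_left : D ≤ K0 D) hcc
    have h5 : pr D ⟨c, hcN⟩ ≠ 1 := by
      rw [Ne, pr_eq_one]
      intro hh
      exact hcD (mem_of_mem_K0 hH hcP hh)
    obtain ⟨g, hg⟩ := hse.exists_conj h1 h2 h3 h4 h5
    obtain ⟨⟨n, hn⟩, rfl⟩ := QuotientGroup.mk'_surjective _ g
    have h6 : pr D (⟨c, hcN⟩⁻¹ * (⟨n, hn⟩ * ⟨b₁, hN₁⟩ * ⟨n, hn⟩⁻¹)) = 1 := by
      rw [map_mul, map_inv, map_mul, map_mul, map_inv, hg, inv_mul_cancel]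
    rw [pr_eq_one] at h6
    refine ⟨n, hn, c⁻¹ * (n * b₁ * n⁻¹), h6, by group⟩
  obtain ⟨n₂, hn₂N, k₂, hk₂, he₂⟩ := conj hN₂ hP₂ hb₂D' hb₂b.1
  obtain ⟨n₃, hn₃N, k₃, hk₃, he₃⟩ := conj (mul_mem hN₁ hN₂) (mul_mem hP₁ hP₂) hb12D hbb
  -- `b₁` acts trivially on all factors of the lower central series
  have hDN : D ≤ N := le_normalizer
  have hDpr := isPr_lc h hDP le_normalizer le_rfl hPr
  have htriv : ∀ i, ∀ e ∈ lc D D i, b₁ * e * b₁⁻¹ * e⁻¹ ∈ lc D D (i + 1) := by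
    intro i
    set A := lc D D i with hA
    set A₀ := lc D D (i + 1) with hA₀
    have hAN : N ≤ normalizer (A : Set G) := lc_le_normalizer le_rfl le_rfl i
    have hA₀N : N ≤ normalizer (A₀ : Set G) := lc_le_normalizer le_rfl le_rfl (i + 1)
    have hAD : A ≤ D := lc_le le_rfl le_normalizer i
    have hK : ∀ k ∈ K0 D, ∀ a ∈ A, k * a * k⁻¹ * a⁻¹ ∈ A₀ := by
      have hle : K0 D ≤ ({ carrier := {k | k ∈ N ∧ ∀ a ∈ A, k * a * k⁻¹ * a⁻¹ ∈ A₀}
                           one_mem' := ⟨one_mem _, fun a _ => by simp [one_mem]⟩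
                           mul_mem' := by
                            rintro a b ⟨ha, ha'⟩ ⟨hb, hb'⟩
                            refine ⟨mul_mem ha hb, fun d hd => ?_⟩
                            have e : a * b * d * (a * b)⁻¹ * d⁻¹ =
                              a * (b * d * b⁻¹ * d⁻¹) * a⁻¹ * (a * d * a⁻¹ * d⁻¹) := by group
                            rw [e]
                            exact mul_mem ((mem_normalizer_iff.1 (hA₀N ha) _).1 (hb' d hd)) (ha' d hd)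
                           inv_mem' := by
                            rintro a ⟨ha, ha'⟩
                            refine ⟨inv_mem ha, fun d hd => ?_⟩
                            have e : a⁻¹ * d * a⁻¹⁻¹ * d⁻¹ = a⁻¹ * (a * d * a⁻¹ * d⁻¹)⁻¹ * a⁻¹⁻¹ := by group
                            rw [e]
                            exact (mem_normalizer_iff.1 (hA₀N (inv_mem ha)) _).1 (inv_mem (ha' d hd)) } :
                          Subgroup G) := by
        apply sup_le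
        · intro k hk
          refine ⟨hDN hk, fun a ha => ?_⟩
          have h1 : (a * k * a⁻¹ * k⁻¹)⁻¹ ∈ A₀ := inv_mem (commutator_mem_commutator ha hk)
          have e : k * a * k⁻¹ * a⁻¹ = (a * k * a⁻¹ * k⁻¹)⁻¹ := by group
          rw [e]; exact h1
        · intro k hk
          refine ⟨centralizer_le_normalizer _ hk, fun a ha => ?_⟩
          rw [← mem_centralizer_iff.1 hk a (hAD ha), mul_inv_cancel_right, mul_inv_cancel]
          exact one_mem _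
      exact fun k hk => (hle hk).2
    have hcard₂ : (Fx A A₀ b₁).ncard = (Fx A A₀ b₂).ncard := by
      rw [← ncard_Fx_conj b₁ (hAN hn₂N) (hA₀N hn₂N), he₂, Fx_mul (hA₀N hN₂) (hK _ hk₂)]
    have hcard₃ : (Fx A A₀ b₁).ncard = (Fx A A₀ (b₁ * b₂)).ncard := by
      rw [← ncard_Fx_conj b₁ (hAN hn₃N) (hA₀N hn₃N), he₃, Fx_mul (hA₀N (mul_mem hN₁ hN₂)) (hK _ hk₃)]
    have hcomp : ∀ a ∈ Fx A A₀ (b₁ * b₂), a ∈ Fx A A₀ b₁ ∧ a ∈ Fx A A₀ b₂ := by
      rintro a ⟨ha, h3⟩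
      obtain ⟨x, hx, y, hy, rfl⟩ := EssProd.exists_mul h (hDP (hAD ha))
      rw [comm_mul hc hb₁ hb₂ hx hy] at h3
      have h4 := (hDpr (i + 1)).2 _ (mul_mem (mul_mem (mul_mem hb₁ hx) (inv_mem hb₁)) (inv_mem hx)) _
        (mul_mem (mul_mem (mul_mem hb₂ hy) (inv_mem hb₂)) (inv_mem hy)) h3
      have e1 := comm_mul hc hb₁ (one_mem S₂) hx hy
      have e2 := comm_mul hc (one_mem S₁) hb₂ hx hy
      simp only [mul_one, one_mul, mul_inv_cancel, inv_one] at e1 e2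
      refine ⟨⟨ha, ?_⟩, ⟨ha, ?_⟩⟩
      · rw [e1]; exact h4.1
      · rw [e2]; exact h4.2
    have h1 : Fx A A₀ (b₁ * b₂) = Fx A A₀ b₁ :=
      Set.eq_of_subset_of_ncard_le (fun a ha => (hcomp a ha).1) hcard₃.le (Set.toFinite _)
    have h2 : Fx A A₀ (b₁ * b₂) = Fx A A₀ b₂ :=
      Set.eq_of_subset_of_ncard_le (fun a ha => (hcomp a ha).2) (by rw [← hcard₂, hcard₃]) (Set.toFinite _)
    intro e he
    obtain ⟨x, hx, y, hy, rfl⟩ := EssProd.exists_mul h (hDP (hAD he))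
    have hxy := (hDpr i).2 x hx y hy he
    have hxF : x ∈ Fx A A₀ b₂ := by
      refine ⟨hxy.1, ?_⟩
      rw [← hc x hx b₂ hb₂, mul_inv_cancel_right, mul_inv_cancel]
      exact one_mem _
    rw [← h2, h1] at hxF
    have e1 := comm_mul hc hb₁ (one_mem S₂) hx hy
    simp only [mul_one, one_mul, mul_inv_cancel, inv_one] at e1
    rw [e1]
    exact hxF.2
  obtain ⟨m, hm⟩ := exists_lc_eq_bot hDp (le_refl D)
  have hs : Stab N b₁ D := stab_lc le_rfl le_normalizer le_rfl le_rfl htriv hm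
  exact hb₁D' (mem_of_stab ⟨H, hH⟩ hs hP₁ hN₁)

/-- **Essential subgroups of a direct product** `P = S₁ × S₂`. -/
theorem ess_prod {P : Sylow 2 G} (h : Cfsg.IsInternalDirectProduct S₁ S₂ (P : Subgroup G)) {D : Subgroup G}
    (hD : EssDefs.Ess 2 (P : Subgroup G) D) :
    (S₁ ≤ D ∨ S₂ ≤ D) ∧ ∀ a ∈ S₁, ∀ b ∈ S₂, a * b ∈ D → a ∈ D ∧ b ∈ D :=
  have : Fact (Nat.Prime 2) := ⟨Nat.prime_two⟩
  ⟨le_or_le_of_ess h hD, (isPr_of_ess h hD).2⟩

end Two

end Cfsg.Agent.Lib.EssProd
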