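import Mathlib

/-!
# Closing lemmas: from a large subgroup `J` to the whole group (no strong embedding theorem used)

`Z` is a normal set of involutions ("the `z`-type involutions"), `J` a subgroup of the finite group `G`
such that `y ∈ Z ∩ J`, `g y g⁻¹ ∈ J` implies `g ∈ J`.

* `pgroup_le`: a `p`-group meeting `Z ∩ J` lies in `J`.
* `control`: `J` controls fusion of sets centralised by an element of `Z ∩ J`.
* `closing_core`, `centralizer_le_or_transitive`: `C_G(A) ≤ J`, or `J ∩ C_G(A)` is transitive on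
  the non-trivial cosets of `A` in `E`.
* `all_involutions`: if `J` contains the centralisers of all its involutions and has two
  involutions not conjugate in `G`, then `J` contains all involutions of `G`.
-/

set_option autoImplicit false

namespace Cfsg.Agent.Lib.ClosingTI

variable {G : Type*} [Group G]

theorem isPGroup_zpowers (g : G) (n : ℕ) (hg : g ^ 2 ^ n = 1) : IsPGroup 2 (Subgroup.zpowers g) := by
  rintro ⟨x, hx⟩
  obtain ⟨k, rfl⟩ := Subgroup.mem_zpowers_iff.1 hx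
  refine ⟨n, Subtype.ext ?_⟩
  rw [Subgroup.coe_pow, Subgroup.coe_one]
  simp only
  rw [← zpow_natCast, ← zpow_mul, mul_comm, zpow_mul, zpow_natCast, hg, one_zpow]

/-- The subgroup generated by an involution `e` and a `2`-element `g` inverted by `e` is a `2`-group. -/
theorem isPGroup_dihedral (e g : G) (he : e * e = 1) (hinv : e * g * e⁻¹ = g⁻¹)
    (n : ℕ) (hg : g ^ 2 ^ n = 1) :
    IsPGroup 2 (Subgroup.zpowers e ⊔ Subgroup.zpowers g : Subgroup G) := by
  have h1 : IsPGroup 2 (Subgroup.zpowers e) :=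
    isPGroup_zpowers e 1 (by rw [pow_one, pow_two, he])
  have h2 : IsPGroup 2 (Subgroup.zpowers g) := isPGroup_zpowers g n hg
  refine IsPGroup.to_sup_of_normal_right' h1 h2 ?_
  rw [Subgroup.zpowers_le, Subgroup.mem_normalizer_iff]
  have key : ∀ x, x ∈ Subgroup.zpowers g → e * x * e⁻¹ ∈ Subgroup.zpowers g := by
    rintro x ⟨k, rfl⟩
    refine ⟨-k, ?_⟩
    have : e * g ^ k * e⁻¹ = (e * g * e⁻¹) ^ k := by
      rw [← MulAut.conj_apply, map_zpow, MulAut.conj_apply]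
    simp only
    rw [this, hinv, inv_zpow, zpow_neg]
  have hei : e⁻¹ = e := inv_eq_of_mul_eq_one_left he
  intro x
  constructor
  · exact key x
  · intro hx
    have := key _ hx
    rwa [hei, show e * (e * x * e) * e = (e * e) * x * (e * e) by group, he, one_mul, mul_one] at this

/-- Core of the closing argument, inside one group `K`. -/
theorem closing_core [Finite G] (K M A E S : Subgroup G) (hMK : M ≤ K) (hAE : A ≤ E) (hEM : E ≤ M)
    (hES : E ≤ S) (hE2 : ∀ e ∈ E, e * e = 1) (hEn : ∀ m ∈ M, ∀ e ∈ E, m * e * m⁻¹ ∈ E)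
    (hAc : ∀ a ∈ A, ∀ k ∈ K, k * a * k⁻¹ = a)
    (hS : ∀ P : Subgroup G, P ≤ K → IsPGroup 2 P → ∃ l ∈ K, ∀ x ∈ P, l * x * l⁻¹ ∈ S)
    (hSM : ∀ P : Subgroup G, P ≤ M → IsPGroup 2 P → ∃ m ∈ M, ∀ x ∈ P, m * x * m⁻¹ ∈ S)
    (hfus : ∀ e ∈ E, ∀ k ∈ K, k * e * k⁻¹ ∈ S → ∃ m ∈ M, m * e * m⁻¹ = k * e * k⁻¹)
    (hC : ∀ e ∈ E, e ∉ A → ∀ k ∈ K, k * e * k⁻¹ = e → k ∈ M) :
    K ≤ M ∨ ∀ e ∈ E, e ∉ A → ∀ f ∈ E, f ∉ A → ∃ m ∈ M, ∃ a ∈ A, m * e * m⁻¹ = f * a := by
  classical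
  by_cases hKM : K ≤ M
  · exact Or.inl hKM
  right
  -- claim D
  have hD : ∀ e ∈ E, e ∉ A → ∀ k ∈ K, k * e * k⁻¹ ∈ E → k ∈ M := by
    intro e he heA k hk hke
    obtain ⟨m, hm, hme⟩ := hfus e he k hk (hES hke)
    have h1 : m⁻¹ * k ∈ M := by
      refine hC e he heA _ (K.mul_mem (K.inv_mem (hMK hm)) hk) ?_
      have : m⁻¹ * k * e * (m⁻¹ * k)⁻¹ = m⁻¹ * (k * e * k⁻¹) * m := by group
      rw [this, ← hme]; group
    have := M.mul_mem hm h1
    simpa using this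
  -- strongly closed
  have hSC : ∀ e ∈ E, ∀ k ∈ K, k * e * k⁻¹ ∈ S → k * e * k⁻¹ ∈ E := by
    intro e he k hk hke
    obtain ⟨m, hm, hme⟩ := hfus e he k hk hke
    rw [← hme]; exact hEn m hm e he
  obtain ⟨k, hk, hkM⟩ := Set.not_subset.1 hKM
  have hk : k ∈ K := hk
  have hkM : k ∉ M := hkM
  intro f hf hfA e he heA
  -- f1 = k f k⁻¹
  set f1 := k * f * k⁻¹ with hf1
  have hEi : ∀ e ∈ E, e⁻¹ = e := fun e he => inv_eq_of_mul_eq_one_left (hE2 e he)
  have hff1 : f1 * f1 = 1 := by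
    rw [hf1, show k * f * k⁻¹ * (k * f * k⁻¹) = k * (f * f) * k⁻¹ by group, hE2 f hf]; group
  have hf1i : f1⁻¹ = f1 := inv_eq_of_mul_eq_one_left hff1
  have heK : e ∈ K := hMK (hEM he)
  have hfK : f ∈ K := hMK (hEM hf)
  have hf1K : f1 ∈ K := K.mul_mem (K.mul_mem hk hfK) (K.inv_mem hk)
  have hf1A : f1 ∉ A := by
    intro h
    have : f ∈ A := by
      have h2 := hAc f1 h k⁻¹ (K.inv_mem hk)
      rw [hf1] at h2
      have h3 : k⁻¹ * (k * f * k⁻¹) * k⁻¹⁻¹ = f := by group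
      rw [h3] at h2
      rw [h2]; exact h
    exact hfA this
  set r := e * f1 with hr
  -- 2-part
  obtain ⟨n, b, hb, hob⟩ := Nat.exists_eq_two_pow_mul_odd (n := orderOf r) (orderOf_pos r).ne'
  obtain ⟨c, hc⟩ := hb
  set g := r ^ b with hg
  have hg2 : g ^ 2 ^ n = 1 := by
    rw [hg, ← pow_mul, mul_comm, ← hob, pow_orderOf_eq_one]
  have hinvr : e * r * e⁻¹ = r⁻¹ := by
    rw [hr, mul_inv_rev, hf1i, hEi e he, ← mul_assoc e e f1, hE2 e he, one_mul]
  have hinv : e * g * e⁻¹ = g⁻¹ := by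
    rw [hg, ← inv_pow, ← hinvr, ← MulAut.conj_apply, map_pow, MulAut.conj_apply]
  have hP := isPGroup_dihedral e g (hE2 e he) hinv n hg2
  set P : Subgroup G := Subgroup.zpowers e ⊔ Subgroup.zpowers g with hPdef
  have hrK : r ∈ K := K.mul_mem heK hf1K
  have hgK : g ∈ K := K.pow_mem hrK b
  have hPK : P ≤ K := by
    rw [hPdef, sup_le_iff, Subgroup.zpowers_le, Subgroup.zpowers_le]; exact ⟨heK, hgK⟩
  have heP : e ∈ P := Subgroup.mem_sup_left (Subgroup.mem_zpowers e)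
  have hgP : g ∈ P := Subgroup.mem_sup_right (Subgroup.mem_zpowers g)
  obtain ⟨l, hl, hlS⟩ := hS P hPK hP
  have hlM : l ∈ M := hD e he heA l hl (hSC e he l hl (hlS e heP))
  -- e * g is conjugate to f1
  have hcr : e * r ^ c * e⁻¹ = (r ^ c)⁻¹ := by
    rw [← inv_pow, ← hinvr, ← MulAut.conj_apply, map_pow, MulAut.conj_apply]
  have heg : e * g = (r ^ c)⁻¹ * f1 * r ^ c := by
    have h1 : g = r ^ c * r * r ^ c := by
      rw [hg, hc, two_mul, pow_succ, pow_add, mul_assoc, mul_assoc, ← pow_succ, ← pow_succ']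
    have h2 : e * r ^ c = (r ^ c)⁻¹ * e := by
      rw [← hcr]; group
    rw [h1, ← mul_assoc, ← mul_assoc, h2, hr, show (((e * f1) ^ c)⁻¹ * e * (e * f1) * (e * f1) ^ c)
      = ((e * f1) ^ c)⁻¹ * ((e * e) * f1) * (e * f1) ^ c by group, hE2 e he, one_mul]
  have hx : e * g = (((r ^ c)⁻¹ * k)) * f * ((r ^ c)⁻¹ * k)⁻¹ := by
    rw [heg, hf1]; group
  have hxK : (r ^ c)⁻¹ * k ∈ K := K.mul_mem (K.inv_mem (K.pow_mem hrK c)) hk
  have hegE : e * g ∈ E := by
    have h1 : l * (e * g) * l⁻¹ ∈ S := hlS _ (P.mul_mem heP hgP)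
    have h2 : l * (e * g) * l⁻¹ ∈ E := by
      rw [hx] at h1 ⊢
      have h3 : l * ((r ^ c)⁻¹ * k * f * ((r ^ c)⁻¹ * k)⁻¹) * l⁻¹
          = (l * ((r ^ c)⁻¹ * k)) * f * (l * ((r ^ c)⁻¹ * k))⁻¹ := by group
      rw [h3] at h1 ⊢
      exact hSC f hf _ (K.mul_mem hl hxK) h1
    have h3 := hEn l⁻¹ (M.inv_mem hlM) _ h2
    have h4 : l⁻¹ * (l * (e * g) * l⁻¹) * l⁻¹⁻¹ = e * g := by group
    rwa [h4] at h3
  have hgE : g ∈ E := by
    have := E.mul_mem (E.inv_mem he) hegE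
    rwa [← mul_assoc, inv_mul_cancel, one_mul] at this
  by_cases hgA : g ∈ A
  · -- then `f` is conjugate to `e * g`
    have h1 : e * g ∈ S := hES hegE
    rw [hx] at h1
    obtain ⟨m, hm, hme⟩ := hfus f hf _ hxK h1
    exact ⟨m, hm, g, hgA, by rw [hme, ← hx]⟩
  · exfalso
    -- g commutes with e and r hence with f1
    have hge : g * e = e * g := by
      have h1 := hE2 _ hegE
      have h2 := hEi _ hegE
      rw [mul_inv_rev, hEi e he, hEi g hgE] at h2
      exact h2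
    have hgr : g * r = r * g := by rw [hg, ← pow_succ, ← pow_succ']
    have hgf : g * f1 = f1 * g := by
      have h0 : f1 = e * r := by rw [hr, ← mul_assoc, hE2 e he, one_mul]
      have h1 : Commute g (e * r) := Commute.mul_right (show Commute g e from hge) (show Commute g r from hgr)
      rw [← h0] at h1
      exact h1
    have hf1M : f1 ∈ M := hC g hgE hgA f1 hf1K (by rw [← hgf, mul_assoc, mul_inv_cancel, mul_one])
    -- f1 is conjugate in M into S
    have hPf : IsPGroup 2 (Subgroup.zpowers f1) :=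
      isPGroup_zpowers f1 1 (by rw [pow_one, pow_two, hff1])
    obtain ⟨m, hm, hmS⟩ := hSM _ ((Subgroup.zpowers_le).2 hf1M) hPf
    have h1 := hmS f1 (Subgroup.mem_zpowers f1)
    have h2 : m * f1 * m⁻¹ = (m * k) * f * (m * k)⁻¹ := by rw [hf1]; group
    rw [h2] at h1
    have h3 := hSC f hf (m * k) (K.mul_mem (hMK hm) hk) h1
    have h4 := hD f hf hfA (m * k) (K.mul_mem (hMK hm) hk) h3
    apply hkM
    have := M.mul_mem (M.inv_mem hm) h4
    rwa [← mul_assoc, inv_mul_cancel, one_mul] at this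

/-! ### The setting `Z`, `J` -/

section ZJ

variable [Finite G] {Z : Set G} {J : Subgroup G}

/-- A `p`-group meeting `Z ∩ J` lies in `J`. -/
theorem pgroup_le {p : ℕ} [Fact p.Prime] (hZ : ∀ y ∈ Z, y ∈ J → ∀ g : G, g * y * g⁻¹ ∈ J → g ∈ J)
    (P : Subgroup G) (hP : IsPGroup p P) (y : G) (hyZ : y ∈ Z) (hyJ : y ∈ J) (hyP : y ∈ P) :
    P ≤ J := by
  classical
  haveI : Group.IsNilpotent P := hP.isNilpotent
  have hnc := Group.normalizerCondition_of_isNilpotent (G := P)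
  set H : Subgroup P := J.subgroupOf P with hH
  by_contra hnot
  have hlt : H < ⊤ := by
    rw [lt_top_iff_ne_top]
    intro h
    apply hnot
    exact Subgroup.subgroupOf_eq_top.1 h
  have h1 := hnc H hlt
  obtain ⟨g, hgN, hgH⟩ := Set.exists_of_ssubset h1
  apply hgH
  have hyH : (⟨y, hyP⟩ : P) ∈ H := hyJ
  have h2 := (Subgroup.mem_normalizer_iff.1 hgN _).1 hyH
  exact hZ y hyZ hyJ g h2

/-- `J` controls fusion of sets centralised by an element of `Z ∩ J`. -/
theorem control (hZ : ∀ y ∈ Z, y ∈ J → ∀ g : G, g * y * g⁻¹ ∈ J → g ∈ J)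
    (hZ2 : ∀ y ∈ Z, y * y = 1) (X : Set G) (y y' g : G) (hyZ : y ∈ Z) (hyJ : y ∈ J) (hy'Z : y' ∈ Z)
    (hy'J : y' ∈ J) (hyX : ∀ x ∈ X, y * x = x * y)
    (hy'X : ∀ x ∈ X, y' * (g * x * g⁻¹) = (g * x * g⁻¹) * y') :
    ∃ c ∈ Subgroup.centralizer X, g * c ∈ J := by
  classical
  set K1 := Subgroup.centralizer X with hK1
  have hyK : y ∈ K1 := by
    rw [hK1, Subgroup.mem_centralizer_iff]; intro x hx; exact (hyX x hx).symm
  set y2 := g⁻¹ * y' * g with hy2
  have hy2K : y2 ∈ K1 := by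
    rw [hK1, Subgroup.mem_centralizer_iff]
    intro x hx
    have h := hy'X x hx
    have h2 : g⁻¹ * (y' * (g * x * g⁻¹)) * g = g⁻¹ * (g * x * g⁻¹ * y') * g := by rw [h]
    rw [hy2]
    have e1 : g⁻¹ * (y' * (g * x * g⁻¹)) * g = g⁻¹ * y' * g * x := by group
    have e2 : g⁻¹ * (g * x * g⁻¹ * y') * g = x * (g⁻¹ * y' * g) := by group
    rw [← e1, ← e2, h]
  have hpow : ∀ z : G, z * z = 1 → ∀ hz : z ∈ K1, IsPGroup 2 (Subgroup.zpowers (⟨z, hz⟩ : K1)) := by
    intro z hzz hz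
    exact isPGroup_zpowers _ 1 (Subtype.ext (by simp [pow_two, hzz]))
  have hy22 : y2 * y2 = 1 := by
    rw [hy2, show g⁻¹ * y' * g * (g⁻¹ * y' * g) = g⁻¹ * (y' * y') * g by group, hZ2 y' hy'Z]; group
  obtain ⟨P1, hP1⟩ := (hpow y (hZ2 y hyZ) hyK).exists_le_sylow
  obtain ⟨P2, hP2⟩ := (hpow y2 hy22 hy2K).exists_le_sylow
  obtain ⟨c, hc⟩ := MulAction.exists_smul_eq K1 P2 P1
  have hP1J : (P1 : Subgroup K1).map K1.subtype ≤ J := by
    refine pgroup_le (p := 2) hZ _ (P1.isPGroup'.map _) y hyZ hyJ ?_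
    exact ⟨⟨y, hyK⟩, hP1 (Subgroup.mem_zpowers _), rfl⟩
  have h1 : c * ⟨y2, hy2K⟩ * c⁻¹ ∈ (P1 : Subgroup K1) := by
    rw [← hc, Sylow.smul_def, Sylow.pointwise_smul_def]
    refine ⟨⟨y2, hy2K⟩, hP2 (Subgroup.mem_zpowers _), rfl⟩
  have h2 : (c : G) * y2 * (c : G)⁻¹ ∈ J := hP1J ⟨_, h1, rfl⟩
  have h3 : ((c : G) * g⁻¹) * y' * ((c : G) * g⁻¹)⁻¹ ∈ J := by
    rw [hy2] at h2
    convert h2 using 1
    group
  have h4 := hZ y' hy'Z hy'J _ h3
  refine ⟨((c : G))⁻¹, K1.inv_mem c.2, ?_⟩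
  have h5 := J.inv_mem h4
  rwa [mul_inv_rev, inv_inv] at h5

/-- Closing step: `C_G(A) ≤ J`, or `J ∩ C_G(A)` is transitive on the non-trivial cosets of `A` in
the elementary abelian normal subgroup `E` of `J ∩ C_G(A)`. -/
theorem centralizer_le_or_transitive
    (hZ : ∀ y ∈ Z, y ∈ J → ∀ g : G, g * y * g⁻¹ ∈ J → g ∈ J) (hZ2 : ∀ y ∈ Z, y * y = 1)
    (A E S0 : Subgroup G) (hAE : A ≤ E) (hEJ : E ≤ J) (hE2 : ∀ e ∈ E, e * e = 1)
    (hEn : ∀ m ∈ J ⊓ Subgroup.centralizer (A : Set G), ∀ e ∈ E, m * e * m⁻¹ ∈ E)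
    (hS0 : S0 ≤ J ⊓ Subgroup.centralizer (A : Set G)) (hS0p : IsPGroup 2 S0)
    (hSyl : ∀ P : Subgroup G, P ≤ J ⊓ Subgroup.centralizer (A : Set G) → IsPGroup 2 P →
      ∃ m ∈ J ⊓ Subgroup.centralizer (A : Set G), ∀ x ∈ P, m * x * m⁻¹ ∈ S0)
    (z0 : G) (hz0Z : z0 ∈ Z) (hz0S : z0 ∈ S0) (hz0c : ∀ x ∈ S0, z0 * x = x * z0)
    (hC : ∀ e ∈ E, e ∉ A → (∃ a ∈ A, e * a ∈ Z) ∨
      (∀ k : G, (∀ a ∈ A, k * a * k⁻¹ = a) → k * e * k⁻¹ = e → k ∈ J)) :
    Subgroup.centralizer (A : Set G) ≤ J ∨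
      ∀ e ∈ E, e ∉ A → ∀ f ∈ E, f ∉ A →
        ∃ m ∈ J ⊓ Subgroup.centralizer (A : Set G), ∃ a ∈ A, m * e * m⁻¹ = f * a := by
  classical
  set K := Subgroup.centralizer (A : Set G) with hK
  set M := J ⊓ K with hM
  have hEi : ∀ e ∈ E, e⁻¹ = e := fun e he => inv_eq_of_mul_eq_one_left (hE2 e he)
  have hEcomm : ∀ e ∈ E, ∀ f ∈ E, e * f = f * e := by
    intro e he f hf
    have h := hEi _ (E.mul_mem he hf)
    rw [mul_inv_rev, hEi e he, hEi f hf] at h
    exact h.symm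
  have hEK : E ≤ K := by
    intro e he
    rw [hK, Subgroup.mem_centralizer_iff]
    intro a ha
    exact hEcomm a (hAE ha) e he
  have hEM : E ≤ M := le_inf hEJ hEK
  have hEp : IsPGroup 2 E := by
    rintro ⟨e, he⟩
    refine ⟨1, Subtype.ext ?_⟩
    simp only [pow_one, pow_two, Subgroup.coe_mul, Subgroup.coe_one]
    exact hE2 e he
  have hKc : ∀ a ∈ A, ∀ k ∈ K, k * a * k⁻¹ = a := by
    intro a ha k hk
    rw [hK, Subgroup.mem_centralizer_iff] at hk
    rw [← hk a ha]; group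
  have hES : E ≤ S0 := by
    obtain ⟨m, hm, hmS⟩ := hSyl E hEM hEp
    intro e he
    have h1 := hEn m⁻¹ (M.inv_mem hm) e he
    have h2 := hmS _ h1
    have h3 : m * (m⁻¹ * e * m⁻¹⁻¹) * m⁻¹ = e := by group
    rwa [h3] at h2
  have hz0J : z0 ∈ J := (hS0 hz0S).1
  have hSK : S0 ≤ K := le_trans hS0 inf_le_right
  -- `S0` is a Sylow 2-subgroup of `K`
  have hS : ∀ P : Subgroup G, P ≤ K → IsPGroup 2 P → ∃ l ∈ K, ∀ x ∈ P, l * x * l⁻¹ ∈ S0 := by
    intro P hPK hP
    have hS0K : IsPGroup 2 (S0.subgroupOf K) := hS0p.comap_subtype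
    obtain ⟨P1, hP1⟩ := hS0K.exists_le_sylow
    have hPKp : IsPGroup 2 (P.subgroupOf K) := hP.comap_subtype
    obtain ⟨P2, hP2⟩ := hPKp.exists_le_sylow
    obtain ⟨c, hc⟩ := MulAction.exists_smul_eq K P2 P1
    have hS0P1 : ∀ x (hx : x ∈ S0), (⟨x, hSK hx⟩ : K) ∈ (P1 : Subgroup K) := by
      intro x hx
      exact hP1 (show (⟨x, hSK hx⟩ : K) ∈ S0.subgroupOf K from hx)
    have hP1J : (P1 : Subgroup K).map K.subtype ≤ J :=
      pgroup_le (p := 2) hZ _ (P1.isPGroup'.map _) z0 hz0Z hz0J ⟨_, hS0P1 z0 hz0S, rfl⟩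
    have hP1M : (P1 : Subgroup K).map K.subtype ≤ M := by
      refine le_inf hP1J ?_
      rintro _ ⟨x, -, rfl⟩
      exact x.2
    obtain ⟨m, hm, hmS⟩ := hSyl _ hP1M (P1.isPGroup'.map _)
    refine ⟨m * (c : G), K.mul_mem hm.2 c.2, ?_⟩
    intro x hx
    have h1 : c * ⟨x, hPK hx⟩ * c⁻¹ ∈ (P1 : Subgroup K) := by
      rw [← hc, Sylow.smul_def, Sylow.pointwise_smul_def]
      exact ⟨⟨x, hPK hx⟩, hP2 (show (⟨x, hPK hx⟩ : K) ∈ P.subgroupOf K from hx), rfl⟩
    have h2 := hmS ((c : G) * x * (c : G)⁻¹) ⟨_, h1, rfl⟩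
    have h3 : m * (c : G) * x * (m * (c : G))⁻¹ = m * ((c : G) * x * (c : G)⁻¹) * m⁻¹ := by group
    rw [h3]; exact h2
  -- fusion
  have hfus : ∀ e ∈ E, ∀ k ∈ K, k * e * k⁻¹ ∈ S0 → ∃ m ∈ M, m * e * m⁻¹ = k * e * k⁻¹ := by
    intro e he k hk hke
    obtain ⟨c, hc, hkc⟩ := control hZ hZ2 (insert e (A : Set G)) z0 z0 k hz0Z hz0J hz0Z hz0J
      (by
        rintro x (rfl | hx)
        · exact hz0c _ (hES he)
        · exact hz0c _ (hES (hAE hx)))
      (by
        rintro x (rfl | hx)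
        · exact hz0c _ hke
        · rw [hKc x hx k hk]
          exact hz0c _ (hES (hAE hx)))
    rw [Subgroup.mem_centralizer_iff] at hc
    refine ⟨k * c, ⟨hkc, K.mul_mem hk ?_⟩, ?_⟩
    · rw [hK, Subgroup.mem_centralizer_iff]
      intro a ha
      exact hc a (Set.mem_insert_of_mem _ ha)
    · have h1 : e * c = c * e := hc e (Set.mem_insert _ _)
      rw [show k * c * e * (k * c)⁻¹ = k * (c * e * c⁻¹) * k⁻¹ by group, ← h1]
      group
  have hC' : ∀ e ∈ E, e ∉ A → ∀ k ∈ K, k * e * k⁻¹ = e → k ∈ M := by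
    intro e he heA k hk hke
    refine ⟨?_, hk⟩
    rcases hC e he heA with ⟨a, ha, haZ⟩ | h
    · refine hZ _ haZ (J.mul_mem (hEJ he) (hEJ (hAE ha))) k ?_
      have h1 : k * (e * a) * k⁻¹ = (k * e * k⁻¹) * (k * a * k⁻¹) := by group
      rw [h1, hke, hKc a ha k hk]
      exact J.mul_mem (hEJ he) (hEJ (hAE ha))
    · exact h k (fun a ha => hKc a ha k hk) hke
  rcases closing_core K M A E S0 inf_le_right hAE hEM hES hE2 hEn hKc hS hSyl hfus hC' with h | h
  · exact Or.inl (h.trans inf_le_left)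
  · exact Or.inr h

end ZJ

/-- If `M` permutes the non-trivial cosets of `A` in `E` transitively then their number divides `|M|`. -/
theorem card_dvd_of_transitive [Finite G] (M A E : Subgroup G) (hAE : A ≤ E)
    (hE2 : ∀ e ∈ E, e * e = 1) (hEn : ∀ m ∈ M, ∀ e ∈ E, m * e * m⁻¹ ∈ E)
    (hAn : ∀ m ∈ M, ∀ a ∈ A, m * a * m⁻¹ = a) (hlt : ∃ e ∈ E, e ∉ A)
    (htr : ∀ e ∈ E, e ∉ A → ∀ f ∈ E, f ∉ A → ∃ m ∈ M, ∃ a ∈ A, m * e * m⁻¹ = f * a) :
    (Nat.card E / Nat.card A - 1) ∣ Nat.card M := by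
  classical
  obtain ⟨e0, he0, he0A⟩ := hlt
  -- the set of non-trivial cosets
  let A' : Subgroup E := A.subgroupOf E
  have hEi : ∀ e ∈ E, e⁻¹ = e := fun e he => inv_eq_of_mul_eq_one_left (hE2 e he)
  have hmap : ∀ (m : M) (x y : E), x⁻¹ * y ∈ A' →
      (⟨m * x * (m : G)⁻¹, hEn m m.2 x x.2⟩ : E)⁻¹ * ⟨m * y * (m : G)⁻¹, hEn m m.2 y y.2⟩ ∈ A' := by
    intro m x y h
    have h0 : (x : G)⁻¹ * y ∈ A := h
    show ((m : G) * x * (m : G)⁻¹)⁻¹ * (m * y * (m : G)⁻¹) ∈ A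
    rw [show ((m : G) * x * (m : G)⁻¹)⁻¹ * (m * y * (m : G)⁻¹) = m * ((x : G)⁻¹ * y) * (m : G)⁻¹ by
      group, hAn m m.2 _ h0]
    exact h0
  let act : M → (E ⧸ A') → (E ⧸ A') := fun m =>
    Quotient.map' (fun x : E => (⟨m * x * (m : G)⁻¹, hEn m m.2 x x.2⟩ : E)) (by
      intro x y h
      rw [QuotientGroup.leftRel_apply] at h ⊢
      exact hmap m x y h)
  have hact : ∀ (m : M) (x : E), act m (QuotientGroup.mk x) =
      QuotientGroup.mk (⟨m * x * (m : G)⁻¹, hEn m m.2 x x.2⟩ : E) := fun m x => rfl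
  letI : MulAction M (E ⧸ A') :=
    { smul := act
      one_smul := by
        intro q
        induction q using QuotientGroup.induction_on with
        | H x =>
          show act 1 _ = _
          rw [hact]; congr 1; ext; simp
      mul_smul := by
        intro m n q
        induction q using QuotientGroup.induction_on with
        | H x =>
          show act (m * n) _ = act m (act n _)
          rw [hact, hact, hact]; congr 1; ext; simp [mul_assoc] }
  have hsmul : ∀ (m : M) (x : E), m • (QuotientGroup.mk x : E ⧸ A') =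
      QuotientGroup.mk (⟨m * x * (m : G)⁻¹, hEn m m.2 x x.2⟩ : E) := fun m x => rfl
  have hmk : ∀ x y : E, (QuotientGroup.mk x : E ⧸ A') = QuotientGroup.mk y ↔ (x : G)⁻¹ * y ∈ A := by
    intro x y
    rw [QuotientGroup.eq]; rfl
  have horb : MulAction.orbit M (QuotientGroup.mk ⟨e0, he0⟩ : E ⧸ A') =
      {QuotientGroup.mk 1}ᶜ := by
    ext q
    induction q using QuotientGroup.induction_on with
    | H x =>
      rw [MulAction.mem_orbit_iff, Set.mem_compl_iff, Set.mem_singleton_iff, hmk]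
      constructor
      · rintro ⟨m, hm⟩ h
        rw [hsmul, hmk] at hm
        have hxA : (x : G) ∈ A := by
          have := A.inv_mem h
          simpa using this
        have h1 : (m : G) * e0 * (m : G)⁻¹ ∈ A := by
          have h2 := A.mul_mem hm (A.inv_mem hxA)
          have h3 := A.inv_mem h2
          simpa using h3
        apply he0A
        have h2 := hAn (m⁻¹ : M) (m⁻¹ : M).2 _ h1
        have h3 : ((m⁻¹ : M) : G) * ((m : G) * e0 * (m : G)⁻¹) * ((m⁻¹ : M) : G)⁻¹ = e0 := by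
          rw [Subgroup.coe_inv]; group
        rw [h3] at h2
        rw [h2]; exact h1
      · intro h
        have hxA : (x : G) ∉ A := fun hx => h (by simpa using A.inv_mem hx)
        obtain ⟨m, hm, a, ha, hma⟩ := htr e0 he0 he0A x x.2 hxA
        refine ⟨⟨m, hm⟩, ?_⟩
        rw [hsmul, hmk]
        show (m * e0 * m⁻¹)⁻¹ * (x : G) ∈ A
        rw [hma, mul_inv_rev, mul_assoc, inv_mul_cancel, mul_one]
        exact A.inv_mem ha
  have hcard : Nat.card (E ⧸ A') = Nat.card E / Nat.card A := by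
    have h1 := Subgroup.card_eq_card_quotient_mul_card_subgroup A'
    have h2 : Nat.card A' = Nat.card A := Nat.card_congr (Subgroup.subgroupOfEquivOfLe hAE).toEquiv
    rw [h2] at h1
    rw [h1, Nat.mul_div_cancel _ Nat.card_pos]
  have h3 : Nat.card (MulAction.orbit M (QuotientGroup.mk ⟨e0, he0⟩ : E ⧸ A')) =
      Nat.card E / Nat.card A - 1 := by
    rw [horb, ← hcard]
    have := Set.ncard_compl ({QuotientGroup.mk 1} : Set (E ⧸ A'))
    rw [Set.ncard_singleton] at this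
    exact this
  rw [← h3]
  rw [Nat.card_congr (MulAction.orbitEquivQuotientStabilizer M
    (QuotientGroup.mk ⟨e0, he0⟩ : E ⧸ A'))]
  exact Subgroup.index_dvd_card _

/-- If `J` contains the centralisers of its involutions and has two involutions that are not conjugate
in `G`, then every involution of `G` lies in `J`. -/
theorem all_involutions [Finite G] (J : Subgroup G)
    (hJ : ∀ i ∈ J, i ≠ 1 → i * i = 1 → ∀ g : G, g * i * g⁻¹ = i → g ∈ J)
    (x y : G) (hx : x ∈ J) (hx1 : x ≠ 1) (hx2 : x * x = 1) (hy : y ∈ J) (hy1 : y ≠ 1)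
    (hy2 : y * y = 1) (hxy : ¬ IsConj x y) (j : G) (hj2 : j * j = 1) : j ∈ J := by
  by_contra hj
  have hji : j⁻¹ = j := inv_eq_of_mul_eq_one_left hj2
  have key : ∀ i ∈ J, i ≠ 1 → i * i = 1 → IsConj i j := by
    intro i hi hi1 hi2
    have hii : i⁻¹ = i := inv_eq_of_mul_eq_one_left hi2
    have hri : i * (i * j) * i⁻¹ = (i * j)⁻¹ := by
      rw [mul_inv_rev, hji, hii, ← mul_assoc, hi2, one_mul]
    have hrj : j * (i * j) * j⁻¹ = (i * j)⁻¹ := by
      rw [mul_inv_rev, hji, hii, mul_assoc, mul_assoc, hj2, mul_one]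
    rcases Nat.even_or_odd (orderOf (i * j)) with hev | ⟨c, hc⟩
    · exfalso
      obtain ⟨m, hm⟩ := hev
      have hpos := orderOf_pos (i * j)
      have hm0 : 0 < m := by omega
      set t := (i * j) ^ m with ht
      have ht2 : t * t = 1 := by rw [ht, ← pow_add, ← hm, pow_orderOf_eq_one]
      have ht1 : t ≠ 1 := by
        intro h
        have := orderOf_dvd_of_pow_eq_one h
        have := Nat.le_of_dvd hm0 this
        omega
      have hti : t⁻¹ = t := inv_eq_of_mul_eq_one_left ht2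
      have h1 : i * t * i⁻¹ = t := by
        rw [ht, ← MulAut.conj_apply, map_pow, MulAut.conj_apply, hri, inv_pow, ← ht, hti]
      have h2 : j * t * j⁻¹ = t := by
        rw [ht, ← MulAut.conj_apply, map_pow, MulAut.conj_apply, hrj, inv_pow, ← ht, hti]
      have h3 : t ∈ J := by
        refine hJ i hi hi1 hi2 t ?_
        have : i * t = t * i := by
          calc i * t = (i * t * i⁻¹) * i := by group
            _ = t * i := by rw [h1]
        rw [← this, mul_assoc, mul_inv_cancel, mul_one]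
      exact hj (hJ t h3 ht1 ht2 j h2)
    · -- odd order
      rw [isConj_iff]
      refine ⟨(i * j) ^ c, ?_⟩
      have h1 : (i * j) ^ (2 * c + 1) = 1 := by rw [← hc, pow_orderOf_eq_one]
      have h2 : i * ((i * j) ^ c)⁻¹ = (i * j) ^ c * i := by
        have : i * ((i * j) ^ c) * i⁻¹ = ((i * j) ^ c)⁻¹ := by
          rw [← MulAut.conj_apply, map_pow, MulAut.conj_apply, hri, inv_pow]
        calc i * ((i * j) ^ c)⁻¹ = i * (i * ((i * j) ^ c) * i⁻¹) := by rw [this]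
          _ = (i * i) * (i * j) ^ c * i⁻¹ := by group
          _ = (i * j) ^ c * i := by rw [hi2, one_mul, hii]
      calc (i * j) ^ c * i * ((i * j) ^ c)⁻¹ = (i * j) ^ c * (i * ((i * j) ^ c)⁻¹) := by
            rw [mul_assoc]
        _ = (i * j) ^ c * (i * j) ^ c * i := by rw [h2, mul_assoc]
        _ = (i * j) ^ (2 * c + 1) * j := by
            rw [pow_succ, two_mul, pow_add]
            have : i * j * j = i := by rw [mul_assoc, hj2, mul_one]
            rw [mul_assoc ((i * j) ^ c * (i * j) ^ c) (i * j) j, this]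
        _ = j := by rw [h1, one_mul]
  have h1 := key x hx hx1 hx2
  have h2 := key y hy hy1 hy2
  exact hxy (h1.trans h2.symm)

/-- A subgroup of a finite simple group containing all involutions is everything
(if there is an involution). -/
theorem eq_top_of_simple [IsSimpleGroup G] (J : Subgroup G)
    (hJ : ∀ j : G, j * j = 1 → j ∈ J) (x : G) (hx1 : x ≠ 1) (hx2 : x * x = 1) : J = ⊤ := by
  have h1 : Subgroup.normalClosure ({x} : Set G) ≤ J := by
    rw [Subgroup.normalClosure, Subgroup.closure_le]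
    intro y hy
    rw [Group.mem_conjugatesOfSet_iff] at hy
    obtain ⟨a, ha, hay⟩ := hy
    rw [Set.mem_singleton_iff] at ha
    subst ha
    rw [isConj_iff] at hay
    obtain ⟨c, rfl⟩ := hay
    refine hJ _ ?_
    rw [show c * a * c⁻¹ * (c * a * c⁻¹) = c * (a * a) * c⁻¹ by group, hx2]; group
  rcases (Subgroup.normalClosure_normal (s := ({x} : Set G))).eq_bot_or_eq_top with h | h
  · exfalso
    apply hx1
    have : x ∈ Subgroup.normalClosure ({x} : Set G) := Subgroup.subset_normalClosure rfl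
    rw [h, Subgroup.mem_bot] at this
    exact this
  · rw [h, top_le_iff] at h1
    exact h1

end Cfsg.Agent.Lib.ClosingTI
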