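import Mathlib
import Cfsg.Agent.LieClassical.SLTwoUnipotent

/-!
# `SL₂(K)` on the projective line: elementwise facts for Dickson's theorem

`tr g = g 0 0 + g 1 1`, action of `SL₂(K)` on `OnePoint K`, fixed points.
-/

set_option autoImplicit false

namespace Cfsg.Agent.Lib.DicksonAct

open Matrix OnePoint
open Cfsg.Agent.LieClassical.SLTwoUnipotent

variable {K : Type*} [Field K]

/-- The trace of an element of `SL₂`. -/
def tr (g : Matrix.SpecialLinearGroup (Fin 2) K) : K := g 0 0 + g 1 1

theorem tr_def (g : Matrix.SpecialLinearGroup (Fin 2) K) : tr g = g 0 0 + g 1 1 := rfl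

theorem tr_eq_trace (g : Matrix.SpecialLinearGroup (Fin 2) K) :
    tr g = (g : Matrix (Fin 2) (Fin 2) K).trace := by
  rw [Matrix.trace_fin_two]; rfl

theorem det_eq (g : Matrix.SpecialLinearGroup (Fin 2) K) :
    g 0 0 * g 1 1 - g 0 1 * g 1 0 = 1 := by
  rw [← Matrix.det_fin_two, g.det_coe]

theorem tr_conj (c g : Matrix.SpecialLinearGroup (Fin 2) K) : tr (c * g * c⁻¹) = tr g := by
  rw [tr_eq_trace, tr_eq_trace]
  have h1 : ((c * g * c⁻¹ : Matrix.SpecialLinearGroup (Fin 2) K) : Matrix (Fin 2) (Fin 2) K)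
      = (c : Matrix (Fin 2) (Fin 2) K) * ((g * c⁻¹ : Matrix.SpecialLinearGroup (Fin 2) K) :
        Matrix (Fin 2) (Fin 2) K) := by
    rw [mul_assoc, coe_mul]
  rw [h1, Matrix.trace_mul_comm, ← coe_mul, inv_mul_cancel_right]

theorem tr_conj' (c g : Matrix.SpecialLinearGroup (Fin 2) K) : tr (c⁻¹ * g * c) = tr g := by
  simpa using tr_conj c⁻¹ g

theorem tr_one : tr (1 : Matrix.SpecialLinearGroup (Fin 2) K) = 2 := by
  rw [tr_def, coe_one]; simp; norm_num

theorem neg_apply (g : Matrix.SpecialLinearGroup (Fin 2) K) (i j : Fin 2) :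
    (-g) i j = - g i j := by
  rw [Matrix.SpecialLinearGroup.coe_neg]; rfl

theorem tr_neg (g : Matrix.SpecialLinearGroup (Fin 2) K) : tr (-g) = - tr g := by
  rw [tr_def, tr_def, neg_apply, neg_apply]
  ring

theorem inv_apply_matrix (g : Matrix.SpecialLinearGroup (Fin 2) K) :
    ((g⁻¹ : Matrix.SpecialLinearGroup (Fin 2) K) : Matrix (Fin 2) (Fin 2) K)
      = !![g 1 1, -g 0 1; -g 1 0, g 0 0] := by
  rw [Matrix.SpecialLinearGroup.coe_inv g, Matrix.adjugate_fin_two]

theorem tr_inv (g : Matrix.SpecialLinearGroup (Fin 2) K) : tr g⁻¹ = tr g := by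
  rw [tr_def, tr_def, inv_apply_matrix]
  simp [add_comm]

theorem mul_apply00 (g h : Matrix.SpecialLinearGroup (Fin 2) K) :
    (g * h) 0 0 = g 0 0 * h 0 0 + g 0 1 * h 1 0 := by
  rw [coe_mul, Matrix.mul_apply, Fin.sum_univ_two]
theorem mul_apply01 (g h : Matrix.SpecialLinearGroup (Fin 2) K) :
    (g * h) 0 1 = g 0 0 * h 0 1 + g 0 1 * h 1 1 := by
  rw [coe_mul, Matrix.mul_apply, Fin.sum_univ_two]
theorem mul_apply10 (g h : Matrix.SpecialLinearGroup (Fin 2) K) :
    (g * h) 1 0 = g 1 0 * h 0 0 + g 1 1 * h 1 0 := by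
  rw [coe_mul, Matrix.mul_apply, Fin.sum_univ_two]
theorem mul_apply11 (g h : Matrix.SpecialLinearGroup (Fin 2) K) :
    (g * h) 1 1 = g 1 0 * h 0 1 + g 1 1 * h 1 1 := by
  rw [coe_mul, Matrix.mul_apply, Fin.sum_univ_two]

theorem ext4 {g h : Matrix.SpecialLinearGroup (Fin 2) K} (h00 : g 0 0 = h 0 0)
    (h01 : g 0 1 = h 0 1) (h10 : g 1 0 = h 1 0) (h11 : g 1 1 = h 1 1) : g = h := by
  apply ext_coe
  ext i j
  fin_cases i <;> fin_cases j
  · exact h00
  · exact h01
  · exact h10
  · exact h11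

/-- The matrix with given entries. -/
def mk4 (a b c d : K) (h : a * d - b * c = 1) : Matrix.SpecialLinearGroup (Fin 2) K :=
  ⟨!![a, b; c, d], by rw [Matrix.det_fin_two_of, h]⟩

theorem mk4_00 (a b c d : K) (h : a * d - b * c = 1) : mk4 a b c d h 0 0 = a := rfl
theorem mk4_01 (a b c d : K) (h : a * d - b * c = 1) : mk4 a b c d h 0 1 = b := rfl
theorem mk4_10 (a b c d : K) (h : a * d - b * c = 1) : mk4 a b c d h 1 0 = c := rfl
theorem mk4_11 (a b c d : K) (h : a * d - b * c = 1) : mk4 a b c d h 1 1 = d := rfl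

/-- Cayley-Hamilton for `SL₂`. -/
theorem sq_eq (g : Matrix.SpecialLinearGroup (Fin 2) K) :
    (g : Matrix (Fin 2) (Fin 2) K) * (g : Matrix (Fin 2) (Fin 2) K)
      = tr g • (g : Matrix (Fin 2) (Fin 2) K) - 1 := by
  have hd := det_eq g
  ext i j
  rw [tr_def]
  fin_cases i <;> fin_cases j
  · simp [Matrix.mul_apply, Fin.sum_univ_two, Matrix.sub_apply]
    linear_combination -hd
  · simp [Matrix.mul_apply, Fin.sum_univ_two, Matrix.sub_apply]
    ring
  · simp [Matrix.mul_apply, Fin.sum_univ_two, Matrix.sub_apply]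
    ring
  · simp [Matrix.mul_apply, Fin.sum_univ_two, Matrix.sub_apply]
    linear_combination -hd

/-- An element with trace zero squares to `-1`. -/
theorem sq_eq_neg_one {g : Matrix.SpecialLinearGroup (Fin 2) K} (h : tr g = 0) :
    g * g = -1 := by
  apply ext_coe
  rw [coe_mul, sq_eq, h, Matrix.SpecialLinearGroup.coe_neg]
  simp

/-- In characteristic not two the only elements of `SL₂` with square one are `1` and `-1`. -/
theorem eq_one_or_of_sq_eq_one (h2 : (2 : K) ≠ 0) {g : Matrix.SpecialLinearGroup (Fin 2) K}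
    (h : g * g = 1) : g = 1 ∨ g = -1 := by
  have h1 := sq_eq g
  rw [← coe_mul, h] at h1
  have h3 : ∀ i j, (1 : Matrix (Fin 2) (Fin 2) K) i j = tr g * g i j - (1 : Matrix _ _ K) i j := by
    intro i j
    have := congrFun (congrFun h1 i) j
    simpa using this
  have h00 := h3 0 0
  have h01 := h3 0 1
  have h10 := h3 1 0
  have h11 := h3 1 1
  simp only [Matrix.one_apply_eq, ne_eq, zero_ne_one, not_false_eq_true, one_ne_zero,
    Matrix.one_apply_ne, sub_zero] at h00 h01 h10 h11
  have ht : tr g ≠ 0 := by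
    intro ht
    rw [ht] at h00
    apply h2
    linear_combination h00
  have h01' : g 0 1 = 0 := by
    rcases mul_eq_zero.1 h01.symm with h | h
    · exact absurd h ht
    · exact h
  have h10' : g 1 0 = 0 := by
    rcases mul_eq_zero.1 h10.symm with h | h
    · exact absurd h ht
    · exact h
  have h4 : g 0 0 = g 1 1 := by
    apply mul_left_cancel₀ ht
    linear_combination h11 - h00
  have hd := det_eq g
  rw [h01', ← h4] at hd
  have h5 : (g 0 0 - 1) * (g 0 0 + 1) = 0 := by linear_combination hd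
  rcases mul_eq_zero.1 h5 with h | h
  · left
    have h6 : g 0 0 = 1 := by linear_combination h
    apply ext4 <;> simp [h6, h01', h10', ← h4]
  · right
    have h6 : g 0 0 = -1 := by linear_combination h
    apply ext4 <;> rw [neg_apply] <;> simp [h6, h01', h10', ← h4]

theorem neg_one_ne_one (h2 : (2 : K) ≠ 0) : (-1 : Matrix.SpecialLinearGroup (Fin 2) K) ≠ 1 := by
  intro h
  have := congrArg tr h
  rw [tr_neg, tr_one] at this
  apply h2
  have h4 : (2 : K) * 2 = 0 := by linear_combination -this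
  rcases mul_eq_zero.1 h4 with h | h <;> exact h

section Action

variable [DecidableEq K]

/-- `SL₂(K)` acts on the projective line `OnePoint K`. -/
@[reducible]
noncomputable def slAct : MulAction (Matrix.SpecialLinearGroup (Fin 2) K) (OnePoint K) :=
  MulAction.compHom (OnePoint K) (Matrix.SpecialLinearGroup.toGL :
    Matrix.SpecialLinearGroup (Fin 2) K →* _)

attribute [local instance] slAct

theorem smul_def' (g : Matrix.SpecialLinearGroup (Fin 2) K) (x : OnePoint K) :
    g • x = (Matrix.SpecialLinearGroup.toGL g) • x := rfl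

theorem smul_infty (g : Matrix.SpecialLinearGroup (Fin 2) K) :
    g • (∞ : OnePoint K) = if g 1 0 = 0 then ∞ else ((g 0 0 / g 1 0 : K) : OnePoint K) := by
  rw [smul_def', OnePoint.smul_infty_eq_ite]
  rfl

theorem smul_coe (g : Matrix.SpecialLinearGroup (Fin 2) K) (k : K) :
    g • (k : OnePoint K) = if g 1 0 * k + g 1 1 = 0 then ∞ else
      (((g 0 0 * k + g 0 1) / (g 1 0 * k + g 1 1) : K) : OnePoint K) := by
  rw [smul_def', OnePoint.smul_some_eq_ite]
  rfl

theorem smul_infty_iff {g : Matrix.SpecialLinearGroup (Fin 2) K} :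
    g • (∞ : OnePoint K) = ∞ ↔ g 1 0 = 0 := by
  rw [smul_infty]
  split_ifs with h <;> simp [h]

theorem smul_coe_iff {g : Matrix.SpecialLinearGroup (Fin 2) K} {k : K} :
    g • (k : OnePoint K) = k ↔ g 1 0 * k * k + (g 1 1 - g 0 0) * k - g 0 1 = 0 := by
  rw [smul_coe]
  split_ifs with h
  · constructor
    · intro h'
      exact absurd h' (OnePoint.infty_ne_coe k)
    · intro h'
      exfalso
      have hd := det_eq g
      -- both g00 k + g01 = 0 and g10 k + g11 = 0
      have h1 : g 0 0 * k + g 0 1 = 0 := by linear_combination k * h - h'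
      have : (1 : K) = 0 := by linear_combination (-1 : K) * hd + g 0 0 * h - g 1 0 * h1
      exact one_ne_zero this
  · rw [OnePoint.coe_eq_coe, div_eq_iff h]
    constructor
    · intro h'; linear_combination -h'
    · intro h'; linear_combination -h'

theorem smul_zero_iff {g : Matrix.SpecialLinearGroup (Fin 2) K} :
    g • ((0 : K) : OnePoint K) = (0 : K) ↔ g 0 1 = 0 := by
  rw [smul_coe_iff]
  simp

theorem u_smul_coe (a k : K) : (u a) • (k : OnePoint K) = ((k + a : K) : OnePoint K) := by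
  rw [smul_coe]
  simp [coe_u]

theorem u_smul_infty (a : K) : (u a) • (∞ : OnePoint K) = ∞ := by
  rw [smul_infty_iff]
  simp [coe_u]

/-- `SL₂(K)` is transitive on pairs of distinct points. -/
theorem exists_smul_pair {x y : OnePoint K} (hxy : x ≠ y) :
    ∃ c : Matrix.SpecialLinearGroup (Fin 2) K, c • (∞ : OnePoint K) = x ∧
      c • ((0 : K) : OnePoint K) = y := by
  induction x using OnePoint.rec with
  | infty =>
    induction y using OnePoint.rec with
    | infty => exact absurd rfl hxy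
    | coe t =>
      refine ⟨u t, u_smul_infty t, ?_⟩
      rw [u_smul_coe, zero_add]
  | coe s =>
    induction y using OnePoint.rec with
    | infty =>
      refine ⟨mk4 s (-1) 1 0 (by ring), ?_, ?_⟩
      · rw [smul_infty, mk4_00, mk4_10]; simp
      · rw [smul_coe, mk4_00, mk4_10, mk4_01, mk4_11]; simp
    | coe t =>
      have hst : s - t ≠ 0 := by
        intro h
        apply hxy
        rw [sub_eq_zero.1 h]
      refine ⟨mk4 s (t / (s - t)) 1 (1 / (s - t)) (by field_simp), ?_, ?_⟩
      · rw [smul_infty, mk4_00, mk4_10]; simp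
      · rw [smul_coe, mk4_00, mk4_10, mk4_01, mk4_11]
        have h1 : (1 / (s - t)) ≠ 0 := by simpa using hst
        simp [hst]

theorem exists_smul_infty (x : OnePoint K) :
    ∃ c : Matrix.SpecialLinearGroup (Fin 2) K, c • (∞ : OnePoint K) = x := by
  by_cases h : x = ∞
  · exact ⟨1, by rw [one_smul, h]⟩
  · obtain ⟨c, hc⟩ := exists_smul_pair (K := K) (x := ∞) (y := x) (Ne.symm h)
    obtain ⟨d, hd, -⟩ := exists_smul_pair (K := K) (x := x) (y := ∞) h
    exact ⟨d, hd⟩

theorem conj_smul_eq_iff {c g : Matrix.SpecialLinearGroup (Fin 2) K} {x y : OnePoint K}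
    (hc : c • x = y) : g • y = y ↔ (c⁻¹ * g * c) • x = x := by
  rw [mul_smul, mul_smul, hc, inv_smul_eq_iff, hc]

end Action

end Cfsg.Agent.Lib.DicksonAct
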