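import Mathlib

/-!
# Minimal normal subgroups of finite groups

A minimal normal subgroup of a finite group is the (internal) direct product of simple groups,
all conjugate in the big group.  In the non-abelian case the factors are exactly the minimal
normal subgroups of `N` and the big group permutes them transitively.
-/

set_option autoImplicit false

namespace Cfsg.Agent.Lib.MinNormal

open Subgroup

variable {G : Type*} [Group G]

/-- A subgroup normalising every member of a set normalises the supremum. -/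
theorem le_normalizer_sSup {K : Subgroup G} {s : Set (Subgroup G)}
    (h : ∀ T ∈ s, K ≤ normalizer (T : Set G)) :
    K ≤ normalizer ((sSup s : Subgroup G) : Set G) := by
  intro k hk
  rw [mem_normalizer_iff_map_conj_eq, sSup_eq_iSup, Subgroup.map_iSup]
  refine iSup_congr fun T => ?_
  rw [Subgroup.map_iSup]
  refine iSup_congr fun hT => ?_
  exact mem_normalizer_iff_map_conj_eq.mp (h T hT hk)

theorem le_normalizer_iSup {ι : Sort*} {K : Subgroup G} {T : ι → Subgroup G}
    (h : ∀ i, K ≤ normalizer (T i : Set G)) :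
    K ≤ normalizer ((⨆ i, T i : Subgroup G) : Set G) := by
  intro k hk
  rw [mem_normalizer_iff_map_conj_eq, Subgroup.map_iSup]
  exact iSup_congr fun i => mem_normalizer_iff_map_conj_eq.mp (h i hk)

theorem le_normalizer_inf {K S T : Subgroup G} (hS : K ≤ normalizer (S : Set G))
    (hT : K ≤ normalizer (T : Set G)) : K ≤ normalizer ((S ⊓ T : Subgroup G) : Set G) :=
  (le_inf hS hT).trans inf_normalizer_le_normalizer_inf

/-- If `S`, `T` normalise each other and intersect trivially, they commute elementwise. -/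
theorem commute_of_disjoint {S T : Subgroup G} (hST : S ≤ normalizer (T : Set G))
    (hTS : T ≤ normalizer (S : Set G)) (hd : Disjoint S T) {x y : G} (hx : x ∈ S) (hy : y ∈ T) :
    Commute x y := by
  have h1 : x * y * x⁻¹ * y⁻¹ ∈ T :=
    T.mul_mem ((mem_normalizer_iff.mp (hST hx) y).mp hy) (T.inv_mem hy)
  have h2 : x * y * x⁻¹ * y⁻¹ ∈ S := by
    have : y * x⁻¹ * y⁻¹ ∈ S := (mem_normalizer_iff.mp (hTS hy) _).mp (S.inv_mem hx)
    have h3 := S.mul_mem hx this
    simpa [mul_assoc] using h3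
  have h3 : x * y * x⁻¹ * y⁻¹ = 1 := by
    have := (Subgroup.disjoint_def.mp hd) h2 h1
    exact this
  have h4 : x * y = y * x := by
    have h5 : x * y * x⁻¹ * y⁻¹ * (y * x) = y * x := by rw [h3, one_mul]
    rw [← h5]; group
  exact h4

/-- Adding a disjoint member to an independent set of `K`-normal subgroups of `K`. -/
theorem sSupIndep_insert {K : Subgroup G} {s : Set (Subgroup G)} {T : Subgroup G}
    (hs : sSupIndep s) (hK : ∀ S ∈ s, K ≤ normalizer (S : Set G)) (hTK : T ≤ K)
    (hd : Disjoint T (sSup s)) : sSupIndep (insert T s) := by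
  by_cases hTs : T ∈ s
  · rwa [Set.insert_eq_of_mem hTs]
  intro S hS
  rcases Set.mem_insert_iff.mp hS with rfl | hSs
  · rwa [Set.insert_sdiff_self_of_notMem hTs]
  · have hne : T ≠ S := fun h => hTs (h ▸ hSs)
    have h1 : (insert T s) \ {S} = insert T (s \ {S}) := by
      rw [Set.insert_sdiff_of_notMem]
      simpa using hne
    rw [h1, sSup_insert, Subgroup.disjoint_def]
    intro x hxS hx
    have hTn : T ≤ normalizer ((sSup (s \ {S}) : Subgroup G) : Set G) :=
      hTK.trans (le_normalizer_sSup fun U hU => hK U hU.1)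
    have hx' : x ∈ ((T ⊔ sSup (s \ {S}) : Subgroup G) : Set G) := hx
    rw [coe_mul_of_left_le_normalizer_right _ _ hTn] at hx'
    obtain ⟨t, ht, y, hy, rfl⟩ := hx'
    have hyS : y ∈ sSup s :=
      (sSup_le_sSup (Set.sdiff_subset : s \ {S} ⊆ s) : sSup (s \ {S}) ≤ sSup s) hy
    have htS : t ∈ sSup s := by
      have := (sSup s).mul_mem (le_sSup hSs hxS) ((sSup s).inv_mem hyS)
      simpa using this
    have ht1 : t = 1 := (Subgroup.disjoint_def.mp hd) ht htS
    subst ht1
    simp only [one_mul] at hxS ⊢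
    exact (Subgroup.disjoint_def.mp (hs hSs)) hxS hy

/-- A set of minimal `K`-normal subgroups of `K` contains an independent subset with the same
supremum (finite groups). -/
theorem exists_indep_subset [Finite G] (K : Subgroup G) (C : Set (Subgroup G))
    (hCK : ∀ T ∈ C, T ≤ K) (hn : ∀ T ∈ C, K ≤ normalizer (T : Set G))
    (hmin : ∀ T ∈ C, ∀ S ≤ T, K ≤ normalizer (S : Set G) → S = ⊥ ∨ S = T) :
    ∃ s ⊆ C, sSupIndep s ∧ sSup s = sSup C := by
  have hfin : {s : Set (Subgroup G) | s ⊆ C ∧ sSupIndep s}.Finite := Set.toFinite _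
  have hne : {s : Set (Subgroup G) | s ⊆ C ∧ sSupIndep s}.Nonempty :=
    ⟨∅, Set.empty_subset _, sSupIndep_empty⟩
  obtain ⟨s, ⟨hsC, hsI⟩, hsmax⟩ := hfin.exists_maximal hne
  refine ⟨s, hsC, hsI, le_antisymm (sSup_le_sSup hsC) (sSup_le ?_)⟩
  intro T hT
  have hKs : K ≤ normalizer ((sSup s : Subgroup G) : Set G) :=
    le_normalizer_sSup fun U hU => hn U (hsC hU)
  rcases hmin T hT (T ⊓ sSup s) inf_le_left (le_normalizer_inf (hn T hT) hKs) with h | h
  · have hd : Disjoint T (sSup s) := disjoint_iff.mpr h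
    have hI := sSupIndep_insert hsI (fun U hU => hn U (hsC hU)) (hCK T hT) hd
    have hle : insert T s ⊆ s :=
      hsmax ⟨Set.insert_subset hT hsC, hI⟩ (Set.subset_insert _ _)
    exact le_sSup (hle (Set.mem_insert _ _))
  · exact inf_eq_left.mp h


/-- Members of an independent set of `K`-normal subgroups of `K` commute pairwise. -/
theorem commute_of_mem {K : Subgroup G} {s : Set (Subgroup G)} (hs : sSupIndep s)
    (hK : ∀ S ∈ s, K ≤ normalizer (S : Set G)) (hle : ∀ S ∈ s, S ≤ K) {S T : Subgroup G}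
    (hS : S ∈ s) (hT : T ∈ s) (hne : S ≠ T) {x y : G} (hx : x ∈ S) (hy : y ∈ T) :
    Commute x y :=
  commute_of_disjoint ((hle S hS).trans (hK T hT)) ((hle T hT).trans (hK S hS))
    (hs.pairwiseDisjoint hS hT hne) hx hy

/-- Members of an independent set `s` of minimal `K`-normal subgroups of `K = sSup s` are simple. -/
theorem isSimpleGroup_of_mem {K : Subgroup G} {s : Set (Subgroup G)} (hs : sSupIndep s)
    (hK : ∀ S ∈ s, K ≤ normalizer (S : Set G)) (hsup : sSup s = K)
    (hmin : ∀ T ∈ s, ∀ S ≤ T, K ≤ normalizer (S : Set G) → S = ⊥ ∨ S = T)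
    {T : Subgroup G} (hT : T ∈ s) (hT0 : T ≠ ⊥) : IsSimpleGroup T := by
  have hle : ∀ S ∈ s, S ≤ K := fun S hS => hsup ▸ le_sSup hS
  have : Nontrivial T := (Subgroup.nontrivial_iff_ne_bot T).mpr hT0
  refine ⟨fun S hS => ?_⟩
  have hSK : K ≤ normalizer ((S.map T.subtype : Subgroup G) : Set G) := by
    rw [← hsup]
    refine sSup_le fun U hU => ?_
    rw [le_normalizer_iff]
    rintro u hu _ ⟨y, hy, rfl⟩
    by_cases hUT : U = T
    · subst hUT
      exact ⟨⟨u, hu⟩ * y * ⟨u, hu⟩⁻¹, hS.conj_mem y hy ⟨u, hu⟩, rfl⟩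
    · have hc : Commute u (y : G) := commute_of_mem hs hK hle hU hT hUT hu y.2
      refine ⟨y, hy, ?_⟩
      simp only [Subgroup.subtype_apply]
      rw [hc.eq, mul_inv_cancel_right]
  rcases hmin T hT (S.map T.subtype) (map_subtype_le S) hSK with h | h
  · left
    exact (Subgroup.map_eq_bot_iff_of_injective S T.subtype_injective).mp h
  · right
    rw [eq_top_iff]
    intro x _
    have hx : (x : G) ∈ S.map T.subtype := by rw [h]; exact x.2
    obtain ⟨y, hy, hyx⟩ := hx
    have : y = x := T.subtype_injective hyx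
    exact this ▸ hy

/-- The group `sSup s` is isomorphic to the direct product of the members of `s`. -/
theorem mulEquiv_pi_of_iSupIndep {ι : Type*} [Finite ι] {K : Subgroup G} (T : ι → Subgroup G)
    (hcomm : Pairwise fun i j : ι => ∀ x y : G, x ∈ T i → y ∈ T j → Commute x y)
    (hind : iSupIndep T) (hsup : ⨆ i, T i = K) : Nonempty (K ≃* (∀ i, T i)) := by
  cases nonempty_fintype ι
  have hrange : (noncommPiCoprod hcomm).range = K := by rw [noncommPiCoprod_range, hsup]
  exact ⟨((MonoidHom.ofInjective (injective_noncommPiCoprod_of_iSupIndep (hcomm := hcomm)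
    hind)).trans (MulEquiv.subgroupCongr hrange)).symm⟩

/-- Every minimal normal subgroup `N ≠ ⊥` contains a minimal `N`-normal subgroup. -/
theorem exists_minimal_normal_le [Finite G] (N : Subgroup G) (hN : N ≠ ⊥) :
    ∃ T ≤ N, T ≠ ⊥ ∧ N ≤ normalizer (T : Set G) ∧
      ∀ S ≤ T, N ≤ normalizer (S : Set G) → S = ⊥ ∨ S = T := by
  have hfin : {T : Subgroup G | T ≤ N ∧ T ≠ ⊥ ∧ N ≤ normalizer (T : Set G)}.Finite :=
    Set.toFinite _
  have hne : {T : Subgroup G | T ≤ N ∧ T ≠ ⊥ ∧ N ≤ normalizer (T : Set G)}.Nonempty :=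
    ⟨N, le_rfl, hN, N.le_normalizer⟩
  obtain ⟨T, ⟨hTN, hT0, hTn⟩, hTmin⟩ := hfin.exists_minimal hne
  refine ⟨T, hTN, hT0, hTn, fun S hST hSn => ?_⟩
  by_cases hS0 : S = ⊥
  · exact Or.inl hS0
  · exact Or.inr (le_antisymm hST (hTmin ⟨hST.trans hTN, hS0, hSn⟩ hST))

theorem map_conj_map_conj (g h : G) (T : Subgroup G) :
    (T.map (MulAut.conj h).toMonoidHom).map (MulAut.conj g).toMonoidHom =
      T.map (MulAut.conj (g * h)).toMonoidHom := by
  rw [Subgroup.map_map]
  congr 1
  ext x
  simp [mul_assoc]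

theorem map_conj_one (T : Subgroup G) : T.map (MulAut.conj (1 : G)).toMonoidHom = T := by
  ext x
  simp [Subgroup.mem_map]

theorem map_conj_le_iff (g : G) (S T : Subgroup G) :
    S.map (MulAut.conj g).toMonoidHom ≤ T ↔ S ≤ T.map (MulAut.conj g⁻¹).toMonoidHom := by
  constructor
  · intro h
    have := Subgroup.map_mono (f := (MulAut.conj g⁻¹).toMonoidHom) h
    rwa [map_conj_map_conj, inv_mul_cancel, map_conj_one] at this
  · intro h
    have := Subgroup.map_mono (f := (MulAut.conj g).toMonoidHom) h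
    rwa [map_conj_map_conj, mul_inv_cancel, map_conj_one] at this

theorem map_conj_normal (g : G) (N : Subgroup G) [hN : N.Normal] :
    N.map (MulAut.conj g).toMonoidHom = N := by
  have : g ∈ normalizer (N : Set G) := by rw [normalizer_eq_top]; exact mem_top g
  exact mem_normalizer_iff_map_conj_eq.mp this

/-- Conjugation preserves normalisation by a normal subgroup. -/
theorem le_normalizer_map_conj {N : Subgroup G} [N.Normal] {T : Subgroup G}
    (h : N ≤ normalizer (T : Set G)) (g : G) :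
    N ≤ normalizer ((T.map (MulAut.conj g).toMonoidHom : Subgroup G) : Set G) := by
  intro n hn
  rw [le_normalizer_iff] at h
  have : N ≤ normalizer ((T.map (MulAut.conj g).toMonoidHom : Subgroup G) : Set G) := by
    rw [le_normalizer_iff]
    rintro k hk _ ⟨t, ht, rfl⟩
    have hk' : g⁻¹ * k * g ∈ N := by
      have := (inferInstance : N.Normal).conj_mem k hk g⁻¹
      simpa using this
    refine ⟨(g⁻¹ * k * g) * t * (g⁻¹ * k * g)⁻¹, h _ hk' t ht, ?_⟩
    simp only [MulEquiv.toMonoidHom_eq_coe, MonoidHom.coe_coe, MulAut.conj_apply]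
    group
  exact this hn

theorem minimal_map_conj {N : Subgroup G} [N.Normal] {T : Subgroup G}
    (h : ∀ S ≤ T, N ≤ normalizer (S : Set G) → S = ⊥ ∨ S = T) (g : G) :
    ∀ S ≤ T.map (MulAut.conj g).toMonoidHom, N ≤ normalizer (S : Set G) →
      S = ⊥ ∨ S = T.map (MulAut.conj g).toMonoidHom := by
  intro S hS hSn
  have h1 : S.map (MulAut.conj g⁻¹).toMonoidHom ≤ T := by
    rw [map_conj_le_iff, inv_inv]; exact hS
  rcases h _ h1 (le_normalizer_map_conj hSn g⁻¹) with h2 | h2
  · left
    exact (Subgroup.map_eq_bot_iff_of_injective S (MulAut.conj g⁻¹).injective).mp h2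
  · right
    rw [← h2, map_conj_map_conj, mul_inv_cancel, map_conj_one]

/-- The supremum of all conjugates of a nontrivial subgroup of a minimal normal subgroup. -/
theorem sSup_conjugates {N : Subgroup G} [N.Normal]
    (hmin : ∀ M : Subgroup G, M.Normal → M ≤ N → M = ⊥ ∨ M = N) {T : Subgroup G} (hTN : T ≤ N)
    (hT0 : T ≠ ⊥) :
    sSup (Set.range fun g : G => T.map (MulAut.conj g).toMonoidHom) = N := by
  have hn : (sSup (Set.range fun g : G => T.map (MulAut.conj g).toMonoidHom)).Normal := by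
    rw [← normalizer_eq_top_iff, eq_top_iff]
    intro k _
    rw [mem_normalizer_iff_map_conj_eq]
    apply le_antisymm
    · rw [sSup_eq_iSup, Subgroup.map_iSup]
      refine iSup_le fun S => ?_
      rw [Subgroup.map_iSup]
      refine iSup_le fun hS => ?_
      obtain ⟨g, rfl⟩ := hS
      refine le_trans (le_of_eq (map_conj_map_conj k g T)) ?_
      exact le_iSup_of_le (T.map (MulAut.conj (k * g)).toMonoidHom)
        (le_iSup_of_le ⟨k * g, rfl⟩ le_rfl)
    · rw [sSup_le_iff]
      rintro _ ⟨g, rfl⟩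
      have h1 : T.map (MulAut.conj g).toMonoidHom =
          (T.map (MulAut.conj (k⁻¹ * g)).toMonoidHom).map (MulAut.conj k).toMonoidHom := by
        rw [map_conj_map_conj, mul_inv_cancel_left]
      change T.map (MulAut.conj g).toMonoidHom ≤ _
      rw [h1]
      exact Subgroup.map_mono (le_sSup ⟨k⁻¹ * g, rfl⟩)
  have hle : sSup (Set.range fun g : G => T.map (MulAut.conj g).toMonoidHom) ≤ N := by
    rw [sSup_le_iff]
    rintro _ ⟨g, rfl⟩
    exact (Subgroup.map_mono hTN).trans (le_of_eq (map_conj_normal g N))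
  rcases hmin _ hn hle with h | h
  · exfalso
    apply hT0
    rw [eq_bot_iff, ← h]
    exact le_sSup ⟨1, map_conj_one T⟩
  · exact h

/-- Set version of the internal decomposition of a minimal normal subgroup. -/
theorem exists_set_decomposition [Finite G] (N : Subgroup G) [N.Normal] (hN : N ≠ ⊥)
    (hmin : ∀ M : Subgroup G, M.Normal → M ≤ N → M = ⊥ ∨ M = N) :
    ∃ (T : Subgroup G) (s : Set (Subgroup G)),
      (T ≤ N ∧ T ≠ ⊥ ∧ N ≤ normalizer (T : Set G) ∧
        ∀ S ≤ T, N ≤ normalizer (S : Set G) → S = ⊥ ∨ S = T) ∧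
      s ⊆ Set.range (fun g : G => T.map (MulAut.conj g).toMonoidHom) ∧
      s.Nonempty ∧ sSupIndep s ∧ sSup s = N ∧
      (∀ S ∈ s, S ≤ N ∧ S ≠ ⊥ ∧ N ≤ normalizer (S : Set G) ∧
        (∀ R ≤ S, N ≤ normalizer (R : Set G) → R = ⊥ ∨ R = S) ∧ IsSimpleGroup S) := by
  obtain ⟨T, hTN, hT0, hTn, hTmin⟩ := exists_minimal_normal_le N hN
  have hC : ∀ S ∈ Set.range (fun g : G => T.map (MulAut.conj g).toMonoidHom),
      S ≤ N ∧ S ≠ ⊥ ∧ N ≤ normalizer (S : Set G) ∧
        (∀ R ≤ S, N ≤ normalizer (R : Set G) → R = ⊥ ∨ R = S) := by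
    rintro _ ⟨g, rfl⟩
    refine ⟨(Subgroup.map_mono hTN).trans (le_of_eq (map_conj_normal g N)), ?_,
      le_normalizer_map_conj hTn g, minimal_map_conj hTmin g⟩
    intro h
    exact hT0 ((Subgroup.map_eq_bot_iff_of_injective T (MulAut.conj g).injective).mp h)
  obtain ⟨s, hsC, hsI, hsup⟩ := exists_indep_subset N
    (Set.range fun g : G => T.map (MulAut.conj g).toMonoidHom) (fun S hS => (hC S hS).1)
    (fun S hS => (hC S hS).2.2.1) (fun S hS => (hC S hS).2.2.2)
  rw [sSup_conjugates hmin hTN hT0] at hsup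
  refine ⟨T, s, ⟨hTN, hT0, hTn, hTmin⟩, hsC, ?_, hsI, hsup, fun S hS => ?_⟩
  · rw [Set.nonempty_iff_ne_empty]
    rintro rfl
    exact hN (by rw [← hsup, sSup_empty])
  · obtain ⟨h1, h2, h3, h4⟩ := hC S (hsC hS)
    exact ⟨h1, h2, h3, h4, isSimpleGroup_of_mem hsI (fun S hS => (hC S (hsC hS)).2.2.1) hsup
      (fun S hS => (hC S (hsC hS)).2.2.2) hS h2⟩

/-- **Internal decomposition of a minimal normal subgroup** of a finite group as a direct product
of conjugate simple groups. -/
theorem exists_internal_decomposition [Finite G] (N : Subgroup G) [N.Normal] (hN : N ≠ ⊥)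
    (hmin : ∀ M : Subgroup G, M.Normal → M ≤ N → M = ⊥ ∨ M = N) :
    ∃ (m : ℕ) (T : Fin m → Subgroup G), 0 < m ∧ (∀ i, T i ≤ N) ∧ (∀ i, IsSimpleGroup (T i)) ∧
      (∀ i, N ≤ normalizer (T i : Set G)) ∧
      (∀ i j, ∃ g : G, T j = (T i).map (MulAut.conj g).toMonoidHom) ∧
      (∀ i j, i ≠ j → ∀ x ∈ T i, ∀ y ∈ T j, Commute x y) ∧
      Function.Injective T ∧ iSupIndep T ∧ ⨆ i, T i = N := by
  obtain ⟨T, s, -, hsC, hne, hsI, hsup, hs⟩ := exists_set_decomposition N hN hmin
  have hfin : Finite s := inferInstance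
  have e := (Finite.equivFin s).symm
  refine ⟨Nat.card s, fun i => (e i : Subgroup G), ?_, fun i => (hs _ (e i).2).1,
    fun i => (hs _ (e i).2).2.2.2.2, fun i => (hs _ (e i).2).2.2.1, fun i j => ?_,
    fun i j hij x hx y hy => ?_, ?_, ?_, ?_⟩
  · have : Nonempty s := hne.to_subtype
    exact Nat.card_pos
  · obtain ⟨g, hg⟩ := hsC (e i).2
    obtain ⟨h, hh⟩ := hsC (e j).2
    refine ⟨h * g⁻¹, ?_⟩
    change T.map (MulAut.conj g).toMonoidHom = _ at hg
    change T.map (MulAut.conj h).toMonoidHom = _ at hh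
    change (e j : Subgroup G) = ((e i : Subgroup G)).map (MulAut.conj (h * g⁻¹)).toMonoidHom
    rw [← hg, map_conj_map_conj, inv_mul_cancel_right, hh]
  · refine commute_of_mem hsI (fun S hS => (hs S hS).2.2.1) (fun S hS => (hs S hS).1)
      (e i).2 (e j).2 ?_ hx hy
    intro h
    exact hij (e.injective (Subtype.ext h))
  · exact Subtype.val_injective.comp e.injective
  · have h1 := (sSupIndep_iff s).mp hsI
    exact h1.comp e.injective
  · rw [← hsup, sSup_eq_iSup']
    exact e.iSup_comp (g := fun S : s => (S : Subgroup G))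

/-- **External form**: a minimal normal subgroup of a finite group is isomorphic to a power of a
simple group `T ≤ N`. -/
theorem exists_mulEquiv_pi [Finite G] (N : Subgroup G) [N.Normal] (hN : N ≠ ⊥)
    (hmin : ∀ M : Subgroup G, M.Normal → M ≤ N → M = ⊥ ∨ M = N) :
    ∃ (T : Subgroup G) (m : ℕ), T ≤ N ∧ IsSimpleGroup T ∧ 0 < m ∧
      Nonempty (N ≃* (Fin m → T)) := by
  obtain ⟨m, T, hm, hTN, hsimple, -, hconj, hcomm, -, hind, hsup⟩ :=
    exists_internal_decomposition N hN hmin
  obtain ⟨e⟩ := mulEquiv_pi_of_iSupIndep T (fun i j hij x y hx hy => hcomm i j hij x hx y hy)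
    hind hsup
  refine ⟨T ⟨0, hm⟩, m, hTN _, hsimple _, hm, ⟨e.trans (MulEquiv.piCongrRight fun i => ?_)⟩⟩
  choose g hg using hconj
  exact (((T ⟨0, hm⟩).equivMapOfInjective _ (MulAut.conj (g ⟨0, hm⟩ i)).injective).trans
    (MulEquiv.subgroupCongr (hg ⟨0, hm⟩ i).symm)).symm

/-- Every finite group has an isomorphic copy in `Type`. -/
theorem exists_type_zero_model (T : Type*) [Group T] [Finite T] :
    ∃ (T' : Type) (_ : Group T'), Nonempty (T' ≃* T) := by
  have key : ∀ (α : Type) (f : α ≃ T), ∃ (_ : Group α), Nonempty (α ≃* T) := fun α f =>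
    ⟨f.group, ⟨@Equiv.mulEquiv α T f _⟩⟩
  obtain ⟨inst, h⟩ := key _ (Finite.equivFin T).symm
  exact ⟨_, inst, h⟩

end Cfsg.Agent.Lib.MinNormal
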