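import Mathlib

/-!
# Subsets of `F_2^k` as natural numbers with `2^k` bits

A subset `S` of `{0, ..., 2^k - 1}` (vectors of `F_2^k` written as `k`-bit naturals) is stored as
ONE natural number `m` with `m.testBit n = true ↔ n ∈ S`. All operations below are a handful of
GMP operations on `m`, so that they are very fast in the kernel (`decide +kernel`).

* `proj k i` : the mask of all `n < 2^k` with bit `i` set;
* `swap k j m` : the image of `m` under `n ↦ n ^^^ 2^j`;
* `step k i j m` : the image of `m` under the transvection "if bit `i` is set then flip bit `j`";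
* `img k l m` : image under the composite of the list `l` of elementary transvections
  (`(i, j)` coded as `32 * i + j`), `act l` being the map on vectors;
* `grow`, `bfs` : orbit enumeration;
* `pc k m` : number of elements.
-/

set_option autoImplicit false

namespace Cfsg.Agent.Lib.BitSet

/-- Force evaluation of the natural number `n` by the kernel before calling `f`. -/
def force {α : Type*} (n : ℕ) (f : ℕ → α) : α :=
  match n with
  | 0 => f 0
  | k + 1 => f (k + 1)

theorem force_eq {α : Type*} (n : ℕ) (f : ℕ → α) : force n f = f n := by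
  cases n <;> rfl

/-! ### xor with a power of two -/

theorem xor_two_pow_of_testBit_false : ∀ (j n : ℕ), n.testBit j = false → n ^^^ 2 ^ j = n + 2 ^ j
  | 0, n, h => by
    have h2 : n % 2 = 0 := by
      rw [Nat.testBit_zero] at h
      simpa using h
    have : n = 2 * (n / 2) := by omega
    apply Nat.eq_of_testBit_eq
    intro i
    rw [Nat.testBit_xor]
    rcases i with _ | i
    · simp [Nat.testBit_zero, h2]
      omega
    · rw [Nat.testBit_succ, Nat.testBit_succ, Nat.testBit_succ]
      have e : (n + 2 ^ 0) / 2 = n / 2 := by omega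
      rw [e]
      simp
  | j + 1, n, h => by
    have h1 : (n / 2).testBit j = false := by rw [← Nat.testBit_succ]; exact h
    have ih := xor_two_pow_of_testBit_false j (n / 2) h1
    apply Nat.eq_of_testBit_eq
    intro i
    rw [Nat.testBit_xor]
    rcases i with _ | i
    · simp only [Nat.testBit_zero, pow_succ]
      have e1 : (2 ^ j * 2) % 2 = 0 := by omega
      have e2 : (n + 2 ^ j * 2) % 2 = n % 2 := by omega
      rw [e1, e2]
      simp
    · rw [Nat.testBit_succ, Nat.testBit_succ, Nat.testBit_succ]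
      have e1 : (2 ^ (j + 1)) / 2 = 2 ^ j := by rw [pow_succ]; omega
      have e2 : (n + 2 ^ (j + 1)) / 2 = n / 2 + 2 ^ j := by rw [pow_succ]; omega
      rw [e1, e2, ← ih, Nat.testBit_xor]

theorem add_two_pow_of_testBit_true (j n : ℕ) (h : n.testBit j = true) :
    (n ^^^ 2 ^ j) + 2 ^ j = n := by
  have h1 : (n ^^^ 2 ^ j).testBit j = false := by
    rw [Nat.testBit_xor, h, Nat.testBit_two_pow]; simp
  rw [← xor_two_pow_of_testBit_false j _ h1, Nat.xor_assoc, Nat.xor_self, Nat.xor_zero]

/-! ### the coordinate masks -/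

/-- The mask of all `n < 2^k` whose bit `i` is set. -/
def proj : ℕ → ℕ → ℕ
  | 0, _ => 0
  | k + 1, i =>
    if i = k then (2 ^ (2 ^ k) - 1) <<< (2 ^ k)
    else force (proj k i) fun p => p ||| (p <<< (2 ^ k))

theorem proj_succ (k i : ℕ) : proj (k + 1) i =
    if i = k then (2 ^ (2 ^ k) - 1) <<< (2 ^ k) else proj k i ||| (proj k i <<< (2 ^ k)) := by
  show (if i = k then (2 ^ (2 ^ k) - 1) <<< (2 ^ k)
    else force (proj k i) fun p => p ||| (p <<< (2 ^ k))) = _
  rw [force_eq]

theorem proj_testBit : ∀ (k i n : ℕ), i < k →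
    (proj k i).testBit n = (decide (n < 2 ^ k) && n.testBit i)
  | 0, i, n, h => by omega
  | k + 1, i, n, h => by
    rw [proj_succ]
    have hp : (2 : ℕ) ^ (k + 1) = 2 ^ k + 2 ^ k := by rw [pow_succ]; omega
    by_cases hik : i = k
    · subst hik
      rw [if_pos rfl, Nat.testBit_shiftLeft, Nat.testBit_two_pow_sub_one]
      by_cases h1 : n ≥ 2 ^ i
      · obtain ⟨m, rfl⟩ : ∃ m, n = 2 ^ i + m := ⟨n - 2 ^ i, by omega⟩
        rw [Nat.testBit_two_pow_add_eq]
        by_cases h2 : m < 2 ^ i
        · have h3 : 2 ^ i + m < 2 ^ (i + 1) := by omega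
          rw [Nat.testBit_lt_two_pow h2]
          simp [h2, h3]
        · have h3 : ¬ 2 ^ i + m < 2 ^ (i + 1) := by omega
          simp [h2, h3]
      · have h2 : n < 2 ^ i := by omega
        rw [Nat.testBit_lt_two_pow h2]
        simp [h2]
    · rw [if_neg hik, Nat.testBit_or, Nat.testBit_shiftLeft]
      have hik' : i < k := by omega
      rw [proj_testBit k i n hik', proj_testBit k i (n - 2 ^ k) hik']
      by_cases h1 : n < 2 ^ k
      · have h2 : ¬ n ≥ 2 ^ k := by omega
        have h3 : n < 2 ^ (k + 1) := by omega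
        simp [h1, h3]
      · obtain ⟨m, rfl⟩ : ∃ m, n = 2 ^ k + m := ⟨n - 2 ^ k, by omega⟩
        have h2 : 2 ^ k + m ≥ 2 ^ k := by omega
        rw [Nat.testBit_two_pow_add_gt hik']
        have h4 : 2 ^ k + m - 2 ^ k = m := by omega
        rw [h4]
        by_cases h5 : m < 2 ^ k
        · have h6 : 2 ^ k + m < 2 ^ (k + 1) := by omega
          simp [h5, h6]
        · have h6 : ¬ 2 ^ k + m < 2 ^ (k + 1) := by omega
          simp [h5, h6]

/-! ### translation by a basis vector -/

/-- image of the set `m` under `n ↦ n ^^^ 2^j`. -/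
def swap (k j m : ℕ) : ℕ :=
  force (m &&& proj k j) fun a => (a >>> (2 ^ j)) ||| ((m ^^^ a) <<< (2 ^ j))

theorem swap_def (k j m : ℕ) : swap k j m =
    ((m &&& proj k j) >>> (2 ^ j)) ||| ((m ^^^ (m &&& proj k j)) <<< (2 ^ j)) := by
  unfold swap; rw [force_eq]

theorem swap_testBit (k j m n : ℕ) (hj : j < k) (hn : n < 2 ^ k) :
    (swap k j m).testBit n = m.testBit (n ^^^ 2 ^ j) := by
  have hjk : 2 ^ j < 2 ^ k := Nat.pow_lt_pow_right (by norm_num) hj
  have hx : n ^^^ 2 ^ j < 2 ^ k := Nat.xor_lt_two_pow hn hjk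
  have hpos : 0 < 2 ^ j := Nat.two_pow_pos j
  rw [swap_def, Nat.testBit_or, Nat.testBit_shiftRight, Nat.testBit_shiftLeft, Nat.testBit_xor,
    Nat.testBit_and, Nat.testBit_and, proj_testBit _ _ _ hj, proj_testBit _ _ _ hj,
    Nat.testBit_two_pow_add_eq]
  cases hb : n.testBit j
  · -- bit j of n is false
    have h1 := xor_two_pow_of_testBit_false j n hb
    have h2 : 2 ^ j + n < 2 ^ k := by omega
    have h2' : 2 ^ j + n = n ^^^ 2 ^ j := by omega
    rw [h2']
    by_cases h3 : n ≥ 2 ^ j
    · obtain ⟨p, rfl⟩ : ∃ p, n = 2 ^ j + p := ⟨n - 2 ^ j, by omega⟩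
      rw [Nat.testBit_two_pow_add_eq] at hb
      have h4 : 2 ^ j + p - 2 ^ j = p := by omega
      have h5 : p < 2 ^ k := by omega
      have h6 : p.testBit j = true := by simpa using hb
      rw [h4, h6]
      simp [h5, hx]
    · simp [h3, hx]
  · have h1 := add_two_pow_of_testBit_true j n hb
    have h3 : n ≥ 2 ^ j := by omega
    have h4 : n - 2 ^ j = n ^^^ 2 ^ j := by omega
    have h5 : (n ^^^ 2 ^ j).testBit j = false := by
      rw [Nat.testBit_xor, hb, Nat.testBit_two_pow]; simp
    rw [h4, h5]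
    simp [h3]

/-! ### elementary transvections -/

/-- "if bit `i` is set then flip bit `j`" -/
def op (i j n : ℕ) : ℕ := if n.testBit i then n ^^^ 2 ^ j else n

theorem op_def (i j n : ℕ) : op i j n = if n.testBit i then n ^^^ 2 ^ j else n := rfl

/-- image of the set `m` under `op i j`. -/
def step (k i j m : ℕ) : ℕ :=
  force (swap k j m) fun s => m ^^^ ((m ^^^ s) &&& proj k i)

theorem step_def (k i j m : ℕ) : step k i j m = m ^^^ ((m ^^^ swap k j m) &&& proj k i) := by
  unfold step; rw [force_eq]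

theorem step_testBit (k i j m n : ℕ) (hi : i < k) (hj : j < k) (hn : n < 2 ^ k) :
    (step k i j m).testBit n = m.testBit (op i j n) := by
  rw [step_def, Nat.testBit_xor, Nat.testBit_and, Nat.testBit_xor, swap_testBit k j m n hj hn,
    proj_testBit k i n hi, op_def]
  cases hb : n.testBit i <;> simp [hn]

theorem op_lt (k i j n : ℕ) (hj : j < k) (hn : n < 2 ^ k) : op i j n < 2 ^ k := by
  rw [op_def]
  split
  · exact Nat.xor_lt_two_pow hn (Nat.pow_lt_pow_right (by norm_num) hj)
  · exact hn

theorem op_op (i j n : ℕ) (hij : i ≠ j) : op i j (op i j n) = n := by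
  rw [op_def i j n]
  split
  · rename_i h
    have h1 : (n ^^^ 2 ^ j).testBit i = true := by
      rw [Nat.testBit_xor, h, Nat.testBit_two_pow]
      simp [Ne.symm hij]
    rw [op_def, if_pos h1, Nat.xor_assoc, Nat.xor_self, Nat.xor_zero]
  · rename_i h
    rw [op_def, if_neg h]

theorem op_xor (i j a b : ℕ) : op i j (a ^^^ b) = op i j a ^^^ op i j b := by
  rw [op_def, op_def, op_def, Nat.testBit_xor]
  cases ha : a.testBit i <;> cases hb : b.testBit i
  · simp
  · simp [Nat.xor_assoc]
  · simp only [Bool.true_xor, Bool.not_false, if_true, Bool.false_eq_true, if_false]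
    rw [Nat.xor_assoc, Nat.xor_comm b, ← Nat.xor_assoc]
  · simp only [Bool.xor_self, if_true, Bool.false_eq_true, if_false]
    apply Nat.eq_of_testBit_eq
    intro i
    simp only [Nat.testBit_xor]
    cases a.testBit i <;> cases b.testBit i <;> cases (2 ^ j).testBit i <;> rfl

/-- A list of elementary transvections, `(i, j)` coded as `32 * i + j`, is admissible for
dimension `k`. -/
def okOps (k : ℕ) : List ℕ → Bool
  | [] => true
  | c :: l => Nat.blt (c / 32) k && (Nat.blt (c % 32) k && (!(Nat.beq (c / 32) (c % 32)) &&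
      okOps k l))

/-- the map on vectors defined by a list of elementary transvections. -/
def act : List ℕ → ℕ → ℕ
  | [], n => n
  | c :: l, n => act l (op (c / 32) (c % 32) n)

/-- the image of a set under `act l`. -/
def img (k : ℕ) : List ℕ → ℕ → ℕ
  | [], m => m
  | c :: l, m => force (step k (c / 32) (c % 32) m) fun m' => img k l m'

@[simp] theorem act_nil (n : ℕ) : act [] n = n := rfl
@[simp] theorem act_cons (c : ℕ) (l : List ℕ) (n : ℕ) :
    act (c :: l) n = act l (op (c / 32) (c % 32) n) := rfl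
@[simp] theorem img_nil (k m : ℕ) : img k [] m = m := rfl
@[simp] theorem img_cons (k c : ℕ) (l : List ℕ) (m : ℕ) :
    img k (c :: l) m = img k l (step k (c / 32) (c % 32) m) := by
  show force (step k (c / 32) (c % 32) m) (fun m' => img k l m') = _
  rw [force_eq]

theorem okOps_cons {k c : ℕ} {l : List ℕ} (h : okOps k (c :: l) = true) :
    c / 32 < k ∧ c % 32 < k ∧ c / 32 ≠ c % 32 ∧ okOps k l = true := by
  have h' : (Nat.blt (c / 32) k && (Nat.blt (c % 32) k && (!(Nat.beq (c / 32) (c % 32)) &&
      okOps k l))) = true := h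
  rw [Bool.and_eq_true, Bool.and_eq_true, Bool.and_eq_true] at h'
  obtain ⟨h1, h2, h3, h4⟩ := h'
  refine ⟨?_, ?_, ?_, h4⟩
  · simpa [Nat.blt_eq] using h1
  · simpa [Nat.blt_eq] using h2
  · intro he
    rw [he, Nat.beq_refl] at h3
    simp at h3

theorem act_lt {k : ℕ} : ∀ {l : List ℕ} {n : ℕ}, okOps k l = true → n < 2 ^ k → act l n < 2 ^ k
  | [], _, _, hn => hn
  | c :: l, n, h, hn => by
    obtain ⟨_, h2, _, h4⟩ := okOps_cons h
    rw [act_cons]
    exact act_lt h4 (op_lt k _ _ n h2 hn)

theorem act_xor : ∀ (l : List ℕ) (a b : ℕ), act l (a ^^^ b) = act l a ^^^ act l b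
  | [], _, _ => rfl
  | c :: l, a, b => by rw [act_cons, act_cons, act_cons, op_xor, act_xor l]

theorem act_injective {k : ℕ} : ∀ {l : List ℕ} (_ : okOps k l = true) {a b : ℕ},
    act l a = act l b → a = b
  | [], _, _, _, hab => hab
  | c :: l, h, a, b, hab => by
    obtain ⟨_, _, h3, h4⟩ := okOps_cons h
    rw [act_cons, act_cons] at hab
    have := act_injective h4 hab
    rw [← op_op _ _ a h3, this, op_op _ _ b h3]

/-- the set `img k l m` contains `act l n` iff `m` contains `n`. -/
theorem img_testBit_act {k : ℕ} : ∀ {l : List ℕ} {m n : ℕ}, okOps k l = true → n < 2 ^ k →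
    (img k l m).testBit (act l n) = m.testBit n
  | [], _, _, _, _ => rfl
  | c :: l, m, n, h, hn => by
    obtain ⟨h1, h2, h3, h4⟩ := okOps_cons h
    rw [img_cons, act_cons, img_testBit_act h4 (op_lt k _ _ n h2 hn),
      step_testBit k _ _ m _ h1 h2 (op_lt k _ _ n h2 hn), op_op _ _ _ h3]

theorem exists_act_eq {k : ℕ} : ∀ {l : List ℕ} {n : ℕ}, okOps k l = true → n < 2 ^ k →
    ∃ n' < 2 ^ k, act l n' = n
  | [], n, _, hn => ⟨n, hn, rfl⟩
  | c :: l, n, h, hn => by
    obtain ⟨h1, h2, h3, h4⟩ := okOps_cons h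
    obtain ⟨n', hn', e⟩ := exists_act_eq h4 hn
    refine ⟨op (c / 32) (c % 32) n', op_lt k _ _ _ h2 hn', ?_⟩
    rw [act_cons, op_op _ _ _ h3, e]

theorem img_testBit {k : ℕ} {l : List ℕ} {m n : ℕ} (h : okOps k l = true) (hn : n < 2 ^ k)
    (hb : (img k l m).testBit n = true) : ∃ n' < 2 ^ k, act l n' = n ∧ m.testBit n' = true := by
  obtain ⟨n', hn', e⟩ := exists_act_eq h hn
  refine ⟨n', hn', e, ?_⟩
  rw [← img_testBit_act (m := m) h hn', e, hb]

/-! ### orbit enumeration -/

/-- one round: adjoin successively the images under all generators of the list. -/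
def grow (k : ℕ) : List (List ℕ) → ℕ → ℕ
  | [], m => m
  | l :: L, m => force (m ||| img k l m) fun m' => grow k L m'

/-- `r` rounds. -/
def bfs (k : ℕ) (L : List (List ℕ)) : ℕ → ℕ → ℕ
  | 0, m => m
  | r + 1, m => force (grow k L m) fun m' => bfs k L r m'

theorem grow_cons (k : ℕ) (l : List ℕ) (L : List (List ℕ)) (m : ℕ) :
    grow k (l :: L) m = grow k L (m ||| img k l m) := by
  show force (m ||| img k l m) (fun m' => grow k L m') = _
  rw [force_eq]

theorem bfs_succ (k : ℕ) (L : List (List ℕ)) (r m : ℕ) :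
    bfs k L (r + 1) m = bfs k L r (grow k L m) := by
  show force (grow k L m) (fun m' => bfs k L r m') = _
  rw [force_eq]

/-- Everything in `bfs k L r m` satisfies every property `P` which is satisfied by the elements of
`m` and preserved by the generators. -/
theorem grow_induction {k : ℕ} {P : ℕ → Prop} : ∀ {L : List (List ℕ)} {m : ℕ},
    (∀ l ∈ L, okOps k l = true) → (∀ l ∈ L, ∀ n < 2 ^ k, P n → P (act l n)) →
    (∀ n < 2 ^ k, m.testBit n = true → P n) →
    ∀ n < 2 ^ k, (grow k L m).testBit n = true → P n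
  | [], _, _, _, h3, n, hn, hb => h3 n hn hb
  | l :: L, m, h1, h2, h3, n, hn, hb => by
    rw [grow_cons] at hb
    refine grow_induction (fun l' hl' => h1 l' (List.mem_cons_of_mem _ hl'))
      (fun l' hl' => h2 l' (List.mem_cons_of_mem _ hl')) ?_ n hn hb
    intro n hn hb
    rw [Nat.testBit_or, Bool.or_eq_true] at hb
    rcases hb with hb | hb
    · exact h3 n hn hb
    · obtain ⟨n', hn', e, hb'⟩ := img_testBit (h1 l List.mem_cons_self) hn hb
      rw [← e]
      exact h2 l List.mem_cons_self n' hn' (h3 n' hn' hb')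

theorem bfs_induction {k : ℕ} {P : ℕ → Prop} {L : List (List ℕ)}
    (h1 : ∀ l ∈ L, okOps k l = true) (h2 : ∀ l ∈ L, ∀ n < 2 ^ k, P n → P (act l n)) :
    ∀ {r m : ℕ}, (∀ n < 2 ^ k, m.testBit n = true → P n) →
    ∀ n < 2 ^ k, (bfs k L r m).testBit n = true → P n
  | 0, _, h3, n, hn, hb => h3 n hn hb
  | r + 1, m, h3, n, hn, hb => by
    rw [bfs_succ] at hb
    exact bfs_induction h1 h2 (grow_induction h1 h2 h3) n hn hb

/-! ### counting -/

/-- number of `n < 2^k` with `m.testBit n`. -/
def pc : ℕ → ℕ → ℕ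
  | 0, m => m % 2
  | k + 1, m =>
    bif Nat.beq m 0 then 0 else
    force (m % 2 ^ (2 ^ k)) fun a => force (m >>> (2 ^ k)) fun b => pc k a + pc k b

theorem pc_succ (k m : ℕ) : pc (k + 1) m =
    bif Nat.beq m 0 then 0 else pc k (m % 2 ^ (2 ^ k)) + pc k (m >>> (2 ^ k)) := by
  show (bif Nat.beq m 0 then 0 else
    force (m % 2 ^ (2 ^ k)) fun a => force (m >>> (2 ^ k)) fun b => pc k a + pc k b) = _
  rw [force_eq, force_eq]

theorem pc_eq_count : ∀ (k m : ℕ), pc k m = Nat.count (fun n => m.testBit n = true) (2 ^ k)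
  | 0, m => by
    show m % 2 = _
    rw [pow_zero, show (1 : ℕ) = 0 + 1 from rfl, Nat.count_succ, Nat.count_zero, Nat.testBit_zero]
    rcases Nat.mod_two_eq_zero_or_one m with h | h <;> simp [h]
  | k + 1, m => by
    rw [pc_succ]
    have e : (2 : ℕ) ^ (k + 1) = 2 ^ k + 2 ^ k := by rw [pow_succ]; omega
    rcases Nat.eq_zero_or_pos m with h | h
    · subst h
      have : Nat.count (fun n => Nat.testBit 0 n = true) (2 ^ (k + 1)) = 0 := by
        rw [Nat.count_eq_card_filter_range]
        simp
      rw [this]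
      rfl
    · have hb : Nat.beq m 0 = false := by
        cases hm : Nat.beq m 0
        · rfl
        · exact absurd (Nat.eq_of_beq_eq_true hm) (by omega)
      rw [hb, cond_false, e, Nat.count_add, pc_eq_count k, pc_eq_count k]
      congr 1
      · rw [Nat.count_eq_card_filter_range, Nat.count_eq_card_filter_range]
        congr 1
        apply Finset.filter_congr
        intro n hn
        rw [Finset.mem_range] at hn
        rw [Nat.testBit_mod_two_pow]
        simp [hn]
      · congr 1
        funext n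
        rw [Nat.testBit_shiftRight]

theorem pc_eq_card (k m : ℕ) :
    pc k m = ((Finset.range (2 ^ k)).filter (fun n => m.testBit n = true)).card := by
  rw [pc_eq_count, Nat.count_eq_card_filter_range]

/-! ### xor-induction -/

theorem xor_induction {P : ℕ → Prop} : ∀ {k : ℕ}, P 0 → (∀ i < k, P (2 ^ i)) →
    (∀ a < 2 ^ k, ∀ b < 2 ^ k, P a → P b → P (a ^^^ b)) → ∀ n < 2 ^ k, P n
  | 0, h0, _, _, n, hn => by
    have : n = 0 := by omega
    rw [this]; exact h0
  | k + 1, h0, h1, h2, n, hn => by
    have e : (2 : ℕ) ^ (k + 1) = 2 ^ k + 2 ^ k := by rw [pow_succ]; omega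
    have ih : ∀ n < 2 ^ k, P n := xor_induction h0 (fun i hi => h1 i (by omega))
      (fun a ha b hb => h2 a (by omega) b (by omega))
    by_cases h : n < 2 ^ k
    · exact ih n h
    · have hb : n.testBit k = true := by
        obtain ⟨m, rfl⟩ : ∃ m, n = 2 ^ k + m := ⟨n - 2 ^ k, by omega⟩
        rw [Nat.testBit_two_pow_add_eq, Nat.testBit_lt_two_pow (by omega)]
        rfl
      have h3 := add_two_pow_of_testBit_true k n hb
      have h4 : n ^^^ 2 ^ k < 2 ^ k := by omega
      have h5 : n = (n ^^^ 2 ^ k) ^^^ 2 ^ k := by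
        rw [Nat.xor_assoc, Nat.xor_self, Nat.xor_zero]
      rw [h5]
      exact h2 _ (by omega) _ (by omega) (ih _ h4) (h1 k (by omega))

end Cfsg.Agent.Lib.BitSet
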