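import Cfsg.Agent.Lib.CosetFacts

/-!
# Free reduction, substitution and checked consequences for words given as lists of letters
-/

set_option autoImplicit false

namespace Cfsg.Agent.Lib.WordSubst

open Cfsg.Agent.Lib.CosetFacts

/-- put a letter in front of a word, cancelling if possible; letters with `o c = true` have
order three -/
def redc (ι : ℕ → ℕ) (o : ℕ → Bool) (c : ℕ) : List ℕ → List ℕ
  | [] => [c]
  | d :: l => cond (Nat.beq d (ι c)) l
      (cond (and (o c) (Nat.beq d c)) (ι c :: l) (c :: d :: l))

/-- reduction -/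
def red (ι : ℕ → ℕ) (o : ℕ → Bool) : List ℕ → List ℕ
  | [] => []
  | c :: l => redc ι o c (red ι o l)

/-- substitution of words for letters; letters without entry go to the empty word -/
def subst (S : List (List ℕ)) : List ℕ → List ℕ
  | [] => []
  | c :: l => S.getD c [] ++ subst S l

section
variable {G : Type*} [Group G] (g : ℕ → G)

theorem prodL_redc (ι : ℕ → ℕ) (o : ℕ → Bool) (hι : ∀ s, g (ι s) = (g s)⁻¹)
    (ho : ∀ c, o c = true → g c * g c = g (ι c)) (c : ℕ) (l : List ℕ) :
    prodL g (redc ι o c l) = g c * prodL g l := by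
  cases l with
  | nil => rfl
  | cons d l =>
    change prodL g (cond (Nat.beq d (ι c)) l
      (cond (and (o c) (Nat.beq d c)) (ι c :: l) (c :: d :: l))) = _
    cases h : Nat.beq d (ι c) with
    | false =>
      rw [cond_false]
      cases h' : and (o c) (Nat.beq d c) with
      | false => rfl
      | true =>
        rw [Bool.and_eq_true] at h'
        rw [cond_true, prodL_cons, prodL_cons, Nat.eq_of_beq_eq_true h'.2, ← ho c h'.1,
          mul_assoc]
    | true =>
      rw [cond_true, prodL_cons, Nat.eq_of_beq_eq_true h, hι, mul_inv_cancel_left]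

theorem prodL_red (ι : ℕ → ℕ) (o : ℕ → Bool) (hι : ∀ s, g (ι s) = (g s)⁻¹)
    (ho : ∀ c, o c = true → g c * g c = g (ι c)) (l : List ℕ) :
    prodL g (red ι o l) = prodL g l := by
  induction l with
  | nil => rfl
  | cons c l ih => rw [red, prodL_redc g ι o hι ho, ih, prodL_cons]

/-- the letters interpreted by words -/
def gS (S : List (List ℕ)) (s : ℕ) : G := prodL g (S.getD s [])

theorem prodL_subst (S : List (List ℕ)) (l : List ℕ) :
    prodL g (subst S l) = prodL (gS g S) l := by
  induction l with
  | nil => rfl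
  | cons c l ih => rw [subst, prodL_append, ih, prodL_cons, gS]

/-- check that letter `s` and letter `ι' s` are inverse, for all `s < n` -/
def invOk (ι : ℕ → ℕ) (o : ℕ → Bool) (ι' : ℕ → ℕ) (S : List (List ℕ)) : ℕ → Bool
  | 0 => true
  | s+1 => and (eqL (red ι o (S.getD (ι' s) [])) (red ι o (invW ι (S.getD s [])))) (invOk ι o ι' S s)

theorem invOk_sound (ι : ℕ → ℕ) (o : ℕ → Bool) (ι' : ℕ → ℕ) (hι : ∀ s, g (ι s) = (g s)⁻¹)
    (ho : ∀ c, o c = true → g c * g c = g (ι c)) (S : List (List ℕ)) :
    ∀ n, invOk ι o ι' S n = true → ∀ s < n, gS g S (ι' s) = (gS g S s)⁻¹ := by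
  intro n
  induction n with
  | zero => intro _ s hs; omega
  | succ n ih =>
    intro h s hs
    simp only [invOk, Bool.and_eq_true] at h
    rcases Nat.lt_succ_iff_lt_or_eq.mp hs with h' | h'
    · exact ih h.2 s h'
    · subst h'
      unfold gS
      rw [← prodL_invW g ι hι, ← prodL_red g ι o hι ho, eq_of_eqL h.1, prodL_red g ι o hι ho]

/-- inverse table as a function -/
def tabι (inv : List ℕ) (s : ℕ) : ℕ := inv.getD s 0

theorem inv_all (ι : ℕ → ℕ) (o : ℕ → Bool) (hι : ∀ s, g (ι s) = (g s)⁻¹)
    (ho : ∀ c, o c = true → g c * g c = g (ι c)) (S : List (List ℕ)) (inv : List ℕ)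
    (hlen : S.length = inv.length) (hz : S.getD 0 [] = [])
    (h : invOk ι o (tabι inv) S S.length = true) (s : ℕ) :
    gS g S (tabι inv s) = (gS g S s)⁻¹ := by
  rcases Nat.lt_or_ge s S.length with hs | hs
  · exact invOk_sound g ι o (tabι inv) hι ho S _ h s hs
  · have h1 : tabι inv s = 0 := by
      unfold tabι
      rw [List.getD_eq_getElem?_getD, List.getElem?_eq_none (by omega)]; rfl
    have h2 : gS g S s = 1 := by
      unfold gS
      rw [List.getD_eq_getElem?_getD, List.getElem?_eq_none hs]; rfl
    rw [h1, h2, inv_one]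
    unfold gS
    rw [hz]; rfl

/-- A word is a consequence of a trivial word: it reduces to a conjugate of it (or of its
inverse).  The certificate is `(index of the trivial word, inverse flag, conjugator)`;
an index out of range stands for the empty word. -/
def conseq (ι : ℕ → ℕ) (o : ℕ → Bool) (T : List (List ℕ)) (c : ℕ × Bool × List ℕ)
    (w : List ℕ) : Bool :=
  eqL (red ι o w) (red ι o (invW ι c.2.2 ++
    (cond c.2.1 (invW ι (T.getD c.1 [])) (T.getD c.1 []) ++ c.2.2)))

theorem conseq_sound (ι : ℕ → ℕ) (o : ℕ → Bool) (hι : ∀ s, g (ι s) = (g s)⁻¹)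
    (ho : ∀ c, o c = true → g c * g c = g (ι c)) (T : List (List ℕ))
    (hT : ∀ t ∈ T, prodL g t = 1) (c : ℕ × Bool × List ℕ) (w : List ℕ)
    (h : conseq ι o T c w = true) : prodL g w = 1 := by
  have ht : prodL g (T.getD c.1 []) = 1 := by
    rw [List.getD_eq_getElem?_getD]
    cases hx : T[c.1]? with
    | none => rfl
    | some v => exact hT v (List.mem_of_getElem? hx)
  rw [← prodL_red g ι o hι ho w, eq_of_eqL h, prodL_red g ι o hι ho, prodL_append, prodL_append,
    prodL_invW g ι hι]
  cases c.2.1 with
  | true => rw [cond_true, prodL_invW g ι hι, ht, inv_one, one_mul, inv_mul_cancel]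
  | false => rw [cond_false, ht, one_mul, inv_mul_cancel]

/-- all words of a list, after substitution, are consequences -/
def allConseq (ι : ℕ → ℕ) (o : ℕ → Bool) (T S : List (List ℕ)) :
    List (List ℕ) → List (ℕ × Bool × List ℕ) → Bool
  | [], _ => true
  | w :: ws, [] => and (conseq ι o T (T.length, false, []) (subst S w)) (allConseq ι o T S ws [])
  | w :: ws, c :: cs => and (conseq ι o T c (subst S w)) (allConseq ι o T S ws cs)

theorem allConseq_sound (ι : ℕ → ℕ) (o : ℕ → Bool) (hι : ∀ s, g (ι s) = (g s)⁻¹)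
    (ho : ∀ c, o c = true → g c * g c = g (ι c)) (T S : List (List ℕ))
    (hT : ∀ t ∈ T, prodL g t = 1) : ∀ (ws : List (List ℕ)) (cs : List (ℕ × Bool × List ℕ)),
    allConseq ι o T S ws cs = true → ∀ w ∈ ws, prodL (gS g S) w = 1 := by
  intro ws
  induction ws with
  | nil => intro cs _ w hw; simp at hw
  | cons w ws ih =>
    intro cs h v hv
    cases cs with
    | nil =>
      simp only [allConseq, Bool.and_eq_true] at h
      rcases List.mem_cons.mp hv with rfl | hv
      · rw [← prodL_subst]
        exact conseq_sound g ι o hι ho T hT _ _ h.1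
      · exact ih [] h.2 v hv
    | cons c cs =>
      simp only [allConseq, Bool.and_eq_true] at h
      rcases List.mem_cons.mp hv with rfl | hv
      · rw [← prodL_subst]
        exact conseq_sound g ι o hι ho T hT _ _ h.1
      · exact ih cs h.2 v hv

end

end Cfsg.Agent.Lib.WordSubst
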