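import Mathlib

/-!
# Bounding a subgroup by a point stabilizer and the number of points it reaches

`card_le_mul` : if `f : G → α` separates the right cosets of `H` and maps the subgroup `C` into the
finite set `Δ`, then `|C| ≤ |C ⊓ H| * |Δ|`.
`card_centralizer_le` : the version for the centralizer of an element `z` of a normal subgroup `Q`
of `H`, where `G` is a union of double cosets `H (r i) M`.
-/

set_option autoImplicit false

namespace Cfsg.Agent.Lib.CentralizerCount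

open Subgroup

variable {G α : Type*} [Group G]

theorem card_le_mul (C H : Subgroup G) [Finite (C ⊓ H : Subgroup G)] (f : G → α)
    (hf : ∀ a b, f a = f b → a * b⁻¹ ∈ H) (Δ : Finset α) (h : ∀ c ∈ C, f c ∈ Δ) :
    Nat.card C ≤ Nat.card (C ⊓ H : Subgroup G) * Δ.card := by
  classical
  let rep : Δ → G := fun d => if hd : ∃ c ∈ C, f c = d then hd.choose else 1
  have hrep : ∀ d : Δ, rep d ∈ C := by
    intro d
    by_cases hd : ∃ c ∈ C, f c = d
    · simp only [rep, dif_pos hd]; exact hd.choose_spec.1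
    · simp only [rep, dif_neg hd]; exact C.one_mem
  have hrep2 : ∀ c (hc : c ∈ C), f (rep ⟨f c, h c hc⟩) = f c := by
    intro c hc
    have hd : ∃ c' ∈ C, f c' = ((⟨f c, h c hc⟩ : Δ) : α) := ⟨c, hc, rfl⟩
    simp only [rep, dif_pos hd]
    exact hd.choose_spec.2
  let F : C → (C ⊓ H : Subgroup G) × Δ := fun c =>
    (⟨c.1 * (rep ⟨f c.1, h c.1 c.2⟩)⁻¹,
      ⟨C.mul_mem c.2 (C.inv_mem (hrep _)), hf _ _ (hrep2 c.1 c.2).symm⟩⟩, ⟨f c.1, h c.1 c.2⟩)
  have hF : Function.Injective F := by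
    intro a b hab
    have h2 : (⟨f a.1, h a.1 a.2⟩ : Δ) = ⟨f b.1, h b.1 b.2⟩ := congrArg Prod.snd hab
    have h1 : a.1 * (rep ⟨f a.1, h a.1 a.2⟩)⁻¹ = b.1 * (rep ⟨f b.1, h b.1 b.2⟩)⁻¹ :=
      congrArg Subtype.val (congrArg Prod.fst hab)
    rw [h2] at h1
    exact Subtype.ext (mul_right_cancel h1)
  have := Nat.card_le_card_of_injective F hF
  rwa [Nat.card_prod, Nat.card_eq_fintype_card (α := Δ), Fintype.card_coe] at this

/-- Upper bound for the order of the centralizer of `z`, from a decomposition of `G` into double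
cosets. -/
theorem card_centralizer_le {ι : Type*} (H Q M : Subgroup G) (z : G)
    [Finite (centralizer {z} ⊓ H : Subgroup G)]
    (hQ : ∀ h ∈ H, ∀ q ∈ Q, h * q * h⁻¹ ∈ Q) (hz : z ∈ Q) (r : ι → G)
    (hG : ∀ g : G, ∃ i, ∃ h ∈ H, ∃ m ∈ M, g = h * r i * m)
    (f : G → α) (hf : ∀ a b, f a = f b → a * b⁻¹ ∈ H) (hf' : ∀ h ∈ H, ∀ g, f (h * g) = f g)
    (Δ : Finset α)
    (hΔ : ∀ i, ∀ m ∈ M, r i * (m * z * m⁻¹) * (r i)⁻¹ ∈ Q → f (r i * m) ∈ Δ) :
    Nat.card (centralizer ({z} : Set G)) ≤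
      Nat.card (centralizer {z} ⊓ H : Subgroup G) * Δ.card := by
  apply card_le_mul _ H f hf
  intro c hc
  obtain ⟨i, h, hh, m, hm, rfl⟩ := hG c
  rw [mul_assoc, hf' h hh]
  apply hΔ i m hm
  have h1 : h * r i * m * z = z * (h * r i * m) := mem_centralizer_singleton_iff.mp hc
  have h2 : h * r i * m * z * (h * r i * m)⁻¹ = z := by rw [h1, mul_inv_cancel_right]
  have h3 : r i * (m * z * m⁻¹) * (r i)⁻¹ = h⁻¹ * (h * r i * m * z * (h * r i * m)⁻¹) * h⁻¹⁻¹ := by
    group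
  rw [h3, h2]
  exact hQ _ (H.inv_mem hh) _ hz

end Cfsg.Agent.Lib.CentralizerCount
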