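import Cfsg.Agent.Lib.PermNet

/-!
The set of points moved by a word of networks, as a bit mask computed by the kernel.
-/

set_option autoImplicit false

namespace Cfsg.Agent.Lib.PermNetFix

open Cfsg.Agent.Lib.PermNet

/-- the points below `2^k` on which the word `w` changes one of the bits `b < m` -/
noncomputable def movedAux (k : ℕ) (w : List Net) (m : ℕ) : ℕ :=
  Nat.rec (motive := fun _ => ℕ) 0
    (fun b ih => seq (appWord w (plane k b)) fun x => Nat.lor (Nat.xor x (plane k b)) ih) m

/-- the points below `2^k` moved by the word `w` -/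
noncomputable def moved (k : ℕ) (w : List Net) : ℕ := movedAux k w k

theorem movedAux_succ (k : ℕ) (w : List Net) (m : ℕ) :
    movedAux k w (m + 1) = (appWord w (plane k m) ^^^ plane k m) ||| movedAux k w m := by
  show seq (appWord w (plane k m)) (fun x => Nat.lor (Nat.xor x (plane k m)) (movedAux k w m)) = _
  rw [seq_eq]
  rfl

theorem testBit_movedAux {k : ℕ} {w : List Net} (hw : WOk (2 ^ k) w) (m p : ℕ) :
    (movedAux k w m).testBit p = true ↔
      ∃ b < m, (plane k b).testBit (wperm w p) ≠ (plane k b).testBit p := by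
  induction m with
  | zero =>
    show (0 : ℕ).testBit p = true ↔ _
    simp
  | succ m ih =>
    rw [movedAux_succ, Nat.testBit_or, Bool.or_eq_true, ih, Nat.testBit_xor, testBit_appWord hw]
    constructor
    · rintro (h | ⟨b, hb, h⟩)
      · refine ⟨m, Nat.lt_succ_self m, ?_⟩
        intro h'
        rw [h'] at h
        simp at h
      · exact ⟨b, by omega, h⟩
    · rintro ⟨b, hb, h⟩
      rcases Nat.lt_succ_iff_lt_or_eq.1 hb with hb | rfl
      · exact Or.inr ⟨b, hb, h⟩
      · left
        revert h
        cases (plane k b).testBit (wperm w p) <;> cases (plane k b).testBit p <;> simp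

theorem testBit_moved {k : ℕ} {w : List Net} (hw : WOk (2 ^ k) w) {p : ℕ} (hp : p < 2 ^ k) :
    (moved k w).testBit p = true ↔ wperm w p ≠ p := by
  unfold moved
  rw [testBit_movedAux hw]
  have hq := wperm_lt hw hp
  constructor
  · rintro ⟨b, hb, h⟩ h'
    exact h (by rw [h'])
  · intro h
    by_contra hcon
    push Not at hcon
    apply h
    apply Nat.eq_of_testBit_eq
    intro b
    by_cases hb : b < k
    · have := hcon b hb
      rwa [testBit_plane k b _ hq hb, testBit_plane k b _ hp hb] at this
    · have hk : 2 ^ k ≤ 2 ^ b := Nat.pow_le_pow_right (by norm_num) (by omega)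
      rw [Nat.testBit_lt_two_pow (lt_of_lt_of_le hq hk), Nat.testBit_lt_two_pow (lt_of_lt_of_le hp hk)]

theorem testBit_moved_false {k : ℕ} {w : List Net} (hw : WOk (2 ^ k) w) {p : ℕ} (hp : p < 2 ^ k) :
    (moved k w).testBit p = false ↔ wperm w p = p := by
  rw [← Bool.not_eq_true, testBit_moved hw hp, not_not]

/-- every point moved by `w` is moved by `w'` -/
noncomputable def subB (k : ℕ) (w w' : List Net) : Bool :=
  seqB (moved k w) fun x => seqB (moved k w') fun y => Nat.beq (Nat.land x y) x

theorem fixed_of_subB {k : ℕ} {w w' : List Net} (hw : WOk (2 ^ k) w) (hw' : WOk (2 ^ k) w')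
    (h : subB k w w' = true) {p : ℕ} (hp : p < 2 ^ k) (h' : wperm w' p = p) : wperm w p = p := by
  unfold subB at h
  rw [seqB_eq, seqB_eq] at h
  have h1 : moved k w &&& moved k w' = moved k w := Nat.eq_of_beq_eq_true h
  rw [← testBit_moved_false hw hp, ← h1, Nat.testBit_and, (testBit_moved_false hw' hp).2 h',
    Bool.and_false]

/-- the points below `2^k` moved by one of the words -/
noncomputable def movedL (k : ℕ) (ws : List (List Net)) : ℕ :=
  List.rec (motive := fun _ => ℕ) 0
    (fun w _ ih => seq (moved k w) fun x => Nat.lor x ih) ws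

theorem movedL_cons (k : ℕ) (w : List Net) (ws : List (List Net)) :
    movedL k (w :: ws) = moved k w ||| movedL k ws := by
  show seq (moved k w) (fun x => Nat.lor x (movedL k ws)) = _
  rw [seq_eq]
  rfl

theorem testBit_movedL_false {k : ℕ} {ws : List (List Net)} (hws : ∀ w ∈ ws, WOk (2 ^ k) w) {p : ℕ}
    (hp : p < 2 ^ k) : (movedL k ws).testBit p = false ↔ ∀ w ∈ ws, wperm w p = p := by
  induction ws with
  | nil =>
    show (0 : ℕ).testBit p = false ↔ _
    simp
  | cons w ws ih =>
    rw [movedL_cons, Nat.testBit_or, Bool.or_eq_false_iff,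
      testBit_moved_false (hws w List.mem_cons_self) hp, ih (fun w hw => hws w (List.mem_cons_of_mem _ hw))]
    simp

end Cfsg.Agent.Lib.PermNetFix
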