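import Mathlib

/-!
# Transitivity on frames by counting

`D` a conjugation invariant set of a finite group `X`, `s 0, …, s (m-1)` different elements of `D` with trivial
centralizer. If for every `k` the number of `q ∈ D`, `q ≠ s i`, with the same commuting pattern with the `s i`
(`i < k`) as `s k` is at most `N k` and `∏ N k ≤ |X|`, then all `m`-tuples of `D` with the commuting pattern of `s` are
conjugate.
-/

set_option autoImplicit false

namespace Cfsg.Agent.Lib.ClassFrame

open Subgroup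

variable {X : Type*} [Group X]

/-- the candidates for the `k`-th element -/
def cand (D : Set X) (s : ℕ → X) (k : ℕ) : Set X :=
  {q | q ∈ D ∧ ∀ i < k, (Commute (s i) q ↔ Commute (s i) (s k)) ∧ q ≠ s i}

/-- the centralizer of `s 0, …, s (k-1)` -/
def St (s : ℕ → X) (k : ℕ) : Subgroup X where
  carrier := {g | ∀ i < k, g * s i = s i * g}
  mul_mem' {a b} ha hb i hi := by rw [mul_assoc, hb i hi, ← mul_assoc, ha i hi, mul_assoc]
  one_mem' i _ := by rw [one_mul, mul_one]
  inv_mem' {a} ha i hi := by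
    have h := ha i hi
    calc a⁻¹ * s i = a⁻¹ * (s i * a) * a⁻¹ := by group
      _ = a⁻¹ * (a * s i) * a⁻¹ := by rw [h]
      _ = s i * a⁻¹ := by group

theorem mem_St {s : ℕ → X} {k : ℕ} {g : X} : g ∈ St s k ↔ ∀ i < k, g * s i = s i * g := Iff.rfl

theorem St_succ_le (s : ℕ → X) (k : ℕ) : St s (k + 1) ≤ St s k :=
  fun _ hg i hi => hg i (Nat.lt_succ_of_lt hi)

theorem St_zero (s : ℕ → X) : St s 0 = ⊤ := by
  rw [eq_top_iff]
  intro g _ i hi
  omega

/-- the orbit of `s k` under `St s k` -/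
def orb (s : ℕ → X) (k : ℕ) : Set X := {q | ∃ g ∈ St s k, q = g * s k * g⁻¹}

theorem conj_commute {g a b : X} : Commute (g * a * g⁻¹) (g * b * g⁻¹) ↔ Commute a b := by
  unfold Commute SemiconjBy
  constructor
  · intro h
    have h1 : g * a * g⁻¹ * (g * b * g⁻¹) = g * (a * b) * g⁻¹ := by group
    have h2 : g * b * g⁻¹ * (g * a * g⁻¹) = g * (b * a) * g⁻¹ := by group
    rw [h1, h2] at h
    exact mul_left_cancel (mul_right_cancel h)
  · intro h
    have h1 : g * a * g⁻¹ * (g * b * g⁻¹) = g * (a * b) * g⁻¹ := by group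
    have h2 : g * b * g⁻¹ * (g * a * g⁻¹) = g * (b * a) * g⁻¹ := by group
    rw [h1, h2, h]

theorem conj_self {s : ℕ → X} {k i : ℕ} {g : X} (hg : g ∈ St s k) (hi : i < k) : g * s i * g⁻¹ = s i := by
  rw [hg i hi]; group

theorem orb_subset_cand {D : Set X} (hD : ∀ g x, x ∈ D → g * x * g⁻¹ ∈ D) {s : ℕ → X} {k : ℕ}
    (hk : s k ∈ D) (hne : ∀ i < k, s k ≠ s i) : orb s k ⊆ cand D s k := by
  rintro _ ⟨g, hg, rfl⟩
  refine ⟨hD g _ hk, fun i hi => ⟨?_, ?_⟩⟩
  · conv_lhs => rw [← conj_self hg hi]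
    exact conj_commute
  · intro h
    apply hne i hi
    rw [← conj_self hg hi] at h
    exact mul_left_cancel (mul_right_cancel h)

theorem relIndex_eq (s : ℕ → X) (k : ℕ) : (St s (k + 1)).relIndex (St s k) = (orb s k).ncard := by
  have key : ∀ a b : St s k, (a : X) * s k * (a : X)⁻¹ = (b : X) * s k * (b : X)⁻¹ ↔
      a⁻¹ * b ∈ (St s (k + 1)).subgroupOf (St s k) := by
    intro a b
    rw [mem_subgroupOf]
    have h1 : ((a⁻¹ * b : St s k) : X) = (a : X)⁻¹ * b := rfl
    rw [h1]
    constructor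
    · intro h i hi
      rcases Nat.lt_succ_iff_lt_or_eq.1 hi with hi | rfl
      · exact (St s k).mul_mem ((St s k).inv_mem a.2) b.2 i hi
      · calc (a : X)⁻¹ * b * s i = (a : X)⁻¹ * (b * s i * (b : X)⁻¹) * b := by group
          _ = (a : X)⁻¹ * (a * s i * (a : X)⁻¹) * b := by rw [h]
          _ = _ := by group
    · intro h
      have h2 := h k (Nat.lt_succ_self k)
      calc (a : X) * s k * (a : X)⁻¹ = a * (s k * ((a : X)⁻¹ * b)) * (b : X)⁻¹ := by group
        _ = a * ((a : X)⁻¹ * b * s k) * (b : X)⁻¹ := by rw [h2]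
        _ = _ := by group
  let f : (St s k) ⧸ (St s (k + 1)).subgroupOf (St s k) → orb s k :=
    Quotient.lift (fun g : St s k => (⟨(g : X) * s k * (g : X)⁻¹, g, g.2, rfl⟩ : orb s k)) (by
      intro a b hab
      exact Subtype.ext ((key a b).2 (QuotientGroup.leftRel_apply.1 hab)))
  have hf : Function.Bijective f := by
    constructor
    · intro x y
      refine Quotient.inductionOn₂ x y ?_
      intro a b hab
      apply Quotient.sound
      exact QuotientGroup.leftRel_apply.2 ((key a b).1 (congrArg Subtype.val hab))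
    · rintro ⟨_, g, hg, rfl⟩
      exact ⟨Quotient.mk _ ⟨g, hg⟩, rfl⟩
  unfold relIndex index
  rw [Nat.card_congr (Equiv.ofBijective f hf)]
  rfl

theorem card_eq_prod [Finite X] (s : ℕ → X) (m : ℕ) :
    Nat.card X = (∏ k ∈ Finset.range m, (orb s k).ncard) * Nat.card (St s m) := by
  induction m with
  | zero => rw [Finset.prod_range_zero, one_mul, St_zero, card_top]
  | succ m ih =>
    rw [ih, Finset.prod_range_succ, ← relIndex_eq, mul_assoc]
    congr 1
    rw [mul_comm, ← card_mul_relIndex_of_le (St_succ_le s m)]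
  where
  card_mul_relIndex_of_le {H K : Subgroup X} (h : H ≤ K) : Nat.card H * H.relIndex K = Nat.card K := by
    have h1 := Subgroup.card_mul_index (H.subgroupOf K)
    rw [Nat.card_congr (subgroupOfEquivOfLe h).toEquiv] at h1
    exact h1

variable [Finite X] {D : Set X} {s : ℕ → X} {m : ℕ} {N : ℕ → ℕ}

/-- the orbits consist of all the candidates -/
theorem orb_eq (hD : ∀ g x, x ∈ D → g * x * g⁻¹ ∈ D) (hs : ∀ k < m, s k ∈ D)
    (hne : ∀ k < m, ∀ i < k, s k ≠ s i) (hN : ∀ k < m, (cand D s k).ncard ≤ N k)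
    (hcard : ∏ k ∈ Finset.range m, N k ≤ Nat.card X) (htriv : ∀ g : X, (∀ i < m, g * s i = s i * g) → g = 1) :
    ∀ k < m, orb s k = cand D s k := by
  have hle : ∀ k < m, (orb s k).ncard ≤ (cand D s k).ncard := fun k hk =>
    Set.ncard_le_ncard (orb_subset_cand hD (hs k hk) (hne k hk)) (Set.toFinite _)
  have hpos : ∀ k, 0 < (orb s k).ncard := fun k => by
    rw [Set.ncard_pos (Set.toFinite _)]
    exact ⟨s k, 1, (St s k).one_mem, by group⟩
  have hSt : Nat.card (St s m) = 1 := by
    rw [Subgroup.card_eq_one, eq_bot_iff]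
    intro g hg
    exact htriv g hg
  have h1 := card_eq_prod s m
  rw [hSt, mul_one] at h1
  intro k hk
  apply Set.eq_of_subset_of_ncard_le (orb_subset_cand hD (hs k hk) (hne k hk)) _ (Set.toFinite _)
  by_contra hlt
  push Not at hlt
  have h2 : ∏ k ∈ Finset.range m, (orb s k).ncard < ∏ k ∈ Finset.range m, N k := by
    apply Finset.prod_lt_prod (fun i _ => hpos i)
    · intro i hi
      rw [Finset.mem_range] at hi
      exact (hle i hi).trans (hN i hi)
    · exact ⟨k, Finset.mem_range.2 hk, lt_of_lt_of_le hlt (hN k hk)⟩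
  omega

/-- all tuples with the pattern of `s` are conjugate -/
theorem exists_conj (hD : ∀ g x, x ∈ D → g * x * g⁻¹ ∈ D)
    (horb : ∀ k < m, orb s k = cand D s k) (t : ℕ → X) (ht : ∀ k < m, t k ∈ D)
    (hne : ∀ k < m, ∀ i < k, t k ≠ t i)
    (hpat : ∀ k < m, ∀ i < k, Commute (t i) (t k) ↔ Commute (s i) (s k)) :
    ∃ g : X, ∀ k < m, t k = g * s k * g⁻¹ := by
  have key : ∀ n ≤ m, ∃ g : X, ∀ k < n, t k = g * s k * g⁻¹ := by
    intro n
    induction n with
    | zero => intro _; exact ⟨1, fun k hk => by omega⟩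
    | succ n ih =>
      intro hn
      obtain ⟨g, hg⟩ := ih (by omega)
      have h1 : g⁻¹ * t n * g ∈ cand D s n := by
        refine ⟨by simpa using hD g⁻¹ _ (ht n hn), fun i hi => ⟨?_, ?_⟩⟩
        · rw [← hpat n hn i hi, hg i hi, ← conj_commute (g := g)]
          rw [show g * (g⁻¹ * t n * g) * g⁻¹ = t n by group]
        · intro h2
          apply hne n hn i hi
          rw [hg i hi, ← h2]; group
      rw [← horb n hn] at h1
      obtain ⟨h, hh, h2⟩ := h1
      refine ⟨g * h, fun k hk => ?_⟩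
      rcases Nat.lt_succ_iff_lt_or_eq.1 hk with hk | rfl
      · rw [hg k hk]
        have h3 := conj_self hh hk
        calc g * s k * g⁻¹ = g * (h * s k * h⁻¹) * g⁻¹ := by rw [h3]
          _ = _ := by group
      · calc t k = g * (g⁻¹ * t k * g) * g⁻¹ := by group
          _ = g * (h * s k * h⁻¹) * g⁻¹ := by rw [h2]
          _ = _ := by group
  exact key m le_rfl

/-- an automorphism preserving `D` is inner if the `s i` generate -/
theorem inner (hD : ∀ g x, x ∈ D → g * x * g⁻¹ ∈ D) (hs : ∀ k < m, s k ∈ D)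
    (horb : ∀ k < m, orb s k = cand D s k) (hne : ∀ k < m, ∀ i < k, s k ≠ s i)
    (hgen : closure {x | ∃ k < m, x = s k} = ⊤) (α : MulAut X) (hα : ∀ x ∈ D, α x ∈ D) :
    ∃ g : X, α = MulAut.conj g := by
  obtain ⟨g, hg⟩ := exists_conj hD horb (fun k => α (s k)) (fun k hk => hα _ (hs k hk))
    (fun k hk i hi h => hne k hk i hi (α.injective h)) (fun k hk i hi => by
      constructor
      · intro h
        have : α (s i * s k) = α (s k * s i) := by rw [map_mul, map_mul]; exact h
        exact α.injective this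
      · intro h
        show α (s i) * α (s k) = α (s k) * α (s i)
        rw [← map_mul, h.eq, map_mul])
  refine ⟨g, ?_⟩
  have h1 : Set.EqOn α.toMonoidHom (MulAut.conj g).toMonoidHom (closure {x | ∃ k < m, x = s k}) := by
    apply MonoidHom.eqOn_closure
    rintro _ ⟨k, hk, rfl⟩
    exact hg k hk
  ext x
  exact h1 (by rw [hgen]; exact mem_top x)

end Cfsg.Agent.Lib.ClassFrame
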