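import Mathlib
import Cfsg.Agent.J2Sylow.Functor
import Cfsg.Agent.TwoFusion.StronglyEmbeddedBasic

/-!
# The end of the signalizer functor argument with at least two classes of involutions

`M` contains `N(S)` and the centralisers of some involutions `z ∈ Z` such that every involution of `S` is
`M`-conjugate to a member of `Z`. If two involutions of `G` are not conjugate, `M = G`; for `M = N_G(W)`, `W` of odd
order and `G` simple, `W = 1`.
-/

set_option autoImplicit false

namespace Cfsg.Agent.Lib.TwoClassEnd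

open Subgroup Cfsg
open Cfsg.Agent.TwoFusion.StronglyEmbeddedBasic

variable {G : Type*} [Group G] [Finite G]

omit [Finite G] in
theorem centralizer_conj_le {M : Subgroup G} {z m : G} (hm : m ∈ M)
    (hz : centralizer ({z} : Set G) ≤ M) : centralizer ({m * z * m⁻¹} : Set G) ≤ M := by
  intro x hx
  rw [mem_centralizer_singleton_iff] at hx
  have h1 : m⁻¹ * x * m ∈ centralizer ({z} : Set G) := by
    rw [mem_centralizer_singleton_iff]
    calc m⁻¹ * x * m * z = m⁻¹ * (x * (m * z * m⁻¹)) * m := by group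
      _ = m⁻¹ * ((m * z * m⁻¹) * x) * m := by rw [hx]
      _ = z * (m⁻¹ * x * m) := by group
  have h2 := M.mul_mem (M.mul_mem hm (hz h1)) (M.inv_mem hm)
  have h3 : m * (m⁻¹ * x * m) * m⁻¹ = x := by group
  rwa [h3] at h2

/-- If `M ≥ N(S)` contains the centralisers of all `z ∈ Z` and every involution of `S` is `M`-conjugate into `Z`, then
`M = G` or all involutions of `G` are conjugate. -/
theorem eq_top_or (S : Sylow 2 G) (hS : (S : Subgroup G) ≠ ⊥) {M : Subgroup G}
    (hN : normalizer ((S : Subgroup G) : Set G) ≤ M) (Z : Set G)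
    (hZ : ∀ z ∈ Z, centralizer ({z} : Set G) ≤ M)
    (hfus : ∀ v ∈ (S : Subgroup G), orderOf v = 2 → ∃ z ∈ Z, ∃ m ∈ M, m * z * m⁻¹ = v) :
    M = ⊤ ∨ ∀ a b : G, orderOf a = 2 → orderOf b = 2 → IsConj a b := by
  rcases J2Sylow.Functor.crit S hS hN (fun t ht h2 => by
    obtain ⟨z, hz, m, hm, rfl⟩ := hfus t ht h2
    exact centralizer_conj_le hm (hZ z hz)) with h | h
  · exact Or.inl h
  · exact Or.inr fun a b ha hb => isConj_of_involutions h a b ha hb

/-- two classes: `M = G` -/
theorem eq_top (S : Sylow 2 G) {M : Subgroup G} (hN : normalizer ((S : Subgroup G) : Set G) ≤ M) (Z : Set G)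
    (hZ : ∀ z ∈ Z, centralizer ({z} : Set G) ≤ M)
    (hfus : ∀ v ∈ (S : Subgroup G), orderOf v = 2 → ∃ z ∈ Z, ∃ m ∈ M, m * z * m⁻¹ = v)
    {a b : G} (ha : orderOf a = 2) (hb : orderOf b = 2) (hab : ¬ IsConj a b) : M = ⊤ := by
  haveI : Fact (Nat.Prime 2) := ⟨Nat.prime_two⟩
  have hS : (S : Subgroup G) ≠ ⊥ := by
    intro h
    have h1 : 2 ∣ Nat.card G := ha ▸ orderOf_dvd_natCard a
    exact S.ne_bot_of_dvd_card h1 h
  exact (eq_top_or S hS hN Z hZ hfus).resolve_right fun h => hab (h a b ha hb)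

/-- `G` simple, `W` of odd order: if `N(W)` contains `N(S)`, the centralisers of the members of `Z`, and fuses the
involutions of `S` into `Z`, and `G` has two nonconjugate involutions, then `W = 1`. -/
theorem eq_bot [IsSimpleGroup G] (S : Sylow 2 G) {W : Subgroup G} (hW : ¬ 2 ∣ Nat.card W)
    (hN : normalizer ((S : Subgroup G) : Set G) ≤ normalizer (W : Set G)) (Z : Set G)
    (hZ : ∀ z ∈ Z, centralizer ({z} : Set G) ≤ normalizer (W : Set G))
    (hfus : ∀ v ∈ (S : Subgroup G), orderOf v = 2 →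
      ∃ z ∈ Z, ∃ m ∈ normalizer (W : Set G), m * z * m⁻¹ = v)
    {a b : G} (ha : orderOf a = 2) (hb : orderOf b = 2) (hab : ¬ IsConj a b) : W = ⊥ := by
  have h := eq_top S hN Z hZ hfus ha hb hab
  have hn : W.Normal := normalizer_eq_top_iff.1 h
  rcases hn.eq_bot_or_eq_top with h1 | h1
  · exact h1
  · exfalso
    apply hW
    rw [h1, card_top, ← ha]
    exact orderOf_dvd_natCard a

/-- the same with one strongly embedded alternative: `G` simple without strongly embedded subgroup -/
theorem eq_bot_of_no_strong [IsSimpleGroup G] (hG : ¬ ∃ H : Subgroup G, IsStronglyEmbedded H)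
    (h2 : 2 ∣ Nat.card G) (S : Sylow 2 G) {W : Subgroup G} (hW : ¬ 2 ∣ Nat.card W)
    (hN : normalizer ((S : Subgroup G) : Set G) ≤ normalizer (W : Set G)) (Z : Set G)
    (hZ : ∀ z ∈ Z, centralizer ({z} : Set G) ≤ normalizer (W : Set G))
    (hfus : ∀ v ∈ (S : Subgroup G), orderOf v = 2 →
      ∃ z ∈ Z, ∃ m ∈ normalizer (W : Set G), m * z * m⁻¹ = v) : W = ⊥ := by
  haveI : Fact (Nat.Prime 2) := ⟨Nat.prime_two⟩
  have hS : (S : Subgroup G) ≠ ⊥ := S.ne_bot_of_dvd_card h2
  rcases J2Sylow.Functor.crit S hS hN (fun t ht h2 => by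
    obtain ⟨z, hz, m, hm, rfl⟩ := hfus t ht h2
    exact centralizer_conj_le hm (hZ z hz)) with h | h
  · have hn : W.Normal := normalizer_eq_top_iff.1 h
    rcases hn.eq_bot_or_eq_top with h1 | h1
    · exact h1
    · exfalso
      apply hW
      rw [h1, card_top]
      exact h2
  · exact absurd ⟨_, h⟩ hG

end Cfsg.Agent.Lib.TwoClassEnd
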