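import Mathlib.GroupTheory.Transfer
import Mathlib.GroupTheory.Complement
import Mathlib.GroupTheory.Sylow
import Mathlib.GroupTheory.FixedPointFree
import Mathlib.GroupTheory.GroupAction.ConjAct
import Mathlib.Algebra.Group.Subgroup.Pointwise

/-!
* An abelian subgroup `B` with `B ∩ Bᵍ = 1` for all `g ∉ B` has a normal complement
  (Frobenius' theorem for an abelian complement, by transfer).
* A fixed-point-free automorphism of a finite group fixes exactly one Sylow `p`-subgroup.
-/

set_option autoImplicit false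

namespace Cfsg.Agent.Lib.AbelianFrobenius

open Subgroup MulAction
open scoped Pointwise

open scoped IsMulCommutative in
/-- The transfer into an abelian malnormal subgroup is the identity on that subgroup. -/
theorem transfer_eq_self {G : Type*} [Group G] (B : Subgroup G) [B.FiniteIndex]
    [IsMulCommutative B] (hmal : ∀ g : G, g ∉ B → ∀ x ∈ B, g⁻¹ * x * g ∈ B → x = 1) (b : B) :
    MonoidHom.transfer (MonoidHom.id B) (b : G) = b := by
  classical
  have := Fintype.ofFinite (Quotient (orbitRel (zpowers (b : G)) (G ⧸ B)))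
  rw [MonoidHom.transfer_eq_prod_quotient_orbitRel_zpowers_quot]
  -- the orbit of the trivial coset
  let q₀ : Quotient (orbitRel (zpowers (b : G)) (G ⧸ B)) := Quotient.mk'' ((1 : G) : G ⧸ B)
  have hb1 : ∀ c : zpowers (b : G), c • ((1 : G) : G ⧸ B) = ((1 : G) : G ⧸ B) := by
    rintro ⟨c, hc⟩
    have hcB : c ∈ B := (zpowers_le.mpr b.2) hc
    change ((c * 1 : G) : G ⧸ B) = _
    rw [mul_one]
    apply QuotientGroup.eq.mpr
    simpa using hcB
  have hout : q₀.out = ((1 : G) : G ⧸ B) := by
    have h1 : orbitRel (zpowers (b : G)) (G ⧸ B) q₀.out ((1 : G) : G ⧸ B) :=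
      Quotient.exact' (Quotient.out_eq' q₀)
    obtain ⟨c, hc⟩ := h1
    rw [← hc]
    exact hb1 c
  have hne : ∀ q : Quotient (orbitRel (zpowers (b : G)) (G ⧸ B)), q ≠ q₀ → q.out.out ∉ B := by
    intro q hq hB
    apply hq
    have h1 : q.out = ((1 : G) : G ⧸ B) := by
      rw [← Quotient.out_eq' q.out]
      apply QuotientGroup.eq.mpr
      simpa using hB
    rw [← Quotient.out_eq' q, h1]
  rw [Finset.prod_eq_single q₀]
  · -- the main term
    have hper : Function.minimalPeriod ((b : G) • ·) q₀.out = 1 := by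
      rw [hout, Function.minimalPeriod_eq_one_iff_isFixedPt]
      exact hb1 ⟨b, mem_zpowers _⟩
    have hmem : q₀.out.out ∈ B := by
      have h1 : ((q₀.out.out : G) : G ⧸ B) = ((1 : G) : G ⧸ B) := by
        rw [QuotientGroup.out_eq', hout]
      have h2 := QuotientGroup.eq.mp h1
      simpa using h2
    apply Subtype.ext
    simp only [MonoidHom.id_apply, hper, pow_one]
    have h3 := mul_comm (⟨_, hmem⟩ : B) b
    have h4 := congrArg (fun x : B => (x : G)) h3
    simp only [coe_mul] at h4
    rw [mul_assoc, ← h4, inv_mul_cancel_left]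
  · intro q _ hq
    apply Subtype.ext
    simp only [MonoidHom.id_apply, coe_one]
    have h1 := QuotientGroup.out_conj_pow_minimalPeriod_mem B (b : G) q.out
    have h2 := hmal _ (hne q hq) _ (pow_mem b.2 _) h1
    rw [h2, mul_one, inv_mul_cancel]
  · intro h
    exact absurd (Finset.mem_univ _) h

open scoped IsMulCommutative in
/-- Frobenius' theorem for an abelian complement: an abelian subgroup `B` of finite index with
`B ∩ gBg⁻¹ = 1` for all `g ∉ B` has a normal complement. -/
theorem exists_normal_isComplement' {G : Type*} [Group G] (B : Subgroup G) [B.FiniteIndex]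
    [IsMulCommutative B] (hmal : ∀ g : G, g ∉ B → ∀ x ∈ B, g⁻¹ * x * g ∈ B → x = 1) :
    ∃ K : Subgroup G, K.Normal ∧ IsComplement' K B := by
  let f : G →* B := MonoidHom.transfer (MonoidHom.id B)
  have hf : ∀ b : B, f (b : G) = b := fun b => transfer_eq_self B hmal b
  refine ⟨f.ker, inferInstance, ?_⟩
  apply isComplement'_of_disjoint_and_mul_eq_univ
  · rw [disjoint_iff, eq_bot_iff]
    rintro x ⟨hx, hxB⟩
    have h1 := hf ⟨x, hxB⟩
    have h2 : f x = 1 := hx
    rw [mem_bot]
    have h3 : (⟨x, hxB⟩ : B) = 1 := h1.symm.trans h2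
    simpa using congrArg (fun x : B => (x : G)) h3
  · rw [Set.eq_univ_iff_forall]
    intro g
    refine Set.mem_mul.mpr ⟨g * (f g : G)⁻¹, ?_, (f g : G), (f g).2, by group⟩
    change f _ = 1
    rw [map_mul, map_inv, hf, mul_inv_cancel]

/-- If the automorphism `φ` of the finite group `K` is fixed point free, every element `k` is of
the form `l⁻¹ * φ l`. -/
theorem exists_inv_mul_eq {K : Type*} [Group K] [Finite K] (φ : K ≃* K)
    (hφ : ∀ k, φ k = k → k = 1) (k : K) : ∃ l : K, l⁻¹ * φ l = k := by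
  have h : MonoidHom.FixedPointFree φ := hφ
  obtain ⟨g, hg⟩ := h.commutatorMap_surjective k
  refine ⟨g⁻¹, ?_⟩
  rw [← hg]
  simp [div_eq_mul_inv]

/-- `l ↦ l⁻¹ * φ l` is injective for a fixed-point-free automorphism. -/
theorem inv_mul_injective {K : Type*} [Group K] (φ : K ≃* K)
    (hφ : ∀ k, φ k = k → k = 1) {k l : K} (h : k⁻¹ * φ k = l⁻¹ * φ l) : k = l := by
  have h1 : φ (k * l⁻¹) = k * l⁻¹ := by
    rw [map_mul, map_inv]
    have h2 : φ k = k * (l⁻¹ * φ l) := by rw [← h]; group
    rw [h2]; group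
  have h2 := hφ _ h1
  exact mul_inv_eq_one.mp h2

/-- A fixed-point-free automorphism of a finite group fixes a Sylow `p`-subgroup. -/
theorem exists_sylow_smul_eq {K : Type*} [Group K] [Finite K] {p : ℕ} [Fact p.Prime]
    (φ : MulAut K) (hφ : ∀ k, φ k = k → k = 1) : ∃ P : Sylow p K, φ • P = P := by
  let P₀ : Sylow p K := default
  obtain ⟨k, hk⟩ := MulAction.exists_smul_eq K P₀ (φ • P₀)
  obtain ⟨l, hl⟩ := exists_inv_mul_eq φ hφ k⁻¹
  refine ⟨l • P₀, ?_⟩
  have h1 : φ * MulAut.conj l = MulAut.conj (φ l) * φ := by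
    ext x
    simp [MulAut.mul_apply]
  have h2 : φ l * k = l := by
    have : φ l = l * k⁻¹ := by rw [← hl]; group
    rw [this]; group
  calc φ • l • P₀ = (φ * MulAut.conj l) • P₀ := by rw [Sylow.smul_def, mul_smul]
    _ = (MulAut.conj (φ l) * φ) • P₀ := by rw [h1]
    _ = φ l • (φ • P₀) := by rw [Sylow.smul_def, mul_smul]
    _ = φ l • (k • P₀) := by rw [hk]
    _ = (φ l * k) • P₀ := by rw [mul_smul]
    _ = l • P₀ := by rw [h2]

/-- A fixed-point-free automorphism of a finite group fixes at most one Sylow `p`-subgroup. -/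
theorem sylow_eq_of_smul_eq {K : Type*} [Group K] [Finite K] {p : ℕ} [Fact p.Prime]
    (φ : MulAut K) (hφ : ∀ k, φ k = k → k = 1) {P Q : Sylow p K} (hP : φ • P = P)
    (hQ : φ • Q = Q) : P = Q := by
  obtain ⟨k, rfl⟩ := MulAction.exists_smul_eq K P Q
  have h1 : ∀ l : K, φ * MulAut.conj l = MulAut.conj (φ l) * φ := by
    intro l
    ext x
    simp [MulAut.mul_apply]
  have h2 : φ k • P = k • P := by
    calc φ k • P = φ k • (φ • P) := by rw [hP]
      _ = (MulAut.conj (φ k) * φ) • P := by rw [mul_smul, Sylow.smul_def]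
      _ = (φ * MulAut.conj k) • P := by rw [h1]
      _ = φ • (k • P) := by rw [mul_smul, Sylow.smul_def]
      _ = k • P := hQ
  have h3 : (k⁻¹ * φ k) • P = P := by rw [mul_smul, h2, inv_smul_smul]
  have h4 : k⁻¹ * φ k ∈ stabilizer K P := h3
  -- `φ` preserves the stabilizer
  have h5 : ∀ l : K, l ∈ stabilizer K P → φ l ∈ stabilizer K P := by
    intro l hl
    rw [mem_stabilizer_iff] at hl ⊢
    calc φ l • P = φ l • (φ • P) := by rw [hP]
      _ = (MulAut.conj (φ l) * φ) • P := by rw [mul_smul, Sylow.smul_def]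
      _ = (φ * MulAut.conj l) • P := by rw [h1]
      _ = φ • (l • P) := by rw [mul_smul, Sylow.smul_def]
      _ = P := by rw [hl, hP]
  -- the map `l ↦ l⁻¹ * φ l` on the stabilizer is injective, hence surjective
  let F : stabilizer K P → stabilizer K P := fun l => ⟨(l : K)⁻¹ * φ l,
    mul_mem (inv_mem l.2) (h5 _ l.2)⟩
  have hF : Function.Injective F := by
    intro a b hab
    exact Subtype.ext (inv_mul_injective φ hφ (congrArg Subtype.val hab))
  obtain ⟨l, hl⟩ := (Finite.surjective_of_injective hF) ⟨_, h4⟩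
  have h6 : (l : K) = k := inv_mul_injective φ hφ (congrArg Subtype.val hl)
  have h7 : k ∈ stabilizer K P := h6 ▸ l.2
  exact (mem_stabilizer_iff.mp h7).symm

/-- Let the finite normal subgroup `K` be acted on by the abelian group `A`, and let `b ∈ A` act
fixed point freely.  Then some Sylow `p`-subgroup of `K` is `A`-invariant. -/
theorem exists_sylow_le_normalizer {G : Type*} [Group G] (K A : Subgroup G) [Finite K] [K.Normal]
    {p : ℕ} [Fact p.Prime] (b : G) (hbA : ∀ a ∈ A, a * b = b * a)
    (hfix : ∀ k ∈ K, b * k = k * b → k = 1) :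
    ∃ P : Sylow p K, A ≤ normalizer (((P : Subgroup K).map K.subtype : Subgroup G) : Set G) := by
  have hφ : ∀ k : K, (MulAut.conjNormal b : MulAut K) k = k → k = 1 := by
    intro k hk
    have h1 := congrArg (fun x : K => (x : G)) hk
    simp only [MulAut.conjNormal_apply] at h1
    apply Subtype.ext
    apply hfix _ k.2
    exact mul_inv_eq_iff_eq_mul.mp h1
  obtain ⟨P, hP⟩ := exists_sylow_smul_eq (p := p) _ hφ
  refine ⟨P, fun a ha => ?_⟩
  have h1 : (MulAut.conjNormal b : MulAut K) • ((MulAut.conjNormal a : MulAut K) • P) =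
      (MulAut.conjNormal a : MulAut K) • P := by
    rw [← mul_smul, ← map_mul, ← hbA a ha, map_mul, mul_smul, hP]
  have h2 : (MulAut.conjNormal a : MulAut K) • P = P := (sylow_eq_of_smul_eq _ hφ hP h1).symm
  have h3 : ∀ x : K, x ∈ P ↔ (MulAut.conjNormal a : MulAut K) x ∈ P := by
    intro x
    constructor
    · intro hx
      have : (MulAut.conjNormal a : MulAut K) • x ∈ (MulAut.conjNormal a : MulAut K) • (P : Subgroup K) :=
        Subgroup.smul_mem_pointwise_smul _ _ _ hx
      rw [← Sylow.pointwise_smul_def, h2] at this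
      exact this
    · intro hx
      have h4 : (MulAut.conjNormal a : MulAut K) • x ∈ (MulAut.conjNormal a : MulAut K) • (P : Subgroup K) := by
        rw [← Sylow.pointwise_smul_def, h2]
        exact hx
      exact (Subgroup.smul_mem_pointwise_smul_iff).mp h4
  rw [Subgroup.mem_normalizer_iff]
  intro g
  constructor
  · rintro ⟨x, hx, rfl⟩
    exact ⟨(MulAut.conjNormal a : MulAut K) x, (h3 x).mp hx, MulAut.conjNormal_apply a x⟩
  · rintro ⟨y, hy, hyg⟩
    have hg : g ∈ K := by
      have h5 : a⁻¹ * (y : G) * a⁻¹⁻¹ ∈ K := Normal.conj_mem inferInstance _ y.2 _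
      have h6 : g = a⁻¹ * (y : G) * a⁻¹⁻¹ := by
        change (y : G) = a * g * a⁻¹ at hyg
        rw [hyg]; group
      rw [h6]; exact h5
    refine ⟨⟨g, hg⟩, ?_, rfl⟩
    apply (h3 ⟨g, hg⟩).mpr
    have : (MulAut.conjNormal a : MulAut K) ⟨g, hg⟩ = y := by
      apply Subtype.ext
      rw [MulAut.conjNormal_apply]
      exact hyg.symm
    rw [this]
    exact hy

end Cfsg.Agent.Lib.AbelianFrobenius
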