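import Mathlib.Data.Nat.Bitwise
import Mathlib.Tactic

set_option autoImplicit false

/-!
Bit-parallel permutations. A permutation of `{0, ..., 2^K - 1}` is given as a list of "masked swaps"
(`(d, m)`: exchange the positions `i` and `i + d` for all bits `i` of `m`); it acts on subsets (encoded as
natural numbers) by a few shifts and xors per stage, which the kernel evaluates with GMP.
-/

namespace Cfsg.Agent.Lib.BitNet

/-! ### single stages -/

/-- position map of a stage -/
def sw (d m i : ℕ) : ℕ :=
  bif Nat.testBit m i then i + d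
  else bif (Nat.ble d i && Nat.testBit m (i - d)) then i - d
  else i

/-- action of a stage on a mask -/
def dsw (d m x : ℕ) : ℕ :=
  Nat.xor x (Nat.xor (Nat.land (Nat.xor (Nat.shiftRight x d) x) m)
    (Nat.shiftLeft (Nat.land (Nat.xor (Nat.shiftRight x d) x) m) d))

/-- a stage is valid when its mask is disjoint from its shift -/
def Valid1 (d m : ℕ) : Prop := ∀ i, Nat.testBit m i = true → Nat.testBit m (i + d) = false

def valid1 (d m : ℕ) : Bool := Nat.beq (Nat.land m (Nat.shiftLeft m d)) 0

theorem valid1_sound {d m : ℕ} (h : valid1 d m = true) : Valid1 d m := by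
  intro i hi
  have h0 : m &&& (m <<< d) = 0 := Nat.eq_of_beq_eq_true h
  have h1 : (m &&& (m <<< d)).testBit (i + d) = false := by rw [h0]; simp
  rw [Nat.testBit_and, Nat.testBit_shiftLeft] at h1
  have : decide (d ≤ i + d) = true := by simp
  rw [this] at h1
  simpa [hi] using h1

theorem sw_of_testBit {d m i : ℕ} (h : m.testBit i = true) : sw d m i = i + d := by
  simp [sw, h]

theorem sw_of_testBit_sub {d m i : ℕ} (h : m.testBit i = false) (hd : d ≤ i)
    (h2 : m.testBit (i - d) = true) : sw d m i = i - d := by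
  have : Nat.ble d i = true := Nat.ble_eq_true_of_le hd
  simp [sw, h, this, h2]

theorem sw_of_not {d m i : ℕ} (h : m.testBit i = false)
    (h2 : ¬ (d ≤ i ∧ m.testBit (i - d) = true)) : sw d m i = i := by
  have : (Nat.ble d i && Nat.testBit m (i - d)) = false := by
    by_contra hc
    rw [Bool.not_eq_false, Bool.and_eq_true, Nat.ble_eq] at hc
    exact h2 hc
  simp [sw, h, this]

theorem sw_sw {d m : ℕ} (hv : Valid1 d m) (i : ℕ) : sw d m (sw d m i) = i := by
  by_cases h : m.testBit i = true
  · rw [sw_of_testBit h]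
    have h1 := hv i h
    rw [sw_of_testBit_sub h1 (Nat.le_add_left _ _) (by simpa using h)]
    omega
  · rw [Bool.not_eq_true] at h
    by_cases h2 : d ≤ i ∧ m.testBit (i - d) = true
    · rw [sw_of_testBit_sub h h2.1 h2.2, sw_of_testBit h2.2]
      omega
    · rw [sw_of_not h h2, sw_of_not h h2]

theorem testBit_dsw {d m : ℕ} (hv : Valid1 d m) (x i : ℕ) :
    (dsw d m x).testBit i = x.testBit (sw d m i) := by
  have e : dsw d m x = x ^^^ ((((x >>> d) ^^^ x) &&& m) ^^^ ((((x >>> d) ^^^ x) &&& m) <<< d)) := rfl
  rw [e]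
  simp only [Nat.testBit_xor, Nat.testBit_and, Nat.testBit_shiftRight, Nat.testBit_shiftLeft]
  by_cases h : m.testBit i = true
  · rw [sw_of_testBit h]
    have h3 : (decide (d ≤ i) && (((x.testBit (d + (i - d))) ^^ (x.testBit (i - d))) && m.testBit (i - d)))
        = false := by
      by_cases hd : d ≤ i
      · have : m.testBit (i - d) = false := by
          by_contra hc
          rw [Bool.not_eq_false] at hc
          have := hv (i - d) hc
          rw [Nat.sub_add_cancel hd] at this
          rw [this] at h
          exact Bool.noConfusion h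
        simp [this]
      · simp [hd]
    rw [h3, h]
    have : d + i = i + d := Nat.add_comm _ _
    rw [this]
    cases x.testBit i <;> cases x.testBit (i + d) <;> rfl
  · rw [Bool.not_eq_true] at h
    by_cases h2 : d ≤ i ∧ m.testBit (i - d) = true
    · rw [sw_of_testBit_sub h h2.1 h2.2, h, h2.2]
      have : d + (i - d) = i := by omega
      rw [this]
      simp only [h2.1, decide_true, Bool.and_false, Bool.and_true, Bool.true_and, Bool.false_bne]
      cases x.testBit i <;> cases x.testBit (i - d) <;> rfl
    · rw [sw_of_not h h2, h]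
      have h3 : (decide (d ≤ i) && (((x.testBit (d + (i - d))) ^^ (x.testBit (i - d))) && m.testBit (i - d)))
        = false := by
        by_cases hd : d ≤ i
        · have : m.testBit (i - d) = false := by
            by_contra hc
            rw [Bool.not_eq_false] at hc
            exact h2 ⟨hd, hc⟩
          simp [this]
        · simp [hd]
      rw [h3]
      simp

/-! ### networks -/

/-- position map of a network (first stage first) -/
def app : List (ℕ × ℕ) → ℕ → ℕ
  | [], i => i
  | p :: l, i => app l (sw p.1 p.2 i)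

/-- action of a network on masks: the image of the mask under the position map -/
def appM : List (ℕ × ℕ) → ℕ → ℕ
  | [], x => x
  | p :: l, x => appM l (dsw p.1 p.2 x)

/-- inverse position map (last stage first) -/
def appInv : List (ℕ × ℕ) → ℕ → ℕ
  | [], i => i
  | p :: l, i => sw p.1 p.2 (appInv l i)

def Valid (l : List (ℕ × ℕ)) : Prop := ∀ p ∈ l, Valid1 p.1 p.2

def valid : List (ℕ × ℕ) → Bool
  | [] => true
  | p :: l => valid1 p.1 p.2 && valid l

theorem valid_sound : ∀ {l : List (ℕ × ℕ)}, valid l = true → Valid l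
  | [], _ => fun p hp => absurd hp (List.not_mem_nil)
  | p :: l, h => by
    rw [valid, Bool.and_eq_true] at h
    intro q hq
    rcases List.mem_cons.1 hq with rfl | hq
    · exact valid1_sound h.1
    · exact valid_sound h.2 q hq

theorem Valid.cons {p : ℕ × ℕ} {l : List (ℕ × ℕ)} (h : Valid (p :: l)) : Valid1 p.1 p.2 ∧ Valid l :=
  ⟨h p List.mem_cons_self, fun q hq => h q (List.mem_cons_of_mem _ hq)⟩

theorem appInv_app : ∀ {l : List (ℕ × ℕ)}, Valid l → ∀ i, appInv l (app l i) = i
  | [], _, _ => rfl
  | p :: l, h, i => by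
    rw [app, appInv, appInv_app h.cons.2, sw_sw h.cons.1]

theorem app_appInv : ∀ {l : List (ℕ × ℕ)}, Valid l → ∀ i, app l (appInv l i) = i
  | [], _, _ => rfl
  | p :: l, h, i => by
    rw [appInv, app, sw_sw h.cons.1, app_appInv h.cons.2]

theorem testBit_appM : ∀ {l : List (ℕ × ℕ)}, Valid l → ∀ x i, (appM l x).testBit (app l i) = x.testBit i
  | [], _, _, _ => rfl
  | p :: l, h, x, i => by
    rw [app, appM, testBit_appM h.cons.2, testBit_dsw h.cons.1, sw_sw h.cons.1]

theorem testBit_appM' {l : List (ℕ × ℕ)} (h : Valid l) (x i : ℕ) :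
    (appM l x).testBit i = x.testBit (appInv l i) := by
  conv_lhs => rw [← app_appInv h i]
  exact testBit_appM h x _

theorem app_injective {l : List (ℕ × ℕ)} (h : Valid l) : Function.Injective (app l) :=
  Function.LeftInverse.injective (appInv_app h)

/-! ### permutations of `Fin n` -/

/-- `l` is valid and maps `{0..n-1}` to itself -/
def okNet (n : ℕ) (l : List (ℕ × ℕ)) : Bool :=
  valid l && Nat.beq (appM l (2 ^ n - 1)) (2 ^ n - 1)

structure OkNet (n : ℕ) (l : List (ℕ × ℕ)) : Prop where
  valid : Valid l
  lt_iff : ∀ i, app l i < n ↔ i < n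

theorem okNet_sound {n : ℕ} {l : List (ℕ × ℕ)} (h : okNet n l = true) : OkNet n l := by
  rw [okNet, Bool.and_eq_true] at h
  have hv := valid_sound h.1
  have he : appM l (2 ^ n - 1) = 2 ^ n - 1 := Nat.eq_of_beq_eq_true h.2
  refine ⟨hv, fun i => ?_⟩
  have h1 := testBit_appM hv (2 ^ n - 1) i
  rw [he, Nat.testBit_two_pow_sub_one, Nat.testBit_two_pow_sub_one] at h1
  simpa using h1

theorem OkNet.inv_lt {n : ℕ} {l : List (ℕ × ℕ)} (h : OkNet n l) (i : ℕ) : appInv l i < n ↔ i < n := by
  rw [← h.lt_iff, app_appInv h.valid]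

/-- the permutation of `Fin n` given by a network -/
def perm {n : ℕ} {l : List (ℕ × ℕ)} (h : OkNet n l) : Equiv.Perm (Fin n) where
  toFun i := ⟨app l i, (h.lt_iff i).2 i.2⟩
  invFun i := ⟨appInv l i, (h.inv_lt i).2 i.2⟩
  left_inv i := Fin.ext (appInv_app h.valid i)
  right_inv i := Fin.ext (app_appInv h.valid i)

@[simp] theorem perm_apply {n : ℕ} {l : List (ℕ × ℕ)} (h : OkNet n l) (i : Fin n) :
    ((perm h i : Fin n) : ℕ) = app l i := rfl

end Cfsg.Agent.Lib.BitNet
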