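import Cfsg.Agent.Lib.BitNetMatrix
import Mathlib.GroupTheory.GroupAction.Quotient
import Mathlib.GroupTheory.Index
import Mathlib.GroupTheory.Perm.Basic
import Mathlib.Algebra.BigOperators.Group.Finset.Basic

set_option autoImplicit false

/-!
Order of the automorphism group of an explicit symmetric relation on `{0..n-1}`:
lower bound by orbits of explicit networks (`mem_orbit_of_iter`, `card_eq_orbit_mul`), upper bound by certified
partition refinement (`ub_sound`).
-/

namespace Cfsg.Agent.Lib.BitNet

/-! ### population count -/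

def popc : ℕ → ℕ → ℕ
  | 0, x => Nat.land x 1
  | k + 1, x => bif Nat.beq x 0 then 0 else
      Nat.add (popc k (Nat.mod x (Nat.pow 2 (Nat.pow 2 k)))) (popc k (Nat.shiftRight x (Nat.pow 2 k)))

theorem popc_eq : ∀ (k x : ℕ), popc k x = ((Finset.range (2 ^ k)).filter (fun i => x.testBit i = true)).card
  | 0, x => by
    have e : popc 0 x = x &&& 1 := rfl
    rw [e, pow_zero, Finset.range_one, Finset.filter_singleton, Nat.and_one_is_mod, Nat.testBit_zero]
    rcases Nat.mod_two_eq_zero_or_one x with h | h <;> simp [h]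
  | k + 1, x => by
    by_cases hx : x = 0
    · subst hx; simp [popc]
    · have e : popc (k + 1) x = popc k (x % 2 ^ (2 ^ k)) + popc k (x >>> (2 ^ k)) := by
        have : Nat.beq x 0 = false := by
          by_contra hc
          rw [Bool.not_eq_false] at hc
          exact hx (Nat.eq_of_beq_eq_true hc)
        rw [popc, this]; rfl
      rw [e, popc_eq k, popc_eq k]
      have hr : Finset.range (2 ^ (k + 1)) = Finset.range (2 ^ k) ∪ (Finset.range (2 ^ k)).image (fun i => 2 ^ k + i) := by
        ext i
        simp only [Finset.mem_range, Finset.mem_union, Finset.mem_image]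
        have : 2 ^ (k + 1) = 2 ^ k + 2 ^ k := by ring
        constructor
        · intro h
          by_cases h2 : i < 2 ^ k
          · exact Or.inl h2
          · exact Or.inr ⟨i - 2 ^ k, by omega, by omega⟩
        · rintro (h | ⟨j, hj, rfl⟩) <;> omega
      rw [hr, Finset.filter_union, Finset.card_union_of_disjoint]
      · congr 1
        · congr 1
          apply Finset.filter_congr
          intro i hi
          rw [Finset.mem_range] at hi
          rw [Nat.testBit_mod_two_pow]
          simp [hi]
        · rw [Finset.filter_image, Finset.card_image_of_injective _ (fun a b h => by simpa using h)]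
          congr 1
          apply Finset.filter_congr
          intro i _
          rw [Nat.testBit_shiftRight]
      · rw [Finset.disjoint_left]
        intro i h1 h2
        rw [Finset.mem_filter, Finset.mem_range] at h1
        rw [Finset.mem_filter, Finset.mem_image] at h2
        obtain ⟨⟨j, _, hj⟩, _⟩ := h2
        omega

/-- the set of points of `Fin n` in a mask -/
def pts (n x : ℕ) : Finset (Fin n) := Finset.univ.filter (fun i : Fin n => x.testBit i = true)

theorem mem_pts {n x : ℕ} {i : Fin n} : i ∈ pts n x ↔ x.testBit i = true := by simp [pts]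

theorem card_pts_le {n K : ℕ} (hn : n ≤ 2 ^ K) (x : ℕ) : (pts n x).card ≤ popc K x := by
  rw [popc_eq]
  have : (pts n x).card = ((pts n x).image (fun i : Fin n => (i : ℕ))).card :=
    (Finset.card_image_of_injective _ Fin.val_injective).symm
  rw [this]
  apply Finset.card_le_card
  intro i hi
  rw [Finset.mem_image] at hi
  obtain ⟨j, hj, rfl⟩ := hi
  rw [Finset.mem_filter, Finset.mem_range]
  exact ⟨lt_of_lt_of_le j.2 hn, mem_pts.1 hj⟩

theorem card_pts_eq {n K : ℕ} {x : ℕ} (hx : ∀ i, x.testBit i = true → i < n) :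
    popc K x ≤ (pts n x).card := by
  rw [popc_eq]
  have : (pts n x).card = ((pts n x).image (fun i : Fin n => (i : ℕ))).card :=
    (Finset.card_image_of_injective _ Fin.val_injective).symm
  rw [this]
  apply Finset.card_le_card
  intro i hi
  rw [Finset.mem_filter] at hi
  rw [Finset.mem_image]
  exact ⟨⟨i, hx i hi.2⟩, mem_pts.2 hi.2, rfl⟩

/-! ### orbits, lower bounds -/

/-- one round: add the images under all the networks -/
def step : List (List (ℕ × ℕ)) → ℕ → ℕ
  | [], x => x
  | g :: gs, x => step gs (Nat.lor x (appM g x))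

def iter (gs : List (List (ℕ × ℕ))) : ℕ → ℕ → ℕ
  | 0, x => x
  | k + 1, x => iter gs k (step gs x)

/-- all points of the mask lie in the orbit of `b` -/
def InOrbit {n : ℕ} (H : Subgroup (Equiv.Perm (Fin n))) (b : Fin n) (x : ℕ) : Prop :=
  ∀ i, x.testBit i = true → ∃ h : i < n, (⟨i, h⟩ : Fin n) ∈ MulAction.orbit H b

theorem InOrbit.step {n : ℕ} {H : Subgroup (Equiv.Perm (Fin n))} {b : Fin n} :
    ∀ {gs : List (List (ℕ × ℕ))} (_ : ∀ g ∈ gs, ∃ h : OkNet n g, perm h ∈ H) {x : ℕ},
      InOrbit H b x → InOrbit H b (step gs x)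
  | [], _, _, hx => hx
  | g :: gs, hg, x, hx => by
    rw [BitNet.step]
    apply InOrbit.step (fun g' hg' => hg g' (List.mem_cons_of_mem _ hg'))
    intro i hi
    have hi' : (x ||| appM g x).testBit i = true := hi
    rw [Nat.testBit_or, Bool.or_eq_true] at hi'
    rcases hi' with hi' | hi'
    · exact hx i hi'
    · obtain ⟨ok, hmem⟩ := hg g List.mem_cons_self
      rw [testBit_appM' ok.valid] at hi'
      obtain ⟨hlt, horb⟩ := hx _ hi'
      have hin : i < n := (ok.inv_lt i).1 hlt
      refine ⟨hin, ?_⟩
      have e : (⟨i, hin⟩ : Fin n) = (⟨perm ok, hmem⟩ : H) • (⟨appInv g i, hlt⟩ : Fin n) := by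
        apply Fin.ext
        exact (app_appInv ok.valid i).symm
      rw [e]
      exact MulAction.mem_orbit_of_mem_orbit _ horb

theorem InOrbit.iter {n : ℕ} {H : Subgroup (Equiv.Perm (Fin n))} {b : Fin n}
    {gs : List (List (ℕ × ℕ))} (hg : ∀ g ∈ gs, ∃ h : OkNet n g, perm h ∈ H) :
    ∀ (k : ℕ) {x : ℕ}, InOrbit H b x → InOrbit H b (iter gs k x)
  | 0, _, hx => hx
  | k + 1, _, hx => InOrbit.iter hg k (InOrbit.step hg hx)

theorem InOrbit.single {n : ℕ} (H : Subgroup (Equiv.Perm (Fin n))) (b : Fin n) :
    InOrbit H b (2 ^ (b : ℕ)) := by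
  intro i hi
  rw [Nat.testBit_two_pow] at hi
  have : (b : ℕ) = i := by simpa using hi
  subst this
  exact ⟨b.2, MulAction.mem_orbit_self b⟩

theorem InOrbit.popc_le {n K : ℕ} {H : Subgroup (Equiv.Perm (Fin n))} {b : Fin n} {x : ℕ}
    (h : InOrbit H b x) : popc K x ≤ Nat.card (MulAction.orbit H b) := by
  refine (card_pts_eq (n := n) (fun i hi => (h i hi).1)).trans ?_
  rw [Nat.card_coe_set_eq, ← Set.ncard_coe_finset]
  apply Set.ncard_le_ncard
  · intro i hi
    exact (h i (mem_pts.1 hi)).2
  · exact Set.toFinite _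

/-- orbit-stabiliser for subgroups of `Perm (Fin n)` -/
theorem card_eq_orbit_mul {n : ℕ} (H : Subgroup (Equiv.Perm (Fin n))) (b : Fin n) :
    Nat.card H = Nat.card (MulAction.orbit H b) *
      Nat.card ↥(H ⊓ MulAction.stabilizer (Equiv.Perm (Fin n)) b) := by
  have e : Nat.card ↥(H ⊓ MulAction.stabilizer (Equiv.Perm (Fin n)) b) = Nat.card (MulAction.stabilizer H b) := by
    apply Nat.card_congr
    exact ⟨fun σ => ⟨⟨σ.1, σ.2.1⟩, σ.2.2⟩, fun σ => ⟨σ.1.1, σ.1.2, σ.2⟩, fun _ => rfl, fun _ => rfl⟩
  rw [e, Nat.card_congr (MulAction.orbitEquivQuotientStabilizer H b)]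
  exact Subgroup.card_eq_card_quotient_mul_card_subgroup _

theorem orbit_card_ge {n K : ℕ} {H : Subgroup (Equiv.Perm (Fin n))} {b : Fin n}
    {gs : List (List (ℕ × ℕ))} (hg : ∀ g ∈ gs, ∃ h : OkNet n g, perm h ∈ H) {k s : ℕ}
    (hs : Nat.ble s (popc K (iter gs k (Nat.pow 2 b))) = true) :
    s ≤ Nat.card (MulAction.orbit H b) :=
  (Nat.le_of_ble_eq_true hs).trans (InOrbit.popc_le (InOrbit.iter hg k (InOrbit.single H b)))

/-- one level of the lower bound -/
theorem lower_step {n K : ℕ} {H : Subgroup (Equiv.Perm (Fin n))} {b : Fin n}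
    {gs : List (List (ℕ × ℕ))} (hg : ∀ g ∈ gs, ∃ h : OkNet n g, perm h ∈ H) {k s : ℕ}
    (hs : Nat.ble s (popc K (iter gs k (Nat.pow 2 b))) = true) :
    s * Nat.card ↥(H ⊓ MulAction.stabilizer (Equiv.Perm (Fin n)) b) ≤ Nat.card H := by
  rw [card_eq_orbit_mul H b]
  exact Nat.mul_le_mul_right _ (orbit_card_ge hg hs)

theorem mem_inf_stabilizer {n : ℕ} {H : Subgroup (Equiv.Perm (Fin n))} {b : Fin n}
    {g : List (ℕ × ℕ)} (h : ∃ h : OkNet n g, perm h ∈ H) (hb : app g b = b) :
    ∃ h : OkNet n g, perm h ∈ H ⊓ MulAction.stabilizer (Equiv.Perm (Fin n)) b := by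
  obtain ⟨h1, h2⟩ := h
  exact ⟨h1, h2, Fin.ext hb⟩

/-! ### automorphisms of a relation -/

/-- the permutations of `Fin n` preserving the relation given by the rows -/
def Aut (n : ℕ) (row : ℕ → ℕ) : Subgroup (Equiv.Perm (Fin n)) where
  carrier := {σ | ∀ u v : Fin n, (row (σ u)).testBit (σ v) = (row u).testBit v}
  one_mem' := fun _ _ => rfl
  mul_mem' := by
    intro σ τ hσ hτ u v
    rw [Equiv.Perm.mul_apply, Equiv.Perm.mul_apply, hσ, hτ]
  inv_mem' := by
    intro σ hσ u v
    have := hσ (σ⁻¹ u) (σ⁻¹ v)
    simp only [Equiv.Perm.coe_inv, Equiv.apply_symm_apply] at this ⊢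
    exact this.symm

theorem mem_Aut {n : ℕ} {row : ℕ → ℕ} {σ : Equiv.Perm (Fin n)} :
    σ ∈ Aut n row ↔ ∀ u v : Fin n, (row (σ u)).testBit (σ v) = (row u).testBit v := Iff.rfl

theorem perm_mem_Aut {n K : ℕ} (hn : n ≤ 2 ^ K) {row : ℕ → ℕ} (hs : symCheck K row = true)
    {l : List (ℕ × ℕ)} (h : invCheck K row l = true) (ok : OkNet n l) : perm ok ∈ Aut n row := by
  intro u v
  exact (invCheck_sound hs h).2 (lt_of_lt_of_le u.2 hn) (lt_of_lt_of_le v.2 hn)

/-! ### bit-sliced counters -/

def value : List ℕ → ℕ → ℕ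
  | [], _ => 0
  | p :: ps, v => (p.testBit v).toNat + 2 * value ps v

def addRow : List ℕ → ℕ → List ℕ
  | [], c => bif Nat.beq c 0 then [] else [c]
  | p :: ps, c => bif Nat.beq c 0 then p :: ps else Nat.xor p c :: addRow ps (Nat.land p c)

theorem value_addRow : ∀ (ps : List ℕ) (c v : ℕ), value (addRow ps c) v = value ps v + (c.testBit v).toNat
  | [], c, v => by
    by_cases hc : c = 0
    · subst hc; simp [addRow, value]
    · have : Nat.beq c 0 = false := by
        by_contra h
        rw [Bool.not_eq_false] at h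
        exact hc (Nat.eq_of_beq_eq_true h)
      simp [addRow, this, value]
  | p :: ps, c, v => by
    by_cases hc : c = 0
    · subst hc; simp [addRow, value]
    · have : Nat.beq c 0 = false := by
        by_contra h
        rw [Bool.not_eq_false] at h
        exact hc (Nat.eq_of_beq_eq_true h)
      have e : addRow (p :: ps) c = (p ^^^ c) :: addRow ps (p &&& c) := by
        rw [addRow, this]; rfl
      rw [e, value, value, value_addRow, Nat.testBit_xor, Nat.testBit_and]
      cases p.testBit v <;> cases c.testBit v <;> simp <;> omega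

def sumRows (row : ℕ → ℕ) : ℕ → ℕ → ℕ → List ℕ → List ℕ
  | 0, b, x, ps => bif Nat.beq (Nat.land x 1) 0 then ps else addRow ps (row b)
  | k + 1, b, x, ps => bif Nat.beq x 0 then ps else
      sumRows row k (Nat.add b (Nat.pow 2 k)) (Nat.shiftRight x (Nat.pow 2 k))
        (sumRows row k b (Nat.mod x (Nat.pow 2 (Nat.pow 2 k))) ps)

theorem value_sumRows (row : ℕ → ℕ) (v : ℕ) : ∀ (k b x : ℕ) (ps : List ℕ),
    value (sumRows row k b x ps) v = value ps v +
      ∑ i ∈ Finset.range (2 ^ k), if x.testBit i = true then ((row (b + i)).testBit v).toNat else 0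
  | 0, b, x, ps => by
    rw [pow_zero, Finset.sum_range_one, add_zero, sumRows]
    have hx : Nat.land x 1 = x % 2 := Nat.and_one_is_mod x
    rw [hx, Nat.testBit_zero]
    rcases Nat.mod_two_eq_zero_or_one x with h | h
    · simp [h]
    · have h0 : Nat.beq 1 0 = false := rfl
      rw [h, h0, cond_false, value_addRow]
      simp
  | k + 1, b, x, ps => by
    by_cases hx : x = 0
    · subst hx; simp [sumRows]
    · have e : sumRows row (k + 1) b x ps = sumRows row k (b + 2 ^ k) (x >>> (2 ^ k))
          (sumRows row k b (x % 2 ^ (2 ^ k)) ps) := by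
        have : Nat.beq x 0 = false := by
          by_contra hc
          rw [Bool.not_eq_false] at hc
          exact hx (Nat.eq_of_beq_eq_true hc)
        rw [sumRows, this]; rfl
      rw [e, value_sumRows row v k, value_sumRows row v k, add_assoc]
      congr 1
      have hp : 2 ^ (k + 1) = 2 ^ k + 2 ^ k := by ring
      rw [hp, Finset.sum_range_add]
      congr 1
      · apply Finset.sum_congr rfl
        intro i hi
        rw [Finset.mem_range] at hi
        rw [Nat.testBit_mod_two_pow]
        simp [hi]
      · apply Finset.sum_congr rfl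
        intro i _
        rw [Nat.testBit_shiftRight, add_assoc]

/-- the points of `U` with counter value `c` -/
def eqVal : List ℕ → ℕ → ℕ → ℕ
  | [], c, U => bif Nat.beq c 0 then U else 0
  | p :: ps, c, U => eqVal ps (Nat.div c 2)
      (bif Nat.beq (Nat.mod c 2) 0 then Nat.xor U (Nat.land U p) else Nat.land U p)

theorem testBit_eqVal : ∀ (ps : List ℕ) (c U v : ℕ),
    (eqVal ps c U).testBit v = (U.testBit v && decide (value ps v = c))
  | [], c, U, v => by
    by_cases hc : c = 0
    · subst hc; simp [eqVal, value]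
    · have : Nat.beq c 0 = false := by
        by_contra h
        rw [Bool.not_eq_false] at h
        exact hc (Nat.eq_of_beq_eq_true h)
      have h2 : ¬ (0 = c) := fun h => hc h.symm
      simp [eqVal, this, value, h2]
  | p :: ps, c, U, v => by
    have e : eqVal (p :: ps) c U = eqVal ps (c / 2)
      (bif Nat.beq (c % 2) 0 then U ^^^ (U &&& p) else U &&& p) := rfl
    rw [e, testBit_eqVal ps, value]
    have h2 : c = 2 * (c / 2) + c % 2 := by omega
    rcases Nat.mod_two_eq_zero_or_one c with h | h
    · rw [h]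
      have : Nat.beq 0 0 = true := rfl
      rw [this, cond_true, Nat.testBit_xor, Nat.testBit_and]
      cases U.testBit v <;> cases p.testBit v <;> simp <;> omega
    · rw [h]
      have : Nat.beq 1 0 = false := rfl
      rw [this, cond_false, Nat.testBit_and]
      cases U.testBit v <;> cases p.testBit v <;> simp <;> omega

/-- the points of `{0..n-1}` with exactly `c` neighbours in `S` -/
def cntSet (K n : ℕ) (row : ℕ → ℕ) (S c : ℕ) : ℕ :=
  eqVal (sumRows row K 0 (Nat.land S (Nat.sub (Nat.pow 2 n) 1)) []) c (Nat.sub (Nat.pow 2 n) 1)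

theorem testBit_cntSet {K n : ℕ} (hn : n ≤ 2 ^ K) (row : ℕ → ℕ) (S c : ℕ) (v : Fin n) :
    (cntSet K n row S c).testBit v =
      decide ((∑ u : Fin n, if S.testBit u = true then ((row u).testBit v).toNat else 0) = c) := by
  have e : cntSet K n row S c = eqVal (sumRows row K 0 (S &&& (2 ^ n - 1)) []) c (2 ^ n - 1) := rfl
  rw [e, testBit_eqVal, Nat.testBit_two_pow_sub_one, value_sumRows]
  have h1 : (∑ i ∈ Finset.range (2 ^ K), if (S &&& (2 ^ n - 1)).testBit i = true then
      ((row (0 + i)).testBit (v : ℕ)).toNat else 0) =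
      ∑ u : Fin n, if S.testBit u = true then ((row u).testBit v).toNat else 0 := by
    rw [Fin.sum_univ_eq_sum_range (fun i => if S.testBit i = true then ((row i).testBit (v : ℕ)).toNat else 0) n]
    have h2 : Finset.range n ⊆ Finset.range (2 ^ K) := by
      intro i hi
      rw [Finset.mem_range] at hi ⊢
      omega
    rw [← Finset.sum_subset h2]
    · apply Finset.sum_congr rfl
      intro i hi
      rw [Finset.mem_range] at hi
      rw [Nat.testBit_and, Nat.testBit_two_pow_sub_one, zero_add]
      simp [hi]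
    · intro i _ hi
      rw [Finset.mem_range] at hi
      rw [Nat.testBit_and, Nat.testBit_two_pow_sub_one]
      simp [hi]
  rw [h1]
  simp [value, v.2]

/-! ### certified refinement, upper bounds -/

/-- the mask is invariant under the permutation -/
def Inv {n : ℕ} (σ : Equiv.Perm (Fin n)) (x : ℕ) : Prop := ∀ i : Fin n, x.testBit (σ i) = x.testBit i

theorem Inv.cntSet {K n : ℕ} (hn : n ≤ 2 ^ K) {row : ℕ → ℕ} {σ : Equiv.Perm (Fin n)} (hσ : σ ∈ Aut n row)
    {S : ℕ} (hS : Inv σ S) (c : ℕ) : Inv σ (cntSet K n row S c) := by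
  intro v
  rw [testBit_cntSet hn, testBit_cntSet hn]
  congr 2
  rw [← Equiv.sum_comp σ]
  apply Finset.sum_congr rfl
  intro u _
  rw [hS u, hσ u v]

theorem Inv.row {n : ℕ} {row : ℕ → ℕ} {σ : Equiv.Perm (Fin n)} (hσ : σ ∈ Aut n row)
    {p : Fin n} (hp : σ p = p) : Inv σ (row p) := by
  intro v
  have := hσ p v
  rw [hp] at this
  exact this

theorem Inv.fix {n : ℕ} {σ : Equiv.Perm (Fin n)} {p : Fin n} (h : Inv σ (2 ^ (p : ℕ))) : σ p = p := by
  have h1 := h p
  rw [Nat.testBit_two_pow_self, Nat.testBit_two_pow] at h1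
  apply Fin.ext
  have : (p : ℕ) = (σ p : ℕ) := by simpa using h1
  exact this.symm

theorem Inv.of_fix {n : ℕ} {σ : Equiv.Perm (Fin n)} {p : Fin n} (h : σ p = p) : Inv σ (2 ^ (p : ℕ)) := by
  intro i
  rw [Nat.testBit_two_pow, Nat.testBit_two_pow]
  congr 1
  apply propext
  constructor
  · intro h1
    have : σ i = p := Fin.ext h1.symm
    rw [← h] at this
    rw [σ.injective this]
  · intro h1
    have : i = p := Fin.ext h1.symm
    rw [this, h]

/-- the masks separate the points of `m` -/
def sep : List ℕ → ℕ → Bool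
  | [], m => Nat.beq (Nat.land m (Nat.sub m 1)) 0
  | x :: l, m => bif Nat.beq (Nat.land m (Nat.sub m 1)) 0 then true else
      sep l (Nat.land m x) && sep l (Nat.xor m (Nat.land m x))

theorem land_pred {m i j : ℕ} (h : m &&& (m - 1) = 0) (hi : m.testBit i = true) (hj : m.testBit j = true) : i = j := by
  have hm : m ≠ 0 := by rintro rfl; simp at hi
  have := (Nat.and_sub_one_eq_zero_iff_isPowerOfTwo hm).1 h
  obtain ⟨k, rfl⟩ := this
  rw [Nat.testBit_two_pow] at hi hj
  have h1 : k = i := by simpa using hi
  have h2 : k = j := by simpa using hj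
  omega

theorem sep_sound : ∀ {l : List ℕ} {m : ℕ}, sep l m = true → ∀ {i j : ℕ}, m.testBit i = true →
    m.testBit j = true → (∀ x ∈ l, x.testBit i = x.testBit j) → i = j
  | [], m, h, i, j, hi, hj, _ => land_pred (Nat.eq_of_beq_eq_true h) hi hj
  | x :: l, m, h, i, j, hi, hj, hl => by
    rw [sep] at h
    by_cases hb : Nat.beq (Nat.land m (Nat.sub m 1)) 0 = true
    · exact land_pred (Nat.eq_of_beq_eq_true hb) hi hj
    · rw [Bool.not_eq_true] at hb
      rw [hb, cond_false, Bool.and_eq_true] at h
      have hxij := hl x List.mem_cons_self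
      have hl' : ∀ y ∈ l, y.testBit i = y.testBit j := fun y hy => hl y (List.mem_cons_of_mem _ hy)
      by_cases hx : x.testBit i = true
      · apply sep_sound h.1 _ _ hl'
        · change (m &&& x).testBit i = true
          rw [Nat.testBit_and, hi, hx]; rfl
        · change (m &&& x).testBit j = true
          rw [Nat.testBit_and, hj, ← hxij, hx]; rfl
      · rw [Bool.not_eq_true] at hx
        apply sep_sound h.2 _ _ hl'
        · change (m ^^^ (m &&& x)).testBit i = true
          rw [Nat.testBit_xor, Nat.testBit_and, hi, hx]; rfl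
        · change (m ^^^ (m &&& x)).testBit j = true
          rw [Nat.testBit_xor, Nat.testBit_and, hj, ← hxij, hx]; rfl

/-- instructions; indices count from the most recent mask -/
inductive Ins
  | and (i j : ℕ)
  | diff (i j : ℕ)
  | cnt (i c : ℕ)
  | row (i p : ℕ)
  | base (i b : ℕ)

/-- run the certificate; the result is an upper bound for the order -/
def ub (K n : ℕ) (row : ℕ → ℕ) : List Ins → List ℕ → Option ℕ
  | [], st => bif sep st (Nat.sub (Nat.pow 2 n) 1) then some 1 else none
  | Ins.and i j :: l, st => ub K n row l (Nat.land (st.getD i 0) (st.getD j 0) :: st)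
  | Ins.diff i j :: l, st => ub K n row l (Nat.xor (st.getD i 0) (Nat.land (st.getD i 0) (st.getD j 0)) :: st)
  | Ins.cnt i c :: l, st => ub K n row l (cntSet K n row (st.getD i 0) c :: st)
  | Ins.row i p :: l, st =>
      bif Nat.beq (st.getD i 0) (Nat.pow 2 p) && Nat.blt p n then ub K n row l (row p :: st) else none
  | Ins.base i b :: l, st =>
      bif Nat.blt b n && Nat.testBit (st.getD i 0) b then
        match ub K n row l (row b :: Nat.pow 2 b :: st) with
        | some N => some (Nat.mul (popc K (st.getD i 0)) N)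
        | none => none
      else none

theorem inv_getD {n : ℕ} {σ : Equiv.Perm (Fin n)} {st : List ℕ} (h : ∀ x ∈ st, Inv σ x) (i : ℕ) :
    Inv σ (st.getD i 0) := by
  by_cases hi : i < st.length
  · rw [List.getD_eq_getElem _ _ hi]
    exact h _ (List.getElem_mem hi)
  · rw [List.getD_eq_default _ _ (not_lt.1 hi)]
    intro j
    simp

theorem ub_sound {K n : ℕ} (hn : n ≤ 2 ^ K) {row : ℕ → ℕ} : ∀ (l : List Ins) (st : List ℕ) (N : ℕ),
    ub K n row l st = some N → ∀ H : Subgroup (Equiv.Perm (Fin n)), H ≤ Aut n row →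
      (∀ σ ∈ H, ∀ x ∈ st, Inv σ x) → Nat.card H ≤ N
  | [], st, N, h, H, hH, hI => by
    rw [ub] at h
    by_cases hs : sep st (Nat.sub (Nat.pow 2 n) 1) = true
    · rw [hs, cond_true, Option.some.injEq] at h
      subst h
      have hbot : H = ⊥ := by
        rw [Subgroup.eq_bot_iff_forall]
        intro σ hσ
        apply Equiv.ext
        intro i
        apply Fin.ext
        have hU : ∀ i : Fin n, (Nat.sub (Nat.pow 2 n) 1).testBit (i : ℕ) = true := by
          intro i
          change (2 ^ n - 1).testBit (i : ℕ) = true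
          rw [Nat.testBit_two_pow_sub_one]
          simp
        exact sep_sound hs (hU (σ i)) (hU i) (fun x hx => hI σ hσ x hx i)
      rw [hbot, Nat.card_eq_fintype_card]
      simp
    · rw [Bool.not_eq_true] at hs
      rw [hs, cond_false] at h
      exact absurd h (by simp)
  | Ins.and i j :: l, st, N, h, H, hH, hI => by
    rw [ub] at h
    refine ub_sound hn l _ N h H hH (fun σ hσ x hx => ?_)
    rcases List.mem_cons.1 hx with rfl | hx
    · intro v
      change (st.getD i 0 &&& st.getD j 0).testBit _ = (st.getD i 0 &&& st.getD j 0).testBit _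
      rw [Nat.testBit_and, Nat.testBit_and, inv_getD (hI σ hσ) i v, inv_getD (hI σ hσ) j v]
    · exact hI σ hσ x hx
  | Ins.diff i j :: l, st, N, h, H, hH, hI => by
    rw [ub] at h
    refine ub_sound hn l _ N h H hH (fun σ hσ x hx => ?_)
    rcases List.mem_cons.1 hx with rfl | hx
    · intro v
      change (st.getD i 0 ^^^ (st.getD i 0 &&& st.getD j 0)).testBit _ =
        (st.getD i 0 ^^^ (st.getD i 0 &&& st.getD j 0)).testBit _
      rw [Nat.testBit_xor, Nat.testBit_xor, Nat.testBit_and, Nat.testBit_and,
        inv_getD (hI σ hσ) i v, inv_getD (hI σ hσ) j v]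
    · exact hI σ hσ x hx
  | Ins.cnt i c :: l, st, N, h, H, hH, hI => by
    rw [ub] at h
    refine ub_sound hn l _ N h H hH (fun σ hσ x hx => ?_)
    rcases List.mem_cons.1 hx with rfl | hx
    · exact Inv.cntSet hn (hH hσ) (inv_getD (hI σ hσ) i) c
    · exact hI σ hσ x hx
  | Ins.row i p :: l, st, N, h, H, hH, hI => by
    rw [ub] at h
    by_cases hb : (Nat.beq (st.getD i 0) (Nat.pow 2 p) && Nat.blt p n) = true
    · rw [hb, cond_true] at h
      rw [Bool.and_eq_true] at hb
      have h1 : st.getD i 0 = 2 ^ p := Nat.eq_of_beq_eq_true hb.1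
      have h2 : p < n := by
        have := hb.2
        rw [Nat.blt_eq] at this
        exact this
      refine ub_sound hn l _ N h H hH (fun σ hσ x hx => ?_)
      rcases List.mem_cons.1 hx with rfl | hx
      · have h3 : Inv σ (2 ^ ((⟨p, h2⟩ : Fin n) : ℕ)) := by
          have := inv_getD (hI σ hσ) i
          rw [h1] at this
          exact this
        exact Inv.row (hH hσ) (p := ⟨p, h2⟩) h3.fix
      · exact hI σ hσ x hx
    · rw [Bool.not_eq_true] at hb
      rw [hb, cond_false] at h
      exact absurd h (by simp)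
  | Ins.base i b :: l, st, N, h, H, hH, hI => by
    rw [ub] at h
    by_cases hb : (Nat.blt b n && Nat.testBit (st.getD i 0) b) = true
    · rw [hb, cond_true] at h
      rw [Bool.and_eq_true] at hb
      have h2 : b < n := by
        have := hb.1
        rw [Nat.blt_eq] at this
        exact this
      rcases hu : ub K n row l (row b :: Nat.pow 2 b :: st) with _ | M
      · rw [hu] at h
        exact absurd h (by simp)
      · rw [hu] at h
        have h3 : popc K (st.getD i 0) * M = N := by
          have := h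
          simp only [Option.some.injEq] at this
          exact this
        rw [card_eq_orbit_mul H ⟨b, h2⟩, ← h3]
        apply Nat.mul_le_mul
        · refine le_trans ?_ (card_pts_le hn _)
          rw [Nat.card_coe_set_eq, ← Set.ncard_coe_finset]
          apply Set.ncard_le_ncard
          · rintro x ⟨σ, rfl⟩
            rw [Finset.mem_coe, mem_pts]
            have := inv_getD (hI σ.1 σ.2) i ⟨b, h2⟩
            rw [hb.2] at this
            exact this
          · exact Set.toFinite _
        · refine ub_sound hn l _ M hu _ (inf_le_left.trans hH) (fun σ hσ x hx => ?_)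
          have hfix : σ (⟨b, h2⟩ : Fin n) = ⟨b, h2⟩ := hσ.2
          rcases List.mem_cons.1 hx with rfl | hx
          · exact Inv.row (hH hσ.1) hfix
          · rcases List.mem_cons.1 hx with rfl | hx
            · exact Inv.of_fix hfix
            · exact hI σ hσ.1 x hx
    · rw [Bool.not_eq_true] at hb
      rw [hb, cond_false] at h
      exact absurd h (by simp)

end Cfsg.Agent.Lib.BitNet
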