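import Cfsg.Agent.Lib.BitNet

set_option autoImplicit false

/-!
Bit matrices of size `2^K × 2^K` as one natural number (row `r`, column `c` at position `2^K * r + c`):
simultaneous action of a network on the columns of all rows, transposition, and the resulting kernel-checkable
test that a network preserves a relation.
-/

namespace Cfsg.Agent.Lib.BitNet

/-! ### copies -/

/-- `2^k` copies of `x` with stride `w` -/
def rep (w : ℕ) : ℕ → ℕ → ℕ
  | 0, x => x
  | k + 1, x => Nat.lor (rep w k x) (Nat.shiftLeft (rep w k x) (Nat.mul w (Nat.pow 2 k)))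

theorem testBit_rep {w x : ℕ} (hx : x < 2 ^ w) : ∀ (k I : ℕ),
    (rep w k x).testBit I = (decide (I < w * 2 ^ k) && x.testBit (I % w))
  | 0, I => by
    rw [rep, pow_zero, mul_one]
    by_cases h : I < w
    · rw [Nat.mod_eq_of_lt h]; simp [h]
    · have : x.testBit I = false :=
        Nat.testBit_lt_two_pow (lt_of_lt_of_le hx (Nat.pow_le_pow_right (by norm_num) (not_lt.1 h)))
      simp [h, this]
  | k + 1, I => by
    have e : rep w (k + 1) x = rep w k x ||| (rep w k x <<< (w * 2 ^ k)) := rfl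
    rw [e, Nat.testBit_or, Nat.testBit_shiftLeft, testBit_rep hx k, testBit_rep hx k]
    have hp : w * 2 ^ (k + 1) = w * 2 ^ k + w * 2 ^ k := by ring
    rw [hp]
    by_cases h : I < w * 2 ^ k
    · have h2 : ¬ (w * 2 ^ k ≤ I) := not_le.2 h
      have h3 : I < w * 2 ^ k + w * 2 ^ k := by omega
      simp [h, h2, h3]
    · have h2 : w * 2 ^ k ≤ I := not_lt.1 h
      have h4 : (I - w * 2 ^ k) % w = I % w := by
        conv_rhs => rw [← Nat.sub_add_cancel h2]
        rw [Nat.add_mul_mod_self_left]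
      rw [h4]
      by_cases h3 : I < w * 2 ^ k + w * 2 ^ k
      · have h5 : I - w * 2 ^ k < w * 2 ^ k := by omega
        simp [h, h2, h3, h5]
      · have h5 : ¬ (I - w * 2 ^ k < w * 2 ^ k) := by omega
        simp [h, h3, h5]

/-! ### column action -/

/-- the network acting on the columns of a matrix with `2^k` rows of width `w` -/
def appMr (w k : ℕ) : List (ℕ × ℕ) → ℕ → ℕ
  | [], x => x
  | p :: l, x => appMr w k l (dsw p.1 (rep w k p.2) x)

/-- the stage acts inside `{0..w-1}` -/
structure In1 (w d m : ℕ) : Prop where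
  valid : Valid1 d m
  lt : ∀ i, m.testBit i = true → i + d < w

theorem In1.m_lt {w d m : ℕ} (h : In1 w d m) : m < 2 ^ w := by
  apply Nat.lt_pow_two_of_testBit
  intro i hi
  by_contra hc
  rw [Bool.not_eq_false] at hc
  have := h.lt i hc
  omega

def in1 (w d m : ℕ) : Bool := valid1 d m && (Nat.ble d w && Nat.beq (Nat.shiftRight m (w - d)) 0)

theorem in1_sound {w d m : ℕ} (h : in1 w d m = true) : In1 w d m := by
  rw [in1, Bool.and_eq_true, Bool.and_eq_true] at h
  refine ⟨valid1_sound h.1, fun i hi => ?_⟩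
  have h1 : d ≤ w := Nat.le_of_ble_eq_true h.2.1
  have h2 : m >>> (w - d) = 0 := Nat.eq_of_beq_eq_true h.2.2
  by_contra hc
  have h3 : (m >>> (w - d)).testBit (i - (w - d)) = true := by
    rw [Nat.testBit_shiftRight]
    have : w - d + (i - (w - d)) = i := by omega
    rw [this, hi]
  rw [h2] at h3
  simp at h3

def In (w : ℕ) (l : List (ℕ × ℕ)) : Prop := ∀ p ∈ l, In1 w p.1 p.2

def inn (w : ℕ) : List (ℕ × ℕ) → Bool
  | [] => true
  | p :: l => in1 w p.1 p.2 && inn w l

theorem inn_sound {w : ℕ} : ∀ {l : List (ℕ × ℕ)}, inn w l = true → In w l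
  | [], _ => fun p hp => absurd hp (List.not_mem_nil)
  | p :: l, h => by
    rw [inn, Bool.and_eq_true] at h
    intro q hq
    rcases List.mem_cons.1 hq with rfl | hq
    · exact in1_sound h.1
    · exact inn_sound h.2 q hq

theorem In.cons {w : ℕ} {p : ℕ × ℕ} {l : List (ℕ × ℕ)} (h : In w (p :: l)) : In1 w p.1 p.2 ∧ In w l :=
  ⟨h p List.mem_cons_self, fun q hq => h q (List.mem_cons_of_mem _ hq)⟩

theorem In.valid {w : ℕ} {l : List (ℕ × ℕ)} (h : In w l) : Valid l := fun p hp => (h p hp).valid

theorem In1.sw_lt {w d m : ℕ} (h : In1 w d m) {c : ℕ} (hc : c < w) : sw d m c < w := by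
  by_cases h1 : m.testBit c = true
  · rw [sw_of_testBit h1]; exact h.lt c h1
  · rw [Bool.not_eq_true] at h1
    by_cases h2 : d ≤ c ∧ m.testBit (c - d) = true
    · rw [sw_of_testBit_sub h1 h2.1 h2.2]; omega
    · rw [sw_of_not h1 h2]; exact hc

theorem In.app_lt {w : ℕ} : ∀ {l : List (ℕ × ℕ)}, In w l → ∀ {c : ℕ}, c < w → app l c < w
  | [], _, _, hc => hc
  | p :: l, h, c, hc => by
    rw [app]
    exact In.app_lt h.cons.2 (h.cons.1.sw_lt hc)

theorem rep_valid {w d m : ℕ} (h : In1 w d m) (k : ℕ) : Valid1 d (rep w k m) := by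
  intro I hI
  rw [testBit_rep h.m_lt, Bool.and_eq_true] at hI
  rw [testBit_rep h.m_lt]
  have h1 := h.lt _ hI.2
  have h2 : (I + d) % w = I % w + d := by
    rw [Nat.add_mod]
    have h3 : d < w := by omega
    rw [Nat.mod_eq_of_lt h3, Nat.mod_eq_of_lt h1]
  rw [h2, h.valid _ hI.2]
  simp

theorem sw_rep {w d m : ℕ} (h : In1 w d m) {k r c : ℕ} (hr : r < 2 ^ k) (hc : c < w) :
    sw d (rep w k m) (w * r + c) = w * r + sw d m c := by
  have hw : 0 < w := by omega
  have key : ∀ r c, r < 2 ^ k → c < w → (rep w k m).testBit (w * r + c) = m.testBit c := by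
    intro r c hr hc
    rw [testBit_rep h.m_lt, Nat.mul_add_mod, Nat.mod_eq_of_lt hc]
    have : w * r + c < w * 2 ^ k := by
      calc w * r + c < w * r + w := by omega
        _ = w * (r + 1) := by ring
        _ ≤ w * 2 ^ k := Nat.mul_le_mul_left _ hr
    simp [this]
  by_cases h1 : m.testBit c = true
  · rw [sw_of_testBit h1, sw_of_testBit (by rw [key r c hr hc, h1])]
    ring
  · rw [Bool.not_eq_true] at h1
    have h1' : (rep w k m).testBit (w * r + c) = false := by rw [key r c hr hc, h1]
    by_cases h2 : d ≤ c ∧ m.testBit (c - d) = true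
    · rw [sw_of_testBit_sub h1 h2.1 h2.2]
      have e : w * r + c - d = w * r + (c - d) := by omega
      rw [sw_of_testBit_sub h1' (by omega) (by rw [e, key r (c - d) hr (by omega), h2.2]), e]
    · rw [sw_of_not h1 h2, sw_of_not h1']
      rintro ⟨h3, h4⟩
      rw [testBit_rep h.m_lt, Bool.and_eq_true] at h4
      have h5 := h.lt _ h4.2
      have h6 : (w * r + c - d) % w + d = c := by
        have h7 : (w * r + c) % w = ((w * r + c - d) % w + d) % w := by
          conv_lhs => rw [← Nat.sub_add_cancel h3]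
          rw [Nat.mod_add_mod]
        rw [Nat.mod_eq_of_lt h5, Nat.mul_add_mod, Nat.mod_eq_of_lt hc] at h7
        exact h7.symm
      have h8 : (w * r + c - d) % w = c - d := by omega
      rw [h8] at h4
      exact h2 ⟨by omega, h4.2⟩

theorem testBit_appMr {w k : ℕ} : ∀ {l : List (ℕ × ℕ)}, In w l → ∀ (x : ℕ) {r c : ℕ}, r < 2 ^ k → c < w →
    (appMr w k l x).testBit (w * r + app l c) = x.testBit (w * r + c)
  | [], _, _, _, _, _, _ => rfl
  | p :: l, h, x, r, c, hr, hc => by
    rw [app, appMr, testBit_appMr h.cons.2 _ hr (h.cons.1.sw_lt hc), testBit_dsw (rep_valid h.cons.1 k),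
      sw_rep h.cons.1 hr (h.cons.1.sw_lt hc), sw_sw h.cons.1.valid]

/-! ### transposition -/

/-- all indices below `2^n` whose bit `a` is set -/
def idxMask (n a : ℕ) : ℕ :=
  rep (Nat.pow 2 (a + 1)) (n - (a + 1)) (Nat.shiftLeft (Nat.pow 2 (Nat.pow 2 a) - 1) (Nat.pow 2 a))

theorem testBit_eq_le_mod (I a : ℕ) : I.testBit a = decide (2 ^ a ≤ I % 2 ^ (a + 1)) := by
  rw [Nat.testBit_eq_decide_div_mod_eq]
  have h : I % 2 ^ (a + 1) = 2 ^ a * (I / 2 ^ a % 2) + I % 2 ^ a := by
    rw [pow_succ, Nat.mod_mul]; ring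
  have h2 : I % 2 ^ a < 2 ^ a := Nat.mod_lt _ (by positivity)
  rw [h]
  rcases Nat.mod_two_eq_zero_or_one (I / 2 ^ a) with h3 | h3 <;> rw [h3]
  · simpa using h2
  · simp

theorem testBit_idxMask {n a : ℕ} (ha : a < n) (I : ℕ) :
    (idxMask n a).testBit I = (decide (I < 2 ^ n) && I.testBit a) := by
  have e : idxMask n a = rep (2 ^ (a + 1)) (n - (a + 1)) ((2 ^ (2 ^ a) - 1) <<< (2 ^ a)) := rfl
  have hx : (2 ^ (2 ^ a) - 1) <<< (2 ^ a) < 2 ^ (2 ^ (a + 1)) := by
    apply Nat.lt_pow_two_of_testBit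
    intro i hi
    rw [Nat.testBit_shiftLeft, Nat.testBit_two_pow_sub_one]
    have : ¬ (i - 2 ^ a < 2 ^ a) := by
      have : 2 ^ (a + 1) = 2 ^ a + 2 ^ a := by ring
      omega
    simp [this]
  rw [e, testBit_rep hx, ← pow_add]
  have h1 : a + 1 + (n - (a + 1)) = n := by omega
  rw [h1, Nat.testBit_shiftLeft, Nat.testBit_two_pow_sub_one, testBit_eq_le_mod]
  have h2 : I % 2 ^ (a + 1) < 2 ^ (a + 1) := Nat.mod_lt _ (by positivity)
  have h3 : (I % 2 ^ (a + 1) - 2 ^ a < 2 ^ a) := by
    have : 2 ^ (a + 1) = 2 ^ a + 2 ^ a := by ring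
    have : 0 < 2 ^ a := by positivity
    omega
  simp [h3]

/-- mask of the stage exchanging the index bits `a < b` -/
def trMask (n a b : ℕ) : ℕ := Nat.xor (idxMask n a) (Nat.land (idxMask n a) (idxMask n b))

theorem testBit_trMask {n a b : ℕ} (ha : a < n) (hb : b < n) (I : ℕ) :
    (trMask n a b).testBit I = (decide (I < 2 ^ n) && (I.testBit a && !I.testBit b)) := by
  have e : trMask n a b = idxMask n a ^^^ (idxMask n a &&& idxMask n b) := rfl
  rw [e, Nat.testBit_xor, Nat.testBit_and, testBit_idxMask ha, testBit_idxMask hb]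
  cases decide (I < 2 ^ n) <;> cases I.testBit a <;> cases I.testBit b <;> rfl

theorem testBit_add_two_pow {x a : ℕ} (h : x.testBit a = false) (j : ℕ) :
    (x + 2 ^ a).testBit j = (decide (j = a) || x.testBit j) := by
  have h1 : x % 2 ^ (a + 1) < 2 ^ a := by
    rw [testBit_eq_le_mod] at h
    simpa using h
  have h2 : x = 2 ^ (a + 1) * (x / 2 ^ (a + 1)) + x % 2 ^ (a + 1) := (Nat.div_add_mod _ _).symm
  have h3 : x + 2 ^ a = 2 ^ (a + 1) * (x / 2 ^ (a + 1)) + (2 ^ a + x % 2 ^ (a + 1)) := by omega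
  have h4 : 2 ^ a + x % 2 ^ (a + 1) < 2 ^ (a + 1) := by
    have : 2 ^ (a + 1) = 2 ^ a + 2 ^ a := by ring
    omega
  have h5 : x.testBit j = if j < a + 1 then (x % 2 ^ (a + 1)).testBit j
      else (x / 2 ^ (a + 1)).testBit (j - (a + 1)) := by
    conv_lhs => rw [h2]
    rw [Nat.testBit_two_pow_mul_add _ (Nat.mod_lt _ (by positivity))]
  rw [h5, h3, Nat.testBit_two_pow_mul_add _ h4]
  by_cases hj : j < a + 1
  · rw [if_pos hj, if_pos hj]
    by_cases hja : j = a
    · subst hja
      rw [Nat.testBit_two_pow_add_eq, Nat.testBit_lt_two_pow h1]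
      simp
    · rw [Nat.testBit_two_pow_add_gt (by omega)]
      simp [hja]
  · rw [if_neg hj, if_neg hj]
    have : j ≠ a := by omega
    simp [this]

/-- moving the set bit `a` to the clear bit `b` -/
theorem testBit_move {I a b : ℕ} (hab : a < b) (h1 : I.testBit a = true) (h2 : I.testBit b = false) (j : ℕ) :
    (I + (2 ^ b - 2 ^ a)).testBit j = if j = a then false else if j = b then true else I.testBit j := by
  have hpow : 2 ^ a < 2 ^ b := Nat.pow_lt_pow_right (by norm_num) hab
  have hle : 2 ^ a ≤ I := Nat.ge_two_pow_of_testBit h1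
  obtain ⟨y, hy⟩ : ∃ y, I = y + 2 ^ a := ⟨I - 2 ^ a, by omega⟩
  have hya : y.testBit a = false := by
    rw [hy, add_comm, Nat.testBit_two_pow_add_eq] at h1
    simpa using h1
  have hyj : ∀ j, j ≠ a → y.testBit j = I.testBit j := by
    intro j hj
    rw [hy, testBit_add_two_pow hya]
    simp [hj]
  have hyb : y.testBit b = false := by rw [hyj b (by omega), h2]
  have e : I + (2 ^ b - 2 ^ a) = y + 2 ^ b := by omega
  rw [e, testBit_add_two_pow hyb]
  by_cases hja : j = a
  · subst hja
    have : j ≠ b := by omega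
    simp [this, hya]
  · rw [hyj j hja, if_neg hja]
    by_cases hjb : j = b
    · simp [hjb]
    · simp [hjb]

def swapIdx (a b j : ℕ) : ℕ := if j = a then b else if j = b then a else j

theorem sw_trMask {n a b : ℕ} (hab : a < b) (hb : b < n) {I : ℕ} (hI : I < 2 ^ n) :
    (∀ j, (sw (2 ^ b - 2 ^ a) (trMask n a b) I).testBit j = I.testBit (swapIdx a b j)) ∧
      sw (2 ^ b - 2 ^ a) (trMask n a b) I < 2 ^ n := by
  have ha : a < n := by omega
  have hpow : 2 ^ a < 2 ^ b := Nat.pow_lt_pow_right (by norm_num) hab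
  have main : ∀ j, (sw (2 ^ b - 2 ^ a) (trMask n a b) I).testBit j = I.testBit (swapIdx a b j) := by
    intro j
    by_cases h1 : I.testBit a = true ∧ I.testBit b = false
    · have h2 : (trMask n a b).testBit I = true := by
        rw [testBit_trMask ha hb]; simp [hI, h1.1, h1.2]
      rw [sw_of_testBit h2, testBit_move hab h1.1 h1.2, swapIdx]
      by_cases hja : j = a
      · rw [if_pos hja, if_pos hja, h1.2]
      · rw [if_neg hja, if_neg hja]
        by_cases hjb : j = b
        · rw [if_pos hjb, if_pos hjb, h1.1]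
        · rw [if_neg hjb, if_neg hjb]
    · have h2 : (trMask n a b).testBit I = false := by
        rw [testBit_trMask ha hb]
        rcases h3 : I.testBit a with _ | _ <;> rcases h4 : I.testBit b with _ | _ <;> simp_all
      by_cases h3 : 2 ^ b - 2 ^ a ≤ I ∧ (trMask n a b).testBit (I - (2 ^ b - 2 ^ a)) = true
      · rw [sw_of_testBit_sub h2 h3.1 h3.2]
        obtain ⟨J, hJ⟩ : ∃ J, I = J + (2 ^ b - 2 ^ a) := ⟨I - (2 ^ b - 2 ^ a), by omega⟩
        have e : I - (2 ^ b - 2 ^ a) = J := by omega
        have h4 := h3.2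
        rw [e, testBit_trMask ha hb, Bool.and_eq_true, Bool.and_eq_true] at h4
        have h5 : J.testBit b = false := by simpa using h4.2.2
        have h6 := testBit_move hab h4.2.1 h5
        rw [← hJ] at h6
        rw [e, swapIdx]
        by_cases hja : j = a
        · rw [if_pos hja, h6 b, if_neg (by omega), if_pos rfl, hja]
          exact h4.2.1
        · rw [if_neg hja]
          by_cases hjb : j = b
          · rw [if_pos hjb, h6 a, if_pos rfl, hjb, h5]
          · rw [if_neg hjb, h6 j, if_neg hja, if_neg hjb]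
      · rw [sw_of_not h2 h3]
        -- the bits a and b of I agree
        have h4 : I.testBit a = I.testBit b := by
          by_contra hne
          have h5 : I.testBit a = false ∧ I.testBit b = true := by
            rcases h6 : I.testBit a with _ | _ <;> rcases h7 : I.testBit b with _ | _ <;> simp_all
          have hle : 2 ^ b ≤ I := Nat.ge_two_pow_of_testBit h5.2
          obtain ⟨y, hy⟩ : ∃ y, I = y + 2 ^ b := ⟨I - 2 ^ b, by omega⟩
          have hyb : y.testBit b = false := by
            have h8 := h5.2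
            rw [hy, add_comm, Nat.testBit_two_pow_add_eq] at h8
            simpa using h8
          have hyj : ∀ j, j ≠ b → y.testBit j = I.testBit j := by
            intro j hj
            rw [hy, testBit_add_two_pow hyb]
            simp [hj]
          have hya : y.testBit a = false := by rw [hyj a (by omega), h5.1]
          have e0 : I = (y + 2 ^ a) + (2 ^ b - 2 ^ a) := by
            rw [hy, add_assoc, Nat.add_sub_cancel' hpow.le]
          have e : I - (2 ^ b - 2 ^ a) = y + 2 ^ a := by
            conv_lhs => rw [e0]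
            exact Nat.add_sub_cancel _ _
          apply h3
          refine ⟨by rw [e0]; exact Nat.le_add_left _ _, ?_⟩
          rw [testBit_trMask ha hb, e, testBit_add_two_pow hya, testBit_add_two_pow hya]
          have hlt : y + 2 ^ a < 2 ^ n :=
            calc y + 2 ^ a < y + 2 ^ b := Nat.add_lt_add_left hpow y
              _ = I := hy.symm
              _ < 2 ^ n := hI
          have hba : b ≠ a := by omega
          simp [hlt, hyb, hba]
        rw [swapIdx]
        by_cases hja : j = a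
        · rw [if_pos hja, hja, h4]
        · rw [if_neg hja]
          by_cases hjb : j = b
          · rw [if_pos hjb, hjb, h4]
          · rw [if_neg hjb]
  refine ⟨main, ?_⟩
  apply Nat.lt_pow_two_of_testBit
  intro j hj
  rw [main j, swapIdx, if_neg (by omega), if_neg (by omega)]
  exact Nat.testBit_lt_two_pow (lt_of_lt_of_le hI (Nat.pow_le_pow_right (by norm_num) hj))

theorem trMask_valid {n a b : ℕ} (hab : a < b) (hb : b < n) : Valid1 (2 ^ b - 2 ^ a) (trMask n a b) := by
  have ha : a < n := by omega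
  intro I hI
  rw [testBit_trMask ha hb, Bool.and_eq_true, Bool.and_eq_true] at hI
  rw [testBit_trMask ha hb, testBit_move hab hI.2.1 (by simpa using hI.2.2)]
  simp

/-- transposition: exchange the index bits `a` and `a + K` for `a < t` -/
def trAux (K : ℕ) : ℕ → ℕ → ℕ
  | 0, x => x
  | t + 1, x => dsw (Nat.pow 2 (t + K) - Nat.pow 2 t) (trMask (2 * K) t (t + K)) (trAux K t x)

def transp (K x : ℕ) : ℕ := trAux K K x

theorem testBit_trAux {K : ℕ} (x : ℕ) : ∀ t, t ≤ K → ∀ I, I < 2 ^ (2 * K) → ∃ I', I' < 2 ^ (2 * K) ∧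
    (trAux K t x).testBit I = x.testBit I' ∧
    ∀ j, I'.testBit j = I.testBit (if j < t then j + K else if K ≤ j ∧ j < K + t then j - K else j)
  | 0, _, I, hI => ⟨I, hI, rfl, fun j => by
      rw [if_neg (Nat.not_lt_zero _), if_neg (by omega)]⟩
  | t + 1, ht, I, hI => by
    have hab : t < t + K := by omega
    have hb : t + K < 2 * K := by omega
    have e : trAux K (t + 1) x = dsw (2 ^ (t + K) - 2 ^ t) (trMask (2 * K) t (t + K)) (trAux K t x) := rfl
    obtain ⟨h1, h2⟩ := sw_trMask hab hb hI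
    obtain ⟨I', h3, h4, h5⟩ := testBit_trAux x t (by omega) _ h2
    refine ⟨I', h3, ?_, fun j => ?_⟩
    · rw [e, testBit_dsw (trMask_valid hab hb), h4]
    · rw [h5, h1]
      congr 1
      unfold swapIdx
      split_ifs <;> omega

theorem testBit_transp {K : ℕ} (x : ℕ) {r c : ℕ} (hr : r < 2 ^ K) (hc : c < 2 ^ K) :
    (transp K x).testBit (2 ^ K * r + c) = x.testBit (2 ^ K * c + r) := by
  have hlt : ∀ r c, r < 2 ^ K → c < 2 ^ K → 2 ^ K * r + c < 2 ^ (2 * K) := by
    intro r c hr hc
    calc 2 ^ K * r + c < 2 ^ K * r + 2 ^ K := by omega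
      _ = 2 ^ K * (r + 1) := by ring
      _ ≤ 2 ^ K * 2 ^ K := Nat.mul_le_mul_left _ hr
      _ = 2 ^ (2 * K) := by rw [← pow_add]; congr 1; omega
  obtain ⟨I', h1, h2, h3⟩ := testBit_trAux (K := K) x K le_rfl _ (hlt r c hr hc)
  rw [transp, h2]
  congr 1
  apply Nat.eq_of_testBit_eq
  intro j
  rw [h3]
  rw [Nat.testBit_two_pow_mul_add _ hr, Nat.testBit_two_pow_mul_add _ hc]
  by_cases hj : j < K
  · have h5 : ¬ (j + K < K) := by omega
    simp only [hj, if_true, h5, if_false]
    congr 1
    omega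
  · by_cases hj2 : j < K + K
    · have h5 : K ≤ j ∧ j < K + K := ⟨by omega, hj2⟩
      have h6 : j - K < K := by omega
      simp only [hj, if_false, h5, and_self, if_true, h6]
    · have h5 : ¬ (K ≤ j ∧ j < K + K) := by omega
      simp only [hj, if_false, h5]
      rw [Nat.testBit_lt_two_pow (lt_of_lt_of_le hr (Nat.pow_le_pow_right (by norm_num) (by omega))),
        Nat.testBit_lt_two_pow (lt_of_lt_of_le hc (Nat.pow_le_pow_right (by norm_num) (by omega)))]

/-! ### packing rows -/

/-- the matrix with rows `row b, row (b+1), ..., row (b + 2^k - 1)` of width `w` -/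
def pack (row : ℕ → ℕ) (w : ℕ) : ℕ → ℕ → ℕ
  | 0, b => Nat.mod (row b) (Nat.pow 2 w)
  | k + 1, b => Nat.lor (pack row w k b) (Nat.shiftLeft (pack row w k (Nat.add b (Nat.pow 2 k))) (Nat.mul w (Nat.pow 2 k)))

theorem pack_lt (row : ℕ → ℕ) (w : ℕ) : ∀ k b, pack row w k b < 2 ^ (w * 2 ^ k)
  | 0, b => by
    have e : pack row w 0 b = row b % 2 ^ w := rfl
    rw [e, pow_zero, mul_one]
    exact Nat.mod_lt _ (by positivity)
  | k + 1, b => by
    have e : pack row w (k + 1) b = pack row w k b ||| (pack row w k (b + 2 ^ k) <<< (w * 2 ^ k)) := rfl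
    have hp : w * 2 ^ (k + 1) = w * 2 ^ k + w * 2 ^ k := by ring
    apply Nat.lt_pow_two_of_testBit
    intro i hi
    rw [hp] at hi
    rw [e, Nat.testBit_or, Nat.testBit_shiftLeft,
      Nat.testBit_lt_two_pow (lt_of_lt_of_le (pack_lt row w k b) (Nat.pow_le_pow_right (by norm_num) (by omega))),
      Nat.testBit_lt_two_pow (lt_of_lt_of_le (pack_lt row w k (b + 2 ^ k))
        (Nat.pow_le_pow_right (by norm_num) (by omega)))]
    simp

theorem testBit_pack (row : ℕ → ℕ) {w : ℕ} : ∀ k b {r c : ℕ}, r < 2 ^ k → c < w →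
    (pack row w k b).testBit (w * r + c) = (row (b + r)).testBit c
  | 0, b, r, c, hr, hc => by
    have e : pack row w 0 b = row b % 2 ^ w := rfl
    have : r = 0 := by simpa using hr
    subst this
    rw [e, mul_zero, zero_add, add_zero, Nat.testBit_mod_two_pow]
    simp [hc]
  | k + 1, b, r, c, hr, hc => by
    have e : pack row w (k + 1) b = pack row w k b ||| (pack row w k (b + 2 ^ k) <<< (w * 2 ^ k)) := rfl
    rw [e, Nat.testBit_or, Nat.testBit_shiftLeft]
    by_cases h : r < 2 ^ k
    · have hlt : w * r + c < w * 2 ^ k := by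
        calc w * r + c < w * r + w := by omega
          _ = w * (r + 1) := by ring
          _ ≤ w * 2 ^ k := Nat.mul_le_mul_left _ h
      rw [testBit_pack row k b h hc]
      have : ¬ (w * 2 ^ k ≤ w * r + c) := by omega
      simp [this]
    · have h' : 2 ^ k ≤ r := not_lt.1 h
      have hle : w * 2 ^ k ≤ w * r + c := by
        calc w * 2 ^ k ≤ w * r := Nat.mul_le_mul_left _ h'
          _ ≤ w * r + c := Nat.le_add_right _ _
      have e2 : w * r + c - w * 2 ^ k = w * (r - 2 ^ k) + c := by
        rw [Nat.mul_sub]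
        have : w * 2 ^ k ≤ w * r := Nat.mul_le_mul_left _ h'
        omega
      have hr2 : r - 2 ^ k < 2 ^ k := by
        have : 2 ^ (k + 1) = 2 ^ k + 2 ^ k := by ring
        omega
      rw [e2, testBit_pack row k _ hr2 hc,
        Nat.testBit_lt_two_pow (lt_of_lt_of_le (pack_lt row w k b) (Nat.pow_le_pow_right (by norm_num) hle))]
      have e3 : b + 2 ^ k + (r - 2 ^ k) = b + r := by omega
      simp [hle, e3]

/-! ### relations -/

/-- kernel check: the relation is symmetric -/
def symCheck (K : ℕ) (row : ℕ → ℕ) : Bool :=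
  Nat.beq (transp K (pack row (Nat.pow 2 K) K 0)) (pack row (Nat.pow 2 K) K 0)

theorem symCheck_sound {K : ℕ} {row : ℕ → ℕ} (h : symCheck K row = true) {u v : ℕ} (hu : u < 2 ^ K)
    (hv : v < 2 ^ K) : (row u).testBit v = (row v).testBit u := by
  have h1 : transp K (pack row (2 ^ K) K 0) = pack row (2 ^ K) K 0 := Nat.eq_of_beq_eq_true h
  have h2 := testBit_transp (pack row (2 ^ K) K 0) hu hv
  rw [h1, testBit_pack row K 0 hu hv, testBit_pack row K 0 hv hu, zero_add, zero_add] at h2
  exact h2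

/-- kernel check: the network preserves the (symmetric) relation -/
def invCheck (K : ℕ) (row : ℕ → ℕ) (l : List (ℕ × ℕ)) : Bool :=
  inn (Nat.pow 2 K) l &&
  Nat.beq (appMr (Nat.pow 2 K) K l (transp K (appMr (Nat.pow 2 K) K l (pack row (Nat.pow 2 K) K 0))))
    (pack row (Nat.pow 2 K) K 0)

theorem invCheck_sound {K : ℕ} {row : ℕ → ℕ} (hs : symCheck K row = true) {l : List (ℕ × ℕ)}
    (h : invCheck K row l = true) :
    In (2 ^ K) l ∧ ∀ {u v : ℕ}, u < 2 ^ K → v < 2 ^ K →
      (row (app l u)).testBit (app l v) = (row u).testBit v := by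
  rw [invCheck, Bool.and_eq_true] at h
  have hin : In (2 ^ K) l := inn_sound h.1
  refine ⟨hin, fun {u v} hu hv => ?_⟩
  have h1 : appMr (2 ^ K) K l (transp K (appMr (2 ^ K) K l (pack row (2 ^ K) K 0))) = pack row (2 ^ K) K 0 :=
    Nat.eq_of_beq_eq_true h.2
  have hau := hin.app_lt hu
  have hav := hin.app_lt hv
  have h2 := testBit_appMr hin (transp K (appMr (2 ^ K) K l (pack row (2 ^ K) K 0))) (k := K) hav hu
  rw [h1, testBit_transp _ hav hu, testBit_appMr hin _ hu hv, testBit_pack row K 0 hav hau,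
    testBit_pack row K 0 hu hv, zero_add, zero_add] at h2
  rw [← h2]
  exact (symCheck_sound hs hav hau).symm

end Cfsg.Agent.Lib.BitNet
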