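import Cfsg.Agent.Lib.BitNetGroup
import Mathlib.GroupTheory.Coset.Card
import Mathlib.GroupTheory.QuotientGroup.Basic
import Mathlib.GroupTheory.Subgroup.Simple

set_option autoImplicit false

/-!
Simplicity of permutation groups given by explicit networks.

* `Mem K l`: the network `l` is a permutation of `{0..n-1}` lying in `K`; closed under concatenation and reversal.
* forced (call by value) versions `appF`, `appMF`, `iterF`, `powF` of `app`, `appM`, `iter`, `(app l)^[k]`, for the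
  kernel.
* `isSimpleGroup_of_orbit`: if every union of `G_b`-orbits containing `b` whose length divides the length of the orbit
  of `b` is trivial or everything, then a normal subgroup `K ≠ 1` contains all `g` with `g ^ m = 1`, `m` prime to
  `|G_b|`.
* `block_of_subs`: the hypothesis of the previous theorem from a kernel computation.
-/

namespace Cfsg.Agent.Lib.BitNetSimple

open Cfsg.Agent.Lib.BitNet

/-! ### forced evaluation -/

/-- strict application: forces the kernel to evaluate the argument first -/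
noncomputable def force {α : Type} (x : ℕ) (f : ℕ → α) : α :=
  Nat.rec (f 0) (fun m _ => f (Nat.succ m)) x

theorem force_eq {α : Type} (x : ℕ) (f : ℕ → α) : force x f = f x := by
  cases x <;> rfl

/-- bit `i` of `m` -/
def tb (m i : ℕ) : Bool := Nat.beq (Nat.land (Nat.shiftRight m i) 1) 1

theorem tb_eq (m i : ℕ) : tb m i = m.testBit i := by
  have h : (m >>> i) % 2 = (m.testBit i).toNat := by
    rw [Nat.toNat_testBit, Nat.shiftRight_eq_div_pow]
  have e : tb m i = Nat.beq ((m >>> i) &&& 1) 1 := rfl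
  rw [e, Nat.and_one_is_mod, h]
  cases m.testBit i <;> rfl

/-- `sw` for the kernel -/
def swF (d m i : ℕ) : ℕ :=
  bif tb m i then Nat.add i d
  else bif (Nat.ble d i && tb m (Nat.sub i d)) then Nat.sub i d
  else i

theorem swF_eq (d m i : ℕ) : swF d m i = sw d m i := by
  unfold swF sw
  rw [tb_eq, tb_eq]
  rfl

noncomputable def appF (l : List (ℕ × ℕ)) : ℕ → ℕ :=
  List.rec (fun i => i) (fun p _ ih i => force (swF p.1 p.2 i) ih) l

theorem appF_eq : ∀ (l : List (ℕ × ℕ)) (i : ℕ), appF l i = app l i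
  | [], _ => rfl
  | p :: l, i => by
    have e : appF (p :: l) i = force (swF p.1 p.2 i) (appF l) := rfl
    rw [e, force_eq, appF_eq l, swF_eq]
    rfl

noncomputable def appMF (l : List (ℕ × ℕ)) : ℕ → ℕ :=
  List.rec (fun x => x) (fun p _ ih x => force (dsw p.1 p.2 x) ih) l

theorem appMF_eq : ∀ (l : List (ℕ × ℕ)) (x : ℕ), appMF l x = appM l x
  | [], _ => rfl
  | p :: l, x => by
    have e : appMF (p :: l) x = force (dsw p.1 p.2 x) (appMF l) := rfl
    rw [e, force_eq, appMF_eq l]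
    rfl

noncomputable def powF (l : List (ℕ × ℕ)) (k : ℕ) : ℕ → ℕ :=
  Nat.rec (fun i => i) (fun _ ih i => force (appF l i) ih) k

theorem powF_eq (l : List (ℕ × ℕ)) : ∀ (k i : ℕ), powF l k i = (app l)^[k] i
  | 0, _ => rfl
  | k + 1, i => by
    have e : powF l (k + 1) i = force (appF l i) (powF l k) := rfl
    rw [e, force_eq, powF_eq l k, appF_eq, Function.iterate_succ_apply]

noncomputable def stepF (gs : List (List (ℕ × ℕ))) : ℕ → ℕ :=
  List.rec (fun x => x) (fun g _ ih x => force (Nat.lor x (appMF g x)) ih) gs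

theorem stepF_eq : ∀ (gs : List (List (ℕ × ℕ))) (x : ℕ), stepF gs x = step gs x
  | [], _ => rfl
  | g :: gs, x => by
    have e : stepF (g :: gs) x = force (Nat.lor x (appMF g x)) (stepF gs) := rfl
    rw [e, force_eq, stepF_eq gs, appMF_eq]
    rfl

noncomputable def iterF (gs : List (List (ℕ × ℕ))) (k : ℕ) : ℕ → ℕ :=
  Nat.rec (fun x => x) (fun _ ih x => force (stepF gs x) ih) k

theorem iterF_eq (gs : List (List (ℕ × ℕ))) : ∀ (k x : ℕ), iterF gs k x = iter gs k x
  | 0, _ => rfl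
  | k + 1, x => by
    have e : iterF gs (k + 1) x = force (stepF gs x) (iterF gs k) := rfl
    rw [e, force_eq, iterF_eq gs k, stepF_eq]
    rfl

/-! ### membership of networks -/

/-- the network `l` is a permutation of `{0..n-1}` in `K` -/
def Mem {n : ℕ} (K : Subgroup (Equiv.Perm (Fin n))) (l : List (ℕ × ℕ)) : Prop :=
  ∃ h : OkNet n l, perm h ∈ K

theorem app_append : ∀ (l l' : List (ℕ × ℕ)) (i : ℕ), app (l ++ l') i = app l' (app l i)
  | [], _, _ => rfl
  | p :: l, l', i => by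
    rw [List.cons_append, app, app, app_append l l']

theorem app_reverse : ∀ (l : List (ℕ × ℕ)) (i : ℕ), app l.reverse i = appInv l i
  | [], _ => rfl
  | p :: l, i => by
    rw [List.reverse_cons, app_append, app_reverse l]
    rfl

section

variable {n : ℕ} {K : Subgroup (Equiv.Perm (Fin n))}

theorem okNet_append {l l' : List (ℕ × ℕ)} (h : OkNet n l) (h' : OkNet n l') : OkNet n (l ++ l') := by
  refine ⟨fun p hp => ?_, fun i => ?_⟩
  · rcases List.mem_append.1 hp with hp | hp
    · exact h.valid p hp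
    · exact h'.valid p hp
  · rw [app_append, h'.lt_iff, h.lt_iff]

theorem okNet_reverse {l : List (ℕ × ℕ)} (h : OkNet n l) : OkNet n l.reverse := by
  refine ⟨fun p hp => h.valid p (List.mem_reverse.1 hp), fun i => ?_⟩
  rw [app_reverse, h.inv_lt]

theorem perm_append {l l' : List (ℕ × ℕ)} (h : OkNet n l) (h' : OkNet n l') (h'' : OkNet n (l ++ l')) :
    perm h'' = perm h' * perm h := by
  apply Equiv.ext
  intro i
  apply Fin.ext
  rw [perm_apply, app_append]
  rfl

theorem perm_reverse {l : List (ℕ × ℕ)} (h : OkNet n l) (h' : OkNet n l.reverse) :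
    perm h' = (perm h)⁻¹ := by
  apply Equiv.ext
  intro i
  apply Fin.ext
  rw [perm_apply, app_reverse]
  rfl

theorem Mem.append {l l' : List (ℕ × ℕ)} (h : Mem K l) (h' : Mem K l') : Mem K (l ++ l') := by
  obtain ⟨o, m⟩ := h
  obtain ⟨o', m'⟩ := h'
  refine ⟨okNet_append o o', ?_⟩
  rw [perm_append o o']
  exact K.mul_mem m' m

theorem Mem.reverse {l : List (ℕ × ℕ)} (h : Mem K l) : Mem K l.reverse := by
  obtain ⟨o, m⟩ := h
  refine ⟨okNet_reverse o, ?_⟩
  rw [perm_reverse o]
  exact K.inv_mem m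

theorem Mem.left {l l' : List (ℕ × ℕ)} (o : OkNet n l) (h : Mem K (l ++ l')) (h' : Mem K l') : Mem K l := by
  obtain ⟨o'', m''⟩ := h
  obtain ⟨o', m'⟩ := h'
  refine ⟨o, ?_⟩
  rw [perm_append o o'] at m''
  exact (K.mul_mem_cancel_left m').1 m''

theorem Mem.right {l l' : List (ℕ × ℕ)} (o' : OkNet n l') (h : Mem K (l ++ l')) (h' : Mem K l) : Mem K l' := by
  obtain ⟨o'', m''⟩ := h
  obtain ⟨o, m⟩ := h'
  refine ⟨o', ?_⟩
  rw [perm_append o o'] at m''
  exact (K.mul_mem_cancel_right m).1 m''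

theorem Mem.of_reverse {l : List (ℕ × ℕ)} (o : OkNet n l) (h : Mem K l.reverse) : Mem K l := by
  obtain ⟨o', m⟩ := h
  refine ⟨o, ?_⟩
  rw [perm_reverse o] at m
  exact K.inv_mem_iff.1 m

theorem Mem.stab {l : List (ℕ × ℕ)} {b : Fin n} (h : Mem K l) (hb : Nat.beq (appF l b) b = true) :
    Mem (K ⊓ MulAction.stabilizer (Equiv.Perm (Fin n)) b) l := by
  rw [appF_eq] at hb
  exact mem_inf_stabilizer h (Nat.eq_of_beq_eq_true hb)

theorem Mem.mono {K' : Subgroup (Equiv.Perm (Fin n))} (hK : K ≤ K') {l : List (ℕ × ℕ)} (h : Mem K l) : Mem K' l := by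
  obtain ⟨o, m⟩ := h
  exact ⟨o, hK m⟩

theorem perm_pow_apply {l : List (ℕ × ℕ)} (h : OkNet n l) : ∀ (k : ℕ) (i : Fin n),
    (((perm h ^ k) i : Fin n) : ℕ) = (app l)^[k] i
  | 0, i => rfl
  | k + 1, i => by
    rw [pow_succ, Equiv.Perm.mul_apply, perm_pow_apply h k, perm_apply, Function.iterate_succ_apply]

theorem perm_pow_fix {l : List (ℕ × ℕ)} (h : OkNet n l) {k : ℕ} {b : Fin n}
    (hb : Nat.beq (powF l k b) b = true) : (perm h ^ k) b = b := by
  apply Fin.ext
  rw [perm_pow_apply, ← powF_eq]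
  exact Nat.eq_of_beq_eq_true hb

/-! ### orbits -/

theorem orbit_card_ge' {K : Subgroup (Equiv.Perm (Fin n))} {L : ℕ} {b : Fin n}
    {gs : List (List (ℕ × ℕ))} (hg : ∀ g ∈ gs, Mem K g) {k s : ℕ}
    (hs : Nat.ble s (popc L (iterF gs k (Nat.pow 2 b))) = true) :
    s ≤ Nat.card (MulAction.orbit K b) := by
  rw [iterF_eq] at hs
  exact orbit_card_ge hg hs

theorem lower_step' {L : ℕ} {K : Subgroup (Equiv.Perm (Fin n))} {b : Fin n}
    {gs : List (List (ℕ × ℕ))} (hg : ∀ g ∈ gs, Mem K g) {k s : ℕ}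
    (hs : Nat.ble s (popc L (iterF gs k (Nat.pow 2 b))) = true) :
    s * Nat.card ↥(K ⊓ MulAction.stabilizer (Equiv.Perm (Fin n)) b) ≤ Nat.card K := by
  rw [iterF_eq] at hs
  exact lower_step hg hs

/-- the points of `iterF gs k (2 ^ b)` are images of `b` under `K` -/
theorem exists_of_iterF {K : Subgroup (Equiv.Perm (Fin n))} {b : Fin n}
    {gs : List (List (ℕ × ℕ))} (hg : ∀ g ∈ gs, Mem K g) {k c : ℕ}
    (hc : Nat.beq (iterF gs k (Nat.pow 2 b)) c = true) {i : Fin n} (hi : c.testBit i = true) :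
    ∃ g ∈ K, g b = i := by
  have h1 := InOrbit.iter hg k (InOrbit.single K b)
  rw [iterF_eq] at hc
  have h2 : iter gs k (2 ^ (b : ℕ)) = c := Nat.eq_of_beq_eq_true hc
  rw [h2] at h1
  obtain ⟨h3, g, hg'⟩ := h1 i hi
  exact ⟨g.1, g.2, hg'⟩

/-! ### the criterion -/

open MulAction

theorem relIndex_mul_card {G : Type*} [Group G] {H K : Subgroup G} (h : H ≤ K) :
    H.relIndex K * Nat.card H = Nat.card K := by
  rw [← (H.subgroupOf K).index_mul_card, Nat.card_congr (Subgroup.subgroupOfEquivOfLe h).toEquiv]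
  rfl

theorem card_orbit_dvd_of_normal {G : Type*} [Group G] [Finite G] (N S : Subgroup G) [hN : N.Normal] :
    S.relIndex N ∣ S.index := by
  have h1 : S.relIndex (N ⊔ S) ∣ S.index := Subgroup.relIndex_dvd_index_of_le le_sup_right
  suffices h : S.relIndex (N ⊔ S) = S.relIndex N by rwa [h] at h1
  have h2 : S.relIndex (N ⊔ S) * Nat.card S = Nat.card ↥(N ⊔ S) :=
    (relIndex_mul_card le_sup_right)
  have h3 : N.relIndex (N ⊔ S) * Nat.card N = Nat.card ↥(N ⊔ S) :=
    (relIndex_mul_card le_sup_left)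
  rw [Subgroup.relIndex_sup_left] at h3
  have h4 : (N ⊓ S).relIndex S * Nat.card ↥(N ⊓ S) = Nat.card S := relIndex_mul_card inf_le_right
  have h5 : (N ⊓ S).relIndex N * Nat.card ↥(N ⊓ S) = Nat.card N := relIndex_mul_card inf_le_left
  rw [Subgroup.inf_relIndex_right] at h4
  rw [Subgroup.inf_relIndex_left] at h5
  have h6 : 0 < Nat.card ↥(N ⊓ S) := Nat.card_pos
  have h7 : 0 < N.relIndex S := by
    rcases Nat.eq_zero_or_pos (N.relIndex S) with h | h
    · rw [h, zero_mul] at h4
      exact absurd h4.symm Nat.card_pos.ne'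
    · exact h
  apply Nat.eq_of_mul_eq_mul_right (Nat.mul_pos h7 h6)
  calc S.relIndex (N ⊔ S) * (N.relIndex S * Nat.card ↥(N ⊓ S))
      = S.relIndex (N ⊔ S) * Nat.card S := by rw [h4]
    _ = N.relIndex S * Nat.card N := by rw [h2, h3]
    _ = N.relIndex S * (S.relIndex N * Nat.card ↥(N ⊓ S)) := by rw [h5]
    _ = S.relIndex N * (N.relIndex S * Nat.card ↥(N ⊓ S)) := by ring

/-- **Simplicity from the orbits of a point stabiliser.** -/
theorem isSimpleGroup_of_orbit (G : Subgroup (Equiv.Perm (Fin n))) (b : Fin n) (hne : G ≠ ⊥)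
    (hfaith : ∀ g ∈ G, (∀ x ∈ orbit G b, g x = x) → g = 1)
    (hblock : ∀ O : Finset (Fin n), b ∈ O → (∀ x ∈ O, x ∈ orbit G b) →
      (∀ g ∈ G, g b = b → ∀ x ∈ O, g x ∈ O) → O.card ∣ Nat.card (orbit G b) →
      O.card = 1 ∨ O.card = Nat.card (orbit G b))
    (hgen : ∀ K : Subgroup (Equiv.Perm (Fin n)), K ≤ G → (∀ g ∈ G, ∀ k ∈ K, g * k * g⁻¹ ∈ K) →
      (∀ g ∈ G, ∀ m : ℕ, Nat.Coprime m (Nat.card ↥(G ⊓ stabilizer (Equiv.Perm (Fin n)) b)) →
        g ^ m = 1 → g ∈ K) → G ≤ K) :
    IsSimpleGroup G := by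
  classical
  have hnt : Nontrivial G := (Subgroup.nontrivial_iff_ne_bot G).2 hne
  refine ⟨fun N hN => ?_⟩
  by_cases hNb : N = ⊥
  · exact Or.inl hNb
  right
  -- the image of `N` in the symmetric group
  set K : Subgroup (Equiv.Perm (Fin n)) := N.map G.subtype with hK
  have hKG : K ≤ G := by
    rintro _ ⟨g, _, rfl⟩
    exact g.2
  have hKn : ∀ g ∈ G, ∀ k ∈ K, g * k * g⁻¹ ∈ K := by
    rintro g hg _ ⟨k, hk, rfl⟩
    exact ⟨⟨g, hg⟩ * k * (⟨g, hg⟩ : G)⁻¹, hN.conj_mem k hk _, rfl⟩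
  have hmemK : ∀ g : G, (g : Equiv.Perm (Fin n)) ∈ K ↔ g ∈ N := by
    intro g
    constructor
    · rintro ⟨k, hk, e⟩
      have : k = g := Subtype.ext e
      rwa [← this]
    · intro hg
      exact ⟨g, hg, rfl⟩
  have hcardK : Nat.card K = Nat.card N :=
    (Nat.card_congr (N.equivMapOfInjective G.subtype (Subgroup.subtype_injective G)).toEquiv).symm
  -- the orbit of `b` under `K`
  have hfin : (orbit K b).Finite := Set.toFinite _
  set O : Finset (Fin n) := hfin.toFinset with hO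
  have hmemO : ∀ x, x ∈ O ↔ ∃ k ∈ K, k b = x := by
    intro x
    rw [hO, Set.Finite.mem_toFinset]
    constructor
    · rintro ⟨k, rfl⟩
      exact ⟨k.1, k.2, rfl⟩
    · rintro ⟨k, hk, rfl⟩
      exact ⟨⟨k, hk⟩, rfl⟩
  have hOcard : Nat.card (orbit K b) = O.card := by
    rw [Nat.card_coe_set_eq, hO, Set.ncard_eq_toFinset_card _ hfin]
  -- sizes
  have hS : Nat.card (stabilizer G b) = Nat.card ↥(G ⊓ stabilizer (Equiv.Perm (Fin n)) b) := by
    apply Nat.card_congr
    exact ⟨fun σ => ⟨σ.1.1, σ.1.2, σ.2⟩, fun σ => ⟨⟨σ.1, σ.2.1⟩, σ.2.2⟩, fun _ => rfl, fun _ => rfl⟩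
  have hGcard := card_eq_orbit_mul G b
  have hKcard := card_eq_orbit_mul K b
  have hrel : (stabilizer G b).relIndex N = O.card := by
    have h1 : ((stabilizer G b) ⊓ N).relIndex N * Nat.card ↥((stabilizer G b) ⊓ N) = Nat.card N :=
      relIndex_mul_card inf_le_right
    rw [Subgroup.inf_relIndex_right] at h1
    have h2 : Nat.card ↥((stabilizer G b) ⊓ N) = Nat.card ↥(K ⊓ stabilizer (Equiv.Perm (Fin n)) b) := by
      apply Nat.card_congr
      exact ⟨fun σ => ⟨σ.1.1, (hmemK _).2 σ.2.2, σ.2.1⟩,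
        fun σ => ⟨⟨σ.1, hKG σ.2.1⟩, σ.2.2, (hmemK ⟨σ.1, hKG σ.2.1⟩).1 σ.2.1⟩, fun _ => rfl, fun _ => rfl⟩
    rw [h2, ← hcardK, hKcard, hOcard] at h1
    exact Nat.eq_of_mul_eq_mul_right Nat.card_pos h1
  have hidx : (stabilizer G b).index = Nat.card (orbit G b) := index_stabilizer G b
  have hdvd : O.card ∣ Nat.card (orbit G b) := by
    rw [← hrel, ← hidx]
    exact card_orbit_dvd_of_normal N _
  have hO1 : b ∈ O := (hmemO b).2 ⟨1, K.one_mem, rfl⟩
  have hO2 : ∀ x ∈ O, x ∈ orbit G b := by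
    intro x hx
    obtain ⟨k, hk, rfl⟩ := (hmemO x).1 hx
    exact ⟨⟨k, hKG hk⟩, rfl⟩
  have hO3 : ∀ g ∈ G, g b = b → ∀ x ∈ O, g x ∈ O := by
    intro g hg hgb x hx
    obtain ⟨k, hk, rfl⟩ := (hmemO x).1 hx
    refine (hmemO _).2 ⟨g * k * g⁻¹, hKn g hg k hk, ?_⟩
    rw [Equiv.Perm.mul_apply, Equiv.Perm.mul_apply]
    congr 2
    rw [Equiv.Perm.inv_eq_iff_eq, hgb]
  rcases hblock O hO1 hO2 hO3 hdvd with h1 | h1
  · -- `K` fixes `b`, hence everything
    exfalso
    apply hNb
    rw [Subgroup.eq_bot_iff_forall]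
    intro k hk
    apply Subtype.ext
    apply hfaith k.1 k.2
    rintro _ ⟨g, rfl⟩
    obtain ⟨c, hc⟩ := Finset.card_eq_one.1 h1
    have hbc : b = c := by
      rw [hc] at hO1
      exact Finset.mem_singleton.1 hO1
    have h2 : (g⁻¹ * k * g) ∈ N := by
      have := hN.conj_mem k hk g⁻¹
      rwa [inv_inv] at this
    have h3 : ((g⁻¹ * k * g : G) : Equiv.Perm (Fin n)) b ∈ O := (hmemO _).2 ⟨_, (hmemK _).2 h2, rfl⟩
    rw [hc, Finset.mem_singleton, ← hbc] at h3
    change k.1 (g.1 b) = g.1 b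
    have h4 : ((g⁻¹ * k * g : G) : Equiv.Perm (Fin n)) b = (g.1)⁻¹ (k.1 (g.1 b)) := rfl
    rw [h4, Equiv.Perm.inv_eq_iff_eq] at h3
    exact h3
  · -- the index of `N` divides the order of the stabiliser
    have h2 : N.index ∣ Nat.card ↥(G ⊓ stabilizer (Equiv.Perm (Fin n)) b) := by
      refine ⟨Nat.card ↥(K ⊓ stabilizer (Equiv.Perm (Fin n)) b), ?_⟩
      have h3 := N.index_mul_card
      rw [← hcardK, hKcard, hOcard, hGcard, h1] at h3
      have h4 : 0 < Nat.card (orbit G b) := by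
        rw [← h1]
        exact Finset.card_pos.2 ⟨b, hO1⟩
      apply Nat.eq_of_mul_eq_mul_left h4
      rw [← h3]
      ring
    have h3 : ∀ g ∈ G, ∀ m : ℕ, Nat.Coprime m (Nat.card ↥(G ⊓ stabilizer (Equiv.Perm (Fin n)) b)) →
        g ^ m = 1 → g ∈ K := by
      intro g hg m hm hgm
      rw [hmemK ⟨g, hg⟩, ← QuotientGroup.eq_one_iff]
      have h4 : ((⟨g, hg⟩ : G) : G ⧸ N) ^ m = 1 := by
        rw [← QuotientGroup.mk_pow]
        have : (⟨g, hg⟩ : G) ^ m = 1 := Subtype.ext hgm
        rw [this]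
        rfl
      have h5 : ((⟨g, hg⟩ : G) : G ⧸ N) ^ N.index = 1 := by
        rw [Subgroup.index_eq_card]
        exact pow_card_eq_one'
      have h6 : Nat.Coprime m N.index := Nat.Coprime.coprime_dvd_right h2 hm
      have h7 := orderOf_dvd_of_pow_eq_one h4
      have h8 := orderOf_dvd_of_pow_eq_one h5
      have h9 := Nat.Coprime.eq_one_of_dvd (Nat.Coprime.coprime_dvd_left h7 h6) h8
      exact orderOf_eq_one_iff.1 h9
    have h4 := hgen K hKG hKn h3
    rw [eq_top_iff]
    intro g _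
    exact (hmemK g).1 (h4 g.2)

/-! ### unions of classes -/

/-- all unions of `m` with some of the classes -/
def subs : List ℕ → ℕ → List ℕ
  | [], m => [m]
  | c :: cs, m => subs cs m ++ subs cs (Nat.lor m c)

theorem exists_subs {O : Finset (Fin n)} : ∀ (cs : List ℕ) (m : ℕ),
    (∀ c ∈ cs, (∀ x : Fin n, c.testBit x = true → x ∈ O) ∨ (∀ x : Fin n, c.testBit x = true → x ∉ O)) →
    (∀ x : Fin n, m.testBit x = true → x ∈ O) →
    (∀ x ∈ O, (m.testBit x = true ∨ ∃ c ∈ cs, c.testBit x = true)) →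
    ∃ m' ∈ subs cs m, ∀ x : Fin n, x ∈ O ↔ m'.testBit x = true
  | [], m, _, h1, h2 => by
    refine ⟨m, List.mem_singleton.2 rfl, fun x => ⟨fun hx => ?_, h1 x⟩⟩
    rcases h2 x hx with h | ⟨c, hc, _⟩
    · exact h
    · exact absurd hc List.not_mem_nil
  | c :: cs, m, h0, h1, h2 => by
    have h0' : ∀ c ∈ cs, (∀ x : Fin n, c.testBit x = true → x ∈ O) ∨
        (∀ x : Fin n, c.testBit x = true → x ∉ O) := fun c hc => h0 c (List.mem_cons_of_mem _ hc)
    rcases h0 c List.mem_cons_self with h | h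
    · obtain ⟨m', hm', h3⟩ := exists_subs cs (m ||| c) h0' (fun x hx => by
        rw [Nat.testBit_or, Bool.or_eq_true] at hx
        rcases hx with hx | hx
        · exact h1 x hx
        · exact h x hx) (fun x hx => by
        rw [Nat.testBit_or, Bool.or_eq_true]
        rcases h2 x hx with h4 | ⟨d, hd, h4⟩
        · exact Or.inl (Or.inl h4)
        · rcases List.mem_cons.1 hd with rfl | hd
          · exact Or.inl (Or.inr h4)
          · exact Or.inr ⟨d, hd, h4⟩)
      exact ⟨m', List.mem_append_right _ hm', h3⟩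
    · obtain ⟨m', hm', h3⟩ := exists_subs cs m h0' h1 (fun x hx => by
        rcases h2 x hx with h4 | ⟨d, hd, h4⟩
        · exact Or.inl h4
        · rcases List.mem_cons.1 hd with rfl | hd
          · exact absurd hx (h x h4)
          · exact Or.inr ⟨d, hd, h4⟩)
      exact ⟨m', List.mem_append_left _ hm', h3⟩

/-- kernel check: each union of classes has size `1`, `s`, or a size not dividing `s` -/
def subsOk (L s : ℕ) (cs : List ℕ) (m : ℕ) : Bool :=
  (subs cs m).all fun x => Nat.beq (popc L x) 1 || (Nat.beq (popc L x) s || !(Nat.beq (Nat.mod s (popc L x)) 0))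

/-- the hypothesis `hblock` of `isSimpleGroup_of_orbit` -/
theorem block_of_subs {G : Subgroup (Equiv.Perm (Fin n))} {b : Fin n} {L s S : ℕ} {cs : List ℕ}
    (hn : n ≤ 2 ^ L) (hSlt : S < 2 ^ n)
    (hS : ∀ x ∈ orbit G b, S.testBit x = true)
    (hcov : Nat.beq (cs.foldl Nat.lor (Nat.pow 2 b)) S = true)
    (hcs : ∀ c ∈ cs, ∃ y : Fin n, ∀ x : Fin n, c.testBit x = true → ∃ g ∈ G, g b = b ∧ g y = x)
    (hok : subsOk L s cs (Nat.pow 2 b) = true)
    (O : Finset (Fin n)) (hb : b ∈ O) (hO : ∀ x ∈ O, x ∈ orbit G b)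
    (hinv : ∀ g ∈ G, g b = b → ∀ x ∈ O, g x ∈ O) (hd : O.card ∣ s) :
    O.card = 1 ∨ O.card = s := by
  classical
  -- coverage
  have hfold : ∀ (cs : List ℕ) (m : ℕ) (i : ℕ), (cs.foldl Nat.lor m).testBit i = true →
      m.testBit i = true ∨ ∃ c ∈ cs, c.testBit i = true := by
    intro cs
    induction cs with
    | nil => intro m i h; exact Or.inl h
    | cons c cs ih =>
      intro m i h
      rcases ih _ i h with h | ⟨d, hd, h⟩
      · have h' : (m ||| c).testBit i = true := h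
        rw [Nat.testBit_or, Bool.or_eq_true] at h'
        rcases h' with h' | h'
        · exact Or.inl h'
        · exact Or.inr ⟨c, List.mem_cons_self, h'⟩
      · exact Or.inr ⟨d, List.mem_cons_of_mem _ hd, h⟩
  have hcov' : cs.foldl Nat.lor (2 ^ (b : ℕ)) = S := Nat.eq_of_beq_eq_true hcov
  have hfold2 : ∀ (cs : List ℕ) (m : ℕ), (∀ i, (m.testBit i = true ∨ ∃ c ∈ cs, c.testBit i = true) →
      (cs.foldl Nat.lor m).testBit i = true) := by
    intro cs
    induction cs with
    | nil =>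
      intro m i h
      rcases h with h | ⟨c, hc, _⟩
      · exact h
      · exact absurd hc List.not_mem_nil
    | cons c cs ih =>
      intro m i h
      apply ih
      have e : Nat.lor m c = m ||| c := rfl
      rw [e, Nat.testBit_or, Bool.or_eq_true]
      rcases h with h | ⟨d, hd, h⟩
      · exact Or.inl (Or.inl h)
      · rcases List.mem_cons.1 hd with rfl | hd
        · exact Or.inl (Or.inr h)
        · exact Or.inr ⟨d, hd, h⟩
  obtain ⟨m, hm, hmO⟩ := exists_subs (O := O) cs (2 ^ (b : ℕ))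
    (fun c hc => by
      obtain ⟨y, hy⟩ := hcs c hc
      by_cases hyO : y ∈ O
      · left
        intro x hx
        obtain ⟨g, hg, hgb, rfl⟩ := hy x hx
        exact hinv g hg hgb y hyO
      · right
        intro x hx hxO
        obtain ⟨g, hg, hgb, rfl⟩ := hy x hx
        apply hyO
        have h1 := hinv g⁻¹ (G.inv_mem hg) (by rw [Equiv.Perm.inv_eq_iff_eq, hgb]) _ hxO
        have h2 : g⁻¹ (g y) = y := g.symm_apply_apply y
        rwa [h2] at h1)
    (fun x hx => by
      rw [Nat.testBit_two_pow] at hx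
      have : (b : ℕ) = x := by simpa using hx
      have : b = x := Fin.ext this
      rwa [← this])
    (fun x hx => by
      apply hfold
      rw [hcov']
      exact hS x (hO x hx))
  -- the size of `O`
  have hsub : ∀ (cs : List ℕ) (m0 : ℕ), ∀ m ∈ subs cs m0, ∀ i, m.testBit i = true →
      (m0.testBit i = true ∨ ∃ c ∈ cs, c.testBit i = true) := by
    intro cs
    induction cs with
    | nil =>
      intro m0 m hm i hi
      rw [subs, List.mem_singleton] at hm
      rw [← hm]
      exact Or.inl hi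
    | cons c cs ih =>
      intro m0 m hm i hi
      rw [subs, List.mem_append] at hm
      rcases hm with hm | hm
      · rcases ih _ m hm i hi with h | ⟨d, hd, h⟩
        · exact Or.inl h
        · exact Or.inr ⟨d, List.mem_cons_of_mem _ hd, h⟩
      · rcases ih _ m hm i hi with h | ⟨d, hd, h⟩
        · have h' : (m0 ||| c).testBit i = true := h
          rw [Nat.testBit_or, Bool.or_eq_true] at h'
          rcases h' with h' | h'
          · exact Or.inl h'
          · exact Or.inr ⟨c, List.mem_cons_self, h'⟩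
        · exact Or.inr ⟨d, List.mem_cons_of_mem _ hd, h⟩
  have hlt : ∀ i, m.testBit i = true → i < n := by
    intro i hi
    have h1 := hfold2 cs _ i (hsub cs _ m hm i hi)
    have h2 : (cs.foldl Nat.lor (Nat.pow 2 b)) = S := hcov'
    have h3 : S.testBit i = true := by rw [← h2]; exact h1
    by_contra hc
    have h4 : S < 2 ^ i := lt_of_lt_of_le hSlt (Nat.pow_le_pow_right (by norm_num) (not_lt.1 hc))
    rw [Nat.testBit_lt_two_pow h4] at h3
    exact Bool.noConfusion h3
  have hcard : O.card = popc L m := by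
    have h1 : O = pts n m := by
      ext x
      rw [hmO, mem_pts]
    rw [h1]
    exact le_antisymm (card_pts_le hn m) (card_pts_eq hlt)
  have h1 := List.all_eq_true.1 hok m hm
  rw [← hcard, Bool.or_eq_true, Bool.or_eq_true] at h1
  rcases h1 with h1 | h1 | h1
  · exact Or.inl (Nat.eq_of_beq_eq_true h1)
  · exact Or.inr (Nat.eq_of_beq_eq_true h1)
  · exfalso
    have h2 : s % O.card = 0 := Nat.mod_eq_zero_of_dvd hd
    have h3 : Nat.beq (Nat.mod s O.card) 0 = true := by
      have : Nat.mod s O.card = 0 := h2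
      rw [this]
      rfl
    rw [h3] at h1
    exact Bool.noConfusion h1

end

end Cfsg.Agent.Lib.BitNetSimple
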