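import Mathlib

/-!
# Certificates for coset enumerations (with coincidences)

A certificate is a list of facts `(i, s, j)` (source node, letter, target node), read as
`q i = g s • q j` where `q : ℕ → X` assigns to each node a point of a `G`-set `X` and
`g : ℕ → G` interprets the letters.  Letter `0` is the identity, so that a fact with label `0`
is a coincidence `q i = q j`.  Facts number `1 .. M-1` define the nodes, the next `H` facts say
that the subgroup letters fix node `0`, and every later fact is proved by a walk through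
earlier facts (forwards or backwards) that spells a rotated relator.
-/

set_option autoImplicit false

namespace Cfsg.Agent.Lib.CosetFacts

/-- the `k`-th field of width `w` bits of the number `D` -/
def fld (w D k : ℕ) : ℕ := (D >>> (w * k)) % 2 ^ w

/-- base 16 digits up to the first position from which everything is zero -/
def decW : ℕ → ℕ → List ℕ
  | 0, _ => []
  | n+1, c => cond (Nat.beq c 0) [] ((c % 16) :: decW n (c / 16))

theorem nbeq {a b : ℕ} : (Nat.beq a b = true) ↔ a = b :=
  ⟨Nat.eq_of_beq_eq_true, fun h => by subst h; exact Nat.beq_refl a⟩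

/-- equality of lists of naturals -/
def eqL : List ℕ → List ℕ → Bool
  | [], [] => true
  | a :: l, b :: m => and (Nat.beq a b) (eqL l m)
  | _, _ => false

theorem eq_of_eqL : ∀ {l m : List ℕ}, eqL l m = true → l = m
  | [], [], _ => rfl
  | a :: l, b :: m, h => by
    simp only [eqL, Bool.and_eq_true, nbeq] at h
    rw [h.1, eq_of_eqL h.2]
  | [], _ :: _, h => by simp [eqL] at h
  | _ :: _, [], h => by simp [eqL] at h

/-- repeat a word -/
def pw (n : ℕ) (l : List ℕ) : List ℕ := (List.replicate n l).flatten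

/-- inverse word -/
def invW (ι : ℕ → ℕ) (l : List ℕ) : List ℕ := (l.map ι).reverse

/-- product of the letters of a word -/
def prodL {G : Type*} [Group G] (g : ℕ → G) : List ℕ → G
  | [] => 1
  | c :: l => g c * prodL g l

section prod
variable {G : Type*} [Group G] (g : ℕ → G)

theorem prodL_nil : prodL g [] = 1 := rfl
theorem prodL_cons (c : ℕ) (l : List ℕ) : prodL g (c :: l) = g c * prodL g l := rfl

theorem prodL_append (l m : List ℕ) : prodL g (l ++ m) = prodL g l * prodL g m := by
  induction l with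
  | nil => simp [prodL]
  | cons c l ih => simp [prodL, ih, mul_assoc]

theorem prodL_pw (n : ℕ) (l : List ℕ) : prodL g (pw n l) = prodL g l ^ n := by
  induction n with
  | zero => simp [pw, prodL]
  | succ n ih =>
    have : pw (n+1) l = l ++ pw n l := by simp [pw, List.replicate_succ]
    rw [this, prodL_append, ih, pow_succ']

theorem prodL_invW (ι : ℕ → ℕ) (hι : ∀ s, g (ι s) = (g s)⁻¹) (l : List ℕ) :
    prodL g (invW ι l) = (prodL g l)⁻¹ := by
  induction l with
  | nil => simp [invW, prodL]
  | cons c l ih =>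
    have : invW ι (c :: l) = invW ι l ++ [ι c] := by simp [invW]
    rw [this, prodL_append, ih]
    simp [prodL, hι]

theorem prodL_rot (l : List ℕ) (o : ℕ) (h : prodL g l = 1) :
    prodL g (l.drop o ++ l.take o) = 1 := by
  have h1 : prodL g (l.take o) * prodL g (l.drop o) = 1 := by
    rw [← prodL_append, List.take_append_drop, h]
  rw [prodL_append]
  exact mul_eq_one_iff_eq_inv.mpr (mul_eq_one_iff_inv_eq.mp h1).symm

end prod

/-- if the word `w` starts with `c`, continue with the rest -/
def hd (w : List ℕ) (c : ℕ) (k : List ℕ → Bool) : Bool :=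
  match w with
  | [] => false
  | d :: w' => and (Nat.beq d c) (k w')

theorem hd_true {w : List ℕ} {c : ℕ} {k : List ℕ → Bool} (h : hd w c k = true) :
    ∃ w', w = c :: w' ∧ k w' = true := by
  cases w with
  | nil => simp [hd] at h
  | cons d w' =>
    simp only [hd, Bool.and_eq_true, nbeq] at h
    exact ⟨w', by rw [h.1], h.2⟩

/-- A walk through facts with number `< k`; it starts at `cur`, must end at `tgt` and spell `w`.
`ref pos` is twice the fact number, plus one if the fact is used backwards. -/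
def walk (fa fs fb ι ref : ℕ → ℕ) (k tgt : ℕ) : ℕ → ℕ → ℕ → List ℕ → Bool
  | 0, _, cur, w => and w.isEmpty (Nat.beq cur tgt)
  | n+1, pos, cur, w =>
    cond (Nat.ble (ref pos / 2 + 1) k)
      (cond (Nat.beq (ref pos % 2) 0)
        (and (Nat.beq (fa (ref pos / 2)) cur)
          (cond (Nat.beq (fs (ref pos / 2)) 0)
            (walk fa fs fb ι ref k tgt n (pos+1) (fb (ref pos / 2)) w)
            (hd w (fs (ref pos / 2))
              (fun w' => walk fa fs fb ι ref k tgt n (pos+1) (fb (ref pos / 2)) w'))))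
        (and (Nat.beq (fb (ref pos / 2)) cur)
          (cond (Nat.beq (fs (ref pos / 2)) 0)
            (walk fa fs fb ι ref k tgt n (pos+1) (fa (ref pos / 2)) w)
            (hd w (ι (fs (ref pos / 2)))
              (fun w' => walk fa fs fb ι ref k tgt n (pos+1) (fa (ref pos / 2)) w')))))
      false

section sound
variable {G X : Type*} [Group G] [MulAction G X]

theorem walk_sound (g : ℕ → G) (q : ℕ → X) (fa fs fb ι ref : ℕ → ℕ)
    (hι : ∀ s, g (ι s) = (g s)⁻¹) (h0 : g 0 = 1) (k tgt : ℕ)
    (hf : ∀ id < k, q (fa id) = g (fs id) • q (fb id)) :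
    ∀ n pos cur w, walk fa fs fb ι ref k tgt n pos cur w = true →
      q cur = prodL g w • q tgt := by
  intro n
  induction n with
  | zero =>
    intro pos cur w h
    simp only [walk, Bool.and_eq_true, List.isEmpty_iff, nbeq] at h
    rw [h.1, h.2, prodL_nil, one_smul]
  | succ n ih =>
    intro pos cur w h
    have key : ∀ id, id < k → (q (fb id) = (g (fs id))⁻¹ • q (fa id)) := by
      intro id hid
      rw [hf id hid, inv_smul_smul]
    rw [walk] at h
    cases hk : Nat.ble (ref pos / 2 + 1) k with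
    | false => rw [hk] at h; simp at h
    | true =>
      rw [hk] at h
      simp only [cond_true] at h
      have hid : ref pos / 2 < k := Nat.le_of_ble_eq_true hk
      cases ho : Nat.beq (ref pos % 2) 0 with
      | true =>
        rw [ho] at h
        simp only [cond_true, Bool.and_eq_true, nbeq] at h
        obtain ⟨hcur, h⟩ := h
        cases hs : Nat.beq (fs (ref pos / 2)) 0 with
        | true =>
          rw [hs] at h
          simp only [cond_true] at h
          rw [← hcur, hf _ hid, Nat.eq_of_beq_eq_true hs, h0, one_smul]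
          exact ih _ _ _ h
        | false =>
          rw [hs] at h
          simp only [cond_false] at h
          obtain ⟨w', rfl, h2⟩ := hd_true h
          rw [← hcur, hf _ hid, prodL_cons, mul_smul, ih _ _ _ h2]
      | false =>
        rw [ho] at h
        simp only [cond_false, Bool.and_eq_true, nbeq] at h
        obtain ⟨hcur, h⟩ := h
        cases hs : Nat.beq (fs (ref pos / 2)) 0 with
        | true =>
          rw [hs] at h
          simp only [cond_true] at h
          rw [← hcur, key _ hid, Nat.eq_of_beq_eq_true hs, h0, inv_one, one_smul]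
          exact ih _ _ _ h
        | false =>
          rw [hs] at h
          simp only [cond_false] at h
          obtain ⟨w', rfl, h2⟩ := hd_true h
          rw [← hcur, key _ hid, prodL_cons, mul_smul, hι, ih _ _ _ h2]

end sound

/-- proofs of the facts `k, k+1, ..., k+n-1`; the proof of a fact consists of the fields
`rule, length, refs...` -/
def proofs (fa fs fb ι ref rl : ℕ → ℕ) (rw : ℕ → List ℕ) (nr : ℕ) : ℕ → ℕ → ℕ → Bool
  | 0, _, _ => true
  | n+1, k, pos =>
    and (Nat.ble (ref pos + 1) nr)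
      (and (Nat.beq (rl (ref pos)) (fs k))
        (and (walk fa fs fb ι ref k (fb k) (ref (pos+1)) (pos+2) (fa k) (rw (ref pos)))
          (proofs fa fs fb ι ref rl rw nr n (k+1) (pos+2+ref (pos+1)))))

/-- the facts `1 .. n` define the nodes `1 .. n` -/
def defsOk (fa fb : ℕ → ℕ) : ℕ → Bool
  | 0 => true
  | k+1 => and (Nat.beq (fb (k+1)) (k+1)) (and (Nat.ble (fa (k+1) + 1) (k+1)) (defsOk fa fb k))

/-- the `n` facts starting from number `k` are loops at node 0 labelled by letters of `sl` -/
def subsOk (fa fs fb : ℕ → ℕ) (sl : List ℕ) : ℕ → ℕ → Bool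
  | 0, _ => true
  | n+1, k => and (Nat.beq (fa k) 0) (and (Nat.beq (fb k) 0)
      (and (sl.any (fun s => Nat.beq s (fs k))) (subsOk fa fs fb sl n (k+1))))

/-- rule number `r` is a rotated relator or the inverse of one -/
def ruleOk (rels : List (List ℕ)) (ι rl ri rv ro : ℕ → ℕ) (rw : ℕ → List ℕ) (r : ℕ) : Bool :=
  eqL (rw r ++ cond (Nat.beq (rl r) 0) [] [ι (rl r)])
    (cond (Nat.beq (rv r) 0)
      ((rels.getD (ri r) []).drop (ro r) ++ (rels.getD (ri r) []).take (ro r))
      ((invW ι (rels.getD (ri r) [])).drop (ro r) ++ (invW ι (rels.getD (ri r) [])).take (ro r)))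

/-- all rules are fine -/
def rulesOk (rels : List (List ℕ)) (ι rl ri rv ro : ℕ → ℕ) (rw : ℕ → List ℕ) : ℕ → Bool
  | 0 => true
  | r+1 => and (ruleOk rels ι rl ri rv ro rw r) (rulesOk rels ι rl ri rv ro rw r)

/-- the live nodes are closed under the letters `1 .. m` -/
def closeOk (fa fs fb ι cref live : ℕ → ℕ) (nf nl m : ℕ) : ℕ → Bool
  | 0 => true
  | p+1 =>
    and (Nat.ble (cref (2*p) + 1) nl)
      (and (walk fa fs fb ι cref nf (live (cref (2*p))) 1 (2*p+1) (live (p / m)) [p % m + 1])
        (closeOk fa fs fb ι cref live nf nl m p))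

/-- A certificate. -/
structure Cert where
  /-- field width -/
  w : ℕ
  /-- letter inverse table (list) -/
  inv : List ℕ
  /-- number of nodes -/
  M : ℕ
  /-- number of subgroup facts -/
  H : ℕ
  /-- number of facts -/
  F : ℕ
  /-- sources -/
  FA : ℕ
  /-- labels (width 4) -/
  FS : ℕ
  /-- targets -/
  FB : ℕ
  /-- proof stream -/
  P : ℕ
  /-- number of rules -/
  nr : ℕ
  /-- rule labels (width 4) -/
  RL : ℕ
  /-- rule words (width 256) -/
  RW : ℕ
  /-- relator number of a rule (width 8) -/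
  RI : ℕ
  /-- inverse flag (width 1) -/
  RV : ℕ
  /-- rotation (width 8) -/
  RO : ℕ
  /-- subgroup letters -/
  sl : List ℕ

namespace Cert
variable (C : Cert)

/-- inverse letter -/
def ι (s : ℕ) : ℕ := C.inv.getD s 0
/-- sources -/
def fa (k : ℕ) : ℕ := fld C.w C.FA k
/-- labels -/
def fs (k : ℕ) : ℕ := fld 4 C.FS k
/-- targets -/
def fb (k : ℕ) : ℕ := fld C.w C.FB k
/-- proof stream -/
def ref (k : ℕ) : ℕ := fld C.w C.P k
/-- rule labels -/
def rl (k : ℕ) : ℕ := fld 4 C.RL k
/-- rule words -/
def rw (k : ℕ) : List ℕ := decW 64 (fld 256 C.RW k)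
/-- rule relator -/
def ri (k : ℕ) : ℕ := fld 8 C.RI k
/-- rule inverse flag -/
def rv (k : ℕ) : ℕ := fld 1 C.RV k
/-- rule rotation -/
def ro (k : ℕ) : ℕ := fld 8 C.RO k

/-- check of all facts -/
def check (rels : List (List ℕ)) : Bool :=
  and (Nat.beq (C.fa 0) 0) <| and (Nat.beq (C.fs 0) 0) <| and (Nat.beq (C.fb 0) 0) <|
  and (Nat.ble 1 C.M) <|
  and (Nat.beq (C.M + C.H + (C.F - (C.M + C.H))) C.F) <|
  and (defsOk C.fa C.fb (C.M - 1)) <|
  and (subsOk C.fa C.fs C.fb C.sl C.H C.M) <|
  and (rulesOk rels C.ι C.rl C.ri C.rv C.ro C.rw C.nr) <|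
  proofs C.fa C.fs C.fb C.ι C.ref C.rl C.rw C.nr (C.F - (C.M + C.H)) (C.M + C.H) 0

/-- check that the `nl` nodes listed in `L` (width `w`) are closed under letters `1..m`,
with witnesses `D` (width `w`) -/
def checkClose (nl m L D : ℕ) : Bool :=
  and (Nat.beq (fld C.w L 0) 0) <| and (Nat.ble 1 nl) <|
  and ((List.range m).all fun c => and (Nat.ble 1 (C.ι (c+1))) (Nat.ble (C.ι (c+1)) m)) <|
  closeOk C.fa C.fs C.fb C.ι (fld C.w D) (fld C.w L) C.F nl m (nl * m)

/-- check that the word `w` closes at node `i`; `D` lists the refs (width `w`) -/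
def checkLoop (i n D : ℕ) (w : List ℕ) : Bool :=
  walk C.fa C.fs C.fb C.ι (fld C.w D) C.F i n 0 i w

end Cert

set_option linter.unusedVariables false in
/-- the points attached to the nodes -/
noncomputable def qf {G X : Type*} [Group G] [MulAction G X] (g : ℕ → G) (x0 : X) (fa fs : ℕ → ℕ)
    (k : ℕ) : X :=
  if h : fa k < k then (g (fs k))⁻¹ • qf g x0 fa fs (fa k) else x0
termination_by k
decreasing_by exact h

section main
variable {G X : Type*} [Group G] [MulAction G X]

theorem rule_sound (g : ℕ → G) (rels : List (List ℕ)) (ι rl ri rv ro : ℕ → ℕ)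
    (rw : ℕ → List ℕ) (hι : ∀ s, g (ι s) = (g s)⁻¹) (h0 : g 0 = 1)
    (hrel : ∀ r ∈ rels, prodL g r = 1) (r : ℕ)
    (h : ruleOk rels ι rl ri rv ro rw r = true) : prodL g (rw r) = g (rl r) := by
  have h1 := eq_of_eqL h
  have hR : prodL g (rels.getD (ri r) []) = 1 := by
    rw [List.getD_eq_getElem?_getD]
    cases hx : rels[ri r]? with
    | none => simp [prodL]
    | some v =>
      simp only [Option.getD_some]
      exact hrel v (List.mem_of_getElem? hx)
  have h2 : prodL g (rw r ++ cond (Nat.beq (rl r) 0) [] [ι (rl r)]) = 1 := by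
    rw [h1]
    cases Nat.beq (rv r) 0 with
    | true => exact prodL_rot g _ _ hR
    | false =>
      refine prodL_rot g _ _ ?_
      rw [prodL_invW g ι hι, hR, inv_one]
  rw [prodL_append] at h2
  cases hz : Nat.beq (rl r) 0 with
  | true =>
    rw [hz] at h2
    simp only [cond_true, prodL_nil, mul_one] at h2
    rw [h2, Nat.eq_of_beq_eq_true hz, h0]
  | false =>
    rw [hz] at h2
    simp only [cond_false, prodL_cons, prodL_nil, mul_one, hι] at h2
    exact mul_inv_eq_one.mp h2

theorem rules_sound (g : ℕ → G) (rels : List (List ℕ)) (ι rl ri rv ro : ℕ → ℕ)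
    (rw : ℕ → List ℕ) (hι : ∀ s, g (ι s) = (g s)⁻¹) (h0 : g 0 = 1)
    (hrel : ∀ r ∈ rels, prodL g r = 1) : ∀ n,
    rulesOk rels ι rl ri rv ro rw n = true → ∀ r < n, prodL g (rw r) = g (rl r) := by
  intro n
  induction n with
  | zero => intro _ r hr; omega
  | succ n ih =>
    intro h r hr
    simp only [rulesOk, Bool.and_eq_true] at h
    rcases Nat.lt_succ_iff_lt_or_eq.mp hr with h' | h'
    · exact ih h.2 r h'
    · subst h'
      exact rule_sound g rels ι rl ri rv ro rw hι h0 hrel _ h.1

theorem proofs_sound (g : ℕ → G) (q : ℕ → X) (fa fs fb ι ref rl : ℕ → ℕ)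
    (rw : ℕ → List ℕ) (nr : ℕ) (hι : ∀ s, g (ι s) = (g s)⁻¹) (h0 : g 0 = 1)
    (hr : ∀ r < nr, prodL g (rw r) = g (rl r)) :
    ∀ n k pos, proofs fa fs fb ι ref rl rw nr n k pos = true →
      (∀ id < k, q (fa id) = g (fs id) • q (fb id)) →
      ∀ id < k + n, q (fa id) = g (fs id) • q (fb id) := by
  intro n
  induction n with
  | zero => intro k pos _ hk id hid; exact hk id (by simpa using hid)
  | succ n ih =>
    intro k pos h hk id hid
    simp only [proofs, Bool.and_eq_true] at h
    obtain ⟨h1, h2, h3, h4⟩ := h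
    have hfact : q (fa k) = g (fs k) • q (fb k) := by
      have := walk_sound g q fa fs fb ι ref hι h0 k (fb k) hk _ _ _ _ h3
      rw [this, hr _ (Nat.le_of_ble_eq_true h1), Nat.eq_of_beq_eq_true h2]
    refine ih (k+1) _ h4 ?_ id (by omega)
    intro id' hid'
    rcases Nat.lt_succ_iff_lt_or_eq.mp hid' with h' | h'
    · exact hk id' h'
    · subst h'; exact hfact

theorem defs_sound (fa fb : ℕ → ℕ) : ∀ n, defsOk fa fb n = true →
    ∀ k, 1 ≤ k → k ≤ n → fb k = k ∧ fa k < k := by
  intro n
  induction n with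
  | zero => intro _ k h1 h2; omega
  | succ n ih =>
    intro h k h1 h2
    simp only [defsOk, Bool.and_eq_true] at h
    rcases Nat.lt_or_ge k (n+1) with h' | h'
    · exact ih h.2.2 k h1 (by omega)
    · have : k = n+1 := by omega
      subst this
      exact ⟨Nat.eq_of_beq_eq_true h.1, Nat.le_of_ble_eq_true h.2.1⟩

theorem subs_sound (fa fs fb : ℕ → ℕ) (sl : List ℕ) : ∀ n k, subsOk fa fs fb sl n k = true →
    ∀ j, k ≤ j → j < k + n → fa j = 0 ∧ fb j = 0 ∧ fs j ∈ sl := by
  intro n
  induction n with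
  | zero => intro k _ j h1 h2; omega
  | succ n ih =>
    intro k h j h1 h2
    simp only [subsOk, Bool.and_eq_true, List.any_eq_true, nbeq] at h
    obtain ⟨ha, hb, hs, hn⟩ := h
    rcases Nat.lt_or_ge k j with h' | h'
    · exact ih (k+1) hn j h' (by omega)
    · have : j = k := by omega
      subst this
      obtain ⟨s, hs1, hs2⟩ := hs
      exact ⟨ha, hb, hs2 ▸ hs1⟩

/-- All facts of a checked certificate hold. -/
theorem facts_sound (C : Cert) (rels : List (List ℕ)) (hC : C.check rels = true)
    (g : ℕ → G) (hι : ∀ s, g (C.ι s) = (g s)⁻¹) (h0 : g 0 = 1)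
    (hrel : ∀ r ∈ rels, prodL g r = 1) (x0 : X) (hsl : ∀ s ∈ C.sl, g s • x0 = x0) :
    ∃ q : ℕ → X, q 0 = x0 ∧ ∀ id < C.F, q (C.fa id) = g (C.fs id) • q (C.fb id) := by
  simp only [Cert.check, Bool.and_eq_true, nbeq] at hC
  obtain ⟨ha0, hs0, hb0, hM, hF, hd, hsub, hrul, hpr⟩ := hC
  have hM1 : 1 ≤ C.M := Nat.le_of_ble_eq_true hM
  have hd' := defs_sound C.fa C.fb _ hd
  have hs' := subs_sound C.fa C.fs C.fb C.sl _ _ hsub
  have hr' := rules_sound g rels C.ι C.rl C.ri C.rv C.ro C.rw hι h0 hrel _ hrul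
  refine ⟨qf g x0 C.fa C.fs, ?_, ?_⟩
  · rw [qf]; simp
  · have base : ∀ id < C.M + C.H, qf g x0 C.fa C.fs (C.fa id) =
        g (C.fs id) • qf g x0 C.fa C.fs (C.fb id) := by
      intro id hid
      rcases Nat.eq_zero_or_pos id with h | h
      · subst h
        rw [ha0, hs0, hb0, h0, one_smul]
      · rcases Nat.lt_or_ge id C.M with h1 | h1
        · obtain ⟨e1, e2⟩ := hd' id h (by omega)
          have : qf g x0 C.fa C.fs id = (g (C.fs id))⁻¹ • qf g x0 C.fa C.fs (C.fa id) := by
            rw [qf]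
            simp [e2]
          rw [e1, this, smul_inv_smul]
        · obtain ⟨e1, e2, e3⟩ := hs' id h1 hid
          have : qf g x0 C.fa C.fs 0 = x0 := by rw [qf]; simp
          rw [e1, e2, this, hsl _ e3]
    have := proofs_sound g (qf g x0 C.fa C.fs) C.fa C.fs C.fb C.ι C.ref C.rl C.rw C.nr hι h0 hr'
      _ _ _ hpr base
    rw [hF] at this
    exact this

theorem close_sound (g : ℕ → G) (q : ℕ → X) (fa fs fb ι cref live : ℕ → ℕ) (nf nl m : ℕ)
    (hι : ∀ s, g (ι s) = (g s)⁻¹) (h0 : g 0 = 1)
    (hf : ∀ id < nf, q (fa id) = g (fs id) • q (fb id)) :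
    ∀ n, closeOk fa fs fb ι cref live nf nl m n = true → ∀ p < n,
      ∃ k' < nl, q (live (p / m)) = g (p % m + 1) • q (live k') := by
  intro n
  induction n with
  | zero => intro _ p hp; omega
  | succ n ih =>
    intro h p hp
    simp only [closeOk, Bool.and_eq_true] at h
    rcases Nat.lt_succ_iff_lt_or_eq.mp hp with h' | h'
    · exact ih h.2.2 p h'
    · subst h'
      refine ⟨_, Nat.le_of_ble_eq_true h.1, ?_⟩
      have := walk_sound g q fa fs fb ι cref hι h0 nf _ hf _ _ _ _ h.2.1
      simpa [prodL] using this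

/-- The group generated by the letters `1..m` moves the base point only within the live nodes. -/
theorem orbit_sound (C : Cert) (rels : List (List ℕ)) (hC : C.check rels = true)
    (nl m L D : ℕ) (hD : C.checkClose nl m L D = true)
    (g : ℕ → G) (hι : ∀ s, g (C.ι s) = (g s)⁻¹) (h0 : g 0 = 1)
    (hrel : ∀ r ∈ rels, prodL g r = 1) (x0 : X) (hsl : ∀ s ∈ C.sl, g s • x0 = x0) :
    ∃ q : Fin nl → X, ∀ h ∈ Subgroup.closure (g '' Set.Icc 1 m), ∃ k, h • x0 = q k := by
  obtain ⟨q, hq0, hq⟩ := facts_sound C rels hC g hι h0 hrel x0 hsl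
  simp only [Cert.checkClose, Bool.and_eq_true, nbeq, List.all_eq_true,
    List.mem_range] at hD
  obtain ⟨hL0, hnl, hinv, hcl⟩ := hD
  have hnl1 : 1 ≤ nl := Nat.le_of_ble_eq_true hnl
  have hc := close_sound g q C.fa C.fs C.fb C.ι (fld C.w D) (fld C.w L) C.F nl m hι h0 hq _ hcl
  set S : Set X := {x | ∃ k : Fin nl, x = q (fld C.w L k)} with hS
  have step : ∀ c, 1 ≤ c → c ≤ m → ∀ x ∈ S, (g c)⁻¹ • x ∈ S := by
    intro c hc1 hc2 x hx
    obtain ⟨k, rfl⟩ := hx
    have hm : 0 < m := by omega
    have hp : (k : ℕ) * m + (c - 1) < nl * m := by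
      calc (k : ℕ) * m + (c - 1) < (k : ℕ) * m + m := by omega
        _ = ((k : ℕ) + 1) * m := by ring
        _ ≤ nl * m := Nat.mul_le_mul_right _ k.2
    obtain ⟨k', hk', he⟩ := hc _ hp
    have e1 : ((k : ℕ) * m + (c - 1)) / m = k := by
      rw [Nat.add_comm, Nat.add_mul_div_right _ _ hm, Nat.div_eq_of_lt (by omega), Nat.zero_add]
    have e2 : ((k : ℕ) * m + (c - 1)) % m + 1 = c := by
      rw [Nat.add_comm ((k : ℕ) * m), Nat.add_mul_mod_self_right, Nat.mod_eq_of_lt (by omega)]
      omega
    rw [e1, e2] at he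
    refine ⟨⟨k', hk'⟩, ?_⟩
    rw [he, inv_smul_smul]
  have step' : ∀ c, 1 ≤ c → c ≤ m → ∀ x ∈ S, g c • x ∈ S := by
    intro c hc1 hc2 x hx
    have h1 := hinv (c - 1) (by omega)
    rw [Nat.sub_add_cancel hc1] at h1
    have := step (C.ι c) (Nat.le_of_ble_eq_true h1.1) (Nat.le_of_ble_eq_true h1.2) x hx
    rwa [hι, inv_inv] at this
  have hall : ∀ h ∈ Subgroup.closure (g '' Set.Icc 1 m), ∀ x ∈ S, h • x ∈ S := by
    intro h hh
    have : h ∈ Submonoid.closure ((g '' Set.Icc 1 m) ∪ (g '' Set.Icc 1 m)⁻¹) := by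
      rw [← Subgroup.closure_toSubmonoid]; exact hh
    induction this using Submonoid.closure_induction with
    | mem y hy =>
      intro x hx
      rcases hy with hy | hy
      · obtain ⟨c, ⟨hc1, hc2⟩, rfl⟩ := hy
        exact step' c hc1 hc2 x hx
      · obtain ⟨c, ⟨hc1, hc2⟩, hy⟩ := hy
        have : y = (g c)⁻¹ := by rw [hy, inv_inv]
        rw [this]
        exact step c hc1 hc2 x hx
    | one => intro x hx; rwa [one_smul]
    | mul a b _ _ iha ihb =>
      intro x hx
      have ha : a ∈ Subgroup.closure (g '' Set.Icc 1 m) := by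
        rename_i h1 h2
        rw [← Subgroup.mem_toSubmonoid, Subgroup.closure_toSubmonoid]; exact h1
      have hb : b ∈ Subgroup.closure (g '' Set.Icc 1 m) := by
        rename_i h1 h2
        rw [← Subgroup.mem_toSubmonoid, Subgroup.closure_toSubmonoid]; exact h2
      rw [mul_smul]
      exact iha ha _ (ihb hb _ hx)
  refine ⟨fun k => q (fld C.w L k), fun h hh => ?_⟩
  have hx0 : x0 ∈ S := ⟨⟨0, hnl1⟩, by simp only [hL0]; exact hq0.symm⟩
  obtain ⟨k, hk⟩ := hall h hh x0 hx0
  exact ⟨k, hk⟩

end main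

section index
variable {G : Type*} [Group G]

/-- If `H` moves the coset `A` only to `n` cosets then `|H| ≤ n |A|`. -/
theorem card_le_mul (H A : Subgroup G) [Finite A] (n : ℕ) (q : Fin n → G ⧸ A)
    (hq : ∀ h ∈ H, ∃ k, h • (QuotientGroup.mk (1 : G) : G ⧸ A) = q k) :
    Finite H ∧ Nat.card H ≤ n * Nat.card A := by
  classical
  have hq' : ∀ h : H, ∃ k, (h : G) • (QuotientGroup.mk (1 : G) : G ⧸ A) = q k :=
    fun h => hq h h.2
  choose k hk using hq'
  have hmem : ∀ h : H, ((q (k h)).out)⁻¹ * (h : G) ∈ A := by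
    intro h
    rw [← QuotientGroup.eq, QuotientGroup.out_eq', ← hk h, MulAction.Quotient.smul_mk,
      smul_eq_mul, mul_one]
  let f : H → Fin n × A := fun h => (k h, ⟨_, hmem h⟩)
  have hf : Function.Injective f := by
    intro h1 h2 h
    simp only [f, Prod.mk.injEq, Subtype.mk.injEq] at h
    obtain ⟨e1, e2⟩ := h
    rw [e1] at e2
    exact Subtype.ext (mul_left_cancel e2)
  refine ⟨Finite.of_injective f hf, ?_⟩
  calc Nat.card H ≤ Nat.card (Fin n × A) := Nat.card_le_card_of_injective f hf
    _ = n * Nat.card A := by rw [Nat.card_prod, Nat.card_eq_fintype_card, Fintype.card_fin]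

/-- Order bound from a certificate: `H` is generated by the letters `1..m`, `A` contains the
subgroup letters. -/
theorem card_le (C : Cert) (rels : List (List ℕ)) (hC : C.check rels = true)
    (nl m L D : ℕ) (hD : C.checkClose nl m L D = true)
    (g : ℕ → G) (hι : ∀ s, g (C.ι s) = (g s)⁻¹) (h0 : g 0 = 1)
    (hrel : ∀ r ∈ rels, prodL g r = 1) (A : Subgroup G) [Finite A]
    (hsl : ∀ s ∈ C.sl, g s ∈ A) (H : Subgroup G) (hH : H ≤ Subgroup.closure (g '' Set.Icc 1 m)) :
    Finite H ∧ Nat.card H ≤ nl * Nat.card A := by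
  obtain ⟨q, hq⟩ := orbit_sound (X := G ⧸ A) C rels hC nl m L D hD g hι h0 hrel
    (QuotientGroup.mk (1 : G)) (by
      intro s hs
      rw [MulAction.Quotient.smul_mk, QuotientGroup.eq]
      simpa using A.inv_mem (hsl s hs))
  exact card_le_mul H A nl q (fun h hh => hq h (hH hh))

/-- A word that closes in a certificate without subgroup letters is trivial. -/
theorem loop_eq_one (C : Cert) (rels : List (List ℕ)) (hC : C.check rels = true)
    (g : ℕ → G) (hι : ∀ s, g (C.ι s) = (g s)⁻¹) (h0 : g 0 = 1)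
    (hrel : ∀ r ∈ rels, prodL g r = 1) (hsl : C.sl = []) (i n D : ℕ) (w : List ℕ)
    (h : C.checkLoop i n D w = true) : prodL g w = 1 := by
  obtain ⟨q, -, hq⟩ := facts_sound (X := G) C rels hC g hι h0 hrel 1 (by
    intro s hs; rw [hsl] at hs; simp at hs)
  have := walk_sound g q C.fa C.fs C.fb C.ι (fld C.w D) hι h0 C.F i hq _ _ _ _ h
  rw [smul_eq_mul] at this
  exact mul_eq_right.mp this.symm

end index

end Cfsg.Agent.Lib.CosetFacts
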