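import Mathlib

/-!
A simple group with a proper subgroup `K` of index `m` is isomorphic to a transitive subgroup of the symmetric
group on `Fin m` in which the stabiliser of `0` corresponds to `K`.
-/

set_option autoImplicit false

namespace Cfsg.Agent.Lib.CosetPerm

/-- A simple group acting on the cosets of a proper subgroup `K` of index `m`, on the points `Fin m`: it is
isomorphic to a transitive subgroup of `Equiv.Perm (Fin m)`, with `K` corresponding to the stabiliser of `0`. -/
theorem exists_perm_of_subgroup {J : Type*} [Group J] [IsSimpleGroup J] (K : Subgroup J)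
    (hK : K ≠ ⊤) (m : ℕ) [NeZero m] (hm : K.index = m) :
    ∃ (H : Subgroup (Equiv.Perm (Fin m))) (e : J ≃* H), MulAction.IsPretransitive H (Fin m) ∧
      ∀ g : J, e g ∈ MulAction.stabilizer H (0 : Fin m) ↔ g ∈ K := by
  classical
  have hcard : Nat.card (J ⧸ K) = m := hm
  have hfin : Finite (J ⧸ K) := Nat.finite_of_card_ne_zero (by rw [hcard]; exact NeZero.ne m)
  let e0 : (J ⧸ K) ≃ Fin m := Finite.equivFinOfCardEq hcard
  let e1 : (J ⧸ K) ≃ Fin m := e0.trans (Equiv.swap (e0 ((1 : J) : J ⧸ K)) 0)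
  have he1 : e1 ((1 : J) : J ⧸ K) = 0 := by simp [e1]
  let φ : J →* Equiv.Perm (Fin m) :=
    (e1.permCongrHom.toMonoidHom).comp (MulAction.toPermHom J (J ⧸ K))
  have hφ : ∀ (g : J) (x : J ⧸ K), φ g (e1 x) = e1 (g • x) := by
    intro g x
    simp [φ]
  have hstab : ∀ g : J, φ g 0 = 0 ↔ g ∈ K := by
    intro g
    have h1 := hφ g ((1 : J) : J ⧸ K)
    rw [he1] at h1
    rw [h1]
    constructor
    · intro h2
      rw [← he1] at h2
      have h3 : g ∈ MulAction.stabilizer J ((1 : J) : J ⧸ K) := e1.injective h2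
      rwa [MulAction.stabilizer_quotient] at h3
    · intro h2
      have h3 : g ∈ MulAction.stabilizer J ((1 : J) : J ⧸ K) := by
        rwa [MulAction.stabilizer_quotient]
      have h4 : g • ((1 : J) : J ⧸ K) = ((1 : J) : J ⧸ K) := h3
      rw [h4, he1]
  have hinj : Function.Injective φ := by
    rw [← MonoidHom.ker_eq_bot_iff]
    rcases (MonoidHom.normal_ker φ).eq_bot_or_eq_top with h | h
    · exact h
    · exfalso
      apply hK
      rw [eq_top_iff]
      intro g _
      have hg : φ g = 1 := by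
        have : g ∈ φ.ker := by rw [h]; trivial
        exact this
      rw [← hstab, hg, Equiv.Perm.one_apply]
  refine ⟨φ.range, MonoidHom.ofInjective hinj, ⟨?_⟩, ?_⟩
  · intro x y
    obtain ⟨a, ha⟩ := e1.surjective x
    obtain ⟨b, hb⟩ := e1.surjective y
    obtain ⟨g, hg⟩ := MulAction.exists_smul_eq J a b
    refine ⟨⟨φ g, ⟨g, rfl⟩⟩, ?_⟩
    change φ g x = y
    rw [← ha, hφ, hg, hb]
  · intro g
    rw [MulAction.mem_stabilizer_iff]
    exact hstab g

/-- The stabiliser in `exists_perm_of_subgroup` is isomorphic to `K`. -/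
theorem exists_perm_of_subgroup' {J : Type*} [Group J] [IsSimpleGroup J] (K : Subgroup J)
    (hK : K ≠ ⊤) (m : ℕ) [NeZero m] (hm : K.index = m) :
    ∃ (H : Subgroup (Equiv.Perm (Fin m))), Nonempty (J ≃* H) ∧
      MulAction.IsPretransitive H (Fin m) ∧
      Nonempty (K ≃* MulAction.stabilizer H (0 : Fin m)) := by
  obtain ⟨H, e, h1, h2⟩ := exists_perm_of_subgroup K hK m hm
  refine ⟨H, ⟨e⟩, h1, ⟨(e.subgroupMap K).trans (MulEquiv.subgroupCongr ?_)⟩⟩
  ext x
  constructor
  · rintro ⟨k, hk, rfl⟩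
    exact (h2 k).2 hk
  · intro hx
    obtain ⟨k, rfl⟩ := e.surjective x
    exact ⟨k, (h2 k).1 hx, rfl⟩

end Cfsg.Agent.Lib.CosetPerm
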