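import Mathlib
import Cfsg.Agent.Lib.DicksonAct

/-!
# Elements of `SL₂(K)`: unipotent elements and fixed points on the projective line
-/

set_option autoImplicit false

namespace Cfsg.Agent.Lib.DicksonElt

open Matrix OnePoint
open Cfsg.Agent.LieClassical.SLTwoUnipotent
open Cfsg.Agent.Lib.DicksonAct

variable {K : Type*} [Field K]

theorem l_def00 (b : K) : (l b) 0 0 = 1 := rfl
theorem l_def01 (b : K) : (l b) 0 1 = 0 := rfl
theorem l_def10 (b : K) : (l b) 1 0 = b := rfl
theorem l_def11 (b : K) : (l b) 1 1 = 1 := rfl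
theorem u_def00 (b : K) : (u b) 0 0 = 1 := rfl
theorem u_def01 (b : K) : (u b) 0 1 = b := rfl
theorem u_def10 (b : K) : (u b) 1 0 = 0 := rfl
theorem u_def11 (b : K) : (u b) 1 1 = 1 := rfl

theorem tr_u (b : K) : tr (u b) = 2 := by
  rw [tr_def, u_def00, u_def11]; norm_num

theorem tr_l (b : K) : tr (l b) = 2 := by
  rw [tr_def, l_def00, l_def11]; norm_num

theorem tr_u_mul_l (a b : K) : tr (u a * l b) = 2 + a * b := by
  rw [tr_def, mul_apply00, mul_apply11]
  simp only [u_def00, u_def01, u_def10, u_def11, l_def00, l_def01, l_def10, l_def11]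
  ring

/-- Powers of a unipotent element. -/
theorem pow_of_tr {g : Matrix.SpecialLinearGroup (Fin 2) K} (h : tr g = 2) (n : ℕ) :
    ((g ^ n : Matrix.SpecialLinearGroup (Fin 2) K) : Matrix (Fin 2) (Fin 2) K) =
      (n : K) • (g : Matrix (Fin 2) (Fin 2) K) - ((n : K) - 1) • 1 := by
  induction n with
  | zero =>
    rw [pow_zero]
    simp
  | succ n ih =>
    rw [pow_succ, coe_mul, ih, sub_mul, smul_mul_assoc, sq_eq, h]
    push_cast
    simp only [smul_mul_assoc, one_mul]
    ext i j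
    simp only [Matrix.sub_apply, Matrix.smul_apply, smul_eq_mul]
    ring

theorem pow_p_eq_one (p : ℕ) [CharP K p] {g : Matrix.SpecialLinearGroup (Fin 2) K}
    (h : tr g = 2) : g ^ p = 1 := by
  apply ext_coe
  rw [pow_of_tr h, CharP.cast_eq_zero]
  simp

theorem tr_of_pow_eq_one (p : ℕ) [Fact p.Prime] [CharP K p]
    {g : Matrix.SpecialLinearGroup (Fin 2) K} {k : ℕ} (h : g ^ (p ^ k) = 1) : tr g = 2 := by
  have h1 : ((g : Matrix (Fin 2) (Fin 2) K) - 1) ^ (p ^ k) = 0 := by
    rw [sub_pow_char_pow_of_commute _ _ (Commute.one_right _)]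
    rw [← Matrix.SpecialLinearGroup.coe_pow, h]
    simp
  have h2 : IsNilpotent ((g : Matrix (Fin 2) (Fin 2) K) - 1) := ⟨_, h1⟩
  have h3 := (Matrix.isNilpotent_trace_of_isNilpotent h2).eq_zero
  rw [Matrix.trace_sub, ← tr_eq_trace, Matrix.trace_one] at h3
  simp at h3
  linear_combination h3

theorem tr_sq_eq_four_iff {g : Matrix.SpecialLinearGroup (Fin 2) K} :
    tr g ^ 2 = 4 ↔ tr g = 2 ∨ tr g = -2 := by
  constructor
  · intro h
    have h1 : (tr g - 2) * (tr g + 2) = 0 := by linear_combination h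
    rcases mul_eq_zero.1 h1 with h | h
    · left; linear_combination h
    · right; linear_combination h
  · rintro (h | h) <;> rw [h] <;> norm_num

section Action

variable [DecidableEq K]

attribute [local instance] slAct

theorem eq_u_of_fix {g : Matrix.SpecialLinearGroup (Fin 2) K} (h : tr g = 2)
    (hx : g • (∞ : OnePoint K) = ∞) : g = u (g 0 1) := by
  rw [smul_infty_iff] at hx
  have hd := det_eq g
  rw [hx] at hd
  rw [tr_def] at h
  have h1 : (g 0 0 - 1) ^ 2 = 0 := by linear_combination (-1 : K) * hd + g 0 0 * h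
  have h2 : g 0 0 = 1 := by
    have := pow_eq_zero_iff (two_ne_zero) |>.1 h1
    linear_combination this
  have h3 : g 1 1 = 1 := by linear_combination h - h2
  apply ext4
  · rw [h2]; rfl
  · rfl
  · rw [hx]; rfl
  · rw [h3]; rfl

theorem eq_l_of_fix {g : Matrix.SpecialLinearGroup (Fin 2) K} (h : tr g = 2)
    (hx : g • ((0 : K) : OnePoint K) = (0 : K)) : g = l (g 1 0) := by
  rw [smul_zero_iff] at hx
  have hd := det_eq g
  rw [hx] at hd
  rw [tr_def] at h
  have h1 : (g 0 0 - 1) ^ 2 = 0 := by linear_combination (-1 : K) * hd + g 0 0 * h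
  have h2 : g 0 0 = 1 := by
    have := pow_eq_zero_iff (two_ne_zero) |>.1 h1
    linear_combination this
  have h3 : g 1 1 = 1 := by linear_combination h - h2
  apply ext4
  · rw [h2]; rfl
  · rw [hx]; rfl
  · rfl
  · rw [h3]; rfl

omit [DecidableEq K] in
theorem conj_eq_one_iff {c g : Matrix.SpecialLinearGroup (Fin 2) K} :
    c⁻¹ * g * c = 1 ↔ g = 1 := by
  constructor
  · intro h
    have : g = c * (c⁻¹ * g * c) * c⁻¹ := by group
    rw [this, h]; group
  · rintro rfl; group

omit [DecidableEq K] in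
theorem conj_eq_neg_one_iff {c g : Matrix.SpecialLinearGroup (Fin 2) K} :
    c⁻¹ * g * c = -1 ↔ g = -1 := by
  constructor
  · intro h
    have : g = c * (c⁻¹ * g * c) * c⁻¹ := by group
    rw [this, h]
    simp
  · rintro rfl; simp

/-- A nontrivial unipotent element has at most one fixed point. -/
theorem fix_unique {g : Matrix.SpecialLinearGroup (Fin 2) K} (h : tr g = 2) (h1 : g ≠ 1)
    {x y : OnePoint K} (hx : g • x = x) (hy : g • y = y) : x = y := by
  by_contra hxy
  obtain ⟨c, hc1, hc2⟩ := exists_smul_pair hxy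
  rw [conj_smul_eq_iff hc1] at hx
  rw [conj_smul_eq_iff hc2] at hy
  rw [← tr_conj' c g] at h
  apply h1
  rw [← conj_eq_one_iff (c := c)]
  rw [eq_u_of_fix h hx, smul_zero_iff, u_def01] at hy
  rw [eq_u_of_fix h hx, hy, u_zero]

/-- An element which fixes a point and is neither `1` nor `-1`, with trace `±2`, has no
other fixed point. -/
theorem fix_unique' (h2 : (2 : K) ≠ 0) {g : Matrix.SpecialLinearGroup (Fin 2) K}
    (h : tr g ^ 2 = 4) (h1 : g ≠ 1) (h1' : g ≠ -1)
    {x y : OnePoint K} (hx : g • x = x) (hy : g • y = y) : x = y := by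
  by_contra hxy
  obtain ⟨c, hc1, hc2⟩ := exists_smul_pair hxy
  rw [conj_smul_eq_iff hc1, smul_infty_iff] at hx
  rw [conj_smul_eq_iff hc2, smul_zero_iff] at hy
  rw [← tr_conj' c g, tr_def] at h
  rw [Ne, ← conj_eq_one_iff (c := c)] at h1
  rw [Ne, ← conj_eq_neg_one_iff (c := c)] at h1'
  generalize hk : c⁻¹ * g * c = k at *
  have hd := det_eq k
  rw [hx, hy] at hd
  have h3 : (k 0 0 - k 1 1) ^ 2 = 0 := by linear_combination h - 4 * hd
  have h4 : k 0 0 = k 1 1 := by
    have := pow_eq_zero_iff (two_ne_zero) |>.1 h3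
    linear_combination this
  rw [← h4] at hd
  have h5 : (k 0 0 - 1) * (k 0 0 + 1) = 0 := by linear_combination hd
  rcases mul_eq_zero.1 h5 with h | h
  · have h6 : k 0 0 = 1 := by linear_combination h
    apply h1
    apply ext4 <;> simp [h6, hx, hy, ← h4]
  · have h6 : k 0 0 = -1 := by linear_combination h
    apply h1'
    apply ext4 <;> rw [DicksonAct.neg_apply] <;> simp [h6, hx, hy, ← h4]

/-- An element of trace `±2` has a fixed point. -/
theorem exists_fix_of_tr_sq (h2 : (2 : K) ≠ 0) {g : Matrix.SpecialLinearGroup (Fin 2) K}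
    (h : tr g ^ 2 = 4) : ∃ x : OnePoint K, g • x = x := by
  by_cases h10 : g 1 0 = 0
  · exact ⟨∞, smul_infty_iff.2 h10⟩
  · refine ⟨(((g 0 0 - g 1 1) / (2 * g 1 0) : K) : OnePoint K), ?_⟩
    rw [smul_coe_iff]
    have hd := det_eq g
    rw [tr_def] at h
    field_simp
    linear_combination (-1 : K) * h + 4 * hd

/-- Over an algebraically closed field, every element has a fixed point. -/
theorem exists_fix [IsAlgClosed K] (g : Matrix.SpecialLinearGroup (Fin 2) K) :
    ∃ x : OnePoint K, g • x = x := by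
  by_cases h10 : g 1 0 = 0
  · exact ⟨∞, smul_infty_iff.2 h10⟩
  · obtain ⟨z, hz⟩ := IsAlgClosed.exists_eval₂_eq_zero_of_injective (RingHom.id K)
      Function.injective_id
      (Polynomial.C (g 1 0) * Polynomial.X ^ 2 + Polynomial.C (g 1 1 - g 0 0) * Polynomial.X
        + Polynomial.C (- g 0 1)) (by
        rw [Polynomial.degree_quadratic h10]; norm_num)
    refine ⟨(z : OnePoint K), ?_⟩
    rw [smul_coe_iff]
    simp at hz
    linear_combination hz

/-- An element with `tr² ≠ 4` which has a fixed point has exactly two fixed points. -/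
theorem exists_two_fix {g : Matrix.SpecialLinearGroup (Fin 2) K}
    (h : tr g ^ 2 ≠ 4) {x : OnePoint K} (hx : g • x = x) :
    ∃ y : OnePoint K, x ≠ y ∧ ∀ z : OnePoint K, g • z = z ↔ z = x ∨ z = y := by
  obtain ⟨c, hc⟩ := exists_smul_infty x
  rw [conj_smul_eq_iff hc, smul_infty_iff] at hx
  rw [← tr_conj' c g, tr_def] at h
  have key : ∀ z : OnePoint K, g • z = z ↔ (c⁻¹ * g * c) • (c⁻¹ • z) = c⁻¹ • z := by
    intro z
    exact conj_smul_eq_iff (by rw [smul_inv_smul])
  generalize hk : c⁻¹ * g * c = k at *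
  have hd := det_eq k
  rw [hx, mul_zero, sub_zero] at hd
  have h3 : k 1 1 - k 0 0 ≠ 0 := by
    intro h3
    apply h
    have : k 1 1 = k 0 0 := by linear_combination h3
    rw [this] at hd ⊢
    linear_combination 4 * hd
  refine ⟨c • (((k 0 1 / (k 1 1 - k 0 0) : K) : OnePoint K)), ?_, ?_⟩
  · rw [← hc]
    intro h'
    have := smul_left_cancel c h'
    exact OnePoint.infty_ne_coe _ this
  · intro z
    rw [key, ← hc, ← inv_smul_eq_iff (g := c) (a := z), ← inv_smul_eq_iff (g := c) (a := z)]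
    generalize c⁻¹ • z = w
    induction w using OnePoint.rec with
    | infty =>
      simp [smul_infty_iff.2 hx]
    | coe t =>
      rw [smul_coe_iff, hx]
      constructor
      · intro h'
        right
        rw [OnePoint.coe_eq_coe, eq_div_iff h3]
        linear_combination h'
      · rintro (h' | h')
        · exact absurd h'.symm (OnePoint.infty_ne_coe t)
        · rw [OnePoint.coe_eq_coe, eq_div_iff h3] at h'
          linear_combination h'

/-- Unipotent elements fixing a common point: the product is unipotent. -/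
theorem tr_mul_of_fix {g h : Matrix.SpecialLinearGroup (Fin 2) K} (hg : tr g = 2)
    (hh : tr h = 2) {x : OnePoint K} (hgx : g • x = x) (hhx : h • x = x) :
    tr (g * h) = 2 := by
  obtain ⟨c, hc⟩ := exists_smul_infty x
  rw [conj_smul_eq_iff hc] at hgx hhx
  rw [← tr_conj' c g] at hg
  rw [← tr_conj' c h] at hh
  rw [← tr_conj' c (g * h)]
  have : c⁻¹ * (g * h) * c = (c⁻¹ * g * c) * (c⁻¹ * h * c) := by group
  rw [this, eq_u_of_fix hg hgx, eq_u_of_fix hh hhx, ← u_add, tr_u]

/-- Unipotent elements fixing a common point commute. -/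
theorem commute_of_fix {g h : Matrix.SpecialLinearGroup (Fin 2) K} (hg : tr g = 2)
    (hh : tr h = 2) {x : OnePoint K} (hgx : g • x = x) (hhx : h • x = x) :
    g * h = h * g := by
  obtain ⟨c, hc⟩ := exists_smul_infty x
  rw [conj_smul_eq_iff hc] at hgx hhx
  rw [← tr_conj' c g] at hg
  rw [← tr_conj' c h] at hh
  have h1 : (c⁻¹ * g * c) * (c⁻¹ * h * c) = (c⁻¹ * h * c) * (c⁻¹ * g * c) := by
    rw [eq_u_of_fix hg hgx, eq_u_of_fix hh hhx, ← u_add, ← u_add, add_comm]
  have h2 : g * h = c * ((c⁻¹ * g * c) * (c⁻¹ * h * c)) * c⁻¹ := by group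
  have h3 : h * g = c * ((c⁻¹ * h * c) * (c⁻¹ * g * c)) * c⁻¹ := by group
  rw [h2, h3, h1]

/-- Centralizer of a nontrivial unipotent element inside the stabiliser of its fixed point. -/
theorem commute_iff_of_fix {g v : Matrix.SpecialLinearGroup (Fin 2) K} (hv : tr v = 2)
    (hv1 : v ≠ 1) {x : OnePoint K} (hgx : g • x = x) (hvx : v • x = x) :
    g * v = v * g ↔ tr g ^ 2 = 4 := by
  obtain ⟨c, hc⟩ := exists_smul_infty x
  rw [conj_smul_eq_iff hc] at hgx hvx
  rw [← tr_conj' c g]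
  rw [← tr_conj' c v] at hv
  rw [Ne, ← conj_eq_one_iff (c := c)] at hv1
  have h0 : g * v = v * g ↔ (c⁻¹ * g * c) * (c⁻¹ * v * c) = (c⁻¹ * v * c) * (c⁻¹ * g * c) := by
    constructor
    · intro h
      have h2 : (c⁻¹ * g * c) * (c⁻¹ * v * c) = c⁻¹ * (g * v) * c := by group
      have h3 : (c⁻¹ * v * c) * (c⁻¹ * g * c) = c⁻¹ * (v * g) * c := by group
      rw [h2, h3, h]
    · intro h
      have h2 : g * v = c * ((c⁻¹ * g * c) * (c⁻¹ * v * c)) * c⁻¹ := by group
      have h3 : v * g = c * ((c⁻¹ * v * c) * (c⁻¹ * g * c)) * c⁻¹ := by group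
      rw [h2, h3, h]
  rw [h0]
  generalize c⁻¹ * g * c = g' at *
  generalize c⁻¹ * v * c = v' at *
  obtain ⟨b, rfl⟩ : ∃ b, v' = u b := ⟨_, eq_u_of_fix hv hvx⟩
  have hb : b ≠ 0 := by
    rintro rfl
    exact hv1 u_zero
  rw [smul_infty_iff] at hgx
  have hd := det_eq g'
  rw [hgx, mul_zero, sub_zero] at hd
  have h4 : tr g' ^ 2 = 4 ↔ g' 0 0 = g' 1 1 := by
    rw [tr_def]
    constructor
    · intro h
      have h3 : (g' 0 0 - g' 1 1) ^ 2 = 0 := by linear_combination h - 4 * hd
      have := pow_eq_zero_iff (two_ne_zero) |>.1 h3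
      linear_combination this
    · intro h
      rw [h] at hd ⊢
      linear_combination 4 * hd
  rw [h4]
  constructor
  · intro h
    have h01 := congrArg (fun m : Matrix.SpecialLinearGroup (Fin 2) K => m 0 1) h
    simp only [mul_apply01, u_def00, u_def01, u_def11] at h01
    apply mul_right_cancel₀ hb
    linear_combination h01
  · intro h
    apply ext4
    · simp only [mul_apply00, u_def00, u_def01, u_def10]; rw [hgx]; ring
    · simp only [mul_apply01, u_def00, u_def01, u_def11]; rw [h]; ring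
    · simp only [mul_apply10, u_def00, u_def10, u_def11]; rw [hgx]; ring
    · simp only [mul_apply11, u_def01, u_def10, u_def11]; rw [hgx]; ring

/-- Two unipotent elements with different fixed points `x`, `y` and `v x = u y`: the trace of
the product is `3`. -/
theorem tr_mul_eq_three {g v : Matrix.SpecialLinearGroup (Fin 2) K} (hg : tr g = 2)
    (hv : tr v = 2) {x y : OnePoint K} (hxy : x ≠ y) (hgx : g • x = x) (hvy : v • y = y)
    (h : v • x = g • y) : tr (g * v) = 3 := by
  obtain ⟨c, hc1, hc2⟩ := exists_smul_pair hxy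
  rw [conj_smul_eq_iff hc1] at hgx
  rw [conj_smul_eq_iff hc2] at hvy
  rw [← tr_conj' c g] at hg
  rw [← tr_conj' c v] at hv
  rw [← tr_conj' c (g * v)]
  have h5 : c⁻¹ * (g * v) * c = (c⁻¹ * g * c) * (c⁻¹ * v * c) := by group
  rw [h5]
  have h6 : (c⁻¹ * v * c) • (∞ : OnePoint K) = (c⁻¹ * g * c) • ((0 : K) : OnePoint K) := by
    rw [mul_smul, mul_smul, mul_smul, mul_smul, hc1, hc2, h]
  obtain ⟨a, ha⟩ : ∃ a, c⁻¹ * g * c = u a := ⟨_, eq_u_of_fix hg hgx⟩
  obtain ⟨b, hb⟩ : ∃ b, c⁻¹ * v * c = l b := ⟨_, eq_l_of_fix hv hvy⟩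
  rw [ha, hb] at h6 ⊢
  rw [u_smul_coe, smul_infty, l_def00, l_def10, zero_add] at h6
  rw [tr_u_mul_l]
  split_ifs at h6 with hb0
  · exact absurd h6 (OnePoint.infty_ne_coe _)
  · rw [OnePoint.coe_eq_coe] at h6
    rw [← h6]
    field_simp
    norm_num

/-- Two unipotent elements with `tr (g v) = 3` are simultaneously conjugate to `u 1` and `l 1`. -/
theorem exists_conj_of_tr_mul_eq_three [IsAlgClosed K] (h2 : (2 : K) ≠ 0)
    {g v : Matrix.SpecialLinearGroup (Fin 2) K} (hg : tr g = 2)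
    (hv : tr v = 2) (h3 : tr (g * v) = 3) :
    ∃ c : Matrix.SpecialLinearGroup (Fin 2) K, c⁻¹ * g * c = u 1 ∧ c⁻¹ * v * c = l 1 := by
  obtain ⟨x, hx⟩ := exists_fix g
  obtain ⟨y, hy⟩ := exists_fix v
  have hxy : x ≠ y := by
    rintro rfl
    rw [tr_mul_of_fix hg hv hx hy] at h3
    have : (1 : K) = 0 := by linear_combination -h3
    exact one_ne_zero this
  obtain ⟨c, hc1, hc2⟩ := exists_smul_pair hxy
  rw [conj_smul_eq_iff hc1] at hx
  rw [conj_smul_eq_iff hc2] at hy
  rw [← tr_conj' c g] at hg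
  rw [← tr_conj' c v] at hv
  rw [← tr_conj' c (g * v)] at h3
  have h5 : c⁻¹ * (g * v) * c = (c⁻¹ * g * c) * (c⁻¹ * v * c) := by group
  rw [h5] at h3
  obtain ⟨a, ha⟩ : ∃ a, c⁻¹ * g * c = u a := ⟨_, eq_u_of_fix hg hx⟩
  obtain ⟨b, hb⟩ : ∃ b, c⁻¹ * v * c = l b := ⟨_, eq_l_of_fix hv hy⟩
  rw [ha, hb, tr_u_mul_l] at h3
  have hab : a * b = 1 := by linear_combination h3
  have ha0 : a ≠ 0 := left_ne_zero_of_mul_eq_one hab
  obtain ⟨s, hs⟩ := IsAlgClosed.exists_pow_nat_eq a (n := 2) (by norm_num)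
  have hs0 : s ≠ 0 := by
    rintro rfl
    apply ha0
    rw [← hs]; norm_num
  have hdet : s * s⁻¹ - 0 * 0 = 1 := by field_simp; ring
  refine ⟨c * mk4 s 0 0 s⁻¹ hdet, ?_, ?_⟩
  · have h6 : (c * mk4 s 0 0 s⁻¹ hdet)⁻¹ * g * (c * mk4 s 0 0 s⁻¹ hdet)
        = (mk4 s 0 0 s⁻¹ hdet)⁻¹ * (c⁻¹ * g * c) * mk4 s 0 0 s⁻¹ hdet := by group
    rw [h6, ha, mul_assoc, inv_mul_eq_iff_eq_mul]
    apply ext4
    · simp only [mul_apply00, mk4_00, mk4_01, mk4_10, mk4_11, u_def00, u_def01, u_def10]; ring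
    · simp only [mul_apply01, mk4_00, mk4_01, mk4_10, mk4_11, u_def00, u_def01, u_def11]
      rw [← hs]; field_simp; ring
    · simp only [mul_apply10, mk4_00, mk4_01, mk4_10, mk4_11, u_def00, u_def10, u_def11]; ring
    · simp only [mul_apply11, mk4_00, mk4_01, mk4_10, mk4_11, u_def01, u_def10, u_def11]; ring
  · have h6 : (c * mk4 s 0 0 s⁻¹ hdet)⁻¹ * v * (c * mk4 s 0 0 s⁻¹ hdet)
        = (mk4 s 0 0 s⁻¹ hdet)⁻¹ * (c⁻¹ * v * c) * mk4 s 0 0 s⁻¹ hdet := by group
    have hb' : b = (s ^ 2)⁻¹ := by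
      rw [hs]; exact eq_inv_of_mul_eq_one_right hab
    rw [h6, hb, mul_assoc, inv_mul_eq_iff_eq_mul]
    apply ext4
    · simp only [mul_apply00, mk4_00, mk4_01, mk4_10, mk4_11, l_def00, l_def01, l_def10]; ring
    · simp only [mul_apply01, mk4_00, mk4_01, mk4_10, mk4_11, l_def00, l_def01, l_def11]; ring
    · simp only [mul_apply10, mk4_00, mk4_01, mk4_10, mk4_11, l_def00, l_def10, l_def11]
      rw [hb']; field_simp; ring
    · simp only [mul_apply11, mk4_00, mk4_01, mk4_10, mk4_11, l_def01, l_def10, l_def11]; ring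

end Action

end Cfsg.Agent.Lib.DicksonElt
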