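import Mathlib
import Cfsg.Agent.Lib.DicksonElt
import Cfsg.Agent.Lib.ActCount

/-!
# The count for Dickson's theorem

`K` algebraically closed of odd characteristic `p`, `G` a finite subgroup of `SL₂(K)`
containing `-1`.
-/

set_option autoImplicit false

namespace Cfsg.Agent.Lib.DicksonCount

open Matrix OnePoint
open scoped Pointwise
open Cfsg.Agent.LieClassical.SLTwoUnipotent
open Cfsg.Agent.Lib.DicksonAct Cfsg.Agent.Lib.DicksonElt

variable {K : Type*} [Field K] [DecidableEq K]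

attribute [local instance] slAct

/-- The unipotent elements of `G` fixing `x`, as a subgroup of `G`. -/
def pf (G : Subgroup (Matrix.SpecialLinearGroup (Fin 2) K)) (x : OnePoint K) : Subgroup G where
  carrier := {g | (g : Matrix.SpecialLinearGroup (Fin 2) K) • x = x ∧
    tr (g : Matrix.SpecialLinearGroup (Fin 2) K) = 2}
  mul_mem' := by
    rintro a b ⟨ha1, ha2⟩ ⟨hb1, hb2⟩
    refine ⟨?_, ?_⟩
    · rw [Subgroup.coe_mul, mul_smul, hb1, ha1]
    · rw [Subgroup.coe_mul]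
      exact tr_mul_of_fix ha2 hb2 ha1 hb1
  one_mem' := by
    refine ⟨?_, ?_⟩
    · rw [Subgroup.coe_one, one_smul]
    · rw [Subgroup.coe_one, tr_one]
  inv_mem' := by
    rintro a ⟨ha1, ha2⟩
    refine ⟨?_, ?_⟩
    · rw [Subgroup.coe_inv, inv_smul_eq_iff, ha1]
    · rw [Subgroup.coe_inv, tr_inv, ha2]

theorem mem_pf {G : Subgroup (Matrix.SpecialLinearGroup (Fin 2) K)} {x : OnePoint K} {g : G} :
    g ∈ pf G x ↔ (g : Matrix.SpecialLinearGroup (Fin 2) K) • x = x ∧
      tr (g : Matrix.SpecialLinearGroup (Fin 2) K) = 2 := Iff.rfl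

/-- The points fixed by a nontrivial unipotent element of `G`. -/
def X1 (G : Subgroup (Matrix.SpecialLinearGroup (Fin 2) K)) : Set (OnePoint K) :=
  {x | ∃ g : G, g ≠ 1 ∧ g ∈ pf G x}

/-- The points fixed by an element of `G` other than `1`, `-1` but by no nontrivial unipotent
element. -/
def X2 (G : Subgroup (Matrix.SpecialLinearGroup (Fin 2) K)) : Set (OnePoint K) :=
  {x | x ∉ X1 G ∧ ∃ g : G, (g : Matrix.SpecialLinearGroup (Fin 2) K) ≠ 1 ∧
    (g : Matrix.SpecialLinearGroup (Fin 2) K) ≠ -1 ∧ g • x = x}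

omit [DecidableEq K] in
theorem coe_ne_one {G : Subgroup (Matrix.SpecialLinearGroup (Fin 2) K)} {g : G} (h : g ≠ 1) :
    (g : Matrix.SpecialLinearGroup (Fin 2) K) ≠ 1 := by
  intro h'
  exact h (Subtype.ext h')

omit [DecidableEq K] in
theorem two_ne_zero' (p : ℕ) [hp : Fact p.Prime] [CharP K p] (hp2 : p ≠ 2) : (2 : K) ≠ 0 := by
  intro h
  have : ((2 : ℕ) : K) = 0 := by exact_mod_cast h
  rw [CharP.cast_eq_zero_iff K p] at this
  exact hp2 ((Nat.prime_dvd_prime_iff_eq hp.out Nat.prime_two).1 this)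

theorem isPGroup_pf (p : ℕ) [CharP K p] (G : Subgroup (Matrix.SpecialLinearGroup (Fin 2) K)) (x : OnePoint K) :
    IsPGroup p (pf G x) := by
  rintro ⟨g, hg⟩
  refine ⟨1, ?_⟩
  apply Subtype.ext
  apply Subtype.ext
  rw [pow_one]
  exact pow_p_eq_one p hg.2

/-- A `p`-subgroup containing `pf G x ≠ 1` equals it. -/
theorem eq_pf_of_le {p : ℕ} [Fact p.Prime] [CharP K p] [IsAlgClosed K] {G : Subgroup (Matrix.SpecialLinearGroup (Fin 2) K)} [Finite G]
    {x : OnePoint K} (hx : x ∈ X1 G) {Q : Subgroup G} (hQ : IsPGroup p Q) (hle : pf G x ≤ Q) :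
    Q = pf G x := by
  obtain ⟨v, hv1, hv⟩ := hx
  have hunip : ∀ g : G, g ∈ Q → tr (g : Matrix.SpecialLinearGroup (Fin 2) K) = 2 := by
    intro g hg
    obtain ⟨k, hk⟩ := hQ ⟨g, hg⟩
    apply tr_of_pow_eq_one p (k := k)
    have := congrArg (fun m : Q => ((m : G) : Matrix.SpecialLinearGroup (Fin 2) K)) hk
    simpa using this
  have : Nontrivial Q := ⟨⟨⟨v, hle hv⟩, 1, fun h => hv1 (congrArg Subtype.val h)⟩⟩
  have hcen : Nontrivial (Subgroup.center Q) := hQ.center_nontrivial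
  obtain ⟨z, hz1⟩ := exists_ne (1 : Subgroup.center Q)
  have hzc := z.2
  have hz1' : (((z : Q) : G) : Matrix.SpecialLinearGroup (Fin 2) K) ≠ 1 := by
    intro h
    apply hz1
    apply Subtype.ext
    apply Subtype.ext
    apply Subtype.ext
    exact h
  have hztr := hunip ((z : Q) : G) (z : Q).2
  obtain ⟨y, hy⟩ := exists_fix (((z : Q) : G) : Matrix.SpecialLinearGroup (Fin 2) K)
  have hQy : ∀ g : G, g ∈ Q → (g : Matrix.SpecialLinearGroup (Fin 2) K) • y = y := by
    intro g hg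
    have hcomm : (⟨g, hg⟩ : Q) * (z : Q) = (z : Q) * ⟨g, hg⟩ :=
      (Subgroup.mem_center_iff.1 hzc ⟨g, hg⟩)
    have hcomm' : (g : Matrix.SpecialLinearGroup (Fin 2) K)
        * (((z : Q) : G) : Matrix.SpecialLinearGroup (Fin 2) K)
        = (((z : Q) : G) : Matrix.SpecialLinearGroup (Fin 2) K)
          * (g : Matrix.SpecialLinearGroup (Fin 2) K) := by
      have := congrArg (fun m : Q => ((m : G) : Matrix.SpecialLinearGroup (Fin 2) K)) hcomm
      simpa using this
    apply fix_unique hztr hz1' _ hy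
    rw [← mul_smul, ← hcomm', mul_smul, hy]
  have hxy : x = y := fix_unique hv.2 (coe_ne_one hv1) hv.1 (hQy v (hle hv))
  apply le_antisymm _ hle
  intro g hg
  rw [mem_pf, hxy]
  exact ⟨hQy g hg, hunip g hg⟩

/-- `G` is transitive on `X1 G`. -/
theorem exists_smul_eq_of_mem_X1 (p : ℕ) [Fact p.Prime] [CharP K p] [IsAlgClosed K]
    {G : Subgroup (Matrix.SpecialLinearGroup (Fin 2) K)} [Finite G]
    {x y : OnePoint K} (hx : x ∈ X1 G) (hy : y ∈ X1 G) : ∃ g : G, g • x = y := by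
  obtain ⟨P, hP⟩ := (isPGroup_pf p G x).exists_le_sylow
  obtain ⟨Q, hQ⟩ := (isPGroup_pf p G y).exists_le_sylow
  have hP' := eq_pf_of_le hx P.2 hP
  have hQ' := eq_pf_of_le hy Q.2 hQ
  obtain ⟨g, hg⟩ := MulAction.exists_smul_eq G P Q
  refine ⟨g, ?_⟩
  obtain ⟨v, hv1, hv⟩ := hx
  have hvP : v ∈ (P : Subgroup G) := by rw [hP']; exact hv
  have h1 : g * v * g⁻¹ ∈ pf G y := by
    rw [← hQ', ← hg]
    rw [Sylow.coe_subgroup_smul]
    exact Subgroup.smul_mem_pointwise_smul v (MulAut.conj g) _ hvP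
  have h2 : (g * v * g⁻¹ : G) • (g • x) = g • x := by
    rw [mul_smul, mul_smul, inv_smul_smul]
    congr 1
    exact hv.1
  have h3 : (g * v * g⁻¹ : G) ≠ 1 := by
    intro h
    apply hv1
    have : v = g⁻¹ * (g * v * g⁻¹) * g := by group
    rw [this, h]; group
  exact fix_unique h1.2 (coe_ne_one h3) h2 h1.1

theorem smul_mem_X1 {G : Subgroup (Matrix.SpecialLinearGroup (Fin 2) K)}
    {x : OnePoint K} (hx : x ∈ X1 G) (g : G) : g • x ∈ X1 G := by
  obtain ⟨v, hv1, hv⟩ := hx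
  refine ⟨g * v * g⁻¹, ?_, ?_, ?_⟩
  · intro h
    apply hv1
    have : v = g⁻¹ * (g * v * g⁻¹) * g := by group
    rw [this, h]; group
  · have h2 : (g * v * g⁻¹ : G) • (g • x) = g • x := by
      rw [mul_smul, mul_smul, inv_smul_smul]
      congr 1
      exact hv.1
    exact h2
  · rw [Subgroup.coe_mul, Subgroup.coe_mul, Subgroup.coe_inv, tr_conj]
    exact hv.2

theorem orbit_eq_X1 (p : ℕ) [Fact p.Prime] [CharP K p] [IsAlgClosed K]
    {G : Subgroup (Matrix.SpecialLinearGroup (Fin 2) K)} [Finite G]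
    {x : OnePoint K} (hx : x ∈ X1 G) : MulAction.orbit G x = X1 G := by
  ext y
  constructor
  · rintro ⟨g, rfl⟩
    exact smul_mem_X1 hx g
  · intro hy
    exact exists_smul_eq_of_mem_X1 p hx hy

end Cfsg.Agent.Lib.DicksonCount
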