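import Mathlib
import Cfsg.Agent.Lib.DicksonCount

/-!
# The count for Dickson's theorem: stabilizers of points
-/

set_option autoImplicit false

namespace Cfsg.Agent.Lib.DicksonCount2

open Matrix OnePoint
open scoped Pointwise
open Cfsg.Agent.LieClassical.SLTwoUnipotent
open Cfsg.Agent.Lib.DicksonAct Cfsg.Agent.Lib.DicksonElt Cfsg.Agent.Lib.DicksonCount

variable {K : Type*} [Field K] [DecidableEq K]

attribute [local instance] slAct

variable {G : Subgroup (Matrix.SpecialLinearGroup (Fin 2) K)}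

theorem card_pf (p : ℕ) [Fact p.Prime] [CharP K p] [IsAlgClosed K] [Finite G]
    {x : OnePoint K} (hx : x ∈ X1 G) :
    Nat.card (pf G x) = p ^ (Nat.card G).factorization p := by
  obtain ⟨P, hP⟩ := (isPGroup_pf p G x).exists_le_sylow
  rw [← eq_pf_of_le hx P.2 hP]
  exact Sylow.card_eq_multiplicity P

theorem card_pf_eq (p : ℕ) [Fact p.Prime] [CharP K p] [IsAlgClosed K] [Finite G]
    {x y : OnePoint K} (hx : x ∈ X1 G) (hy : y ∈ X1 G) :
    Nat.card (pf G x) = Nat.card (pf G y) := by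
  rw [card_pf p hx, card_pf p hy]

theorem le_card_pf (p : ℕ) [Fact p.Prime] [CharP K p] [IsAlgClosed K] [Finite G]
    {x : OnePoint K} (hx : x ∈ X1 G) : p ≤ Nat.card (pf G x) := by
  have h1 := card_pf p hx
  obtain ⟨v, hv1, hv⟩ := hx
  have h2 : Nat.card (pf G x) ≠ 1 := by
    intro h
    have h3 := (Nat.card_eq_one_iff_unique.1 h).1
    apply hv1
    exact congrArg Subtype.val (h3.elim (⟨v, hv⟩ : pf G x) 1)
  rw [h1] at h2 ⊢
  have h3 : (Nat.card G).factorization p ≠ 0 := by
    intro h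
    apply h2
    rw [h, pow_zero]
  exact Nat.le_self_pow h3 p

theorem neg_one_smul' (x : OnePoint K) :
    (-1 : Matrix.SpecialLinearGroup (Fin 2) K) • x = x := by
  induction x using OnePoint.rec with
  | infty => rw [smul_infty_iff, DicksonAct.neg_apply]; simp
  | coe t =>
    rw [smul_coe_iff, DicksonAct.neg_apply, DicksonAct.neg_apply, DicksonAct.neg_apply,
      DicksonAct.neg_apply]
    simp

/-- The elements of `G` fixing `x` with trace `±2`. -/
theorem ncard_pm (h2 : (2 : K) ≠ 0) [Finite G] (hneg : (-1 : Matrix.SpecialLinearGroup (Fin 2) K) ∈ G)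
    (x : OnePoint K) :
    {g : G | g • x = x ∧ tr (g : Matrix.SpecialLinearGroup (Fin 2) K) ^ 2 = 4}.ncard
      = 2 * Nat.card (pf G x) := by
  have h1 : {g : G | g • x = x ∧ tr (g : Matrix.SpecialLinearGroup (Fin 2) K) ^ 2 = 4}
      = (pf G x : Set G) ∪ (fun g => (⟨-1, hneg⟩ : G) * g) '' (pf G x : Set G) := by
    ext g
    constructor
    · rintro ⟨hg1, hg2⟩
      rcases tr_sq_eq_four_iff.1 hg2 with h | h
      · left
        exact ⟨hg1, h⟩
      · right
        refine ⟨(⟨-1, hneg⟩ : G) * g, ⟨?_, ?_⟩, ?_⟩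
        · change ((-1 : Matrix.SpecialLinearGroup (Fin 2) K) *
            (g : Matrix.SpecialLinearGroup (Fin 2) K)) • x = x
          have hg1' : (g : Matrix.SpecialLinearGroup (Fin 2) K) • x = x := hg1
          rw [mul_smul, hg1', neg_one_smul']
        · change tr ((-1 : Matrix.SpecialLinearGroup (Fin 2) K) *
            (g : Matrix.SpecialLinearGroup (Fin 2) K)) = 2
          rw [neg_mul, one_mul, tr_neg, h, neg_neg]
        · apply Subtype.ext
          change (-1 : Matrix.SpecialLinearGroup (Fin 2) K) *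
            (-1 * (g : Matrix.SpecialLinearGroup (Fin 2) K)) = g
          simp
    · rintro (h | ⟨g', h, rfl⟩)
      · refine ⟨h.1, ?_⟩
        rw [h.2]; norm_num
      · refine ⟨?_, ?_⟩
        · change ((-1 : Matrix.SpecialLinearGroup (Fin 2) K) *
            (g' : Matrix.SpecialLinearGroup (Fin 2) K)) • x = x
          rw [mul_smul, h.1, neg_one_smul']
        · change tr ((-1 : Matrix.SpecialLinearGroup (Fin 2) K) *
            (g' : Matrix.SpecialLinearGroup (Fin 2) K)) ^ 2 = 4
          rw [neg_mul, one_mul, tr_neg, h.2]; norm_num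
  rw [h1, Set.ncard_union_eq, Set.ncard_image_of_injective _ (mul_right_injective _), two_mul]
  · rfl
  · rw [Set.disjoint_left]
    rintro g hg ⟨g', hg', rfl⟩
    have h3 : tr ((-1 : Matrix.SpecialLinearGroup (Fin 2) K) *
      (g' : Matrix.SpecialLinearGroup (Fin 2) K)) = 2 := hg.2
    rw [neg_mul, one_mul, tr_neg, hg'.2] at h3
    apply h2
    have h4 : (2 : K) * 2 = 0 := by linear_combination -h3
    rcases mul_eq_zero.1 h4 with h | h <;> exact h

/-- The stabilizer of `x` acts by conjugation on the nontrivial unipotent elements fixing `x`. -/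
@[reducible]
def conjAct (G : Subgroup (Matrix.SpecialLinearGroup (Fin 2) K)) (x : OnePoint K) :
    MulAction (MulAction.stabilizer G x) {v : G // v ∈ pf G x ∧ v ≠ 1} where
  smul b v := ⟨(b : G) * v * (b : G)⁻¹, by
    obtain ⟨b, hb⟩ := b
    obtain ⟨v, ⟨hv1, hv2⟩, hv3⟩ := v
    refine ⟨⟨?_, ?_⟩, ?_⟩
    · have hb' : b • x = x := hb
      have hv1' : v • x = x := hv1
      have hbi : b⁻¹ • x = x := by rw [inv_smul_eq_iff, hb']
      change (b * v * b⁻¹) • x = x
      rw [mul_smul, mul_smul, hbi, hv1', hb']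
    · rw [Subgroup.coe_mul, Subgroup.coe_mul, Subgroup.coe_inv, tr_conj]
      exact hv2
    · intro h
      apply hv3
      have : v = b⁻¹ * (b * v * b⁻¹) * b := by group
      rw [this, h]; group⟩
  one_smul v := by
    apply Subtype.ext
    change ((1 : MulAction.stabilizer G x) : G) * v * ((1 : MulAction.stabilizer G x) : G)⁻¹ = v
    simp
  mul_smul a b v := by
    apply Subtype.ext
    change (((a * b : MulAction.stabilizer G x)) : G) * v * ((a * b : MulAction.stabilizer G x) : G)⁻¹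
      = (a : G) * ((b : G) * v * (b : G)⁻¹) * (a : G)⁻¹
    rw [Subgroup.coe_mul]
    group

theorem conjAct_smul {x : OnePoint K} (b : MulAction.stabilizer G x)
    (v : {v : G // v ∈ pf G x ∧ v ≠ 1}) :
    letI := conjAct G x
    ((b • v : {v : G // v ∈ pf G x ∧ v ≠ 1}) : G) = (b : G) * v * (b : G)⁻¹ := rfl

/-- The order of the stabilizer of a point of `X1`. -/
theorem card_stabilizer (p : ℕ) [Fact p.Prime] [CharP K p] [IsAlgClosed K] (hp2 : p ≠ 2) [Finite G]
    (hneg : (-1 : Matrix.SpecialLinearGroup (Fin 2) K) ∈ G)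
    {x : OnePoint K} (hx : x ∈ X1 G) :
    ∃ k m, Nat.card (MulAction.stabilizer G x) = 2 * Nat.card (pf G x) * k ∧
      m * k = Nat.card (pf G x) - 1 := by
  have h2 := two_ne_zero' (K := K) p hp2
  let _ := conjAct G x
  have hst : ∀ v : {v : G // v ∈ pf G x ∧ v ≠ 1},
      Nat.card (MulAction.stabilizer (MulAction.stabilizer G x) v) = 2 * Nat.card (pf G x) := by
    intro v
    rw [← ncard_pm h2 hneg x]
    rw [← Nat.card_coe_set_eq]
    apply Nat.card_congr
    refine ⟨fun b => ⟨((b : MulAction.stabilizer G x) : G), ?_⟩,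
      fun g => ⟨⟨g.1, g.2.1⟩, ?_⟩, ?_, ?_⟩
    · obtain ⟨⟨b, hb⟩, hb2⟩ := b
      refine ⟨hb, ?_⟩
      have h3 : b * v.1 * b⁻¹ = v.1 := congrArg Subtype.val hb2
      rw [mul_inv_eq_iff_eq_mul] at h3
      exact (commute_iff_of_fix v.2.1.2 (coe_ne_one v.2.2) hb v.2.1.1).1
        (congrArg Subtype.val h3)
    · obtain ⟨g, hg, hg2⟩ := g
      have h3 := (commute_iff_of_fix v.2.1.2 (coe_ne_one v.2.2) hg v.2.1.1).2 hg2
      have h4 : g * v.1 * g⁻¹ = v.1 := by
        rw [mul_inv_eq_iff_eq_mul]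
        exact Subtype.ext h3
      exact Subtype.ext h4
    · intro b
      rfl
    · intro g
      rfl
  obtain ⟨m, hm⟩ := ActCount.exists_card_mul (2 * Nat.card (pf G x)) hst
  have hq : Nat.card {v : G // v ∈ pf G x ∧ v ≠ 1} = Nat.card (pf G x) - 1 := by
    have h3 : {v : G | v ∈ pf G x ∧ v ≠ 1} = (pf G x : Set G) \ {1} := by
      ext g; simp
    have h4 : Nat.card {v : G // v ∈ pf G x ∧ v ≠ 1} = {v : G | v ∈ pf G x ∧ v ≠ 1}.ncard := rfl
    rw [h4, h3, Set.ncard_sdiff_singleton_of_mem (pf G x).one_mem]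
    rfl
  rw [hq] at hm
  obtain ⟨v, hv1, hv⟩ := hx
  have hd := Subgroup.card_subgroup_dvd_card
    (MulAction.stabilizer (MulAction.stabilizer G x) (⟨v, hv, hv1⟩ : {v : G // v ∈ pf G x ∧ v ≠ 1}))
  rw [hst] at hd
  obtain ⟨k, hk⟩ := hd
  refine ⟨k, m, hk, ?_⟩
  rw [hk] at hm
  have hpos : 0 < 2 * Nat.card (pf G x) := by
    have := Nat.card_pos (α := pf G x)
    omega
  apply Nat.eq_of_mul_eq_mul_left hpos
  rw [hm]; ring

/-- The unipotent elements fixing `x` act on the other points of `X1`. -/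
@[reducible]
noncomputable def freeAct (G : Subgroup (Matrix.SpecialLinearGroup (Fin 2) K)) (x : OnePoint K) :
    MulAction (pf G x) {y : OnePoint K // y ∈ X1 G ∧ y ≠ x} where
  smul b y := ⟨(b : G) • (y : OnePoint K), smul_mem_X1 y.2.1 _, by
    intro h
    apply y.2.2
    have hb : (b : G) • x = x := b.2.1
    have h3 : (b : G) • (y : OnePoint K) = (b : G) • x := by rw [h, hb]
    exact smul_left_cancel (b : G) h3⟩
  one_smul y := by
    apply Subtype.ext
    change ((1 : pf G x) : G) • (y : OnePoint K) = y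
    simp
  mul_smul a b y := by
    apply Subtype.ext
    change ((a * b : pf G x) : G) • (y : OnePoint K) = (a : G) • (b : G) • (y : OnePoint K)
    rw [Subgroup.coe_mul, mul_smul]

theorem finite_X1 (p : ℕ) [Fact p.Prime] [CharP K p] [IsAlgClosed K] [Finite G] :
    (X1 G).Finite := by
  by_cases h : (X1 G).Nonempty
  · obtain ⟨x, hx⟩ := h
    rw [← orbit_eq_X1 p hx]
    exact Set.finite_range _
  · rw [Set.not_nonempty_iff_eq_empty.1 h]
    exact Set.finite_empty

/-- The number of points of `X1` is congruent to `1` modulo the order of `pf`. -/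
theorem ncard_X1 (p : ℕ) [Fact p.Prime] [CharP K p] [IsAlgClosed K] [Finite G]
    {x : OnePoint K} (hx : x ∈ X1 G) :
    ∃ s, (X1 G).ncard = 1 + Nat.card (pf G x) * s := by
  let _ := freeAct G x
  have hfin := finite_X1 (G := G) p
  have : Finite {y : OnePoint K // y ∈ X1 G ∧ y ≠ x} :=
    (hfin.subset (fun y hy => hy.1) : {y : OnePoint K | y ∈ X1 G ∧ y ≠ x}.Finite)
  have hst : ∀ y : {y : OnePoint K // y ∈ X1 G ∧ y ≠ x},
      Nat.card (MulAction.stabilizer (pf G x) y) = 1 := by
    intro y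
    have h1 : MulAction.stabilizer (pf G x) y = ⊥ := by
      rw [eq_bot_iff]
      rintro ⟨b, hb⟩ hb2
      rw [Subgroup.mem_bot]
      by_contra hne
      have hb1 : b ≠ 1 := fun h => hne (Subtype.ext h)
      have h3 : b • (y : OnePoint K) = y := congrArg Subtype.val hb2
      exact y.2.2 (fix_unique hb.2 (coe_ne_one hb1) h3 hb.1)
    rw [h1, Subgroup.card_bot]
  obtain ⟨m, hm⟩ := ActCount.exists_card_mul 1 hst
  refine ⟨m, ?_⟩
  have h3 : {y : OnePoint K | y ∈ X1 G ∧ y ≠ x} = X1 G \ {x} := by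
    ext g; simp
  have h4 : Nat.card {y : OnePoint K // y ∈ X1 G ∧ y ≠ x}
    = {y : OnePoint K | y ∈ X1 G ∧ y ≠ x}.ncard := rfl
  rw [h4, h3, Set.ncard_sdiff_singleton_of_mem hx, one_mul] at hm
  have h5 : 0 < (X1 G).ncard := (Set.ncard_pos hfin).2 ⟨x, hx⟩
  rw [mul_comm, ← hm]
  omega

theorem card_eq_mul (p : ℕ) [Fact p.Prime] [CharP K p] [IsAlgClosed K] [Finite G]
    {x : OnePoint K} (hx : x ∈ X1 G) :
    (X1 G).ncard * Nat.card (MulAction.stabilizer G x) = Nat.card G := by
  rw [← orbit_eq_X1 p hx]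
  exact ActCount.ncard_orbit_mul x

end Cfsg.Agent.Lib.DicksonCount2
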