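import Mathlib
import Cfsg.Agent.Lib.DicksonCount2

/-!
# The count for Dickson's theorem: double counting
-/

set_option autoImplicit false

namespace Cfsg.Agent.Lib.DicksonCount3

open Matrix OnePoint
open scoped Pointwise
open Cfsg.Agent.LieClassical.SLTwoUnipotent
open Cfsg.Agent.Lib.DicksonAct Cfsg.Agent.Lib.DicksonElt Cfsg.Agent.Lib.DicksonCount
open Cfsg.Agent.Lib.DicksonCount2

variable {K : Type*} [Field K] [DecidableEq K]

attribute [local instance] slAct

variable {G : Subgroup (Matrix.SpecialLinearGroup (Fin 2) K)}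

theorem coe_smul' (g : G) (x : OnePoint K) :
    (g : Matrix.SpecialLinearGroup (Fin 2) K) • x = g • x := rfl

theorem mem_X1_of_tr_sq
    (hneg : (-1 : Matrix.SpecialLinearGroup (Fin 2) K) ∈ G) {g : G}
    (h1 : (g : Matrix.SpecialLinearGroup (Fin 2) K) ≠ 1)
    (h1' : (g : Matrix.SpecialLinearGroup (Fin 2) K) ≠ -1)
    (h : tr (g : Matrix.SpecialLinearGroup (Fin 2) K) ^ 2 = 4) {x : OnePoint K}
    (hx : g • x = x) : x ∈ X1 G := by
  rcases tr_sq_eq_four_iff.1 h with h | h
  · exact ⟨g, fun h' => h1 (by rw [h']; rfl), hx, h⟩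
  · refine ⟨(⟨-1, hneg⟩ : G) * g, ?_, ?_, ?_⟩
    · intro h'
      apply h1'
      have h3 : (-1 : Matrix.SpecialLinearGroup (Fin 2) K) *
        (g : Matrix.SpecialLinearGroup (Fin 2) K) = 1 := congrArg Subtype.val h'
      rw [neg_mul, one_mul] at h3
      rw [← h3, neg_neg]
    · change ((-1 : Matrix.SpecialLinearGroup (Fin 2) K) *
            (g : Matrix.SpecialLinearGroup (Fin 2) K)) • x = x
      rw [mul_smul, coe_smul', hx, neg_one_smul']
    · change tr ((-1 : Matrix.SpecialLinearGroup (Fin 2) K) *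
            (g : Matrix.SpecialLinearGroup (Fin 2) K)) = 2
      rw [neg_mul, one_mul, tr_neg, h, neg_neg]

theorem finite_fix [IsAlgClosed K] (h2 : (2 : K) ≠ 0)
    {g : Matrix.SpecialLinearGroup (Fin 2) K} (h1 : g ≠ 1) (h1' : g ≠ -1) :
    {x : OnePoint K | g • x = x}.Finite := by
  obtain ⟨x, hx⟩ := exists_fix g
  by_cases h : tr g ^ 2 = 4
  · apply (Set.finite_singleton x).subset
    intro y hy
    exact fix_unique' h2 h h1 h1' hy hx
  · obtain ⟨y, -, hy⟩ := exists_two_fix h hx
    apply (Set.toFinite {x, y}).subset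
    intro z hz
    exact (hy z).1 hz

theorem finite_X2 [IsAlgClosed K] (h2 : (2 : K) ≠ 0) [Finite G] : (X2 G).Finite := by
  have h : (⋃ g : {g : G // (g : Matrix.SpecialLinearGroup (Fin 2) K) ≠ 1 ∧
      (g : Matrix.SpecialLinearGroup (Fin 2) K) ≠ -1},
        {x : OnePoint K | (g : G) • x = x}).Finite :=
    Set.finite_iUnion fun g => finite_fix h2 g.2.1 g.2.2
  apply h.subset
  rintro x ⟨-, g, hg1, hg2, hg3⟩
  exact Set.mem_iUnion.2 ⟨⟨g, hg1, hg2⟩, hg3⟩

theorem smul_mem_X2 {x : OnePoint K} (hx : x ∈ X2 G) (g : G) : g • x ∈ X2 G := by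
  obtain ⟨hx1, v, hv1, hv2, hv3⟩ := hx
  refine ⟨?_, g * v * g⁻¹, ?_, ?_, ?_⟩
  · intro h
    apply hx1
    have := smul_mem_X1 h g⁻¹
    rwa [inv_smul_smul] at this
  · intro h
    apply hv1
    have h3 : (v : Matrix.SpecialLinearGroup (Fin 2) K) =
      (g : Matrix.SpecialLinearGroup (Fin 2) K)⁻¹ * ((g * v * g⁻¹ : G) :
        Matrix.SpecialLinearGroup (Fin 2) K) * (g : Matrix.SpecialLinearGroup (Fin 2) K) := by
      rw [Subgroup.coe_mul, Subgroup.coe_mul, Subgroup.coe_inv]; group
    rw [h3, h]; group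
  · intro h
    apply hv2
    have h3 : (v : Matrix.SpecialLinearGroup (Fin 2) K) =
      (g : Matrix.SpecialLinearGroup (Fin 2) K)⁻¹ * ((g * v * g⁻¹ : G) :
        Matrix.SpecialLinearGroup (Fin 2) K) * (g : Matrix.SpecialLinearGroup (Fin 2) K) := by
      rw [Subgroup.coe_mul, Subgroup.coe_mul, Subgroup.coe_inv]; group
    rw [h3, h]; simp
  · rw [mul_smul, mul_smul, inv_smul_smul, hv3]

/-- The count. -/
theorem count (p : ℕ) [Fact p.Prime] [CharP K p] [IsAlgClosed K] (hp2 : p ≠ 2) [Finite G]
    (hneg : (-1 : Matrix.SpecialLinearGroup (Fin 2) K) ∈ G)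
    {x₀ : OnePoint K} (hx₀ : x₀ ∈ X1 G) :
    (X2 G = ∅ ∧ 2 * Nat.card (pf G x₀) * (X1 G).ncard + 4 = Nat.card G + 4 * (X1 G).ncard) ∨
    ∃ y ∈ X2 G, X2 G = MulAction.orbit G y ∧
      (X2 G).ncard + 2 * (X1 G).ncard = Nat.card (pf G x₀) * (X1 G).ncard + 2 ∧
      (X2 G).ncard * Nat.card (MulAction.stabilizer G y) = Nat.card G := by
  classical
  have h2 := two_ne_zero' (K := K) p hp2
  have := Fintype.ofFinite G
  have hfin1 := finite_X1 (G := G) p
  have hfin2 := finite_X2 (G := G) h2
  set Gs : Finset G := Finset.univ.filter (fun g =>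
    (g : Matrix.SpecialLinearGroup (Fin 2) K) ≠ 1 ∧
      (g : Matrix.SpecialLinearGroup (Fin 2) K) ≠ -1) with hGs
  set Us : Finset G := Gs.filter (fun g =>
    tr (g : Matrix.SpecialLinearGroup (Fin 2) K) ^ 2 = 4) with hUs
  set X1f := hfin1.toFinset with hX1f
  set X2f := hfin2.toFinset with hX2f
  have hdisj : Disjoint X1f X2f := by
    rw [Finset.disjoint_left]
    intro x hx hx'
    rw [hX1f, Set.Finite.mem_toFinset] at hx
    rw [hX2f, Set.Finite.mem_toFinset] at hx'
    exact hx'.1 hx
  -- the number of elements of `Gs`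
  have hm1 : (⟨-1, hneg⟩ : G) ≠ 1 := fun h => neg_one_ne_one h2 (congrArg Subtype.val h)
  have hGs' : Gs = (Finset.univ.erase (1 : G)).erase (⟨-1, hneg⟩ : G) := by
    ext g
    simp only [hGs, Finset.mem_filter, Finset.mem_univ, true_and, Finset.mem_erase, ne_eq,
      and_true, Subtype.ext_iff, Subgroup.coe_one]
    tauto
  have hGscard : Gs.card + 2 = Nat.card G := by
    rw [hGs', Finset.card_erase_of_mem, Finset.card_erase_of_mem (Finset.mem_univ _),
      Finset.card_univ, Nat.card_eq_fintype_card]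
    · have h3 : 1 < Fintype.card G := Fintype.one_lt_card_iff.2 ⟨_, _, hm1⟩
      omega
    · rw [Finset.mem_erase]
      exact ⟨hm1, Finset.mem_univ _⟩
  -- fixed elements
  have hstab : ∀ x : OnePoint K, (Gs.filter (fun g => g • x = x)).card + 2
      = Nat.card (MulAction.stabilizer G x) := by
    intro x
    have h3 : Nat.card (MulAction.stabilizer G x) =
        (Finset.univ.filter (fun g : G => g • x = x)).card := by
      rw [Nat.card_eq_fintype_card, Fintype.card_subtype]
      rfl
    rw [h3]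
    have h4 : Gs.filter (fun g => g • x = x) =
      ((Finset.univ.filter (fun g : G => g • x = x)).erase (1 : G)).erase (⟨-1, hneg⟩ : G) := by
      ext g
      simp only [hGs, Finset.mem_filter, Finset.mem_univ, true_and, Finset.mem_erase, ne_eq,
        Subtype.ext_iff, Subgroup.coe_one]
      tauto
    have h5 : (1 : G) ∈ Finset.univ.filter (fun g : G => g • x = x) := by
      simp
    have h6 : (⟨-1, hneg⟩ : G) ∈ (Finset.univ.filter (fun g : G => g • x = x)).erase (1 : G) := by
      rw [Finset.mem_erase, Finset.mem_filter]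
      exact ⟨hm1, Finset.mem_univ _, neg_one_smul' x⟩
    rw [h4, Finset.card_erase_of_mem h6, Finset.card_erase_of_mem h5]
    have h7 := Finset.card_pos.2 ⟨_, h6⟩
    rw [Finset.card_erase_of_mem h5] at h7
    omega
  have hUstab : ∀ x : OnePoint K, (Us.filter (fun g => g • x = x)).card + 2
      = 2 * Nat.card (pf G x) := by
    intro x
    rw [← ncard_pm h2 hneg x]
    have h3 : {g : G | g • x = x ∧ tr (g : Matrix.SpecialLinearGroup (Fin 2) K) ^ 2 = 4}.ncard =
        (Finset.univ.filter (fun g : G => g • x = x ∧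
          tr (g : Matrix.SpecialLinearGroup (Fin 2) K) ^ 2 = 4)).card := by
      rw [← Set.ncard_coe_finset]
      congr 1
      ext g
      simp
    rw [h3]
    have h4 : Us.filter (fun g => g • x = x) =
      ((Finset.univ.filter (fun g : G => g • x = x ∧
          tr (g : Matrix.SpecialLinearGroup (Fin 2) K) ^ 2 = 4)).erase (1 : G)).erase
            (⟨-1, hneg⟩ : G) := by
      ext g
      simp only [hUs, hGs, Finset.mem_filter, Finset.mem_univ, true_and, Finset.mem_erase, ne_eq,
        Subtype.ext_iff, Subgroup.coe_one]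
      tauto
    have h5 : (1 : G) ∈ Finset.univ.filter (fun g : G => g • x = x ∧
          tr (g : Matrix.SpecialLinearGroup (Fin 2) K) ^ 2 = 4) := by
      simp only [Finset.mem_filter, Finset.mem_univ, true_and, one_smul]
      rw [Subgroup.coe_one, tr_one]; norm_num
    have h6 : (⟨-1, hneg⟩ : G) ∈ (Finset.univ.filter (fun g : G => g • x = x ∧
          tr (g : Matrix.SpecialLinearGroup (Fin 2) K) ^ 2 = 4)).erase (1 : G) := by
      rw [Finset.mem_erase, Finset.mem_filter]
      refine ⟨hm1, Finset.mem_univ _, neg_one_smul' x, ?_⟩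
      change tr (-1 : Matrix.SpecialLinearGroup (Fin 2) K) ^ 2 = 4
      rw [tr_neg, tr_one]; norm_num
    rw [h4, Finset.card_erase_of_mem h6, Finset.card_erase_of_mem h5]
    have h7 := Finset.card_pos.2 ⟨_, h6⟩
    rw [Finset.card_erase_of_mem h5] at h7
    omega
  -- number of fixed points
  have hfix : ∀ g ∈ Gs, ((X1f ∪ X2f).filter (fun x => g • x = x)).card
      + (if tr (g : Matrix.SpecialLinearGroup (Fin 2) K) ^ 2 = 4 then 1 else 0) = 2 := by
    intro g hg
    rw [hGs, Finset.mem_filter] at hg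
    obtain ⟨-, hg1, hg2⟩ := hg
    obtain ⟨x, hx⟩ := exists_fix (g : Matrix.SpecialLinearGroup (Fin 2) K)
    have hmem : ∀ y : OnePoint K, g • y = y → y ∈ X1f ∪ X2f := by
      intro y hy
      rw [Finset.mem_union, hX1f, hX2f, Set.Finite.mem_toFinset, Set.Finite.mem_toFinset]
      by_cases h : y ∈ X1 G
      · exact Or.inl h
      · exact Or.inr ⟨h, g, hg1, hg2, hy⟩
    split_ifs with h
    · have h3 : (X1f ∪ X2f).filter (fun x => g • x = x) = {x} := by
        ext y
        rw [Finset.mem_filter, Finset.mem_singleton]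
        constructor
        · rintro ⟨-, hy⟩
          exact fix_unique' h2 h hg1 hg2 hy hx
        · rintro rfl
          exact ⟨hmem _ hx, hx⟩
      rw [h3, Finset.card_singleton]
    · obtain ⟨y, hxy, hy⟩ := exists_two_fix h hx
      have h3 : (X1f ∪ X2f).filter (fun x => g • x = x) = {x, y} := by
        ext z
        rw [Finset.mem_filter, Finset.mem_insert, Finset.mem_singleton, ← hy z]
        constructor
        · rintro ⟨-, hz⟩
          exact hz
        · intro hz
          exact ⟨hmem _ hz, hz⟩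
      rw [h3, Finset.card_pair hxy]
  have hfixU : ∀ g ∈ Us, (X1f.filter (fun x => g • x = x)).card = 1 := by
    intro g hg
    rw [hUs, hGs, Finset.mem_filter, Finset.mem_filter] at hg
    obtain ⟨⟨-, hg1, hg2⟩, h⟩ := hg
    obtain ⟨x, hx⟩ := exists_fix (g : Matrix.SpecialLinearGroup (Fin 2) K)
    have h3 : X1f.filter (fun x => g • x = x) = {x} := by
      ext y
      rw [Finset.mem_filter, Finset.mem_singleton]
      constructor
      · rintro ⟨-, hy⟩
        exact fix_unique' h2 h hg1 hg2 hy hx
      · rintro rfl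
        refine ⟨?_, hx⟩
        rw [hX1f, Set.Finite.mem_toFinset]
        exact mem_X1_of_tr_sq hneg hg1 hg2 h hx
    rw [h3, Finset.card_singleton]
  -- sums
  have hsum1 : ∑ g ∈ Gs, ((X1f ∪ X2f).filter (fun x => g • x = x)).card
      = ∑ x ∈ X1f ∪ X2f, (Gs.filter (fun g => g • x = x)).card :=
    Finset.sum_card_bipartiteAbove_eq_sum_card_bipartiteBelow (fun (g : G) (x : OnePoint K) =>
      g • x = x)
  have hsum2 : ∑ g ∈ Us, (X1f.filter (fun x => g • x = x)).card
      = ∑ x ∈ X1f, (Us.filter (fun g => g • x = x)).card :=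
    Finset.sum_card_bipartiteAbove_eq_sum_card_bipartiteBelow (fun (g : G) (x : OnePoint K) =>
      g • x = x)
  have hUcard : Us.card = ∑ x ∈ X1f, (Us.filter (fun g => g • x = x)).card := by
    rw [← hsum2, Finset.sum_congr rfl hfixU, Finset.sum_const, smul_eq_mul, mul_one]
  have hr : X1f.card = (X1 G).ncard := (Set.ncard_eq_toFinset_card _ hfin1).symm
  have hr2 : X2f.card = (X2 G).ncard := (Set.ncard_eq_toFinset_card _ hfin2).symm
  have hU2 : Us.card + 2 * (X1 G).ncard = 2 * Nat.card (pf G x₀) * (X1 G).ncard := by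
    rw [hUcard, ← hr]
    have h3 : ∑ x ∈ X1f, ((Us.filter (fun g => g • x = x)).card + 2)
        = ∑ x ∈ X1f, 2 * Nat.card (pf G x₀) := by
      apply Finset.sum_congr rfl
      intro x hx
      rw [hX1f, Set.Finite.mem_toFinset] at hx
      rw [hUstab x, card_pf_eq p hx hx₀]
    rw [Finset.sum_add_distrib, Finset.sum_const, Finset.sum_const, smul_eq_mul,
      smul_eq_mul] at h3
    linarith
  have horb : ∀ y : OnePoint K, ∀ O : Finset (OnePoint K), (∀ z, z ∈ O ↔ z ∈ MulAction.orbit G y) →
      ∑ x ∈ O, (Gs.filter (fun g => g • x = x)).card + 2 * O.card = Nat.card G ∧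
      O.card * Nat.card (MulAction.stabilizer G y) = Nat.card G := by
    intro y O hO
    have hOcard : O.card = (MulAction.orbit G y).ncard := by
      rw [← Set.ncard_coe_finset]
      congr 1
      ext z
      exact hO z
    have h5 := ActCount.ncard_orbit_mul (H := G) y
    refine ⟨?_, by rw [hOcard]; exact h5⟩
    have h3 : ∑ x ∈ O, ((Gs.filter (fun g => g • x = x)).card + 2)
        = ∑ x ∈ O, Nat.card (MulAction.stabilizer G y) := by
      apply Finset.sum_congr rfl
      intro x hx
      rw [hstab x]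
      have hx' := (hO x).1 hx
      have h6 : MulAction.orbit G x = MulAction.orbit G y := MulAction.orbit_eq_iff.2 hx'
      have h7 := ActCount.ncard_orbit_mul (H := G) x
      rw [h6] at h7
      have hpos : 0 < (MulAction.orbit G y).ncard := by
        rw [← hOcard]
        exact Finset.card_pos.2 ⟨x, hx⟩
      apply Nat.eq_of_mul_eq_mul_left hpos
      rw [h7, h5]
    rw [Finset.sum_add_distrib, Finset.sum_const, Finset.sum_const, smul_eq_mul,
      smul_eq_mul, hOcard, h5] at h3
    rw [hOcard]
    linarith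
  have hX1sum := (horb x₀ X1f (by
    intro z
    rw [orbit_eq_X1 p hx₀, hX1f, Set.Finite.mem_toFinset])).1
  have htot : ∑ x ∈ X2f, (Gs.filter (fun g => g • x = x)).card
      + 2 * Nat.card (pf G x₀) * (X1 G).ncard + 4 = Nat.card G + 4 * (X1 G).ncard := by
    have h3 := Finset.sum_congr rfl hfix
    rw [Finset.sum_add_distrib, hsum1, Finset.sum_union hdisj, Finset.sum_const, smul_eq_mul,
      ← Finset.card_filter] at h3
    rw [hr] at hX1sum
    have h4 : (Gs.filter (fun g : G =>
      tr (g : Matrix.SpecialLinearGroup (Fin 2) K) ^ 2 = 4)).card = Us.card := rfl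
    rw [h4] at h3
    linarith
  have hq3 : 3 ≤ Nat.card (pf G x₀) := by
    have h3 := le_card_pf p hx₀
    have h4 : 2 ≤ p := (Fact.out : p.Prime).two_le
    omega
  have hrpos : 0 < (X1 G).ncard := (Set.ncard_pos hfin1).2 ⟨_, hx₀⟩
  have hstab4 : ∀ y ∈ X2 G, 4 ≤ Nat.card (MulAction.stabilizer G y) := by
    rintro y ⟨-, g, hg1, hg2, hg3⟩
    have h3 := hstab y
    have h4 : 0 < (Gs.filter (fun g => g • y = y)).card := by
      apply Finset.card_pos.2
      refine ⟨g, ?_⟩
      rw [Finset.mem_filter, hGs, Finset.mem_filter]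
      exact ⟨⟨Finset.mem_univ _, hg1, hg2⟩, hg3⟩
    have h5 : 2 ∣ Nat.card (MulAction.stabilizer G y) := by
      have h6 : orderOf (⟨⟨-1, hneg⟩, neg_one_smul' y⟩ : MulAction.stabilizer G y) = 2 := by
        apply orderOf_eq_prime
        · apply Subtype.ext
          apply Subtype.ext
          change (-1 : Matrix.SpecialLinearGroup (Fin 2) K) ^ 2 = 1
          simp
        · intro h
          exact hm1 (congrArg Subtype.val h)
      have h8 := orderOf_dvd_natCard
        (⟨⟨-1, hneg⟩, neg_one_smul' y⟩ : MulAction.stabilizer G y)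
      rwa [h6] at h8
    omega
  by_cases hemp : X2 G = ∅
  · left
    refine ⟨hemp, ?_⟩
    have h3 : X2f = ∅ := by
      rw [hX2f]
      simp [hemp]
    rw [h3, Finset.sum_empty, zero_add] at htot
    exact htot
  · right
    obtain ⟨y, hy⟩ := Set.nonempty_iff_ne_empty.2 hemp
    have hOsub : ∀ y ∈ X2 G, MulAction.orbit G y ⊆ X2 G := by
      rintro y hy _ ⟨g, rfl⟩
      exact smul_mem_X2 hy g
    have hOfin : ∀ y : OnePoint K, (MulAction.orbit G y).Finite := fun y => Set.finite_range _
    have hbound : ∀ y ∈ X2 G, Nat.card G ≤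
        2 * ∑ x ∈ (hOfin y).toFinset, (Gs.filter (fun g => g • x = x)).card := by
      intro y hy
      obtain ⟨h3, h4⟩ := horb y (hOfin y).toFinset (by intro z; rw [Set.Finite.mem_toFinset])
      have h5 := hstab4 y hy
      nlinarith
    have heq : X2 G = MulAction.orbit G y := by
      apply Set.Subset.antisymm _ (hOsub y hy)
      by_contra hcon
      rw [Set.not_subset] at hcon
      obtain ⟨y', hy', hy'2⟩ := hcon
      have h3 := hbound y hy
      have h4 := hbound y' hy'
      have h5 : Disjoint (hOfin y).toFinset (hOfin y').toFinset := by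
        rw [Finset.disjoint_left]
        intro z hz hz'
        rw [Set.Finite.mem_toFinset] at hz hz'
        apply hy'2
        have h6 : MulAction.orbit G z = MulAction.orbit G y := MulAction.orbit_eq_iff.2 hz
        have h7 : MulAction.orbit G z = MulAction.orbit G y' := MulAction.orbit_eq_iff.2 hz'
        rw [← h6, h7]
        exact MulAction.mem_orbit_self y'
      have h6 : (hOfin y).toFinset ∪ (hOfin y').toFinset ⊆ X2f := by
        intro z hz
        rw [Finset.mem_union, Set.Finite.mem_toFinset, Set.Finite.mem_toFinset] at hz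
        rw [hX2f, Set.Finite.mem_toFinset]
        rcases hz with hz | hz
        · exact hOsub y hy hz
        · exact hOsub y' hy' hz
      have h7 : ∑ x ∈ (hOfin y).toFinset ∪ (hOfin y').toFinset,
          (Gs.filter (fun g => g • x = x)).card
          ≤ ∑ x ∈ X2f, (Gs.filter (fun g => g • x = x)).card :=
        Finset.sum_le_sum_of_subset h6
      rw [Finset.sum_union h5] at h7
      nlinarith
    refine ⟨y, hy, heq, ?_, ?_⟩
    · obtain ⟨h3, h4⟩ := horb y X2f (by
        intro z; rw [hX2f, Set.Finite.mem_toFinset, heq])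
      rw [hr2] at h3
      nlinarith
    · obtain ⟨h3, h4⟩ := horb y X2f (by
        intro z; rw [hX2f, Set.Finite.mem_toFinset, heq])
      rw [← hr2]
      exact h4

end Cfsg.Agent.Lib.DicksonCount3
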