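import Mathlib
import Cfsg.Agent.Lib.DicksonCount3

/-!
# Dickson's alternative for finite subgroups of `SL₂(K)`
-/

set_option autoImplicit false

namespace Cfsg.Agent.Lib.DicksonAlt

open Matrix OnePoint
open scoped Pointwise
open Cfsg.Agent.LieClassical.SLTwoUnipotent
open Cfsg.Agent.Lib.DicksonAct Cfsg.Agent.Lib.DicksonElt Cfsg.Agent.Lib.DicksonCount
open Cfsg.Agent.Lib.DicksonCount2 Cfsg.Agent.Lib.DicksonCount3

theorem arith (q k m r s n c1 c2 : ℕ) (hq : 3 ≤ q) (hs : 1 ≤ s) (hr : r = 1 + q * s)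
    (hk : m * k = q - 1) (hn : r * (2 * q * k) = n)
    (h : (2 * q * r + 4 = n + 4 * r) ∨ (c1 + 2 * r = q * r + 2 ∧ c1 * (2 * c2) = n)) :
    (s = 1 ∨ (q = 3 ∧ k = 2 ∧ s = 3 ∧ c2 = 5)) := by
  obtain ⟨q', rfl⟩ : ∃ q', q = q' + 3 := ⟨q - 3, by omega⟩
  have hk' : m * k = q' + 2 := by omega
  have hk1 : 1 ≤ k := by
    rcases Nat.eq_zero_or_pos k with h0 | h0
    · rw [h0] at hk'; omega
    · exact h0
  have hkle : k ≤ q' + 2 := by
    have hm1 : 1 ≤ m := by
      rcases Nat.eq_zero_or_pos m with h0 | h0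
      · rw [h0] at hk'; omega
      · exact h0
    nlinarith
  rcases h with h | ⟨h1, h2⟩
  · exfalso
    subst hn
    have hr4 : 4 ≤ r := by nlinarith
    rcases Nat.lt_or_ge k 2 with hk2 | hk2
    · have : k = 1 := by omega
      subst this
      nlinarith
    · have h3 : r * (2 * (q' + 3) * 2) ≤ r * (2 * (q' + 3) * k) :=
        Nat.mul_le_mul_left _ (Nat.mul_le_mul_left _ hk2)
      nlinarith
  · -- c1 = (q-2) r + 2 = q (1 + (q-2) s)
    have hc1 : c1 = (q' + 3) * (1 + (q' + 1) * s) := by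
      have : c1 + 2 * r = (q' + 3) * (1 + (q' + 1) * s) + 2 * r := by
        rw [h1, hr]; ring
      omega
    -- (1 + (q-2)s) * c2 = k r
    have hc2 : (1 + (q' + 1) * s) * c2 = k * r := by
      have h3 : (2 * (q' + 3)) * ((1 + (q' + 1) * s) * c2) = (2 * (q' + 3)) * (k * r) := by
        rw [← hn, hc1] at h2
        linarith
      exact Nat.eq_of_mul_eq_mul_left (by omega) h3
    -- 1 + (q-2) s divides 2 k
    have hd : (1 + (q' + 1) * s) ∣ 2 * k := by
      have h4 : (1 + (q' + 1) * s) ∣ k * r := ⟨c2, hc2.symm⟩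
      have h5 : k * r = k * (1 + (q' + 1) * s) + (2 * k) * s := by rw [hr]; ring
      rw [h5] at h4
      have h6 : (1 + (q' + 1) * s) ∣ (2 * k) * s :=
        (Nat.dvd_add_right (Dvd.intro_left k rfl)).1 h4
      have hcop : Nat.Coprime (1 + (q' + 1) * s) s := by
        simp [Nat.coprime_add_mul_right_left]
      exact hcop.dvd_of_dvd_mul_right h6
    have hle : 1 + (q' + 1) * s ≤ 2 * k := Nat.le_of_dvd (by omega) hd
    rcases Nat.lt_or_ge s 2 with hs2 | hs2
    · left; omega
    · right
      rcases Nat.lt_or_ge s 3 with hs3 | hs3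
      · exfalso
        have : s = 2 := by omega
        subst this
        have h7 : (1 + (q' + 1) * 2) ∣ k := by
          have hcop : Nat.Coprime (1 + (q' + 1) * 2) 2 := by
            simp
          exact hcop.dvd_of_dvd_mul_left hd
        have := Nat.le_of_dvd (by omega) h7
        omega
      · have hq0 : q' = 0 := by nlinarith
        subst hq0
        have hk2 : k = 2 := by
          have : k ≤ 2 := by omega
          have : 3 < 2 * k := by nlinarith
          omega
        subst hk2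
        have hs3' : s = 3 := by omega
        subst hs3'
        refine ⟨rfl, rfl, rfl, ?_⟩
        rw [hr] at hc2
        omega

section AlgClosed

variable {K : Type*} [Field K] [DecidableEq K]

attribute [local instance] slAct

variable {G : Subgroup (Matrix.SpecialLinearGroup (Fin 2) K)}

/-- The numerical alternative: the number of points of `X1` is `q + 1`, or `q = 3`, there are `10`
points, the stabilizers in `G` of the points of `X1` have order `12`, and all the other point
stabilizers bigger than `{1, -1}` have order `10`. -/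
theorem alternative (p : ℕ) [Fact p.Prime] [CharP K p] [IsAlgClosed K] (hp2 : p ≠ 2) [Finite G]
    (hneg : (-1 : Matrix.SpecialLinearGroup (Fin 2) K) ∈ G)
    {x₀ : OnePoint K} (hx₀ : x₀ ∈ X1 G) (h2le : 2 ≤ (X1 G).ncard) :
    (X1 G).ncard = Nat.card (pf G x₀) + 1 ∨
    (Nat.card (pf G x₀) = 3 ∧ (X1 G).ncard = 10 ∧ Nat.card G = 120 ∧
      (∀ x ∈ X1 G, Nat.card (MulAction.stabilizer G x) = 12) ∧
      (∀ x ∈ X2 G, Nat.card (MulAction.stabilizer G x) = 10)) := by
  obtain ⟨k, m, hk1, hk2⟩ := card_stabilizer p hp2 hneg hx₀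
  obtain ⟨s, hs⟩ := ncard_X1 p hx₀
  have hn := card_eq_mul p hx₀
  have hq3 : 3 ≤ Nat.card (pf G x₀) := by
    have h3 := le_card_pf p hx₀
    have h4 : 2 ≤ p := (Fact.out : p.Prime).two_le
    omega
  have hs1 : 1 ≤ s := by
    rcases Nat.eq_zero_or_pos s with h | h
    · rw [h] at hs; omega
    · exact h
  rw [hk1] at hn
  rcases count p hp2 hneg hx₀ with ⟨-, h⟩ | ⟨y, hy, hy1, hy2, hy3⟩
  · rcases arith _ k m _ s _ 0 0 hq3 hs1 hs hk2 hn (Or.inl h) with h | h
    · left; rw [hs, h]; ring
    · exfalso; omega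
  · have h5 : 2 ∣ Nat.card (MulAction.stabilizer G y) := by
      have h6 : orderOf (⟨⟨-1, hneg⟩, neg_one_smul' y⟩ : MulAction.stabilizer G y) = 2 := by
        apply orderOf_eq_prime
        · apply Subtype.ext
          apply Subtype.ext
          change (-1 : Matrix.SpecialLinearGroup (Fin 2) K) ^ 2 = 1
          simp
        · intro h
          exact neg_one_ne_one (two_ne_zero' (K := K) p hp2)
            (congrArg Subtype.val (congrArg Subtype.val h))
      have h8 := orderOf_dvd_natCard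
        (⟨⟨-1, hneg⟩, neg_one_smul' y⟩ : MulAction.stabilizer G y)
      rwa [h6] at h8
    obtain ⟨c2, hc2⟩ := h5
    rw [hc2] at hy3
    rcases arith _ k m _ s _ _ c2 hq3 hs1 hs hk2 hn (Or.inr ⟨hy2, hy3⟩) with h | ⟨h, h', h'', h3⟩
    · left; rw [hs, h]; ring
    · right
      rw [h] at hs hk1 hn
      rw [h''] at hs
      rw [h'] at hk1 hn
      rw [hs] at hn
      refine ⟨h, hs, by omega, ?_, ?_⟩
      · intro x hx
        have h7 := card_eq_mul p hx
        rw [hs] at h7
        omega
      · intro x hx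
        rw [h3] at hy3
        rw [hy1] at hx hy3
        have h6 : MulAction.orbit G x = MulAction.orbit G y := MulAction.orbit_eq_iff.2 hx
        have h7 := ActCount.ncard_orbit_mul (H := G) x
        rw [h6, ← hy3] at h7
        have hpos : 0 < (MulAction.orbit G y).ncard := by
          rcases Nat.eq_zero_or_pos (MulAction.orbit G y).ncard with h0 | h0
          · rw [h0] at hy3
            omega
          · exact h0
        exact Nat.eq_of_mul_eq_mul_left hpos h7

/-- In the exceptional case, all elements have order dividing `4`, `6` or `10`. -/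
theorem pow_eq_one_of_exceptional (p : ℕ) [Fact p.Prime] [CharP K p] [IsAlgClosed K] (hp2 : p ≠ 2)
    [Finite G]
    {x₀ : OnePoint K} (hx₀ : x₀ ∈ X1 G) (h3 : Nat.card (pf G x₀) = 3)
    (h10 : ∀ x ∈ X2 G, Nat.card (MulAction.stabilizer G x) = 10) (g : G) :
    g ^ 4 = 1 ∨ g ^ 6 = 1 ∨ g ^ 10 = 1 := by
  have h2 := two_ne_zero' (K := K) p hp2
  have hp3 : p = 3 := by
    have h := card_pf p hx₀
    rw [h3] at h
    have h4 : p ∣ 3 := by
      rw [h]
      apply dvd_pow_self
      intro h0
      rw [h0, pow_zero] at h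
      omega
    exact (Nat.prime_dvd_prime_iff_eq Fact.out Nat.prime_three).1 h4
  subst hp3
  by_cases hg1 : (g : Matrix.SpecialLinearGroup (Fin 2) K) = 1
  · left
    apply Subtype.ext
    rw [Subgroup.coe_pow, hg1, one_pow]; rfl
  by_cases hg2 : (g : Matrix.SpecialLinearGroup (Fin 2) K) = -1
  · left
    apply Subtype.ext
    rw [Subgroup.coe_pow, hg2]
    change (-1 : Matrix.SpecialLinearGroup (Fin 2) K) ^ 4 = 1
    rw [show (4 : ℕ) = 2 * 2 from rfl, pow_mul, neg_one_sq, one_pow]
  obtain ⟨x, hx⟩ := exists_fix (g : Matrix.SpecialLinearGroup (Fin 2) K)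
  by_cases hxX : x ∈ X1 G
  · by_cases h4 : tr (g : Matrix.SpecialLinearGroup (Fin 2) K) ^ 2 = 4
    · right; left
      rcases tr_sq_eq_four_iff.1 h4 with h | h
      · have h5 := pow_p_eq_one 3 h
        apply Subtype.ext
        rw [Subgroup.coe_pow, show (6 : ℕ) = 3 * 2 from rfl, pow_mul, h5, one_pow]; rfl
      · have h5 : (-(g : Matrix.SpecialLinearGroup (Fin 2) K)) ^ 3 = 1 :=
          pow_p_eq_one 3 (by rw [tr_neg, h, neg_neg])
        apply Subtype.ext
        rw [Subgroup.coe_pow]
        have h6 : (g : Matrix.SpecialLinearGroup (Fin 2) K) ^ 6 =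
          ((-(g : Matrix.SpecialLinearGroup (Fin 2) K)) ^ 3) ^ 2 := by
          rw [← pow_mul]
          exact (Even.neg_pow (by decide) _).symm
        rw [h6, h5, one_pow]; rfl
    · left
      obtain ⟨v, hv1, hv⟩ := hxX
      have h5 : Nat.card (pf G x) = 3 := by
        rw [card_pf_eq 3 ⟨v, hv1, hv⟩ hx₀, h3]
      -- g v g⁻¹ ∈ {v, v⁻¹}
      have hgv : g * v * g⁻¹ ∈ pf G x := by
        refine ⟨?_, ?_⟩
        · have hgi : g⁻¹ • x = x := by
            rw [inv_smul_eq_iff]; exact hx.symm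
          change (g * v * g⁻¹) • x = x
          have hv' : v • x = x := hv.1
          have hx' : g • x = x := hx
          rw [mul_smul, mul_smul, hgi, hv', hx']
        · rw [Subgroup.coe_mul, Subgroup.coe_mul, Subgroup.coe_inv, tr_conj]
          exact hv.2
      have hcases : g * v * g⁻¹ = v ∨ g * v * g⁻¹ = v⁻¹ := by
        have hv0 : (⟨v, hv⟩ : pf G x) ≠ 1 := fun h => hv1 (congrArg Subtype.val h)
        have hord : orderOf (⟨v, hv⟩ : pf G x) = 3 :=
          orderOf_eq_prime (by
            have := pow_card_eq_one' (x := (⟨v, hv⟩ : pf G x))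
            rwa [h5] at this) hv0
        have hmem : (⟨_, hgv⟩ : pf G x) ∈ Subgroup.zpowers (⟨v, hv⟩ : pf G x) := by
          have htop : Subgroup.zpowers (⟨v, hv⟩ : pf G x) = ⊤ := by
            apply Subgroup.eq_top_of_card_eq
            rw [Nat.card_zpowers, hord, h5]
          rw [htop]; trivial
        rw [mem_zpowers_iff_mem_range_orderOf, hord] at hmem
        simp only [Finset.mem_image, Finset.mem_range] at hmem
        obtain ⟨i, hi, hi2⟩ := hmem
        have hi3 : v ^ i = g * v * g⁻¹ := congrArg Subtype.val hi2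
        have hv3 : v ^ 3 = 1 := by
          have := pow_orderOf_eq_one (⟨v, hv⟩ : pf G x)
          rw [hord] at this
          exact congrArg Subtype.val this
        interval_cases i
        · exfalso
          rw [pow_zero] at hi3
          apply hv1
          have : v = g⁻¹ * (g * v * g⁻¹) * g := by group
          rw [this, ← hi3]; group
        · left; rw [← hi3, pow_one]
        · right
          rw [← hi3, eq_inv_iff_mul_eq_one, ← pow_succ]
          exact hv3
      have hcomm : (g ^ 2) * v = v * g ^ 2 := by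
        rw [← mul_inv_eq_iff_eq_mul]
        have h6 : g ^ 2 * v * (g ^ 2)⁻¹ = g * (g * v * g⁻¹) * g⁻¹ := by
          rw [pow_two, _root_.mul_inv_rev]; group
        rw [h6]
        rcases hcases with h | h
        · rw [h, h]
        · rw [h]
          have : g * v⁻¹ * g⁻¹ = (g * v * g⁻¹)⁻¹ := by group
          rw [this, h, inv_inv]
      have hg2x : ((g ^ 2 : G) : Matrix.SpecialLinearGroup (Fin 2) K) • x = x := by
        rw [Subgroup.coe_pow, pow_two, mul_smul, hx, hx]
      have h7 := (commute_iff_of_fix hv.2 (coe_ne_one hv1) hg2x hv.1).1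
        (congrArg Subtype.val hcomm)
      obtain ⟨y, hxy, hy⟩ := exists_two_fix h4 hx
      have hgy : (g : Matrix.SpecialLinearGroup (Fin 2) K) • y = y := (hy y).2 (Or.inr rfl)
      have hg2y : ((g ^ 2 : G) : Matrix.SpecialLinearGroup (Fin 2) K) • y = y := by
        rw [Subgroup.coe_pow, pow_two, mul_smul, hgy, hgy]
      have h8 : ((g ^ 2 : G) : Matrix.SpecialLinearGroup (Fin 2) K) = 1 ∨
          ((g ^ 2 : G) : Matrix.SpecialLinearGroup (Fin 2) K) = -1 := by
        by_contra hcon
        push Not at hcon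
        exact hxy (fix_unique' h2 h7 hcon.1 hcon.2 hg2x hg2y)
      apply Subtype.ext
      rw [show (4 : ℕ) = 2 * 2 from rfl, pow_mul, Subgroup.coe_pow]
      rcases h8 with h8 | h8
      · rw [h8, one_pow]; rfl
      · rw [h8, neg_one_sq]; rfl
  · right; right
    have hx2 : x ∈ X2 G := ⟨hxX, g, hg1, hg2, hx⟩
    have h5 := h10 x hx2
    have h6 := pow_card_eq_one' (x := (⟨g, hx⟩ : MulAction.stabilizer G x))
    rw [h5] at h6
    exact congrArg Subtype.val h6

/-- In the main case, every point of `X1` other than `x` is the image of `y` by an element of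
`pf G x`. -/
theorem exists_smul_eq_of_ncard (p : ℕ) [Fact p.Prime] [CharP K p] [IsAlgClosed K]
    [Finite G] {x y z : OnePoint K} (hx : x ∈ X1 G) (hy : y ∈ X1 G) (hz : z ∈ X1 G)
    (hxy : y ≠ x) (hxz : z ≠ x) (h : (X1 G).ncard = Nat.card (pf G x) + 1) :
    ∃ b ∈ pf G x, b • y = z := by
  let _ := freeAct G x
  have hfin := finite_X1 (G := G) p
  have hfin' : Finite {y : OnePoint K // y ∈ X1 G ∧ y ≠ x} :=
    (hfin.subset (fun y hy => hy.1) : {y : OnePoint K | y ∈ X1 G ∧ y ≠ x}.Finite)
  have h3 : {y : OnePoint K | y ∈ X1 G ∧ y ≠ x} = X1 G \ {x} := by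
    ext g; simp
  have h4 : Nat.card {y : OnePoint K // y ∈ X1 G ∧ y ≠ x} = Nat.card (pf G x) := by
    have h5 : Nat.card {y : OnePoint K // y ∈ X1 G ∧ y ≠ x}
      = {y : OnePoint K | y ∈ X1 G ∧ y ≠ x}.ncard := rfl
    rw [h5, h3, Set.ncard_sdiff_singleton_of_mem hx, h, Nat.add_sub_cancel]
  have hinj : Function.Injective
      (fun b : pf G x => (b • (⟨y, hy, hxy⟩ : {y : OnePoint K // y ∈ X1 G ∧ y ≠ x}) :
        {y : OnePoint K // y ∈ X1 G ∧ y ≠ x})) := by
    intro b c hbc
    have h6 : (b : G) • y = (c : G) • y := congrArg Subtype.val hbc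
    have h7 : ((c⁻¹ * b : pf G x) : G) • y = y := by
      rw [Subgroup.coe_mul, mul_smul, h6, Subgroup.coe_inv, inv_smul_smul]
    by_contra hne
    have h8 : ((c⁻¹ * b : pf G x) : G) ≠ 1 := by
      intro h9
      apply hne
      have h10 : c⁻¹ * b = 1 := Subtype.ext h9
      exact (inv_mul_eq_one.1 h10).symm
    exact hxy (fix_unique (c⁻¹ * b).2.2 (coe_ne_one h8) h7 (c⁻¹ * b).2.1)
  have hbij := (Nat.bijective_iff_injective_and_card _).2 ⟨hinj, h4.symm⟩
  obtain ⟨b, hb⟩ := hbij.2 ⟨z, hz, hxz⟩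
  exact ⟨b, b.2, congrArg Subtype.val hb⟩

/-- The alternative over an algebraically closed field. -/
theorem alternative_closed (p : ℕ) [Fact p.Prime] [CharP K p] [IsAlgClosed K] (hp2 : p ≠ 2)
    [Finite G] (hneg : (-1 : Matrix.SpecialLinearGroup (Fin 2) K) ∈ G)
    (h1 : u 1 ∈ G) {c : K} (hc : c ≠ 0) (hl : l c ∈ G) :
    (∀ g ∈ G, g 1 0 ≠ 0 → u (g 0 0 / g 1 0) ∈ G) ∨
    (p = 3 ∧ Nat.card G = 120 ∧ ∀ g ∈ G, g ^ 4 = 1 ∨ g ^ 6 = 1 ∨ g ^ 10 = 1) := by
  have hinf : (∞ : OnePoint K) ∈ X1 G := by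
    refine ⟨⟨u 1, h1⟩, ?_, u_smul_infty 1, tr_u 1⟩
    intro h
    have h3 := congrArg (fun m : G => (m : Matrix.SpecialLinearGroup (Fin 2) K) 0 1) h
    simp [u_def01] at h3
  have hzero : ((0 : K) : OnePoint K) ∈ X1 G := by
    refine ⟨⟨l c, hl⟩, ?_, smul_zero_iff.2 rfl, tr_l c⟩
    intro h
    have h3 := congrArg (fun m : G => (m : Matrix.SpecialLinearGroup (Fin 2) K) 1 0) h
    simp [l_def10] at h3
    exact hc h3
  have hfin := finite_X1 (G := G) p
  have h2le : 2 ≤ (X1 G).ncard := by
    have h3 : ({∞, ((0 : K) : OnePoint K)} : Set (OnePoint K)) ⊆ X1 G := by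
      intro x hx
      rcases hx with rfl | hx
      · exact hinf
      · rw [Set.mem_singleton_iff] at hx
        rw [hx]; exact hzero
    have h4 := Set.ncard_le_ncard h3 hfin
    rwa [Set.ncard_pair (OnePoint.infty_ne_coe _)] at h4
  rcases alternative p hp2 hneg hinf h2le with h | ⟨h3, h10, h120, -, hX2⟩
  · left
    intro g hg hg10
    have h3 : (⟨g, hg⟩ : G) • (∞ : OnePoint K) = ((g 0 0 / g 1 0 : K) : OnePoint K) := by
      change g • (∞ : OnePoint K) = _
      rw [smul_infty, if_neg hg10]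
    have h4 := smul_mem_X1 hinf (⟨g, hg⟩ : G)
    rw [h3] at h4
    obtain ⟨b, hb, hb2⟩ := exists_smul_eq_of_ncard p hinf hzero h4
      (OnePoint.coe_ne_infty _) (OnePoint.coe_ne_infty _) h
    have h5 := eq_u_of_fix hb.2 hb.1
    have h6 : (b : Matrix.SpecialLinearGroup (Fin 2) K) • ((0 : K) : OnePoint K)
      = ((g 0 0 / g 1 0 : K) : OnePoint K) := hb2
    rw [h5, u_smul_coe, zero_add, OnePoint.coe_eq_coe] at h6
    rw [← h6, ← h5]
    exact b.2
  · right
    refine ⟨?_, h120, ?_⟩
    · have h := card_pf p hinf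
      rw [h3] at h
      have h4 : p ∣ 3 := by
        rw [h]
        apply dvd_pow_self
        intro h0
        rw [h0, pow_zero] at h
        omega
      exact (Nat.prime_dvd_prime_iff_eq Fact.out Nat.prime_three).1 h4
    · intro g hg
      rcases pow_eq_one_of_exceptional p hp2 hinf h3 hX2 ⟨g, hg⟩ with h | h | h
      · left; exact congrArg Subtype.val h
      · right; left; exact congrArg Subtype.val h
      · right; right; exact congrArg Subtype.val h

end AlgClosed

/-- `L` together with its negatives. -/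
def pmSub {K : Type*} [Field K] (L : Subgroup (Matrix.SpecialLinearGroup (Fin 2) K)) :
    Subgroup (Matrix.SpecialLinearGroup (Fin 2) K) where
  carrier := {g | g ∈ L ∨ -g ∈ L}
  mul_mem' := by
    rintro a b (ha | ha) (hb | hb)
    · left; exact L.mul_mem ha hb
    · right; have := L.mul_mem ha hb; rwa [mul_neg] at this
    · right; have := L.mul_mem ha hb; rwa [neg_mul] at this
    · left; have := L.mul_mem ha hb; rwa [neg_mul_neg] at this
  one_mem' := Or.inl L.one_mem
  inv_mem' := by
    rintro a (ha | ha)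
    · left; exact L.inv_mem ha
    · right
      have := L.inv_mem ha
      have h : (-a)⁻¹ = -a⁻¹ := by
        rw [inv_eq_iff_mul_eq_one, neg_mul_neg, mul_inv_cancel]
      rwa [h] at this

theorem mem_pmSub {K : Type*} [Field K] {L : Subgroup (Matrix.SpecialLinearGroup (Fin 2) K)}
    {g : Matrix.SpecialLinearGroup (Fin 2) K} : g ∈ pmSub L ↔ g ∈ L ∨ -g ∈ L := Iff.rfl

/-- Dickson's alternative. -/
theorem dickson_alternative {K : Type*} [Field K] (p : ℕ) [Fact p.Prime] [CharP K p] (hp : p ≠ 2)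
    (L : Subgroup (Matrix.SpecialLinearGroup (Fin 2) K)) [Finite L] (h1 : u 1 ∈ L) (c : K)
    (hc : c ≠ 0) (hl : l c ∈ L) :
    (∀ g ∈ L, g 1 0 ≠ 0 → u (g 0 0 / g 1 0) ∈ L) ∨
      (p = 3 ∧ ∀ g ∈ L, g ^ 4 = 1 ∨ g ^ 6 = 1 ∨ g ^ 10 = 1) := by
  classical
  let F := AlgebraicClosure K
  let i : K →+* F := algebraMap K F
  have hi : Function.Injective i := i.injective
  have : CharP F p := charP_of_injective_algebraMap hi p
  let φ := Matrix.SpecialLinearGroup.map (n := Fin 2) i
  have hφ : ∀ (g : Matrix.SpecialLinearGroup (Fin 2) K) (a b : Fin 2), φ g a b = i (g a b) := by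
    intro g a b
    rfl
  have hφinj : Function.Injective φ := by
    intro g h hgh
    apply ext_coe
    ext a b
    apply hi
    rw [← hφ, ← hφ, hgh]
  have hφneg : ∀ g, φ (-g) = - φ g := by
    intro g
    apply ext4
    · rw [DicksonAct.neg_apply, hφ, hφ, DicksonAct.neg_apply, map_neg]
    · rw [DicksonAct.neg_apply, hφ, hφ, DicksonAct.neg_apply, map_neg]
    · rw [DicksonAct.neg_apply, hφ, hφ, DicksonAct.neg_apply, map_neg]
    · rw [DicksonAct.neg_apply, hφ, hφ, DicksonAct.neg_apply, map_neg]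
  let G := pmSub (L.map φ)
  have hfin : Finite G := by
    have hf : (L : Set (Matrix.SpecialLinearGroup (Fin 2) K)).Finite := Set.toFinite _
    have hf2 : ((φ '' (L : Set _)) ∪ ((fun g => -g) '' (φ '' (L : Set _)))).Finite :=
      (hf.image _).union ((hf.image _).image _)
    apply Set.Finite.subset hf2
    rintro g (hg | hg)
    · left; exact hg
    · right; exact ⟨-g, hg, neg_neg g⟩
  have hneg : (-1 : Matrix.SpecialLinearGroup (Fin 2) F) ∈ G := by
    right; rw [neg_neg]; exact Subgroup.one_mem _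
  have hu : ∀ a : K, φ (u a) = u (i a) := by
    intro a
    apply ext4
    · rw [hφ, u_def00, u_def00, map_one]
    · rw [hφ, u_def01, u_def01]
    · rw [hφ, u_def10, u_def10, map_zero]
    · rw [hφ, u_def11, u_def11, map_one]
  have hlm : ∀ a : K, φ (l a) = l (i a) := by
    intro a
    apply ext4
    · rw [hφ, l_def00, l_def00, map_one]
    · rw [hφ, l_def01, l_def01, map_zero]
    · rw [hφ, l_def10, l_def10]
    · rw [hφ, l_def11, l_def11, map_one]
  have hu1 : (u (1 : F)) ∈ G := by
    left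
    refine ⟨u 1, h1, ?_⟩
    change φ (u 1) = u 1
    rw [hu, map_one]
  have hlc : (l (i c)) ∈ G := by
    left
    exact ⟨l c, hl, hlm c⟩
  have hpull : ∀ a : K, u (i a) ∈ G → u a ∈ L := by
    rintro a (ha | ha)
    · obtain ⟨g, hg, hg2⟩ := ha
      have h3 : φ g = φ (u a) := by rw [hu]; exact hg2
      rw [← hφinj h3]
      exact hg
    · obtain ⟨g, hg, hg2⟩ := ha
      have h3 : φ g = φ (-(u a)) := by rw [hφneg, hu]; exact hg2
      have h4 : g = -(u a) := hφinj h3
      rw [h4] at hg
      have h5 : (-(u a)) ^ p = -1 := by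
        rw [Odd.neg_pow ((Fact.out : p.Prime).odd_of_ne_two hp), pow_p_eq_one p (tr_u a)]
      have h6 := L.pow_mem hg p
      rw [h5] at h6
      have h7 := L.mul_mem h6 hg
      rwa [neg_mul_neg, one_mul] at h7
  rcases alternative_closed (G := G) p hp hneg hu1 ((map_ne_zero i).2 hc) hlc with h | ⟨h3, -, h4⟩
  · left
    intro g hg hg10
    have h5 : φ g ∈ G := Or.inl ⟨g, hg, rfl⟩
    have h6 := h (φ g) h5 (by rw [hφ]; exact (map_ne_zero i).2 hg10)
    rw [hφ, hφ, ← map_div₀] at h6
    exact hpull _ h6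
  · right
    refine ⟨h3, ?_⟩
    intro g hg
    have h5 : φ g ∈ G := Or.inl ⟨g, hg, rfl⟩
    rcases h4 _ h5 with h | h | h
    · left; apply hφinj; rw [map_pow, h, map_one]
    · right; left; apply hφinj; rw [map_pow, h, map_one]
    · right; right; apply hφinj; rw [map_pow, h, map_one]

end Cfsg.Agent.Lib.DicksonAlt
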