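import Cfsg.Agent.Lib.F2MatGroup
import Cfsg.Agent.Lib.SimpleByPrime

/-!
# Trivial centre from a faithful representation over the field with two elements

`center_eq_bot`: `ρ : G →* GL n 2` injective, packed matrices of some elements; a row vector `v` which is the only
non-zero common fixed vector of some of them (linear certificate) and whose translates span the whole space
(certificate: spanning translates and the inverse matrix).
-/

set_option autoImplicit false

namespace Cfsg.Agent.Lib.F2Center

open Cfsg.Agent.Lib.F2Mat Cfsg.Agent.Lib.F2MatGroup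

variable {n : ℕ}

theorem toMat_xor (n A B : ℕ) : toMat n (Nat.xor A B) = toMat n A + toMat n B := by
  ext i j
  rw [Matrix.add_apply, toMat_apply, toMat_apply, toMat_apply, ← bz_xor]
  congr 1
  exact Nat.testBit_xor A B _

/-- A product with the matrix whose only non-zero row is the first row `v`. -/
theorem vecMul_toMat_of_lt {v : ℕ} (hv : v < 2 ^ n) (w : Fin n → ZMod 2) :
    Matrix.vecMul w (toMat n v) = 0 ∨ Matrix.vecMul w (toMat n v) = toVec n v := by
  rcases Nat.eq_zero_or_pos n with rfl | hn
  · left; ext j; exact j.elim0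
  have key : ∀ j : Fin n, Matrix.vecMul w (toMat n v) j = w ⟨0, hn⟩ * toVec n v j := by
    intro j
    show ∑ k, w k * toMat n v k j = _
    rw [Finset.sum_eq_single (⟨0, hn⟩ : Fin n)]
    · rw [toMat_apply, toVec_apply]
      simp
    · intro k _ hk
      rw [toMat_apply]
      have h1 : v.testBit (n * k + j) = false := by
        apply Nat.testBit_lt_two_pow
        refine lt_of_lt_of_le hv (Nat.pow_le_pow_right (by norm_num) ?_)
        have : 1 ≤ (k : ℕ) := by
          rcases Nat.eq_zero_or_pos (k : ℕ) with h | h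
          · exact absurd (Fin.ext h) hk
          · exact h
        calc n = n * 1 := (mul_one n).symm
          _ ≤ n * k := Nat.mul_le_mul_left _ this
          _ ≤ n * k + j := Nat.le_add_right _ _
      rw [h1, bz_false, mul_zero]
    · intro h; exact absurd (Finset.mem_univ _) h
  have h01 : ∀ a : ZMod 2, a = 0 ∨ a = 1 := by decide
  rcases h01 (w ⟨0, hn⟩) with h | h
  · left; ext j; rw [key, h, zero_mul]; rfl
  · right; ext j; rw [key, h, one_mul]

/-- `∑ (A * B + B)` over a list of pairs of packed matrices. -/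
def fixSum (n : ℕ) (ps : List (ℕ × ℕ)) : ℕ :=
  List.rec 0 (fun p _ ih => Nat.xor (Nat.xor (F2Mat.mul n p.1 p.2) p.2) ih) ps

theorem vecMul_fixSum (ps : List (ℕ × ℕ)) (u : Fin n → ZMod 2)
    (h : ∀ p ∈ ps, Matrix.vecMul u (toMat n p.1) = u) :
    Matrix.vecMul u (toMat n (fixSum n ps)) = 0 := by
  induction ps with
  | nil =>
    show Matrix.vecMul u (toMat n 0) = 0
    have : toMat n 0 = 0 := by
      ext i j; rw [toMat_apply, Nat.zero_testBit]; rfl
    rw [this, Matrix.vecMul_zero]
  | cons p ps ih =>
    have e : fixSum n (p :: ps) = Nat.xor (Nat.xor (F2Mat.mul n p.1 p.2) p.2) (fixSum n ps) := rfl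
    rw [e, toMat_xor, toMat_xor, toMat_mul, Matrix.vecMul_add, Matrix.vecMul_add, ← Matrix.vecMul_vecMul,
      h p (by simp), ih (fun q hq => h q (List.mem_cons_of_mem _ hq)), add_zero]
    ext j
    show Matrix.vecMul u (toMat n p.2) j + Matrix.vecMul u (toMat n p.2) j = 0
    exact CharTwo.add_self_eq_zero _

/-- certificate check for the fixed space: `∑ (A_k B_k + B_k) = 1 + F v`. -/
def fixCheck (n v F : ℕ) (ps : List (ℕ × ℕ)) : Bool :=
  cond (Nat.blt v (Nat.pow 2 n))
    (Nat.beq (fixSum n ps) (Nat.xor (F2Mat.one n) (F2Mat.mul n F v))) false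

theorem fixCheck_sound {v F : ℕ} {ps : List (ℕ × ℕ)} (hc : fixCheck n v F ps = true)
    (u : Fin n → ZMod 2) (h : ∀ p ∈ ps, Matrix.vecMul u (toMat n p.1) = u) :
    u = 0 ∨ u = toVec n v := by
  have h1 : v < 2 ^ n ∧ fixSum n ps = Nat.xor (F2Mat.one n) (F2Mat.mul n F v) := by
    unfold fixCheck at hc
    rcases hb : Nat.blt v (Nat.pow 2 n) with _ | _
    · rw [hb] at hc; exact absurd hc Bool.false_ne_true
    · rw [hb] at hc
      exact ⟨Nat.lt_of_lt_of_eq (Nat.blt_eq ▸ hb) rfl, Nat.eq_of_beq_eq_true hc⟩
  have h2 := vecMul_fixSum ps u h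
  rw [h1.2, toMat_xor, toMat_mul, toMat_one, Matrix.vecMul_add, Matrix.vecMul_one,
    ← Matrix.vecMul_vecMul] at h2
  have h3 : u = Matrix.vecMul (Matrix.vecMul u (toMat n F)) (toMat n v) := by
    have h4 := eq_neg_of_add_eq_zero_left h2
    refine h4.trans ?_
    ext j
    exact CharTwo.neg_eq (R := ZMod 2) _
  rcases vecMul_toMat_of_lt h1.1 (Matrix.vecMul u (toMat n F)) with h | h
  · left; rw [h3, h]
  · right; rw [h3, h]

/-! ### Spinning a vector -/

/-- Extend a list of vectors (newest first) by products `vector number i * matrix number j`. -/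
def spin (n : ℕ) (L : List ℕ) (st : List (ℕ × ℕ)) : List ℕ → List ℕ :=
  List.rec (motive := fun _ => List ℕ → List ℕ) (fun vs => vs)
    (fun p _ ih vs => ih (vmul n (get 0 vs p.1) (get 0 L p.2) :: vs)) st

/-- Continuation form with forced vectors. -/
def spinK (n : ℕ) (L : List ℕ) (st : List (ℕ × ℕ)) (vs : List ℕ) (k : List ℕ → Bool) : Bool :=
  List.rec (motive := fun _ => List ℕ → Bool) k
    (fun p _ ih vs => force (vmul n (get 0 vs p.1) (get 0 L p.2)) fun v => ih (v :: vs)) st vs

theorem spinK_eq (n : ℕ) (L : List ℕ) (st : List (ℕ × ℕ)) (vs : List ℕ) (k : List ℕ → Bool) :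
    spinK n L st vs k = k (spin n L st vs) := by
  induction st generalizing vs with
  | nil => rfl
  | cons p st ih =>
    have e1 : spinK n L (p :: st) vs k =
        force (vmul n (get 0 vs p.1) (get 0 L p.2)) (fun v => spinK n L st (v :: vs) k) := rfl
    have e2 : spin n L (p :: st) vs = spin n L st (vmul n (get 0 vs p.1) (get 0 L p.2) :: vs) := rfl
    rw [e1, e2, force_eq, ih]

/-- pack a list of rows: first row in the lowest bits. -/
def pack (n : ℕ) (vs : List ℕ) : ℕ :=
  List.rec 0 (fun v _ ih => Nat.lor v (Nat.shiftLeft ih n)) vs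

theorem pack_cons (n v : ℕ) (vs : List ℕ) : pack n (v :: vs) = v ||| (pack n vs <<< n) := rfl

theorem testBit_pack {vs : List ℕ} (h : ∀ v ∈ vs, v < 2 ^ n) (i j : ℕ) (hj : j < n) :
    (pack n vs).testBit (n * i + j) = (vs.getD i 0).testBit j := by
  induction vs generalizing i with
  | nil => simp [pack]
  | cons v vs ih =>
    rw [pack_cons, Nat.testBit_or, Nat.testBit_shiftLeft]
    rcases i with _ | i
    · simp
      intro h; omega
    · have hv : v.testBit (n * (i + 1) + j) = false := by
        apply Nat.testBit_lt_two_pow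
        refine lt_of_lt_of_le (h v (by simp)) (Nat.pow_le_pow_right (by norm_num) ?_)
        rw [Nat.mul_succ]; omega
      have h2 : n * (i + 1) + j ≥ n := by rw [Nat.mul_succ]; omega
      have h3 : n * (i + 1) + j - n = n * i + j := by rw [Nat.mul_succ]; omega
      rw [hv, h3, Bool.false_or, ih (fun w hw => h w (by simp [hw]))]
      simp [h2]

/-- All vectors in the list are translates of `v0` under the group. -/
def Translates {G : Type*} [Group G] (ρ : G →* GL (Fin n) (ZMod 2)) (v0 : Fin n → ZMod 2) (v : ℕ) : Prop :=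
  v < 2 ^ n ∧ ∃ h : G, toVec n v = Matrix.vecMul v0 ((ρ h : GL (Fin n) (ZMod 2)) : Matrix (Fin n) (Fin n) (ZMod 2))

theorem get_zero_translates {G : Type*} [Group G] {ρ : G →* GL (Fin n) (ZMod 2)} {v0 : Fin n → ZMod 2}
    {vs : List ℕ} (h : ∀ v ∈ vs, Translates ρ v0 v) (i : ℕ) (hi : i < vs.length) :
    Translates ρ v0 (get 0 vs i) := by
  induction vs generalizing i with
  | nil => exact absurd hi (by simp)
  | cons v vs ih =>
    rcases i with _ | i
    · exact h v (by simp)
    · exact ih (fun w hw => h w (by simp [hw])) i (by simpa using hi)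

/-- indices are in range -/
def stepsOk (m l : ℕ) (st : List (ℕ × ℕ)) : Bool :=
  List.rec (motive := fun _ => ℕ → Bool) (fun _ => true)
    (fun p _ ih l => cond (Nat.blt p.1 l) (cond (Nat.blt p.2 m) (ih (Nat.succ l)) false) false) st l

theorem exists_codes {G : Type*} [Group G] {ρ : G →* GL (Fin n) (ZMod 2)}
    {gs : List G} {L : List ℕ} (hL : List.Forall₂ (fun g A => Codes n (ρ g) A) gs L)
    (b : ℕ) (hb : b < L.length) : ∃ g : G, Codes n (ρ g) (get 0 L b) := by
  induction hL generalizing b with
  | nil => exact absurd hb (by simp)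
  | cons hgA _ ih2 =>
    rcases b with _ | b
    · exact ⟨_, hgA⟩
    · exact ih2 b (by simpa using hb)

theorem spin_translates {G : Type*} [Group G] {ρ : G →* GL (Fin n) (ZMod 2)} {v0 : Fin n → ZMod 2}
    {gs : List G} {L : List ℕ} (hL : List.Forall₂ (fun g A => Codes n (ρ g) A) gs L)
    (st : List (ℕ × ℕ)) (vs : List ℕ) (h : ∀ v ∈ vs, Translates ρ v0 v)
    (hst : stepsOk L.length vs.length st = true) :
    ∀ v ∈ spin n L st vs, Translates ρ v0 v := by
  induction st generalizing vs with
  | nil => exact h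
  | cons p st ih =>
    have e2 : spin n L (p :: st) vs = spin n L st (vmul n (get 0 vs p.1) (get 0 L p.2) :: vs) := rfl
    have e3 : stepsOk L.length vs.length (p :: st) =
      cond (Nat.blt p.1 vs.length) (cond (Nat.blt p.2 L.length)
        (stepsOk L.length (Nat.succ vs.length) st) false) false := rfl
    rw [e3] at hst
    rcases hb : Nat.blt p.1 vs.length with _ | _
    · rw [hb] at hst; exact absurd hst Bool.false_ne_true
    rw [hb] at hst
    rcases hb2 : Nat.blt p.2 L.length with _ | _
    · rw [hb2] at hst; exact absurd hst Bool.false_ne_true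
    rw [hb2] at hst
    have hp1 : p.1 < vs.length := by simpa using hb
    have hp2 : p.2 < L.length := by simpa using hb2
    rw [e2]
    apply ih
    · intro v hv
      rcases List.mem_cons.mp hv with rfl | hv
      · refine ⟨vmul_lt _ _, ?_⟩
        obtain ⟨_, h1, hh1⟩ := get_zero_translates h p.1 hp1
        obtain ⟨g, hg⟩ : ∃ g : G, Codes n (ρ g) (get 0 L p.2) := exists_codes hL p.2 hp2
        refine ⟨h1 * g, ?_⟩
        rw [toVec_vmul, hh1, map_mul, Units.val_mul, ← Matrix.vecMul_vecMul]
        congr 1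
        exact hg.symm
      · exact h v hv
    · exact hst

/-- the complete check for spanning: the spun vectors, packed, times `T` is the identity. -/
def spanCheck (n v T : ℕ) (L : List ℕ) (st : List (ℕ × ℕ)) : Bool :=
  cond (Nat.blt v (Nat.pow 2 n)) (cond (stepsOk L.length 1 st) (cond (Nat.beq (Nat.succ st.length) n)
    (spinK n L st [v] fun vs => Nat.beq (F2Mat.mul n (pack n vs) T) (F2Mat.one n)) false) false) false

theorem spin_length (n : ℕ) (L : List ℕ) (st : List (ℕ × ℕ)) (vs : List ℕ) :
    (spin n L st vs).length = st.length + vs.length := by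
  induction st generalizing vs with
  | nil => simp [spin]
  | cons p st ih =>
    have e2 : spin n L (p :: st) vs = spin n L st (vmul n (get 0 vs p.1) (get 0 L p.2) :: vs) := rfl
    rw [e2, ih]; simp; omega

theorem spanCheck_sound {G : Type*} [Group G] {ρ : G →* GL (Fin n) (ZMod 2)}
    {gs : List G} {L : List ℕ} (hL : List.Forall₂ (fun g A => Codes n (ρ g) A) gs L)
    {v T : ℕ} {st : List (ℕ × ℕ)} (hc : spanCheck n v T L st = true)
    (M : Matrix (Fin n) (Fin n) (ZMod 2))
    (hM : ∀ h : G, Matrix.vecMul (Matrix.vecMul (toVec n v) (ρ h : GL (Fin n) (ZMod 2)).val) M =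
      Matrix.vecMul (toVec n v) (ρ h : GL (Fin n) (ZMod 2)).val) : M = 1 := by
  unfold spanCheck at hc
  rcases hb : Nat.blt v (Nat.pow 2 n) with _ | _
  · rw [hb] at hc; exact absurd hc Bool.false_ne_true
  rw [hb] at hc
  rcases hb2 : stepsOk L.length 1 st with _ | _
  · rw [hb2] at hc; exact absurd hc Bool.false_ne_true
  rw [hb2] at hc
  rcases hb3 : Nat.beq (Nat.succ st.length) n with _ | _
  · rw [hb3] at hc; exact absurd hc Bool.false_ne_true
  rw [hb3] at hc
  simp only [cond_true] at hc
  rw [spinK_eq] at hc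
  have hlen : st.length + 1 = n := Nat.eq_of_beq_eq_true hb3
  have hv : v < 2 ^ n := Nat.lt_of_lt_of_eq (Nat.blt_eq ▸ hb) rfl
  have htr : ∀ w ∈ spin n L st [v], Translates ρ (toVec n v) w := by
    apply spin_translates hL st [v]
    · intro w hw
      rw [List.mem_singleton] at hw
      subst hw
      refine ⟨hv, 1, ?_⟩
      rw [map_one, Units.val_one, Matrix.vecMul_one]
    · exact hb2
  set vs := spin n L st [v] with hvs
  have hlen2 : vs.length = n := by rw [hvs, spin_length]; simpa using hlen
  have hST : toMat n (pack n vs) * toMat n T = 1 := by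
    rw [← toMat_mul, Nat.eq_of_beq_eq_true hc, toMat_one]
  have hTS : toMat n T * toMat n (pack n vs) = 1 := mul_eq_one_comm.mp hST
  have hSM : toMat n (pack n vs) * M = toMat n (pack n vs) := by
    ext i j
    have hrow : (fun j => toMat n (pack n vs) i j) = toVec n (vs.getD i 0) := by
      ext j
      rw [toMat_apply, toVec_apply, testBit_pack (fun w hw => (htr w hw).1) i j j.2]
    have hi : (i : ℕ) < vs.length := by rw [hlen2]; exact i.2
    have hmem : vs.getD i 0 ∈ vs := by
      rw [List.getD_eq_getElem _ _ hi]; exact List.getElem_mem hi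
    obtain ⟨_, h, hh⟩ := htr _ hmem
    have := hM h
    rw [← hh, ← hrow] at this
    exact congrFun this j
  calc M = 1 * M := (one_mul M).symm
    _ = toMat n T * (toMat n (pack n vs) * M) := by rw [← mul_assoc, hTS]
    _ = 1 := by rw [hSM, hTS]

/-- **Trivial centre.** -/
theorem center_eq_bot {G : Type*} [Group G] (ρ : G →* GL (Fin n) (ZMod 2))
    (hinj : Function.Injective ρ)
    {gs : List G} {L : List ℕ} (hL : List.Forall₂ (fun g A => Codes n (ρ g) A) gs L)
    {v F T : ℕ} {ps : List (ℕ × ℕ)} {st : List (ℕ × ℕ)}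
    (hps : ∀ p ∈ ps, p.1 ∈ L)
    (hv0 : Nat.beq v 0 = false)
    (hfixv : ∀ p ∈ ps, Nat.beq (vmul n v p.1) v = true)
    (hfix : fixCheck n v F ps = true) (hspan : spanCheck n v T L st = true) :
    Subgroup.center G = ⊥ := by
  have hv : v < 2 ^ n := by
    unfold fixCheck at hfix
    rcases hb : Nat.blt v (Nat.pow 2 n) with _ | _
    · rw [hb] at hfix; exact absurd hfix Bool.false_ne_true
    · exact Nat.lt_of_lt_of_eq (Nat.blt_eq ▸ hb) rfl
  have hcode : ∀ A ∈ L, ∃ g : G, Codes n (ρ g) A := by
    intro A hA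
    clear hps hspan
    induction hL with
    | nil => simp at hA
    | cons h _ ih =>
      rcases List.mem_cons.mp hA with rfl | hA
      · exact ⟨_, h⟩
      · exact ih hA
  refine SimpleByPrime.center_eq_bot_of_common_fixed_vector (V := Fin n → ZMod 2) 0
    (fun u g => Matrix.vecMul u (ρ g).val) ?_ ?_
    {g | ∃ p ∈ ps, Codes n (ρ g) p.1} (toVec n v) ?_ ?_ ?_ ?_
  · intro u g h
    show Matrix.vecMul u (ρ (g * h)).val = Matrix.vecMul (Matrix.vecMul u (ρ g).val) (ρ h).val
    rw [map_mul, Units.val_mul, Matrix.vecMul_vecMul]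
  · intro u g hu
    have h1 : Matrix.vecMul (Matrix.vecMul u (ρ g).val) (ρ g)⁻¹.val = 0 := by
      have hu' : Matrix.vecMul u (ρ g).val = 0 := hu
      rw [hu', Matrix.zero_vecMul]
    rw [Matrix.vecMul_vecMul, ← Units.val_mul, mul_inv_cancel, Units.val_one, Matrix.vecMul_one] at h1
    exact h1
  · intro h0
    have h1 : toVec n v = toVec n 0 := by
      rw [h0]; ext j; rw [toVec_apply, Nat.zero_testBit]; rfl
    have h2 := toVec_inj hv (Nat.two_pow_pos n) h1
    rw [h2] at hv0
    exact absurd hv0 (by decide)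
  · rintro g ⟨p, hp, hg⟩
    show Matrix.vecMul (toVec n v) (ρ g).val = toVec n v
    have h1 := hfixv p hp
    have h2 : (ρ g).val = toMat n p.1 := hg
    rw [h2, ← toVec_vmul, Nat.eq_of_beq_eq_true h1]
  · intro u hu
    apply fixCheck_sound hfix u
    intro p hp
    obtain ⟨g, hg⟩ := hcode p.1 (hps p hp)
    have h1 := hu g ⟨p, hp, hg⟩
    have h2 : (ρ g).val = toMat n p.1 := hg
    rw [← h2]
    exact h1
  · intro z hz
    have h1 := spanCheck_sound hL hspan (ρ z).val hz
    apply hinj
    rw [map_one]
    exact Units.ext h1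

end Cfsg.Agent.Lib.F2Center
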