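import Mathlib

/-!
# Bit codes for linear maps in characteristic two, fast in the kernel

`V` is an additive group of exponent two with a family `b : ℕ → V` (only `b i`, `i < n`, matter).
A natural number `m` codes the vector `dec b n m = ∑_{i < n, bit i of m} b i`, and a natural number
`C` codes an additive map `f` if the `i`-th block of `n` bits of `C` codes `f (b i)`.
`comp n C D` codes the composition.  Everything is computed by the kernel with `Nat` literals.
-/

set_option autoImplicit false

namespace Cfsg.Agent.Lib.F2Code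

variable {V : Type*} [AddCommGroup V]

/-- The vector coded by `m`. -/
def dec (b : ℕ → V) (n m : ℕ) : V :=
  ∑ i ∈ Finset.range n, if m.testBit i then b i else 0

theorem dec_zero (b : ℕ → V) (n : ℕ) : dec b n 0 = 0 := by
  simp [dec]

theorem dec_xor (h2 : ∀ v : V, v + v = 0) (b : ℕ → V) (n x y : ℕ) :
    dec b n (x ^^^ y) = dec b n x + dec b n y := by
  unfold dec
  rw [← Finset.sum_add_distrib]
  refine Finset.sum_congr rfl fun i _ => ?_
  rw [Nat.testBit_xor]
  rcases x.testBit i with _ | _ <;> rcases y.testBit i with _ | _ <;> simp [h2]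

theorem dec_congr (b : ℕ → V) (n x y : ℕ) (h : ∀ i < n, x.testBit i = y.testBit i) :
    dec b n x = dec b n y := by
  unfold dec
  refine Finset.sum_congr rfl fun i hi => ?_
  rw [h i (Finset.mem_range.mp hi)]

theorem dec_mod (b : ℕ → V) (n x : ℕ) : dec b n (x % 2 ^ n) = dec b n x := by
  refine dec_congr b n _ _ fun i hi => ?_
  rw [Nat.testBit_mod_two_pow]
  simp [hi]

theorem dec_two_pow (b : ℕ → V) (n i : ℕ) (hi : i < n) : dec b n (2 ^ i) = b i := by
  unfold dec
  rw [Finset.sum_eq_single i]
  · simp
  · intro j _ hj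
    rw [Nat.testBit_two_pow_of_ne (Ne.symm hj)]
    simp
  · intro h
    exact absurd (Finset.mem_range.mpr hi) h

/-- xor of the blocks of `C` selected by the low `k` bits of `v` (not reduced). -/
def xap (n C v : ℕ) : ℕ → ℕ
  | 0 => 0
  | k + 1 => match Nat.land (Nat.shiftRight v k) 1 with
    | 0 => xap n C v k
    | _ + 1 => Nat.xor (xap n C v k) (Nat.shiftRight C (Nat.mul n k))

/-- Code of the image of the vector coded by `v` under the map coded by `C`. -/
def app (n C v : ℕ) : ℕ := Nat.mod (xap n C v n) (Nat.pow 2 n)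

theorem app_def (n C v : ℕ) : app n C v = xap n C v n % 2 ^ n := rfl

theorem land_shiftRight_one (v k : ℕ) :
    Nat.land (Nat.shiftRight v k) 1 = if v.testBit k then 1 else 0 := by
  have : Nat.land (Nat.shiftRight v k) 1 = (v >>> k) &&& 1 := rfl
  rw [this, Nat.and_one_is_mod, Nat.shiftRight_eq_div_pow]
  have h := Nat.testBit_eq_decide_div_mod_eq (x := v) (i := k)
  rcases Nat.mod_two_eq_zero_or_one (v / 2 ^ k) with h0 | h1
  · rw [h0] at h ⊢; simp [h]
  · rw [h1] at h ⊢; simp [h]

theorem xap_succ (n C v k : ℕ) :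
    xap n C v (k + 1) = if v.testBit k then (xap n C v k) ^^^ (C >>> (n * k)) else xap n C v k := by
  rw [xap, land_shiftRight_one]
  by_cases h : v.testBit k
  · simp only [h, if_true]
    rfl
  · simp only [h]
    rfl

/-- `C` codes the additive map `f` with respect to `b`. -/
def Rep (b : ℕ → V) (n : ℕ) (f : V →+ V) (C : ℕ) : Prop :=
  ∀ i < n, f (b i) = dec b n (C >>> (n * i))

variable {b : ℕ → V} {n : ℕ}

theorem dec_xap (h2 : ∀ v : V, v + v = 0) {f : V →+ V} {C : ℕ} (hf : Rep b n f C) (v k : ℕ)
    (hk : k ≤ n) :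
    dec b n (xap n C v k) = f (∑ i ∈ Finset.range k, if v.testBit i then b i else 0) := by
  induction k with
  | zero => simp [xap, dec_zero]
  | succ k ih =>
    rw [xap_succ, Finset.sum_range_succ, map_add, ← ih (by omega)]
    by_cases h : v.testBit k
    · simp only [h, if_true]
      rw [dec_xor h2, hf k (by omega)]
    · simp [h]

theorem dec_app (h2 : ∀ v : V, v + v = 0) {f : V →+ V} {C : ℕ} (hf : Rep b n f C) (v : ℕ) :
    dec b n (app n C v) = f (dec b n v) := by
  rw [app_def, dec_mod, dec_xap h2 hf v n le_rfl]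
  rfl

/-- Concatenation of the images of the first `k` blocks of `D`. -/
def compAux (n C D : ℕ) : ℕ → ℕ
  | 0 => 0
  | k + 1 => Nat.lor (compAux n C D k)
      (Nat.shiftLeft (app n C (Nat.shiftRight D (Nat.mul n k))) (Nat.mul n k))

/-- Code of the composition of the maps coded by `C` and `D` (first `D`, then `C`). -/
def comp (n C D : ℕ) : ℕ := compAux n C D n

theorem app_lt (n C v : ℕ) : app n C v < 2 ^ n := Nat.mod_lt _ (Nat.pow_pos (by norm_num))

theorem compAux_lt (n C D k : ℕ) : compAux n C D k < 2 ^ (n * k) := by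
  induction k with
  | zero => simp [compAux]
  | succ k ih =>
    have h1 : compAux n C D (k + 1) =
      compAux n C D k ||| (app n C (D >>> (n * k)) <<< (n * k)) := rfl
    rw [h1]
    refine Nat.or_lt_two_pow (lt_of_lt_of_le ih (Nat.pow_le_pow_right (by norm_num) (by
      apply Nat.mul_le_mul_left; omega))) ?_
    rw [Nat.shiftLeft_eq, Nat.mul_add, mul_one, pow_add, mul_comm]
    exact Nat.mul_lt_mul_of_pos_left (app_lt _ _ _) (by positivity)

theorem compAux_testBit (n C D k : ℕ) (i j : ℕ) (hj : j < n) (hi : i < k) :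
    (compAux n C D k).testBit (n * i + j) = (app n C (D >>> (n * i))).testBit j := by
  induction k with
  | zero => omega
  | succ k ih =>
    have h1 : compAux n C D (k + 1) =
      compAux n C D k ||| (app n C (D >>> (n * k)) <<< (n * k)) := rfl
    rw [h1, Nat.testBit_or, Nat.testBit_shiftLeft]
    rcases Nat.lt_succ_iff_lt_or_eq.mp hi with hlt | heq
    · have h2 : ¬ (n * i + j ≥ n * k) := by
        have : n * (i + 1) ≤ n * k := Nat.mul_le_mul_left _ hlt
        rw [Nat.mul_add, mul_one] at this
        omega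
      simp [h2, ih hlt]
    · subst heq
      have h2 : (compAux n C D i).testBit (n * i + j) = false :=
        Nat.testBit_lt_two_pow (lt_of_lt_of_le (compAux_lt n C D i)
          (Nat.pow_le_pow_right (by norm_num) (by omega)))
      rw [h2]
      simp

theorem rep_comp (h2 : ∀ v : V, v + v = 0) {f g : V →+ V} {C D : ℕ} (hf : Rep b n f C)
    (hg : Rep b n g D) : Rep b n (f.comp g) (comp n C D) := by
  intro i hi
  rw [AddMonoidHom.comp_apply, hg i hi, ← dec_app h2 hf]
  refine dec_congr b n _ _ fun j hj => ?_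
  rw [Nat.testBit_shiftRight, comp, compAux_testBit n C D n i j hj hi]

/-- Code of the identity. -/
def idCode (n : ℕ) : ℕ → ℕ
  | 0 => 0
  | k + 1 => Nat.lor (idCode n k) (Nat.shiftLeft 1 (Nat.add (Nat.mul n k) k))

/-- Check that `C` is a code for the identity: block `i` is `2 ^ i`. -/
def isId (n C : ℕ) : ℕ → Bool
  | 0 => true
  | k + 1 => match Nat.beq (Nat.mod (Nat.shiftRight C (Nat.mul n k)) (Nat.pow 2 n)) (Nat.pow 2 k) with
    | true => isId n C k
    | false => false

theorem isId_spec (n C k : ℕ) (h : isId n C k = true) (i : ℕ) (hi : i < k) :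
    (C >>> (n * i)) % 2 ^ n = 2 ^ i := by
  induction k with
  | zero => omega
  | succ k ih =>
    rw [isId] at h
    rcases hb : Nat.beq (Nat.mod (Nat.shiftRight C (Nat.mul n k)) (Nat.pow 2 n)) (Nat.pow 2 k) with _ | _
    · rw [hb] at h; simp at h
    · rw [hb] at h
      rcases Nat.lt_succ_iff_lt_or_eq.mp hi with hlt | heq
      · exact ih h hlt
      · subst heq
        exact Nat.eq_of_beq_eq_true hb

theorem rep_id {C : ℕ} (h : isId n C n = true) : Rep b n (AddMonoidHom.id V) C := by
  intro i hi
  rw [← dec_mod, isId_spec n C n h i hi, dec_two_pow b n i hi]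
  rfl

theorem rep_ext {f g : V →+ V} {C : ℕ} (hf : Rep b n f C) (hg : Rep b n g C) (i : ℕ) (hi : i < n) :
    f (b i) = g (b i) := by
  rw [hf i hi, hg i hi]

/-! ## Groups acting on `V` -/

section group
variable {G : Type*} [Group G] (ρ : G →* AddMonoid.End V)

/-- `C` codes the action of `g`. -/
def GRep (b : ℕ → V) (n : ℕ) (g : G) (C : ℕ) : Prop := Rep b n (ρ g) C

variable {ρ}

theorem grep_mul (h2 : ∀ v : V, v + v = 0) {g h : G} {C D : ℕ} (hg : GRep ρ b n g C)
    (hh : GRep ρ b n h D) : GRep ρ b n (g * h) (comp n C D) := by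
  unfold GRep
  rw [map_mul]
  exact rep_comp h2 hg hh

theorem grep_one {C : ℕ} (h : isId n C n = true) : GRep ρ b n (1 : G) C := by
  unfold GRep
  rw [map_one]
  exact rep_id h

theorem grep_smul (h2 : ∀ v : V, v + v = 0) {g : G} {C : ℕ} (hg : GRep ρ b n g C) (v : ℕ) :
    ρ g (dec b n v) = dec b n (app n C v) := (dec_app h2 hg v).symm

/-- The action is determined by the vectors `b i`. -/
theorem grep_inj (hfaith : ∀ g h : G, (∀ i < n, ρ g (b i) = ρ h (b i)) → g = h) {g h : G} {C : ℕ}
    (hg : GRep ρ b n g C) (hh : GRep ρ b n h C) : g = h :=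
  hfaith g h fun i hi => rep_ext hg hh i hi

end group

end Cfsg.Agent.Lib.F2Code
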