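import Cfsg.Agent.J4.Beta
import Cfsg.Agent.Lib.F2Rank

/-!
# Scanning an elementary abelian group of packed matrices

`stab2 n v0 u` : the matrices fixing the row vector `v0` and fixing `u` modulo `v0`.
`scan_sound` : a certificate that `r * beta l v * r⁻¹` is not in these groups, for all vectors `v`
except an explicit list and for several matrices `r` at once.
-/

set_option autoImplicit false

namespace Cfsg.Agent.Lib.F2Scan

open Cfsg.Agent.Lib.F2Mat Cfsg.Agent.Lib.F2MatGroup Cfsg.Agent.Lib.F2Rank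
open Cfsg.Agent.J4.Beta Matrix

variable {n : ℕ}

theorem toVec_xor (n v w : ℕ) : toVec n (v ^^^ w) = toVec n v + toVec n w := by
  ext j
  rw [Pi.add_apply, toVec_apply, toVec_apply, toVec_apply, Nat.testBit_xor, ← bz_xor]

/-- The matrices fixing `v0` and fixing `u` modulo `v0`. -/
def stab2 (n : ℕ) (v0 u : Fin n → ZMod 2) : Subgroup (GL (Fin n) (ZMod 2)) where
  carrier := {g | Matrix.vecMul v0 (g : Matrix (Fin n) (Fin n) (ZMod 2)) = v0 ∧
    (Matrix.vecMul u (g : Matrix (Fin n) (Fin n) (ZMod 2)) = u ∨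
      Matrix.vecMul u (g : Matrix (Fin n) (Fin n) (ZMod 2)) = u + v0)}
  one_mem' := by simp
  mul_mem' := by
    rintro a b ⟨ha1, ha2⟩ ⟨hb1, hb2⟩
    refine ⟨?_, ?_⟩
    · rw [Units.val_mul, ← Matrix.vecMul_vecMul, ha1, hb1]
    · rw [Units.val_mul, ← Matrix.vecMul_vecMul]
      have h2 : v0 + v0 = 0 := by
        ext i; exact CharTwo.add_self_eq_zero _
      rcases ha2 with ha2 | ha2 <;> rcases hb2 with hb2 | hb2 <;>
        rw [ha2] <;> simp only [Matrix.add_vecMul, hb1, hb2]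
      · exact Or.inl trivial
      · exact Or.inr trivial
      · exact Or.inr trivial
      · left; rw [add_assoc, h2, add_zero]
  inv_mem' := by
    rintro a ⟨ha1, ha2⟩
    have h2 : v0 + v0 = 0 := by
      ext i; exact CharTwo.add_self_eq_zero _
    have e1 : Matrix.vecMul v0 ((a⁻¹ : GL (Fin n) (ZMod 2)) : Matrix (Fin n) (Fin n) (ZMod 2)) =
        v0 := by
      conv_lhs => rw [← ha1]
      rw [Matrix.vecMul_vecMul, ← Units.val_mul, mul_inv_cancel, Units.val_one, Matrix.vecMul_one]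
    refine ⟨e1, ?_⟩
    rcases ha2 with ha2 | ha2
    · left
      conv_lhs => rw [← ha2]
      rw [Matrix.vecMul_vecMul, ← Units.val_mul, mul_inv_cancel, Units.val_one, Matrix.vecMul_one]
    · right
      have h3 : u = Matrix.vecMul u (a : Matrix (Fin n) (Fin n) (ZMod 2)) + v0 := by
        rw [ha2, add_assoc, h2, add_zero]
      conv_lhs => rw [h3]
      rw [Matrix.add_vecMul, e1, Matrix.vecMul_vecMul, ← Units.val_mul, mul_inv_cancel,
        Units.val_one, Matrix.vecMul_one]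

theorem mem_stab2 {v0 u : Fin n → ZMod 2} {g : GL (Fin n) (ZMod 2)} :
    g ∈ stab2 n v0 u ↔ Matrix.vecMul v0 (g : Matrix (Fin n) (Fin n) (ZMod 2)) = v0 ∧
    (Matrix.vecMul u (g : Matrix (Fin n) (Fin n) (ZMod 2)) = u ∨
      Matrix.vecMul u (g : Matrix (Fin n) (Fin n) (ZMod 2)) = u + v0) := Iff.rfl

/-- Boolean membership test -/
def stab2Ok (n v0 u A : ℕ) : Bool :=
  Nat.beq (F2Mat.vmul n v0 A) v0 && (Nat.beq (F2Mat.vmul n u A) u ||
    Nat.beq (F2Mat.vmul n u A) (Nat.xor u v0))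

theorem stab2Ok_sound {v0 u A : ℕ} {g : GL (Fin n) (ZMod 2)} (hg : Codes n g A)
    (h : stab2Ok n v0 u A = true) : g ∈ stab2 n (toVec n v0) (toVec n u) := by
  unfold stab2Ok at h
  rw [Bool.and_eq_true, Bool.or_eq_true] at h
  have hg' : (g : Matrix (Fin n) (Fin n) (ZMod 2)) = toMat n A := hg
  rw [mem_stab2, hg', ← toVec_vmul, ← toVec_vmul]
  refine ⟨by rw [Nat.eq_of_beq_eq_true h.1], h.2.imp (fun h => ?_) fun h => ?_⟩
  · rw [Nat.eq_of_beq_eq_true h]
  · rw [Nat.eq_of_beq_eq_true h, ← toVec_xor]; rfl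

/-- row number `i` of a packed matrix -/
def row (n S i : ℕ) : ℕ := (S >>> (n * i)) % 2 ^ n

theorem row_lt (n S i : ℕ) : row n S i < 2 ^ n := Nat.mod_lt _ (Nat.two_pow_pos n)

theorem toVec_row (S : ℕ) (i : Fin n) : toVec n (row n S i) = (toMat n S) i := by
  ext j
  rw [toVec_apply, toMat_apply, row, Nat.testBit_mod_two_pow, Nat.testBit_shiftRight]
  simp [j.2]

theorem row_eq_of_toMat {S T i : ℕ} (hi : i < n)
    (h : (toMat n S) ⟨i, hi⟩ = (toMat n T) ⟨i, hi⟩) : row n S i = row n T i := by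
  apply toVec_inj (row_lt n S i) (row_lt n T i)
  rw [toVec_row S ⟨i, hi⟩, toVec_row T ⟨i, hi⟩]
  exact h

theorem row_xor (n S T i : ℕ) : row n (S ^^^ T) i = row n S i ^^^ row n T i := by
  unfold row
  rw [Nat.shiftRight_xor_distrib, Nat.xor_mod_two_pow]

/-- The test at a leaf: `D` is the sum of the stack and its image, `S0` the stack; `spec` lists
the exceptional vectors, the row index of `v0 r` and the row indices of the `u r`. -/
def leaf (n S0 : ℕ) (spec : List (List ℕ × ℕ × List ℕ)) (v D : ℕ) : Bool :=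
  spec.all fun p => p.1.contains v || !(Nat.beq (row n D p.2.1) 0) ||
    p.2.2.any fun j => !(Nat.beq (row n D j) 0) && !(Nat.beq (row n D j) (row n S0 p.2.1))

/-- Scan the group generated by the coded matrices. -/
def scan (n S0 : ℕ) (spec : List (List ℕ × ℕ × List ℕ)) (As : List ℕ) : ℕ → ℕ → ℕ → Bool :=
  List.rec (motive := fun _ => ℕ → ℕ → ℕ → Bool)
    (fun S v _ => leaf n S0 spec v (Nat.xor S S0))
    (fun A _ ih S v w => cond (ih S v (2 * w))
      (force (F2Mat.mul n S A) fun S' => ih S' (v + w) (2 * w)) false) As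

theorem scan_nil (S0 : ℕ) (spec : List (List ℕ × ℕ × List ℕ)) (S v w : ℕ) :
    scan n S0 spec [] S v w = leaf n S0 spec v (Nat.xor S S0) := rfl

theorem scan_cons (S0 : ℕ) (spec : List (List ℕ × ℕ × List ℕ)) (A : ℕ) (As : List ℕ)
    (S v w : ℕ) : scan n S0 spec (A :: As) S v w = cond (scan n S0 spec As S v (2 * w))
      (scan n S0 spec As (F2Mat.mul n S A) (v + w) (2 * w)) false := by
  have h : force (F2Mat.mul n S A) (fun S' => scan n S0 spec As S' (v + w) (2 * w)) =
      scan n S0 spec As (F2Mat.mul n S A) (v + w) (2 * w) := force_eq _ _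
  rw [← h]
  rfl

theorem scan_leaf {S0 : ℕ} {spec : List (List ℕ × ℕ × List ℕ)}
    {l : List (GL (Fin n) (ZMod 2))} {As : List ℕ} (hl : List.Forall₂ (Codes n) l As)
    {S v w : ℕ} (h : scan n S0 spec As S v w = true) (v' : ℕ) (hv' : v' < 2 ^ l.length) :
    ∃ S', toMat n S' = toMat n S * ((beta l v' : GL (Fin n) (ZMod 2)) :
      Matrix (Fin n) (Fin n) (ZMod 2)) ∧ leaf n S0 spec (v + w * v') (Nat.xor S' S0) = true := by
  induction hl generalizing S v w v' with
  | nil =>
    refine ⟨S, ?_, ?_⟩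
    · rw [beta_nil, Units.val_one, mul_one]
    · rw [List.length_nil, pow_zero] at hv'
      have : v' = 0 := by omega
      rw [this, mul_zero, add_zero]
      exact h
  | @cons g A l As hg _ ih =>
    rw [scan_cons] at h
    rcases hb : scan n S0 spec As S v (2 * w) with _ | _
    · rw [hb] at h; exact absurd h Bool.false_ne_true
    · rw [hb, cond_true] at h
      rw [List.length_cons, pow_succ] at hv'
      rcases Nat.mod_two_eq_zero_or_one v' with h0 | h1
      · obtain ⟨S', e1, e2⟩ := ih hb (v' / 2) (by omega)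
        refine ⟨S', ?_, ?_⟩
        · rw [e1, beta_cons, if_neg (by omega), one_mul]
        · have : v + 2 * w * (v' / 2) = v + w * v' := by
            have h3 : v' = 2 * (v' / 2) := by omega
            conv_rhs => rw [h3]
            ring
          rwa [this] at e2
      · obtain ⟨S', e1, e2⟩ := ih h (v' / 2) (by omega)
        refine ⟨S', ?_, ?_⟩
        · have hg' : (g : Matrix (Fin n) (Fin n) (ZMod 2)) = toMat n A := hg
          rw [e1, beta_cons, if_pos h1, toMat_mul, ← hg', Units.val_mul, mul_assoc]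
        · have : v + w + 2 * w * (v' / 2) = v + w * v' := by
            have h3 : v' = 2 * (v' / 2) + 1 := by omega
            conv_rhs => rw [h3]
            ring
          rwa [this] at e2

/-- Soundness of the scan. -/
theorem scan_sound {S0 : ℕ} {spec : List (List ℕ × ℕ × List ℕ)}
    {l : List (GL (Fin n) (ZMod 2))} {As : List ℕ} (hl : List.Forall₂ (Codes n) l As)
    (h : scan n S0 spec As S0 0 1 = true) {p : List ℕ × ℕ × List ℕ} (hp : p ∈ spec)
    {v0 : ℕ} {us : List ℕ} {r : GL (Fin n) (ZMod 2)} {i0 : ℕ} (hi0 : i0 < n) (hpi : p.2.1 = i0)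
    (hr0 : (toMat n S0) ⟨i0, hi0⟩ = Matrix.vecMul (toVec n v0) (r : Matrix (Fin n) (Fin n) (ZMod 2)))
    (hr : List.Forall₂ (fun j u => ∃ hj : j < n, (toMat n S0) ⟨j, hj⟩ =
      Matrix.vecMul (toVec n u) (r : Matrix (Fin n) (Fin n) (ZMod 2))) p.2.2 us)
    {v : ℕ} (hv : v < 2 ^ l.length) (hallow : v ∉ p.1) :
    ¬ (r * beta l v * r⁻¹ ∈ stab2 n (toVec n v0) (toVec n v0) ∧
      ∀ u ∈ us, r * beta l v * r⁻¹ ∈ stab2 n (toVec n v0) (toVec n u)) := by
  rintro ⟨hq0, hq⟩
  obtain ⟨S', e1, e2⟩ := scan_leaf hl h v hv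
  rw [one_mul, zero_add] at e2
  unfold leaf at e2
  rw [List.all_eq_true] at e2
  have e3 := e2 p hp
  rw [Bool.or_eq_true, Bool.or_eq_true, List.contains_iff_mem, List.any_eq_true] at e3
  -- action on rows
  have hrow : ∀ (j : ℕ) (hj : j < n) (u : ℕ), (toMat n S0) ⟨j, hj⟩ = Matrix.vecMul (toVec n u)
      (r : Matrix (Fin n) (Fin n) (ZMod 2)) → (toMat n S') ⟨j, hj⟩ =
      Matrix.vecMul (Matrix.vecMul (toVec n u) ((r * beta l v * r⁻¹ : GL (Fin n) (ZMod 2)) :
        Matrix (Fin n) (Fin n) (ZMod 2))) (r : Matrix (Fin n) (Fin n) (ZMod 2)) := by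
    intro j hj u hu
    have : (toMat n S') ⟨j, hj⟩ = Matrix.vecMul ((toMat n S0) ⟨j, hj⟩)
        ((beta l v : GL (Fin n) (ZMod 2)) : Matrix (Fin n) (Fin n) (ZMod 2)) := by
      rw [e1]; rfl
    rw [this, hu, Matrix.vecMul_vecMul, Matrix.vecMul_vecMul, ← Units.val_mul, ← Units.val_mul]
    congr 2
    group
  have hd0 : row n (Nat.xor S' S0) i0 = 0 := by
    have h1 := hrow i0 hi0 v0 hr0
    rw [hq0.1, ← hr0] at h1
    have h2 := row_eq_of_toMat hi0 h1
    change row n (S' ^^^ S0) i0 = 0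
    rw [row_xor, h2, Nat.xor_self]
  rcases e3 with (e3 | e3) | ⟨j, hj, e3⟩
  · exact hallow e3
  · rw [hpi, hd0] at e3
    exact absurd e3 (by decide)
  · obtain ⟨k, hk, rfl⟩ := List.getElem_of_mem hj
    have hk' : k < us.length := by rw [← hr.length_eq]; exact hk
    obtain ⟨hjn, hju⟩ := List.Forall₂.get hr hk hk'
    have hu : us[k] ∈ us := List.getElem_mem hk'
    have h1 := hrow _ hjn _ hju
    rw [Bool.and_eq_true] at e3
    rcases (hq _ hu).2 with h2 | h2
    · change Matrix.vecMul (toVec n us[k]) _ = _ at h2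
      rw [show (us.get ⟨k, hk'⟩) = us[k] from rfl, h2,
        show us[k] = us.get ⟨k, hk'⟩ from rfl, ← hju] at h1
      have h3 := row_eq_of_toMat hjn h1
      have h4 : row n (Nat.xor S' S0) (p.2.2.get ⟨k, hk⟩) = 0 := by
        change row n (S' ^^^ S0) _ = 0
        rw [row_xor, h3, Nat.xor_self]
      have h5 := e3.1
      rw [show (p.2.2[k]) = p.2.2.get ⟨k, hk⟩ from rfl, h4] at h5
      exact absurd h5 (by decide)
    · change Matrix.vecMul (toVec n us[k]) _ = _ at h2
      rw [show (us.get ⟨k, hk'⟩) = us[k] from rfl, h2, Matrix.add_vecMul,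
        show us[k] = us.get ⟨k, hk'⟩ from rfl, ← hju, ← hr0] at h1
      have h3 : row n S' (p.2.2.get ⟨k, hk⟩) = row n S0 (p.2.2.get ⟨k, hk⟩) ^^^ row n S0 i0 := by
        apply toVec_inj (row_lt _ _ _) (Nat.xor_lt_two_pow (row_lt _ _ _) (row_lt _ _ _))
        rw [toVec_xor, toVec_row S' ⟨_, hjn⟩, toVec_row S0 ⟨_, hjn⟩, toVec_row S0 ⟨_, hi0⟩]
        exact h1
      have h4 : row n (Nat.xor S' S0) (p.2.2.get ⟨k, hk⟩) = row n S0 i0 := by
        change row n (S' ^^^ S0) _ = _
        rw [row_xor, h3, Nat.xor_comm (row n S0 _) (row n S0 i0), Nat.xor_assoc, Nat.xor_self,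
          Nat.xor_zero]
      have h5 := e3.2
      rw [show (p.2.2[k]) = p.2.2.get ⟨k, hk⟩ from rfl, h4, hpi, Nat.beq_refl] at h5
      exact absurd h5 (by decide)

end Cfsg.Agent.Lib.F2Scan
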