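import Mathlib

set_option autoImplicit false
set_option linter.unusedSectionVars false

/-!
# The fundamental theorem of projective geometry

`ftpg`: let `V`, `V'` be vector spaces over fields `F`, `F'`, `dim V ≥ 3`, and let `t : V → V'` choose for each
nonzero vector `v` a nonzero vector spanning the image of the point `⟨v⟩` under a bijection of points that preserves
and reflects collinearity. Then there are a field isomorphism `σ` and a `σ`-semilinear bijection `g` with
`t v ∈ F'ˣ • g v` for all `v ≠ 0`.

`ftpg_proj`: the same for a bijection `ℙ F V ≃ ℙ F' V'`.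
-/

namespace Cfsg.Agent.Lib.FTPG

open Submodule

section linalg

variable {F V : Type*} [Field F] [AddCommGroup V] [Module F V]

theorem pair_indep {e x : V} (he : e ≠ 0) (hx : x ∉ span F {e}) {a b : F}
    (h : a • e + b • x = 0) : a = 0 ∧ b = 0 := by
  have hb : b = 0 := by
    by_contra hb
    apply hx
    have : x = (-(b⁻¹ * a)) • e := by
      have h2 : b⁻¹ • (a • e + b • x) = 0 := by rw [h, smul_zero]
      rw [smul_add, smul_smul, smul_smul, inv_mul_cancel₀ hb, one_smul] at h2
      rw [neg_smul]
      exact eq_neg_of_add_eq_zero_right h2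
    rw [this]
    exact smul_mem _ _ (mem_span_singleton_self e)
  refine ⟨?_, hb⟩
  rw [hb, zero_smul, add_zero] at h
  exact (smul_eq_zero.mp h).resolve_right he

theorem pair_indep' {e x : V} (he : e ≠ 0) (hx : x ∉ span F {e}) {a b a' b' : F}
    (h : a • e + b • x = a' • e + b' • x) : a = a' ∧ b = b' := by
  have h2 : (a - a') • e + (b - b') • x = 0 := by
    rw [sub_smul, sub_smul]
    have := sub_eq_zero.mpr h
    rw [← this]; abel
  obtain ⟨h3, h4⟩ := pair_indep he hx h2
  exact ⟨sub_eq_zero.mp h3, sub_eq_zero.mp h4⟩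

theorem triple_indep' {e x y : V} (he : e ≠ 0) (hx : x ∉ span F {e}) (hy : y ∉ span F {e, x})
    {a b c a' b' c' : F} (h : a • e + b • x + c • y = a' • e + b' • x + c' • y) :
    a = a' ∧ b = b' ∧ c = c' := by
  have hc : c = c' := by
    by_contra hc
    apply hy
    have hc' : c - c' ≠ 0 := sub_ne_zero.mpr hc
    have h2 : (c - c') • y = (a' - a) • e + (b' - b) • x := by
      rw [sub_smul, sub_smul, sub_smul]
      have h3 : c • y = a' • e + b' • x + c' • y - (a • e + b • x) := by rw [← h]; abel
      rw [h3]; abel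
    have h4 : y = (c - c')⁻¹ • ((a' - a) • e + (b' - b) • x) := by
      rw [← h2, smul_smul, inv_mul_cancel₀ hc', one_smul]
    rw [h4]
    apply smul_mem
    rw [mem_span_pair]
    exact ⟨_, _, rfl⟩
  rw [hc] at h
  have h2 := add_right_cancel h
  obtain ⟨h3, h4⟩ := pair_indep' he hx h2
  exact ⟨h3, h4, hc⟩

theorem not_mem_of_pair {e x y : V} (hy : y ∉ span F {e, x}) : y ∉ span F {e} := fun h =>
  hy (span_mono (by simp) h)

theorem not_mem_of_pair' {e x y : V} (hy : y ∉ span F {e, x}) : y ∉ span F {x} := fun h =>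
  hy (span_mono (by simp) h)

theorem ne_zero_of_not_mem {S : Submodule F V} {y : V} (hy : y ∉ S) : y ≠ 0 := fun h =>
  hy (h ▸ S.zero_mem)

theorem symm_not_mem {u v : V} (hu : u ≠ 0) (hv : v ∉ span F {u}) : u ∉ span F {v} := by
  intro h
  obtain ⟨c, hc⟩ := mem_span_singleton.mp h
  have hc0 : c ≠ 0 := by
    rintro rfl
    rw [zero_smul] at hc
    exact hu hc.symm
  apply hv
  rw [mem_span_singleton]
  exact ⟨c⁻¹, by rw [← hc, smul_smul, inv_mul_cancel₀ hc0, one_smul]⟩

end linalg

section core

variable {F V F' V' : Type*} [Field F] [AddCommGroup V] [Module F V] [Field F'] [AddCommGroup V']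
  [Module F' V']

/-- `t` picks for each nonzero vector `v` a nonzero vector in the image of the point `⟨v⟩` under a collineation -/
structure Coll (F F' : Type*) {V V' : Type*} [Field F] [AddCommGroup V] [Module F V] [Field F']
    [AddCommGroup V'] [Module F' V'] (t : V → V') : Prop where
  dim : ∀ u v : V, ∃ w, w ∉ span F {u, v}
  ne : ∀ v, v ≠ 0 → t v ≠ 0
  iff : ∀ u v w, u ≠ 0 → v ≠ 0 → w ≠ 0 → (w ∈ span F {u, v} ↔ t w ∈ span F' {t u, t v})
  surj : ∀ y : V', y ≠ 0 → ∃ x : V, x ≠ 0 ∧ y ∈ span F' {t x}

variable {t : V → V'}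

theorem Coll.single (H : Coll F F' t) {u w : V} (hu : u ≠ 0) (hw : w ≠ 0) :
    w ∈ span F {u} ↔ t w ∈ span F' {t u} := by
  have := H.iff u u w hu hu hw
  rwa [Set.pair_eq_singleton, Set.pair_eq_singleton] at this

theorem Coll.exists_g (H : Coll F F' t) {e : V} (he : e ≠ 0) :
    ∃ g : V → V', ∀ v, v ∉ span F {e} →
      span F' {g v} = span F' {t v} ∧ t (e + v) ∈ span F' {t e + g v} := by
  have : ∀ v, ∃ x : V', v ∉ span F {e} →
      span F' {x} = span F' {t v} ∧ t (e + v) ∈ span F' {t e + x} := by
    intro v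
    by_cases hv : v ∈ span F {e}
    · exact ⟨0, fun h => absurd hv h⟩
    have hv0 : v ≠ 0 := ne_zero_of_not_mem hv
    have hev : e + v ∉ span F {e} := fun h =>
      hv ((Submodule.add_mem_iff_right _ (mem_span_singleton_self e)).mp h)
    have hev0 : e + v ≠ 0 := ne_zero_of_not_mem hev
    have hev' : e + v ∉ span F {v} := fun h =>
      symm_not_mem he hv ((Submodule.add_mem_iff_left _ (mem_span_singleton_self v)).mp h)
    have h1 : t (e + v) ∈ span F' {t e, t v} := by
      rw [← H.iff e v (e + v) he hv0 hev0]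
      exact add_mem (subset_span (by simp)) (subset_span (by simp))
    obtain ⟨a, b, hab⟩ := mem_span_pair.mp h1
    have ha : a ≠ 0 := by
      rintro rfl
      apply hev'
      rw [H.single hv0 hev0, ← hab, zero_smul, zero_add]
      exact smul_mem _ _ (mem_span_singleton_self _)
    have hb : b ≠ 0 := by
      rintro rfl
      apply hev
      rw [H.single he hev0, ← hab, zero_smul, add_zero]
      exact smul_mem _ _ (mem_span_singleton_self _)
    refine ⟨(a⁻¹ * b) • t v, fun _ => ⟨?_, ?_⟩⟩
    · exact span_singleton_smul_eq (IsUnit.mk0 _ (mul_ne_zero (inv_ne_zero ha) hb)) _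
    · rw [mem_span_singleton]
      refine ⟨a, ?_⟩
      rw [smul_add, smul_smul, ← mul_assoc, mul_inv_cancel₀ ha, one_mul, hab]
  choose g hg using this
  exact ⟨g, hg⟩

section g

variable (H : Coll F F' t) {e : V} (he : e ≠ 0) {g : V → V'}
  (hg : ∀ v, v ∉ span F {e} → span F' {g v} = span F' {t v} ∧ t (e + v) ∈ span F' {t e + g v})

include H he hg

theorem g_mem_iff {v : V} (hv : v ∉ span F {e}) (S : Submodule F' V') : g v ∈ S ↔ t v ∈ S := by
  rw [← span_singleton_le_iff_mem, (hg v hv).1, span_singleton_le_iff_mem]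

theorem span_pair_g {v : V} (hv : v ∉ span F {e}) (x : V') :
    span F' {x, g v} = span F' {x, t v} := by
  rw [span_insert, (hg v hv).1, ← span_insert]

theorem g_not_mem {v : V} (hv : v ∉ span F {e}) : g v ∉ span F' {t e} := by
  rw [g_mem_iff H he hg hv, ← H.single he (ne_zero_of_not_mem hv)]
  exact hv

theorem g_not_mem_pair {v w : V} (hv : v ∉ span F {e}) (hw : w ∉ span F {e, v}) :
    g w ∉ span F' {t e, g v} := by
  rw [g_mem_iff H he hg (not_mem_of_pair hw), span_pair_g H he hg hv,
    ← H.iff e v w he (ne_zero_of_not_mem hv) (ne_zero_of_not_mem hw)]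
  exact hw

theorem g_mem_pair {u v w : V} (hu : u ∉ span F {e}) (hv : v ∉ span F {e}) (hw : w ∉ span F {e})
    (h : w ∈ span F {u, v}) : g w ∈ span F' {g u, g v} := by
  rw [g_mem_iff H he hg hw, span_insert, (hg u hu).1, (hg v hv).1, ← span_insert,
    ← H.iff u v w (ne_zero_of_not_mem hu) (ne_zero_of_not_mem hv) (ne_zero_of_not_mem hw)]
  exact h

theorem t_mem_plane {v w : V} (hv : v ∉ span F {e}) (hw : w ∉ span F {e, v}) :
    t (e + (v + w)) ∈ span F' {t e + g v, g w} := by
  have hw' := not_mem_of_pair hw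
  have hev : e + v ∉ span F {e} := fun h =>
    hv ((Submodule.add_mem_iff_right _ (mem_span_singleton_self e)).mp h)
  have hev0 : e + v ≠ 0 := ne_zero_of_not_mem hev
  have h0 : e + (v + w) ≠ 0 := by
    intro h
    apply hw
    have h2 : w = (-1 : F) • e + (-1 : F) • v := by
      rw [neg_one_smul, neg_one_smul, ← neg_add, eq_neg_iff_add_eq_zero, ← h]
      abel
    rw [h2, mem_span_pair]
    exact ⟨_, _, rfl⟩
  have h1 : t (e + (v + w)) ∈ span F' {t (e + v), t w} := by
    rw [← H.iff (e + v) w _ hev0 (ne_zero_of_not_mem hw') h0, ← add_assoc]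
    exact add_mem (subset_span (by simp)) (subset_span (by simp))
  have h2 : span F' {t (e + v), t w} ≤ span F' {t e + g v, g w} := by
    rw [span_insert, span_insert, (hg w hw').1]
    exact sup_le_sup_right (by rw [span_singleton_le_iff_mem]; exact (hg v hv).2) _
  exact h2 h1

theorem g_add_indep {v w : V} (hv : v ∉ span F {e}) (hw : w ∉ span F {e, v}) :
    g (v + w) = g v + g w := by
  have hw' := not_mem_of_pair hw
  have hwv : w ∉ span F {v} := not_mem_of_pair' hw
  have hv2 : v ∉ span F {e, w} := by
    intro h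
    obtain ⟨a, b, hab⟩ := mem_span_pair.mp h
    have hb : b ≠ 0 := by
      rintro rfl
      apply hv
      rw [← hab, zero_smul, add_zero]
      exact smul_mem _ _ (mem_span_singleton_self _)
    apply hw
    have : w = (-(b⁻¹ * a)) • e + b⁻¹ • v := by
      rw [← hab, smul_add, smul_smul, smul_smul, inv_mul_cancel₀ hb, one_smul, neg_smul]
      abel
    rw [this, mem_span_pair]
    exact ⟨_, _, rfl⟩
  have hvw : v + w ∉ span F {e} := by
    intro h
    apply hw
    have : w = (v + w) - v := by abel
    rw [this]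
    exact sub_mem (span_mono (by simp) h) (subset_span (by simp))
  have hte := H.ne e he
  have i1 := g_not_mem H he hg hv
  have i2 := g_not_mem_pair H he hg hv hw
  obtain ⟨a, b, hab⟩ := mem_span_pair.mp (t_mem_plane H he hg hv hw)
  have h3 := t_mem_plane H he hg hw' hv2
  rw [add_comm w v] at h3
  obtain ⟨c, d, hcd⟩ := mem_span_pair.mp h3
  obtain ⟨k, hk⟩ := mem_span_singleton.mp (hg _ hvw).2
  have h4 : g (v + w) ∈ span F' {g v, g w} := by
    apply g_mem_pair H he hg hv hw' hvw
    exact add_mem (subset_span (by simp)) (subset_span (by simp))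
  obtain ⟨m, n, hmn⟩ := mem_span_pair.mp h4
  have e1 : a • t e + a • g v + b • g w = c • t e + d • g v + c • g w := by
    have : a • t e + a • g v + b • g w = a • (t e + g v) + b • g w := by rw [smul_add]
    rw [this, hab, ← hcd, smul_add]; abel
  obtain ⟨f1, f2, f3⟩ := triple_indep' hte i1 i2 e1
  have e2 : a • t e + a • g v + b • g w = k • t e + (k * m) • g v + (k * n) • g w := by
    have : a • t e + a • g v + b • g w = a • (t e + g v) + b • g w := by rw [smul_add]
    rw [this, hab, ← hk, ← hmn, smul_add, smul_add, smul_smul, smul_smul]; abel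
  obtain ⟨f4, f5, f6⟩ := triple_indep' hte i1 i2 e2
  have ha : a ≠ 0 := by
    rintro rfl
    have hb : b = 0 := f3.trans f1.symm
    have h0 : t (e + (v + w)) = 0 := by rw [← hab, hb]; simp
    refine H.ne _ ?_ h0
    intro h
    apply hvw
    have : v + w = (-1 : F) • e := by
      rw [neg_one_smul, eq_neg_iff_add_eq_zero, ← h]; abel
    rw [this]
    exact smul_mem _ _ (mem_span_singleton_self _)
  have hm : m = 1 := by
    have : a * 1 = a * m := by rw [mul_one, f4, ← f5]; exact f4.symm
    exact (mul_left_cancel₀ ha this).symm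
  have hn : n = 1 := by
    have hba : b = a := by rw [f3, f1]
    have : a * 1 = a * n := by
      rw [mul_one]
      rw [hba] at f6
      rw [f4] at f6 ⊢
      exact f6
    exact (mul_left_cancel₀ ha this).symm
  rw [← hmn, hm, hn, one_smul, one_smul]

theorem g_add {v w : V} (hv : v ∉ span F {e}) (hw : w ∉ span F {e}) (hvw : v + w ∉ span F {e}) :
    g (v + w) = g v + g w := by
  by_cases h : w ∈ span F {e, v}
  · obtain ⟨u, hu⟩ := H.dim e v
    have hu1 : u ∉ span F {e, v + w} := by
      intro h2
      apply hu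
      refine span_le.mpr ?_ h2
      rintro x (rfl | rfl)
      · exact subset_span (by simp)
      · exact add_mem (subset_span (by simp)) h
    have hu2 : u ∉ span F {e, w} := by
      intro h2
      apply hu
      refine span_le.mpr ?_ h2
      rintro x (rfl | rfl)
      · exact subset_span (by simp)
      · exact h
    have hu3 : w + u ∉ span F {e, v} := fun h2 => hu ((Submodule.add_mem_iff_right _ h).mp h2)
    have e1 := g_add_indep H he hg hvw hu1
    have e2 := g_add_indep H he hg hv hu3
    have e3 := g_add_indep H he hg hw hu2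
    rw [e3, ← add_assoc, ← add_assoc, e1] at e2
    exact add_right_cancel e2
  · exact g_add_indep H he hg hv h

theorem add_not_mem {x u : V} (hx : x ∈ span F {e}) (hu : u ∉ span F {e}) :
    x + u ∉ span F {e} := fun h => hu ((Submodule.add_mem_iff_right _ hx).mp h)

theorem g_diff_aux {x u w : V} (hx : x ∈ span F {e}) (hu : u ∉ span F {e}) (hw : w ∉ span F {e})
    (huw : u + w ∉ span F {e}) : g (x + u) - g u = g (x + w) - g w := by
  have h1 := add_not_mem H he hg hx hu
  have h2 := add_not_mem H he hg hx hw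
  have h3 : (x + u) + w ∉ span F {e} := by
    rw [add_assoc]; exact add_not_mem H he hg hx huw
  have h4 : (x + w) + u ∉ span F {e} := by
    rw [add_assoc, add_comm w u]; exact add_not_mem H he hg hx huw
  have e1 := g_add H he hg h1 hw h3
  have e2 := g_add H he hg h2 hu h4
  have e3 : (x + u) + w = (x + w) + u := by abel
  rw [e3, e2] at e1
  rw [sub_eq_sub_iff_add_eq_add]
  exact e1.symm

theorem g_diff {x u w : V} (hx : x ∈ span F {e}) (hu : u ∉ span F {e}) (hw : w ∉ span F {e}) :
    g (x + u) - g u = g (x + w) - g w := by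
  by_cases huw : u + w ∈ span F {e}
  · obtain ⟨z, hz⟩ := H.dim e u
    have hz' := not_mem_of_pair hz
    have hwm : w ∈ span F {e, u} := by
      have : w = (u + w) - u := by abel
      rw [this]
      exact sub_mem (span_mono (by simp) huw) (subset_span (by simp))
    have h1 : u + z ∉ span F {e} := by
      intro h
      exact hz ((Submodule.add_mem_iff_right _ (subset_span (by simp))).mp
        (span_mono (by simp) h : u + z ∈ span F {e, u}))
    have h2 : z + w ∉ span F {e} := by
      intro h
      exact hz ((Submodule.add_mem_iff_left _ hwm).mp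
        (span_mono (by simp) h : z + w ∈ span F {e, u}))
    rw [g_diff_aux H he hg hx hu hz' h1, g_diff_aux H he hg hx hz' hw h2]
  · exact g_diff_aux H he hg hx hu hw huw

theorem exists_G : ∃ G : V → V', (∀ v, v ∉ span F {e} → G v = g v) ∧
    (∀ v, v ∈ span F {e} → ∀ u, u ∉ span F {e} → G v = g (v + u) - g u) := by
  classical
  obtain ⟨u₀, hu₀⟩ := H.dim e e
  have hu₀' := not_mem_of_pair hu₀
  refine ⟨fun v => if v ∈ span F {e} then g (v + u₀) - g u₀ else g v, ?_, ?_⟩
  · intro v hv
    simp only [hv, if_false]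
  · intro v hv u hu
    simp only [hv, if_true]
    exact g_diff H he hg hv hu₀' hu

end g

theorem Coll.exists_G (H : Coll F F' t) : ∃ G : V → V', (∀ v w, G (v + w) = G v + G w) ∧
    ∀ v, v ≠ 0 → span F' {G v} = span F' {t v} := by
  obtain ⟨e, he⟩ : ∃ e : V, e ≠ 0 := by
    obtain ⟨w, hw⟩ := H.dim 0 0
    exact ⟨w, ne_zero_of_not_mem hw⟩
  obtain ⟨g, hg⟩ := H.exists_g he
  obtain ⟨G, hG1, hG2⟩ := FTPG.exists_G H he hg
  have hadd : ∀ v w, G (v + w) = G v + G w := by
    have key : ∀ v w, v ∈ span F {e} → w ∉ span F {e} → G (v + w) = G v + G w := by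
      intro v w hv hw
      rw [hG1 _ (add_not_mem H he hg hv hw), hG1 w hw, hG2 v hv w hw, sub_add_cancel]
    intro v w
    by_cases hv : v ∈ span F {e}
    · by_cases hw : w ∈ span F {e}
      · obtain ⟨u, hu⟩ := H.dim e e
        have hu' := not_mem_of_pair hu
        rw [hG2 (v + w) (add_mem hv hw) u hu', hG2 w hw u hu',
          hG2 v hv (w + u) (add_not_mem H he hg hw hu'), add_assoc]
        abel
      · exact key v w hv hw
    · by_cases hw : w ∈ span F {e}
      · rw [add_comm v w, key w v hw hv, add_comm]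
      · by_cases hvw : v + w ∈ span F {e}
        · obtain ⟨u, hu⟩ := H.dim e v
          have hu' := not_mem_of_pair hu
          have hwm : w ∈ span F {e, v} := by
            have : w = (v + w) - v := by abel
            rw [this]
            exact sub_mem (span_mono (by simp) hvw) (subset_span (by simp))
          have h1 : w + u ∉ span F {e} := by
            intro h
            exact hu ((Submodule.add_mem_iff_right _ hwm).mp
              (span_mono (by simp) h : w + u ∈ span F {e, v}))
          have h2 : v + (w + u) ∉ span F {e} := by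
            rw [← add_assoc]; exact add_not_mem H he hg hvw hu'
          rw [hG2 (v + w) hvw u hu', add_assoc, g_add H he hg hv h1 h2, g_add H he hg hw hu' h1,
            hG1 v hv, hG1 w hw]
          abel
        · rw [hG1 _ hvw, hG1 v hv, hG1 w hw, g_add H he hg hv hw hvw]
  refine ⟨G, hadd, ?_⟩
  intro v hv0
  by_cases hv : v ∈ span F {e}
  · obtain ⟨u, hu⟩ := H.dim e e
    have hu' := not_mem_of_pair hu
    obtain ⟨w, hw⟩ := H.dim e u
    have hw' := not_mem_of_pair hw
    have key : ∀ u, u ∉ span F {e} → G v ∈ span F' {t e, g u} := by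
      intro u hu
      rw [hG2 v hv u hu]
      apply sub_mem _ (subset_span (by simp))
      have h1 := add_not_mem H he hg hv hu
      rw [g_mem_iff H he hg h1, span_pair_g H he hg hu,
        ← H.iff e u (v + u) he (ne_zero_of_not_mem hu) (ne_zero_of_not_mem h1)]
      exact add_mem (span_mono (by simp) hv) (subset_span (by simp))
    obtain ⟨a, b, hab⟩ := mem_span_pair.mp (key u hu')
    obtain ⟨c, d, hcd⟩ := mem_span_pair.mp (key w hw')
    have e1 : a • t e + b • g u + (0 : F') • g w = c • t e + (0 : F') • g u + d • g w := by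
      rw [hab, zero_smul, zero_smul, add_zero, add_zero, hcd]
    obtain ⟨_, f2, _⟩ := triple_indep' (H.ne e he) (g_not_mem H he hg hu')
      (g_not_mem_pair H he hg hu' hw) e1
    rw [f2, zero_smul, add_zero] at hab
    have hGv : G v ≠ 0 := by
      intro h
      rw [hG2 v hv u hu', sub_eq_zero] at h
      have h1 := add_not_mem H he hg hv hu'
      have h2 : v + u ∈ span F {u} := by
        rw [H.single (ne_zero_of_not_mem hu') (ne_zero_of_not_mem h1), ← (hg u hu').1, ← h,
          (hg _ h1).1]
        exact mem_span_singleton_self _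
      have h3 : v ∈ span F {u} :=
        (Submodule.add_mem_iff_left _ (mem_span_singleton_self u)).mp h2
      apply symm_not_mem he hu'
      obtain ⟨c, hc⟩ := mem_span_singleton.mp hv
      have hc0 : c ≠ 0 := by
        rintro rfl
        rw [zero_smul] at hc
        exact hv0 hc.symm
      rw [← hc] at h3
      exact (Submodule.smul_mem_iff _ hc0).mp h3
    have ha : a ≠ 0 := by
      rintro rfl
      rw [zero_smul] at hab
      exact hGv hab.symm
    have h5 : t v ∈ span F' {t e} := (H.single he hv0).mp hv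
    obtain ⟨c', hc'⟩ := mem_span_singleton.mp h5
    have hc'0 : c' ≠ 0 := by
      rintro rfl
      rw [zero_smul] at hc'
      exact H.ne v hv0 hc'.symm
    rw [← hab, ← hc', span_singleton_smul_eq (IsUnit.mk0 _ ha),
      span_singleton_smul_eq (IsUnit.mk0 _ hc'0)]
  · rw [hG1 v hv]
    exact (hg v hv).1

/-- **Fundamental theorem of projective geometry** (vector form) -/
theorem ftpg (hdim : ∀ u v : V, ∃ w, w ∉ span F {u, v}) (t : V → V')
    (h0 : ∀ v, v ≠ 0 → t v ≠ 0)
    (h : ∀ u v w, u ≠ 0 → v ≠ 0 → w ≠ 0 → (w ∈ span F {u, v} ↔ t w ∈ span F' {t u, t v}))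
    (hs : ∀ y : V', y ≠ 0 → ∃ x : V, x ≠ 0 ∧ y ∈ span F' {t x}) :
    ∃ (σ : F ≃+* F') (g : V ≃+ V'), (∀ (a : F) (v : V), g (a • v) = σ a • g v) ∧
      ∀ v, v ≠ 0 → ∃ c : F', c ≠ 0 ∧ t v = c • g v := by
  have H : Coll F F' t := ⟨hdim, h0, h, hs⟩
  obtain ⟨G, hadd, hspan⟩ := H.exists_G
  have hG0 : G 0 = 0 := by
    have := hadd 0 0
    rw [add_zero] at this
    exact left_eq_add.mp this
  have hGne : ∀ v, v ≠ 0 → G v ≠ 0 := by
    intro v hv h1
    have h2 := hspan v hv
    rw [h1, span_singleton_eq_bot.mpr rfl] at h2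
    exact H.ne v hv (span_singleton_eq_bot.mp h2.symm)
  have hGmem : ∀ v, v ≠ 0 → ∀ S : Submodule F' V', G v ∈ S ↔ t v ∈ S := by
    intro v hv S
    rw [← span_singleton_le_iff_mem, hspan v hv, span_singleton_le_iff_mem]
  have hGindep : ∀ v w, v ≠ 0 → w ∉ span F {v} → G w ∉ span F' {G v} := by
    intro v w hv hw
    rw [hGmem w (ne_zero_of_not_mem hw), hspan v hv, ← H.single hv (ne_zero_of_not_mem hw)]
    exact hw
  have hsm : ∀ (v : V) (a : F), ∃ b : F', v ≠ 0 → G (a • v) = b • G v := by
    intro v a
    by_cases hv : v = 0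
    · exact ⟨0, fun h => absurd hv h⟩
    by_cases ha : a = 0
    · exact ⟨0, fun _ => by rw [ha, zero_smul, zero_smul, hG0]⟩
    have hav : a • v ≠ 0 := smul_ne_zero ha hv
    have h1 : G (a • v) ∈ span F' {G v} := by
      rw [hGmem _ hav, hspan v hv, ← H.single hv hav]
      exact smul_mem _ _ (mem_span_singleton_self _)
    obtain ⟨b, hb⟩ := mem_span_singleton.mp h1
    exact ⟨b, fun _ => hb.symm⟩
  choose s hs' using hsm
  have hs1 : ∀ v w a, v ≠ 0 → w ∉ span F {v} → s v a = s w a := by
    intro v w a hv hw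
    have hw0 := ne_zero_of_not_mem hw
    have hvw : v + w ≠ 0 := by
      intro h1
      apply hw
      have : w = (-1 : F) • v := by
        rw [neg_one_smul, eq_neg_iff_add_eq_zero, add_comm]; exact h1
      rw [this]
      exact smul_mem _ _ (mem_span_singleton_self _)
    have e1 : s (v + w) a • G v + s (v + w) a • G w = s v a • G v + s w a • G w := by
      rw [← smul_add, ← hadd, ← hs' (v + w) a hvw, smul_add, hadd, hs' v a hv, hs' w a hw0]
    obtain ⟨f1, f2⟩ := pair_indep' (hGne v hv) (hGindep v w hv hw) e1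
    rw [← f1, f2]
  have hs2 : ∀ v w a, v ≠ 0 → w ≠ 0 → s v a = s w a := by
    intro v w a hv hw
    by_cases hvw : w ∈ span F {v}
    · obtain ⟨z, hz⟩ := hdim v v
      have hz1 := not_mem_of_pair hz
      have hz2 : z ∉ span F {w} := by
        intro h1
        apply hz1
        exact (span_singleton_le_iff_mem _ _).mpr hvw h1
      rw [hs1 v z a hv hz1, hs1 w z a hw hz2]
    · exact hs1 v w a hv hvw
  obtain ⟨e, he⟩ : ∃ e : V, e ≠ 0 := by
    obtain ⟨w, hw⟩ := hdim 0 0
    exact ⟨w, ne_zero_of_not_mem hw⟩
  have hsemi : ∀ (a : F) (v : V), G (a • v) = s e a • G v := by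
    intro a v
    by_cases hv : v = 0
    · rw [hv, smul_zero, hG0, smul_zero]
    · rw [hs' v a hv, hs2 v e a hv he]
  have hGe := hGne e he
  let σ₀ : F →+* F' :=
    { toFun := s e
      map_one' := by
        have h1 := hsemi 1 e
        rw [one_smul] at h1
        have h2 : (s e 1 - 1) • G e = 0 := by rw [sub_smul, ← h1, one_smul, sub_self]
        exact sub_eq_zero.mp ((smul_eq_zero.mp h2).resolve_right hGe)
      map_mul' := by
        intro a b
        have h1 := hsemi (a * b) e
        rw [mul_smul, hsemi a, hsemi b, smul_smul] at h1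
        have h2 : (s e (a * b) - s e a * s e b) • G e = 0 := by rw [sub_smul, ← h1, sub_self]
        exact sub_eq_zero.mp ((smul_eq_zero.mp h2).resolve_right hGe)
      map_zero' := by
        have h1 := hsemi 0 e
        rw [zero_smul, hG0] at h1
        exact (smul_eq_zero.mp h1.symm).resolve_right hGe
      map_add' := by
        intro a b
        have h1 := hsemi (a + b) e
        rw [add_smul, hadd, hsemi a, hsemi b, ← add_smul] at h1
        have h2 : (s e (a + b) - (s e a + s e b)) • G e = 0 := by rw [sub_smul, ← h1, sub_self]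
        exact sub_eq_zero.mp ((smul_eq_zero.mp h2).resolve_right hGe) }
  have hσ₀ : ∀ a, σ₀ a = s e a := fun _ => rfl
  have hσsurj : Function.Surjective σ₀ := by
    intro b
    obtain ⟨w, hw⟩ := hdim e e
    have hw' := not_mem_of_pair hw
    have hw0 := ne_zero_of_not_mem hw'
    have hi := hGindep e w he hw'
    have hy : G e + b • G w ≠ 0 := by
      intro h1
      have h2 : (1 : F') • G e + b • G w = 0 := by rw [one_smul]; exact h1
      exact one_ne_zero (pair_indep hGe hi h2).1
    obtain ⟨x, hx0, hx⟩ := hs _ hy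
    have hx' : G e + b • G w ∈ span F' {G x} := by rw [hspan x hx0]; exact hx
    obtain ⟨k, hk⟩ := mem_span_singleton.mp hx'
    have hk0 : k ≠ 0 := by
      rintro rfl
      rw [zero_smul] at hk
      exact hy hk.symm
    have hGx : G x ∈ span F' {G e, G w} := by
      have : G x = k⁻¹ • (G e + b • G w) := by
        rw [← hk, smul_smul, inv_mul_cancel₀ hk0, one_smul]
      rw [this]
      exact smul_mem _ _ (add_mem (subset_span (by simp)) (smul_mem _ _ (subset_span (by simp))))
    have hxm : x ∈ span F {e, w} := by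
      rw [h e w x he hw0 hx0]
      rw [hGmem x hx0, span_insert, hspan e he, hspan w hw0, ← span_insert] at hGx
      exact hGx
    obtain ⟨c, d, hcd⟩ := mem_span_pair.mp hxm
    have e1 : (k * σ₀ c) • G e + (k * σ₀ d) • G w = (1 : F') • G e + b • G w := by
      rw [one_smul, ← hk, ← hcd, hadd, hsemi, hsemi, smul_add, smul_smul, smul_smul, hσ₀, hσ₀]
    obtain ⟨f1, f2⟩ := pair_indep' hGe hi e1
    have hσc : σ₀ c ≠ 0 := by
      intro h1
      rw [h1, mul_zero] at f1
      exact zero_ne_one f1
    refine ⟨d * c⁻¹, ?_⟩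
    rw [map_mul, map_inv₀, ← f2]
    have : k = (σ₀ c)⁻¹ := eq_inv_of_mul_eq_one_left f1
    rw [this]
    ring
  have hGadd : ∀ v w, G (v + w) = G v + G w := hadd
  let G₀ : V →+ V' := AddMonoidHom.mk' G hGadd
  have hG₀ : ∀ v, G₀ v = G v := fun _ => rfl
  have hinj : Function.Injective G₀ := by
    rw [injective_iff_map_eq_zero]
    intro v hv
    by_contra h1
    exact hGne v h1 hv
  have hsurj : Function.Surjective G₀ := by
    intro y
    by_cases hy : y = 0
    · exact ⟨0, by rw [hy, hG₀, hG0]⟩
    obtain ⟨x, hx0, hx⟩ := hs y hy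
    rw [← hspan x hx0] at hx
    obtain ⟨b, hb⟩ := mem_span_singleton.mp hx
    obtain ⟨a, ha⟩ := hσsurj b
    exact ⟨a • x, by rw [hG₀, hsemi, ← hσ₀, ha, hb]⟩
  refine ⟨RingEquiv.ofBijective σ₀ ⟨σ₀.injective, hσsurj⟩,
    AddEquiv.ofBijective G₀ ⟨hinj, hsurj⟩, ?_, ?_⟩
  · intro a v
    exact hsemi a v
  · intro v hv
    have h1 : t v ∈ span F' {G v} := by rw [hspan v hv]; exact mem_span_singleton_self _
    obtain ⟨c, hc⟩ := mem_span_singleton.mp h1
    refine ⟨c, ?_, hc.symm⟩
    rintro rfl
    rw [zero_smul] at hc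
    exact h0 v hv hc.symm

end core

section proj

open scoped LinearAlgebra.Projectivization

variable {F V F' V' : Type*} [Field F] [AddCommGroup V] [Module F V] [Field F'] [AddCommGroup V']
  [Module F' V']

/-- **Fundamental theorem of projective geometry** for bijections of projectivizations that preserve the
relation "`w` lies on the line through `u` and `v`". -/
theorem ftpg_proj (hdim : ∀ u v : V, ∃ w, w ∉ span F {u, v}) (τ : ℙ F V ≃ ℙ F' V')
    (h : ∀ a b c : ℙ F V, c.submodule ≤ a.submodule ⊔ b.submodule ↔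
      (τ c).submodule ≤ (τ a).submodule ⊔ (τ b).submodule) :
    ∃ (σ : F ≃+* F') (g : V ≃+ V'), (∀ (a : F) (v : V), g (a • v) = σ a • g v) ∧
      ∀ (v : V) (hv : v ≠ 0), ∃ hgv : g v ≠ 0,
        τ (Projectivization.mk F v hv) = Projectivization.mk F' (g v) hgv := by
  classical
  let t : V → V' := fun v => if hv : v ≠ 0 then (τ (Projectivization.mk F v hv)).rep else 0
  have ht : ∀ (v : V) (hv : v ≠ 0), t v = (τ (Projectivization.mk F v hv)).rep := fun v hv => by
    simp only [t, dif_pos hv]
  have ht0 : ∀ v, v ≠ 0 → t v ≠ 0 := fun v hv => by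
    rw [ht v hv]; exact Projectivization.rep_nonzero _
  have hts : ∀ (v : V) (hv : v ≠ 0),
      (τ (Projectivization.mk F v hv)).submodule = span F' {t v} := by
    intro v hv
    rw [ht v hv, Projectivization.submodule_eq]
  obtain ⟨σ, g, hσ, hg⟩ := ftpg hdim t ht0 (by
    intro u v w hu hv hw
    have h1 := h (Projectivization.mk F u hu) (Projectivization.mk F v hv)
      (Projectivization.mk F w hw)
    rw [hts, hts, hts, Projectivization.submodule_mk, Projectivization.submodule_mk,
      Projectivization.submodule_mk, span_singleton_le_iff_mem, span_singleton_le_iff_mem,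
      ← span_insert, ← span_insert] at h1
    exact h1) (by
    intro y hy
    obtain ⟨x, hx⟩ := τ.surjective (Projectivization.mk F' y hy)
    induction x using Projectivization.ind with
    | h x hx0 =>
      refine ⟨x, hx0, ?_⟩
      rw [← hts x hx0, hx, Projectivization.submodule_mk]
      exact mem_span_singleton_self _)
  refine ⟨σ, g, hσ, ?_⟩
  intro v hv
  obtain ⟨c, hc, hcv⟩ := hg v hv
  have hgv : g v ≠ 0 := by
    intro h1
    rw [h1, smul_zero] at hcv
    exact ht0 v hv hcv
  refine ⟨hgv, ?_⟩
  apply Projectivization.submodule_injective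
  rw [hts v hv, Projectivization.submodule_mk, hcv]
  exact span_singleton_smul_eq (IsUnit.mk0 _ hc) _

end proj

end Cfsg.Agent.Lib.FTPG
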