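import Mathlib
import Cfsg.Agent.Lib.GoldschmidtFusion

/-!
# Strongly closed abelian subgroups: the normalizer controls strong fusion

`control`: if `A ≤ P ∈ Syl_p(G)` is abelian and strongly closed in `P`, then `N_G(A)` controls strong fusion in `P`.
-/

set_option autoImplicit false
set_option linter.unusedSectionVars false

namespace Cfsg.Agent.Lib.GoldControl

open Subgroup Cfsg.Agent.Lib.GoldschmidtFusion

variable {G : Type*} [Group G] [Finite G] {p : ℕ} [hp : Fact p.Prime]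

/-- the stabiliser of the chain `X ≥ X ⊓ A ≥ 1` -/
def Stab (A X : Subgroup G) : Subgroup G where
  carrier := {g | g ∈ normalizer (X : Set G) ∧ (∀ x ∈ X, g * x * g⁻¹ * x⁻¹ ∈ A) ∧
    ∀ x ∈ X, x ∈ A → g * x * g⁻¹ = x}
  one_mem' := ⟨one_mem _, fun x _ => by simp, fun x _ _ => by simp⟩
  mul_mem' := by
    rintro g h ⟨hg1, hg2, hg3⟩ ⟨hh1, hh2, hh3⟩
    refine ⟨mul_mem hg1 hh1, fun x hx => ?_, fun x hx hxA => ?_⟩
    · have hy : h * x * h⁻¹ ∈ X := (mem_normalizer_iff.1 hh1 x).1 hx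
      have e : g * h * x * (g * h)⁻¹ * x⁻¹ =
          (g * (h * x * h⁻¹) * g⁻¹ * (h * x * h⁻¹)⁻¹) * (h * x * h⁻¹ * x⁻¹) := by group
      rw [e]
      exact mul_mem (hg2 _ hy) (hh2 _ hx)
    · have e : g * h * x * (g * h)⁻¹ = g * (h * x * h⁻¹) * g⁻¹ := by group
      rw [e, hh3 x hx hxA, hg3 x hx hxA]
  inv_mem' := by
    rintro g ⟨hg1, hg2, hg3⟩
    refine ⟨inv_mem hg1, fun x hx => ?_, fun x hx hxA => ?_⟩
    · -- `y = g⁻¹ x g`, `g y g⁻¹ y⁻¹ ∈ A`
      have hy : g⁻¹ * x * g ∈ X := by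
        have := (mem_normalizer_iff.1 (inv_mem hg1) x).1 hx
        rwa [inv_inv] at this
      have h1 := hg2 _ hy
      have e : g * (g⁻¹ * x * g) * g⁻¹ * (g⁻¹ * x * g)⁻¹ = (g⁻¹ * x * g⁻¹⁻¹ * x⁻¹)⁻¹ := by group
      rw [e, inv_mem_iff] at h1
      exact h1
    · have h1 := hg3 x hx hxA
      have h2 : x = g⁻¹ * (g * x * g⁻¹) * g := by group
      rw [h1] at h2
      rw [inv_inv]; exact h2.symm

omit [Finite G] in
theorem mem_Stab {A X : Subgroup G} {g : G} : g ∈ Stab A X ↔ g ∈ normalizer (X : Set G) ∧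
    (∀ x ∈ X, g * x * g⁻¹ * x⁻¹ ∈ A) ∧ ∀ x ∈ X, x ∈ A → g * x * g⁻¹ = x := Iff.rfl

omit [Finite G] in
theorem Stab_le (A X : Subgroup G) : Stab A X ≤ normalizer (X : Set G) := fun _ hg => hg.1

omit [Finite G] in
theorem centralizer_le_Stab (A X : Subgroup G) : centralizer (X : Set G) ≤ Stab A X := by
  intro c hc
  have h1 : ∀ x ∈ X, c * x * c⁻¹ = x := fun x hx => conj_eq_of_mem_centralizer hc hx
  exact ⟨centralizer_le_normalizer _ hc, fun x hx => by rw [h1 x hx, mul_inv_cancel]; exact one_mem _,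
    fun x hx _ => h1 x hx⟩

/-- `p'`-elements of the stabiliser centralise `X`. -/
theorem mem_centralizer_of_coprime {A X : Subgroup G} (hX : IsPGroup p X) {g : G}
    (hg : g ∈ Stab A X) (hcop : Nat.Coprime (orderOf g) p) : g ∈ centralizer (X : Set G) := by
  obtain ⟨h1, h2, h3⟩ := hg
  rw [mem_centralizer_iff]
  intro x hx
  set a := g * x * g⁻¹ * x⁻¹ with ha
  have haA : a ∈ A := h2 x hx
  have haX : a ∈ X := mul_mem ((mem_normalizer_iff.1 h1 x).1 hx) (inv_mem hx)
  have hga : g * a * g⁻¹ = a := h3 a haX haA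
  have hgx : g * x * g⁻¹ = a * x := by rw [ha]; group
  have hpow : ∀ n : ℕ, g ^ n * x * (g ^ n)⁻¹ = a ^ n * x := by
    intro n
    induction n with
    | zero => simp
    | succ n ih =>
      have hgan : g * a ^ n * g⁻¹ = a ^ n := by
        rw [← conj_pow, hga]
      calc g ^ (n + 1) * x * (g ^ (n + 1))⁻¹ = g * (g ^ n * x * (g ^ n)⁻¹) * g⁻¹ := by
            rw [pow_succ']; group
        _ = (g * a ^ n * g⁻¹) * (g * x * g⁻¹) := by rw [ih]; group
        _ = a ^ (n + 1) * x := by rw [hgan, hgx, pow_succ]; group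
  have h4 := hpow (orderOf g)
  rw [pow_orderOf_eq_one, one_mul, inv_one, mul_one] at h4
  have h5 : a ^ orderOf g = 1 := by
    have := congrArg (fun w => w * x⁻¹) h4
    simpa using this.symm
  obtain ⟨k, hk⟩ := hX ⟨a, haX⟩
  have h6 : a ^ p ^ k = 1 := congrArg Subtype.val hk
  have h7 : orderOf a ∣ Nat.gcd (orderOf g) (p ^ k) :=
    Nat.dvd_gcd (orderOf_dvd_of_pow_eq_one h5) (orderOf_dvd_of_pow_eq_one h6)
  rw [Nat.Coprime.gcd_eq_one (Nat.Coprime.pow_right k hcop)] at h7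
  have h8 : a = 1 := orderOf_eq_one_iff.1 (Nat.dvd_one.1 h7)
  rw [h8, one_mul, mul_inv_eq_iff_eq_mul] at hgx
  exact hgx.symm

section main

variable (P : Sylow p G) {A : Subgroup G} (hA : A ≤ (P : Subgroup G))
  (hab : ∀ x ∈ A, ∀ y ∈ A, x * y = y * x)
  (hsc : ∀ a ∈ A, ∀ g : G, g * a * g⁻¹ ∈ (P : Subgroup G) → g * a * g⁻¹ ∈ A)

include hsc in
theorem Stab_normal {X : Subgroup G} (hX : X ≤ (P : Subgroup G)) {n g : G}
    (hn : n ∈ normalizer (X : Set G)) (hg : g ∈ Stab A X) : n * g * n⁻¹ ∈ Stab A X := by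
  obtain ⟨h1, h2, h3⟩ := hg
  have hy : ∀ x ∈ X, n⁻¹ * x * n ∈ X := fun x hx => by
    have := (mem_normalizer_iff.1 (inv_mem hn) x).1 hx
    rwa [inv_inv] at this
  refine ⟨mul_mem (mul_mem hn h1) (inv_mem hn), fun x hx => ?_, fun x hx hxA => ?_⟩
  · have h4 := h2 _ (hy x hx)
    have h5 : n * g * n⁻¹ * x * (n * g * n⁻¹)⁻¹ * x⁻¹ =
        n * (g * (n⁻¹ * x * n) * g⁻¹ * (n⁻¹ * x * n)⁻¹) * n⁻¹ := by group
    rw [h5]
    apply hsc _ h4
    apply hX
    refine (mem_normalizer_iff.1 hn _).1 ?_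
    exact mul_mem ((mem_normalizer_iff.1 h1 _).1 (hy x hx)) (inv_mem (hy x hx))
  · have h4 : n⁻¹ * x * n ∈ A := by
      have := hsc x hxA n⁻¹ (by rw [inv_inv]; exact hX (hy x hx))
      rwa [inv_inv] at this
    have h5 := h3 _ (hy x hx) h4
    calc n * g * n⁻¹ * x * (n * g * n⁻¹)⁻¹ = n * (g * (n⁻¹ * x * n) * g⁻¹) * n⁻¹ := by group
      _ = x := by rw [h5]; group

/-- the relevant property -/
def Ctl (A X : Subgroup G) (g : G) : Prop :=
  ∃ n ∈ normalizer (A : Set G), ∃ c ∈ centralizer (X : Set G), g = n * c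

include hA hsc in
omit [Finite G] in
theorem normalizer_le {X : Subgroup G} (hX : X ≤ (P : Subgroup G)) (hAX : A ≤ X) {g : G}
    [Finite G] (hg : g ∈ normalizer (X : Set G)) : g ∈ normalizer (A : Set G) := by
  rw [mem_normalizer_iff_map_conj]
  apply map_conj_le_of_le_normalizer
  rintro _ ⟨a, ha, rfl⟩
  exact hsc a ha g (hX ((mem_normalizer_iff.1 hg a).1 (hAX ha)))

include hA hab hsc in
/-- The Frattini argument. -/
theorem frattini {X : Subgroup G} (hX : X ≤ (P : Subgroup G))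
    (hfn : ¬ p ∣ ((P : Subgroup G) ⊓ normalizer (X : Set G)).relIndex (normalizer (X : Set G)))
    (hAX : ¬ A ≤ X) {g : G} (hg : g ∈ normalizer (X : Set G)) :
    ∃ X₁ : Subgroup G, X < X₁ ∧ X₁ ≤ (P : Subgroup G) ∧ ∃ n ∈ normalizer (X₁ : Set G),
      ∃ c ∈ centralizer (X : Set G), g = n * c := by
  set N := normalizer (X : Set G) with hN
  set C := centralizer (X : Set G) with hC
  set N₀ := Stab A X with hN₀
  have hN₀N : N₀ ≤ N := Stab_le A X
  have hCN₀ : C ≤ N₀ := centralizer_le_Stab A X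
  have hpX : IsPGroup p X := P.isPGroup'.to_le hX
  set T₀ := (P : Subgroup G) ⊓ N₀ with hT₀
  have hT₀p : IsPGroup p T₀ := P.isPGroup'.to_le inf_le_left
  -- `T₀` is Sylow in `N₀`
  have hsyl : ¬ p ∣ T₀.relIndex N₀ := by
    have hnorm : (N₀.subgroupOf N).Normal := by
      rw [normal_subgroupOf_iff_le_normalizer hN₀N, le_normalizer_iff]
      intro h hh k hk
      exact Stab_normal P hsc hX hh hk
    have h1 : ((P : Subgroup G) ⊓ N).relIndex N₀ ∣ ((P : Subgroup G) ⊓ N).relIndex N := by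
      have e1 : ((P : Subgroup G) ⊓ N).relIndex N₀ =
          (((P : Subgroup G) ⊓ N).subgroupOf N).relIndex (N₀.subgroupOf N) := by
        rw [relIndex_subgroupOf hN₀N]
      have e2 : ((P : Subgroup G) ⊓ N).relIndex N = (((P : Subgroup G) ⊓ N).subgroupOf N).index := rfl
      rw [e1, e2]
      exact relIndex_dvd_index_of_normal_right _ _
    intro h
    apply hfn
    refine dvd_trans ?_ h1
    have e3 : T₀.relIndex N₀ = ((P : Subgroup G) ⊓ N).relIndex N₀ := by
      rw [← inf_relIndex_right ((P : Subgroup G) ⊓ N) N₀, ← inf_relIndex_right T₀ N₀]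
      congr 1
      ext x
      simp only [hT₀, mem_inf]
      constructor
      · rintro ⟨⟨a, b⟩, _⟩; exact ⟨⟨a, hN₀N b⟩, b⟩
      · rintro ⟨⟨a, _⟩, b⟩; exact ⟨⟨a, b⟩, b⟩
    rw [← e3]; exact h
  -- `N₀ = T₀ C`
  have hmul : ∀ x ∈ N₀, ∃ t ∈ T₀, ∃ c ∈ C, x = t * c := by
    have hCn : (C.subgroupOf N₀).Normal := by
      rw [normal_subgroupOf_iff_le_normalizer hCN₀, le_normalizer_iff]
      intro h hh k hk
      rw [hC, ← mem_normalizer_iff_map_conj.1 (hN₀N hh), mem_centralizer_map_conj]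
      simpa [mul_assoc] using hk
    have hpg : IsPGroup p (N₀ ⧸ C.subgroupOf N₀) := by
      intro x
      obtain ⟨y, rfl⟩ := QuotientGroup.mk_surjective x
      obtain ⟨k, m, hm, hkm⟩ :=
        Nat.exists_eq_pow_mul_and_not_dvd (orderOf_pos (y : G)).ne' p hp.out.one_lt.ne'
      refine ⟨k, ?_⟩
      rw [← QuotientGroup.mk_pow, QuotientGroup.eq_one_iff, mem_subgroupOf]
      apply mem_centralizer_of_coprime hpX (A := A)
      · exact (y ^ p ^ k).2
      · rw [Subgroup.coe_pow, orderOf_pow_of_dvd (pow_ne_zero _ hp.out.ne_zero)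
          (by rw [hkm]; exact Dvd.intro _ rfl), hkm,
          Nat.mul_div_cancel_left _ (pow_pos hp.out.pos _)]
        exact ((Nat.Prime.coprime_iff_not_dvd hp.out).2 hm).symm
    have hKN : T₀ ⊔ C = N₀ := by
      apply le_antisymm (sup_le inf_le_right hCN₀)
      rw [← relIndex_eq_one]
      obtain ⟨j, hj⟩ := (IsPGroup.iff_card.1 hpg)
      have h1 : (T₀ ⊔ C).relIndex N₀ ∣ p ^ j := by
        rw [← hj]
        exact relIndex_dvd_of_le_left N₀ le_sup_right
      have h2 : (T₀ ⊔ C).relIndex N₀ ∣ T₀.relIndex N₀ :=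
        relIndex_dvd_of_le_left N₀ le_sup_left
      obtain ⟨i, -, hi⟩ := (Nat.dvd_prime_pow hp.out).1 h1
      rcases Nat.eq_zero_or_pos i with h0 | h0
      · rw [hi, h0, pow_zero]
      · exfalso
        apply hsyl
        refine dvd_trans ?_ h2
        rw [hi]
        exact dvd_pow_self p h0.ne'
    have hle : T₀ ≤ normalizer (C : Set G) := by
      refine le_trans inf_le_right ?_
      rwa [← normal_subgroupOf_iff_le_normalizer hCN₀]
    intro x hx
    have hmem : x ∈ ((T₀ ⊔ C : Subgroup G) : Set G) := by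
      rw [hKN]; exact hx
    rw [coe_mul_of_left_le_normalizer_right _ _ hle] at hmem
    obtain ⟨s, hs, c, hc, rfl⟩ := Set.mem_mul.1 hmem
    exact ⟨s, hs, c, hc, rfl⟩
  -- Frattini
  have hTg : T₀.map (MulAut.conj g).toMonoidHom ≤ N₀ := by
    rintro _ ⟨t, ht, rfl⟩
    exact Stab_normal P hsc hX hg ht.2
  obtain ⟨n₀, hn₀, hle⟩ := exists_conj_le_in (p := p) hT₀p hsyl hTg (hT₀p.map _)
  rw [map_conj_map_conj] at hle
  have hn₁ : n₀ * g ∈ normalizer (T₀ : Set G) := by
    rw [mem_normalizer_iff_map_conj]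
    exact map_conj_le_of_le_normalizer hle
  obtain ⟨t, ht, c, hc, hn₀e⟩ := hmul n₀ hn₀
  set n := t⁻¹ * (n₀ * g) with hn
  have hnT : n ∈ normalizer (T₀ : Set G) := mul_mem (inv_mem (le_normalizer ht)) hn₁
  have hnX : n ∈ normalizer (X : Set G) :=
    mul_mem (inv_mem (hN₀N ht.2)) (mul_mem (hN₀N hn₀) hg)
  have hgn : g = c⁻¹ * n := by
    rw [hn, hn₀e]; group
  refine ⟨X ⊔ T₀, ?_, sup_le hX inf_le_left, n, ?_, n⁻¹ * c⁻¹ * n, ?_, ?_⟩
  · -- growth
    refine lt_of_le_of_ne le_sup_left ?_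
    intro he
    have hT₀X : T₀ ≤ X := by
      have : T₀ ≤ X ⊔ T₀ := le_sup_right
      rwa [← he] at this
    -- `Y = X ⊔ A`
    have hAn : (P : Subgroup G) ≤ normalizer (A : Set G) := fun s hs =>
      normalizer_le P hA hsc le_rfl hA (le_normalizer hs)
    set Y := X ⊔ A with hY
    have hYp : IsPGroup p Y := P.isPGroup'.to_le (sup_le hX hA)
    have hXY : X < Y := by
      refine lt_of_le_of_ne le_sup_left ?_
      intro he'
      apply hAX
      have : A ≤ X ⊔ A := le_sup_right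
      rwa [← hY, ← he'] at this
    have hlt := lt_inf_normalizer hYp hXY
    obtain ⟨y, hy, hyX⟩ := SetLike.exists_of_lt hlt
    have hyY : y ∈ ((X ⊔ A : Subgroup G) : Set G) := hy.1
    rw [coe_mul_of_left_le_normalizer_right _ _ (hX.trans hAn)] at hyY
    obtain ⟨x, hx, a, ha, hxa⟩ := Set.mem_mul.1 hyY
    have hxa' : x * a = y := hxa
    have haN : a ∈ normalizer (X : Set G) := by
      have : a = x⁻¹ * y := by rw [← hxa']; group
      rw [this]
      exact mul_mem (inv_mem (le_normalizer hx)) hy.2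
    have haS : a ∈ N₀ := by
      refine ⟨haN, fun w hw => ?_, fun w hw hwA => ?_⟩
      · have h1 : w * a⁻¹ * w⁻¹ ∈ A :=
          (mem_normalizer_iff.1 (hAn (hX hw)) _).1 (inv_mem ha)
        have h2 : a * w * a⁻¹ * w⁻¹ = a * (w * a⁻¹ * w⁻¹) := by group
        rw [h2]
        exact mul_mem ha h1
      · rw [hab a ha w hwA, mul_inv_cancel_right]
    have haX : a ∈ X := hT₀X ⟨hA ha, haS⟩
    apply hyX
    rw [← hxa']
    exact mul_mem hx haX
  · rw [mem_normalizer_iff_map_conj, Subgroup.map_sup, mem_normalizer_iff_map_conj.1 hnX,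
      mem_normalizer_iff_map_conj.1 hnT]
  · have h1 : n * (n⁻¹ * c⁻¹ * n) * n⁻¹ ∈ C := by
      have : n * (n⁻¹ * c⁻¹ * n) * n⁻¹ = c⁻¹ := by group
      rw [this]; exact inv_mem hc
    rw [hC] at h1 ⊢
    have h2 : n⁻¹ * c⁻¹ * n ∈ centralizer ((X.map (MulAut.conj n⁻¹).toMonoidHom : Subgroup G) : Set G) := by
      rw [mem_centralizer_map_conj]
      have : n⁻¹⁻¹ * (n⁻¹ * c⁻¹ * n) * n⁻¹ = c⁻¹ := by group
      rw [this]
      exact inv_mem hc
    rwa [mem_normalizer_iff_map_conj.1 (inv_mem hnX)] at h2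
  · rw [hgn]; group

omit [Finite G] hp in
/-- generation with large members only -/
theorem ctl_of_gen {P : Subgroup G} {A : Subgroup G} {m : ℕ} {F : Subgroup G → Prop} [Finite G]
    (hF : ∀ X : Subgroup G, X ≤ P → F X → m ≤ Nat.card X → ∀ g ∈ normalizer (X : Set G), Ctl A X g)
    {B : Subgroup G} {g : G} (h : Gen P F B g) (hB : m ≤ Nat.card B) : Ctl A B g := by
  induction h with
  | cent _ hc => exact ⟨1, one_mem _, _, hc, (one_mul _).symm⟩
  | @base B X g hX hFX hBX hg =>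
    obtain ⟨n, hn, c, hc, e⟩ := hF X hX hFX (hB.trans (Subgroup.card_le_of_le hBX)) _ hg
    exact ⟨n, hn, c, centralizer_le (by exact_mod_cast hBX) hc, e⟩
  | @mul B g h _ _ ih1 ih2 =>
    obtain ⟨n₁, hn₁, c₁, hc₁, hg⟩ := ih1 hB
    obtain ⟨n₂, hn₂, c₂, hc₂, hh⟩ := ih2 (by rw [card_map_conj]; exact hB)
    rw [mem_centralizer_map_conj] at hc₂
    refine ⟨n₂ * n₁, mul_mem hn₂ hn₁, c₁ * (g⁻¹ * c₂ * g), mul_mem hc₁ hc₂, ?_⟩
    have e : n₂ * n₁ * (c₁ * (g⁻¹ * c₂ * g)) = n₂ * (n₁ * c₁) * g⁻¹ * c₂ * g := by group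
    rw [e, ← hg, hh]
    group

include hA hab hsc in
/-- **The normalizer of a strongly closed abelian subgroup controls strong fusion.** -/
theorem control {B : Subgroup G} (hB : B ≤ (P : Subgroup G)) {g : G}
    (hg : B.map (MulAut.conj g).toMonoidHom ≤ (P : Subgroup G)) :
    ∃ n ∈ normalizer (A : Set G), ∃ c ∈ centralizer (B : Set G), g = n * c := by
  have key : ∀ k : ℕ, ∀ X : Subgroup G, X ≤ (P : Subgroup G) → Nat.card P ≤ Nat.card X + k →
      (X = P ∨ ¬ p ∣ ((P : Subgroup G) ⊓ normalizer (X : Set G)).relIndex (normalizer (X : Set G))) →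
      ∀ g ∈ normalizer (X : Set G), Ctl A X g := by
    intro k
    induction k with
    | zero =>
      intro X hX hk _ g hg
      have hXP : X = P := Subgroup.eq_of_le_of_card_ge hX (by simpa using hk)
      subst hXP
      exact ⟨g, normalizer_le P hA hsc le_rfl hA hg, 1, one_mem _, (mul_one _).symm⟩
    | succ k ih =>
      intro X hX hk hfn g hg
      by_cases hAX : A ≤ X
      · exact ⟨g, normalizer_le P hA hsc hX hAX hg, 1, one_mem _, (mul_one _).symm⟩
      · have hfn' := hfn.resolve_left (fun e => hAX (e ▸ hA))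
        obtain ⟨X₁, hlt, hX₁, n, hn, c, hc, rfl⟩ := frattini P hA hab hsc hX hfn' hAX hg
        have hcard : Nat.card X + 1 ≤ Nat.card X₁ := by
          by_contra hcon
          have h1 : Nat.card X₁ ≤ Nat.card X := by omega
          exact hlt.ne (Subgroup.eq_of_le_of_card_ge hlt.le h1)
        have hgen : Gen (P : Subgroup G) (fun Z => Z = P ∨
            ¬ p ∣ ((P : Subgroup G) ⊓ normalizer (Z : Set G)).relIndex (normalizer (Z : Set G)))
            X₁ n := by
          refine gen_of_conj P (fun Z => Z = (P : Subgroup G) ∨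
            ¬ p ∣ ((P : Subgroup G) ⊓ normalizer (Z : Set G)).relIndex (normalizer (Z : Set G)))
            (Or.inl rfl) (fun Z _ h1 _ _ => Or.inr h1) hX₁ ?_
          rw [mem_normalizer_iff_map_conj.1 hn]
          exact hX₁
        have h2 : Ctl A X₁ n := ctl_of_gen (m := Nat.card X₁) (fun Z hZ hFZ hm g hg =>
          ih Z hZ (by omega) hFZ g hg) hgen le_rfl
        obtain ⟨n', hn', c', hc', rfl⟩ := h2
        refine ⟨n', hn', c' * c, mul_mem (centralizer_le (by exact_mod_cast hlt.le) hc') hc, ?_⟩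
        group
  have hgen : Gen (P : Subgroup G) (fun Z => Z = P ∨
      ¬ p ∣ ((P : Subgroup G) ⊓ normalizer (Z : Set G)).relIndex (normalizer (Z : Set G))) B g :=
    gen_of_conj P (fun Z => Z = (P : Subgroup G) ∨
      ¬ p ∣ ((P : Subgroup G) ⊓ normalizer (Z : Set G)).relIndex (normalizer (Z : Set G)))
      (Or.inl rfl) (fun Z _ h1 _ _ => Or.inr h1) hB hg
  exact ctl_of_gen (m := 0) (fun Z hZ hFZ _ g hg =>
    key (Nat.card P) Z hZ (Nat.le_add_left _ _) hFZ g hg) hgen (Nat.zero_le _)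

end main

end Cfsg.Agent.Lib.GoldControl
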