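import Mathlib

/-!
A Goursat type recognition lemma: a subgroup `R` of `G × H` projecting onto both factors, such that for
`(g, h) ∈ R` one has `g ∈ N ↔ h ∈ M`, gives an isomorphism `G ⧸ N ≃* H ⧸ M`.
-/

set_option autoImplicit false

namespace Cfsg.Agent.Lib.GraphIso

/-- Goursat: a subgroup of the product, surjecting onto both factors and matching the normal subgroups `N`, `M`,
gives an isomorphism of the quotients. -/
theorem nonempty_quotient_equiv {G H : Type*} [Group G] [Group H] (R : Subgroup (G × H))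
    (N : Subgroup G) (M : Subgroup H) [N.Normal] [M.Normal]
    (h1 : ∀ g : G, ∃ h : H, (g, h) ∈ R) (h2 : ∀ h : H, ∃ g : G, (g, h) ∈ R)
    (hN : ∀ (g : G) (h : H), (g, h) ∈ R → (g ∈ N ↔ h ∈ M)) :
    Nonempty (G ⧸ N ≃* H ⧸ M) := by
  let φ : R →* G ⧸ N := (QuotientGroup.mk' N).comp ((MonoidHom.fst G H).comp R.subtype)
  let ψ : R →* H ⧸ M := (QuotientGroup.mk' M).comp ((MonoidHom.snd G H).comp R.subtype)
  have hφ : Function.Surjective φ := by
    intro x
    obtain ⟨g, rfl⟩ := QuotientGroup.mk'_surjective N x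
    obtain ⟨h, hh⟩ := h1 g
    exact ⟨⟨(g, h), hh⟩, rfl⟩
  have hψ : Function.Surjective ψ := by
    intro x
    obtain ⟨h, rfl⟩ := QuotientGroup.mk'_surjective M x
    obtain ⟨g, hg⟩ := h2 h
    exact ⟨⟨(g, h), hg⟩, rfl⟩
  have hk : φ.ker = ψ.ker := by
    ext ⟨⟨g, h⟩, hr⟩
    have e1 : (⟨(g, h), hr⟩ : R) ∈ φ.ker ↔ g ∈ N := by
      rw [MonoidHom.mem_ker]
      exact QuotientGroup.eq_one_iff g
    have e2 : (⟨(g, h), hr⟩ : R) ∈ ψ.ker ↔ h ∈ M := by
      rw [MonoidHom.mem_ker]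
      exact QuotientGroup.eq_one_iff h
    rw [e1, e2]
    exact hN g h hr
  exact ⟨(QuotientGroup.quotientKerEquivOfSurjective φ hφ).symm.trans
    ((QuotientGroup.quotientMulEquivOfEq hk).trans (QuotientGroup.quotientKerEquivOfSurjective ψ hψ))⟩

/-- The special case of trivial normal subgroups: `R` is the graph of an isomorphism `G ≃* H`. -/
theorem nonempty_equiv {G H : Type*} [Group G] [Group H] (R : Subgroup (G × H))
    (h1 : ∀ g : G, ∃ h : H, (g, h) ∈ R) (h2 : ∀ h : H, ∃ g : G, (g, h) ∈ R)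
    (hN : ∀ (g : G) (h : H), (g, h) ∈ R → (g = 1 ↔ h = 1)) :
    Nonempty (G ≃* H) := by
  obtain ⟨e⟩ := nonempty_quotient_equiv R ⊥ ⊥ h1 h2 (by
    intro g h hr
    rw [Subgroup.mem_bot, Subgroup.mem_bot]
    exact hN g h hr)
  exact ⟨QuotientGroup.quotientBot.symm.trans (e.trans QuotientGroup.quotientBot)⟩

end Cfsg.Agent.Lib.GraphIso
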