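import Mathlib
import Cfsg.Agent.Lib.EssentialFusion
import Cfsg.Agent.Transfer.Residual

/-!
# The hyperfocal subgroup theorem

`P` a Sylow `p`-subgroup of the finite group `G`. If `H` is a normal subgroup of `P` containing all `[X, g]`,
`X = P` or `X` essential in `P`, `g` an element of `N_G(X)` of order prime to `p`, then
`P ∩ O^p(G) ≤ H`.
-/

set_option autoImplicit false

namespace Cfsg.Agent.Lib.Hyperfocal

open scoped commutatorElement
open Subgroup Cfsg.Agent.Lib.GoldschmidtFusion Cfsg.Agent.Lib.EssentialFusion Cfsg.Agent.Transfer.Residual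

theorem eq_bot_of_le_commutator {Q : Type*} [Group Q] [Group.IsNilpotent Q] {T : Subgroup Q}
    (h : T ≤ ⁅T, (⊤ : Subgroup Q)⁆) : T = ⊥ := by
  have h1 : ∀ n, T ≤ (⊤ : Subgroup Q).lowerCentralSeries n := by
    intro n
    induction n with
    | zero => exact le_top
    | succ n ih => exact h.trans (commutator_mono ih le_rfl)
  obtain ⟨n, hn⟩ := Subgroup.nilpotent_iff_lowerCentralSeries.1 (inferInstance : Group.IsNilpotent Q)
  rw [eq_bot_iff, ← hn]
  exact h1 n

/-- if `T ≤ H [T, P]`, `H` normal in the nilpotent group `P`, then `T ≤ H` -/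
theorem le_of_le_sup_commutator {Q : Type*} [Group Q] [Group.IsNilpotent Q] {T H : Subgroup Q} [H.Normal]
    (h : T ≤ H ⊔ ⁅T, (⊤ : Subgroup Q)⁆) : T ≤ H := by
  have h1 : T.map (QuotientGroup.mk' H) ≤ ⁅T.map (QuotientGroup.mk' H), (⊤ : Subgroup (Q ⧸ H))⁆ := by
    have h2 := Subgroup.map_mono (f := QuotientGroup.mk' H) h
    rw [Subgroup.map_sup, (Subgroup.map_eq_bot_iff H).2 (by rw [QuotientGroup.ker_mk']), bot_sup_eq,
      map_commutator, Subgroup.map_top_of_surjective _ (QuotientGroup.mk'_surjective H)] at h2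
    exact h2
  have h3 := eq_bot_of_le_commutator h1
  rw [Subgroup.map_eq_bot_iff, QuotientGroup.ker_mk'] at h3
  exact h3

/-- in a commutative group the residual consists of elements of order prime to `p` -/
theorem coprime_of_mem_pResidual {A : Type*} [CommGroup A] {p : ℕ} {a : A} (ha : a ∈ Cfsg.pResidual p A) :
    Nat.Coprime (orderOf a) p := by
  rw [pResidual_def] at ha
  induction ha using closure_induction with
  | mem x hx => exact hx
  | one => simp
  | mul x y _ _ hx hy =>
    exact Nat.Coprime.coprime_dvd_left ((Commute.all x y).orderOf_mul_dvd_mul_orderOf) (hx.mul_left hy)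
  | inv x _ hx => rwa [orderOf_inv]

/-- `O^p(K) = K` implies `P ≤ K'` -/
theorem sylow_le_commutator_of_pResidual {K : Type*} [Group K] {p : ℕ} [Fact p.Prime]
    (h : Cfsg.pResidual p K = ⊤) {P : Subgroup K} (hP : IsPGroup p P) : P ≤ _root_.commutator K := by
  intro x hx
  have h1 : Abelianization.of x ∈ Cfsg.pResidual p (Abelianization K) := by
    refine map_pResidual_le p Abelianization.of ?_
    exact mem_map_of_mem _ (h ▸ mem_top x)
  have h2 := coprime_of_mem_pResidual h1
  obtain ⟨k, hk⟩ := hP ⟨x, hx⟩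
  have hk' : x ^ p ^ k = 1 := by simpa using congrArg Subtype.val hk
  have h3 : (Abelianization.of x) ^ p ^ k = 1 := by rw [← map_pow, hk', map_one]
  have h4 : orderOf (Abelianization.of x) ∣ Nat.gcd (orderOf (Abelianization.of x)) (p ^ k) :=
    Nat.dvd_gcd dvd_rfl (orderOf_dvd_of_pow_eq_one h3)
  rw [Nat.Coprime.pow_right k h2, Nat.dvd_one, orderOf_eq_one_iff] at h4
  rw [← Abelianization.ker_of]
  exact h4

variable {G : Type*} [Group G] {p : ℕ} [hp : Fact p.Prime]

omit hp in
/-- `O^p(O^p(G)) = O^p(G)` -/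
theorem pResidual_pResidual : Cfsg.pResidual p (Cfsg.pResidual p G) = ⊤ := by
  have h : Cfsg.pResidual p G ≤
      (Cfsg.pResidual p (Cfsg.pResidual p G)).map (Cfsg.pResidual p G).subtype := by
    nth_rewrite 1 [pResidual_def]
    rw [closure_le]
    intro g hg
    have hg' : Nat.Coprime (orderOf g) p := hg
    refine ⟨⟨g, mem_pResidual_of_coprime hg'⟩, mem_pResidual_of_coprime ?_, rfl⟩
    rwa [Subgroup.orderOf_mk]
  rw [eq_top_iff]
  rintro ⟨x, hx⟩ -
  obtain ⟨y, hy, hyx⟩ := h hx
  have : y = ⟨x, hx⟩ := Subtype.ext hyx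
  rwa [← this]

/-- a subgroup of `N` containing a Sylow subgroup of `N` and all elements of order prime to `p` is `N` -/
theorem le_of_coprime_mem [Finite G] {N M : Subgroup G} (P : Subgroup G)
    (h : ¬ p ∣ P.relIndex N) (hPM : P ⊓ N ≤ M) (hM : ∀ g ∈ N, Nat.Coprime (orderOf g) p → g ∈ M) :
    N ≤ M := by
  have h1 : Cfsg.pResidual p N ⊔ P.subgroupOf N = ⊤ := pResidual_sup_of_not_dvd_index h
  have h2 : (⊤ : Subgroup N) ≤ M.subgroupOf N := by
    rw [← h1]
    refine sup_le ?_ ?_
    · rw [pResidual_def, closure_le]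
      intro g hg
      have hg' : Nat.Coprime (orderOf g) p := hg
      refine hM g g.2 ?_
      rwa [Subgroup.orderOf_coe]
    · intro g hg
      exact hPM ⟨hg, g.2⟩
  intro g hg
  exact h2 (mem_top (⟨g, hg⟩ : N))

/-- **Hyperfocal subgroup theorem** (one inclusion, for any family `F` generating the fusion in `P`). -/
theorem hyperfocal_of_gen [Finite G] (P : Sylow p G) (F : Subgroup G → Prop)
    (hgen : ∀ {A : Subgroup G}, A ≤ P → ∀ {g : G}, A.map (MulAut.conj g).toMonoidHom ≤ P →
      Gen (P : Subgroup G) F A g)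
    (hfull : ∀ X : Subgroup G, X ≤ P → F X → ¬ p ∣ (P : Subgroup G).relIndex (normalizer (X : Set G)))
    (H : Subgroup G) (hHn : (P : Subgroup G) ≤ normalizer (H : Set G))
    (h : ∀ X : Subgroup G, X ≤ P → F X → ∀ g ∈ normalizer (X : Set G), Nat.Coprime (orderOf g) p →
      ∀ x ∈ X, g * x * g⁻¹ * x⁻¹ ∈ H) :
    (P : Subgroup G) ⊓ Cfsg.pResidual p G ≤ H := by
  set K := Cfsg.pResidual p G with hK
  have hKn : K.Normal := pResidual_normal p
  set T : Subgroup G := (P : Subgroup G) ⊓ K with hT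
  set R : Subgroup G := H ⊔ ⁅T, (P : Subgroup G)⁆ with hR
  -- the generators of the focal subgroup of `T` in `K` lie in `R`
  let φ : G → Set G := fun y => {z | y ∈ K ∧ z * y⁻¹ ∈ R}
  have hφ : ∀ {y y' : G}, (y ∈ K ↔ y' ∈ K) → (y ∈ K → y * y'⁻¹ ∈ R) → φ y = φ y' := by
    intro y y' h1 h2
    ext z
    simp only [φ, Set.mem_ofPred_eq]
    constructor
    · rintro ⟨hy, hz⟩
      refine ⟨h1.1 hy, ?_⟩
      have := mul_mem hz (h2 hy)
      simpa [mul_assoc] using this
    · rintro ⟨hy, hz⟩
      refine ⟨h1.2 hy, ?_⟩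
      have := mul_mem hz (inv_mem (h2 (h1.2 hy)))
      simpa [mul_assoc] using this
  have hinv : ∀ X : Subgroup G, X ≤ P → F X → ∀ g ∈ normalizer (X : Set G), ∀ x ∈ X,
      φ (g * x * g⁻¹) = φ x := by
    intro X hXP hFX g hg x hx
    have conjX : ∀ {g y : G}, g ∈ normalizer (X : Set G) → y ∈ X → g * y * g⁻¹ ∈ X := fun hg hy =>
      (mem_normalizer_iff.1 hg _).1 hy
    let M : Subgroup G :=
      { carrier := {g : G | g ∈ normalizer (X : Set G) ∧ ∀ y ∈ X, y ∈ K → g * y * g⁻¹ * y⁻¹ ∈ R}
        one_mem' := ⟨one_mem _, fun y _ _ => by simp⟩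
        mul_mem' := by
          rintro a b ⟨ha, ha'⟩ ⟨hb, hb'⟩
          refine ⟨mul_mem ha hb, fun y hy hyK => ?_⟩
          have e : a * b * y * (a * b)⁻¹ * y⁻¹ =
              (a * (b * y * b⁻¹) * a⁻¹ * (b * y * b⁻¹)⁻¹) * (b * y * b⁻¹ * y⁻¹) := by group
          rw [e]
          exact mul_mem (ha' _ (conjX hb hy) (hKn.conj_mem _ hyK _)) (hb' y hy hyK)
        inv_mem' := by
          rintro a ⟨ha, ha'⟩
          refine ⟨inv_mem ha, fun y hy hyK => ?_⟩
          have h1 := conjX (inv_mem ha) hy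
          have h2 := hKn.conj_mem _ hyK a⁻¹
          have h3 := inv_mem (ha' _ h1 h2)
          have e : a⁻¹ * y * a⁻¹⁻¹ * y⁻¹ = (a * (a⁻¹ * y * a⁻¹⁻¹) * a⁻¹ * (a⁻¹ * y * a⁻¹⁻¹)⁻¹)⁻¹ := by group
          rw [e]
          exact h3 }
    have hM : normalizer (X : Set G) ≤ M := by
      refine le_of_coprime_mem (p := p) (P : Subgroup G) (hfull X hXP hFX) ?_ ?_
      · rintro g ⟨hgP, hgN⟩
        refine ⟨hgN, fun y hy hyK => ?_⟩
        have h1 : ⁅g, y⁆ ∈ ⁅(P : Subgroup G), T⁆ := commutator_mem_commutator hgP ⟨hXP hy, hyK⟩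
        rw [commutator_comm] at h1
        exact (le_sup_right : _ ≤ R) (by simpa [commutatorElement_def] using h1)
      · intro g hgN hgo
        exact ⟨hgN, fun y hy _ => (le_sup_left : _ ≤ R) (h X hXP hFX g hgN hgo y hy)⟩
    refine hφ ?_ fun hy => ?_
    · constructor
      · intro h1
        have := hKn.conj_mem _ h1 g⁻¹
        simpa [mul_assoc] using this
      · intro h1
        exact hKn.conj_mem _ h1 g
    · have h1 : x ∈ K := by
        have := hKn.conj_mem _ hy g⁻¹
        simpa [mul_assoc] using this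
      exact (hM hg).2 x hx h1
  have hfoc : ∀ x ∈ T, ∀ u : G, u * x * u⁻¹ ∈ T → u * x * u⁻¹ * x⁻¹ ∈ R := by
    intro x hx u hu
    have h1 : Gen (P : Subgroup G) F (zpowers x) u :=
      hgen (by rw [zpowers_le]; exact hx.1) (zpowers_map_conj_le hu.1)
    have h2 := h1.invariant φ hinv x (mem_zpowers x)
    have h3 : u * x * u⁻¹ ∈ φ (u * x * u⁻¹) := ⟨hu.2, by simp⟩
    rw [h2] at h3
    exact h3.2
  -- the focal subgroup theorem in `K`
  have hTK : T ≤ K := inf_le_right
  have hTi : ¬ p ∣ (T.subgroupOf K).index := by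
    intro hd
    apply P.not_dvd_index
    refine dvd_trans ?_ (relIndex_dvd_index_of_normal_right (P : Subgroup G) K)
    rwa [← inf_relIndex_right]
  have hTp : IsPGroup p (T.subgroupOf K) :=
    (P.isPGroup'.to_le inf_le_left : IsPGroup p T).comap_of_injective K.subtype K.subtype_injective
  let T₁ : Sylow p K := hTp.toSylow hTi
  have hT₁ : (T₁ : Subgroup K) = T.subgroupOf K := rfl
  have hT₁c : (T₁ : Subgroup K) ≤ _root_.commutator K :=
    sylow_le_commutator_of_pResidual pResidual_pResidual T₁.isPGroup'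
  have hT₁f : (T₁ : Subgroup K) ≤ (T₁ : Subgroup K).focalSubgroup := by
    have := commutator_inf_eq_focalSubgroup (P := T₁)
    rw [← this]
    exact le_inf hT₁c le_rfl
  have hTR : T ≤ R := by
    have h1 : (T₁ : Subgroup K).focalSubgroup ≤ R.subgroupOf K := by
      rw [focalSubgroup_def, closure_le]
      rintro _ ⟨hxu, x, hx, u, rfl⟩
      have hx' : (x : G) ∈ T := hx
      have hxu' : ((⁅x, u⁆ : K) : G) ∈ T := hxu
      change ((⁅x, u⁆ : K) : G) ∈ R
      have h2 : (u : G) * (x : G)⁻¹ * (u : G)⁻¹ ∈ T := by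
        have := mul_mem (inv_mem hx') hxu'
        simpa [commutatorElement_def, mul_assoc] using this
      have h3 := hfoc (x : G)⁻¹ (inv_mem hx') u h2
      -- `x * (u x⁻¹ u⁻¹) = x * [(u x⁻¹ u⁻¹) x] * x⁻¹`
      have hPR : (P : Subgroup G) ≤ normalizer (R : Set G) := by
        rw [hR]
        have hTn : (P : Subgroup G) ≤ normalizer ((⁅T, (P : Subgroup G)⁆ : Subgroup G) : Set G) := by
          rw [le_normalizer_iff]
          intro g hg y hy
          have e : (⁅T, (P : Subgroup G)⁆ : Subgroup G).map (MulAut.conj g).toMonoidHom = ⁅T, (P : Subgroup G)⁆ := by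
            rw [map_commutator]
            congr 1
            · have : g ∈ normalizer (T : Set G) := by
                rw [mem_normalizer_iff]
                intro y
                simp only [hT, mem_inf]
                constructor
                · rintro ⟨h1, h2⟩
                  exact ⟨mul_mem (mul_mem hg h1) (inv_mem hg), hKn.conj_mem _ h2 g⟩
                · rintro ⟨h1, h2⟩
                  refine ⟨?_, ?_⟩
                  · have := mul_mem (mul_mem (inv_mem hg) h1) hg
                    simpa [mul_assoc] using this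
                  · have := hKn.conj_mem _ h2 g⁻¹
                    simpa [mul_assoc] using this
              exact mem_normalizer_iff_map_conj.1 this
            · exact map_conj_of_mem hg
          rw [← e]
          exact conj_mem_map_conj hy g
        intro g hg
        rw [mem_normalizer_iff_map_conj, Subgroup.map_sup, mem_normalizer_iff_map_conj.1 (hHn hg),
          mem_normalizer_iff_map_conj.1 (hTn hg)]
      have h4 := (mem_normalizer_iff.1 (hPR hx'.1) _).1 h3
      have e : ((⁅x, u⁆ : K) : G) = x * (u * (x : G)⁻¹ * (u : G)⁻¹ * (x : G)⁻¹⁻¹) * (x : G)⁻¹ := by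
        simp [commutatorElement_def, mul_assoc]
      rw [e]
      exact h4
    intro x hx
    exact h1 (hT₁f (show (⟨x, hTK hx⟩ : K) ∈ (T₁ : Subgroup K) from hx))
  -- pass to `P`
  have hPnil : Group.IsNilpotent (P : Subgroup G) := P.isPGroup'.isNilpotent
  have hHn' : ((H ⊓ P).subgroupOf (P : Subgroup G)).Normal := by
    rw [normal_subgroupOf_iff_le_normalizer inf_le_right, le_normalizer_iff]
    intro g hg y hy
    rw [mem_inf] at hy ⊢
    exact ⟨(mem_normalizer_iff.1 (hHn hg) _).1 hy.1, mul_mem (mul_mem hg hy.2) (inv_mem hg)⟩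
  have hTP : T ≤ P := inf_le_left
  have hTR' : T ≤ (H ⊓ P) ⊔ ⁅T, (P : Subgroup G)⁆ := by
    intro x hx
    have h1 := hTR hx
    have hc : ⁅T, (P : Subgroup G)⁆ ≤ P := (commutator_mono hTP le_rfl).trans (commutator_le_self _)
    rw [hR, ← SetLike.mem_coe, coe_mul_of_right_le_normalizer_left _ _ (hc.trans hHn)] at h1
    obtain ⟨y, hy, c, hcc, rfl⟩ := Set.mem_mul.1 h1
    have hyP : y ∈ (P : Subgroup G) := by
      have := mul_mem (hTP hx) (inv_mem (hc hcc))
      simpa using this
    exact mul_mem (mem_sup_left ⟨hy, hyP⟩) (mem_sup_right hcc)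
  have h5 : T.subgroupOf (P : Subgroup G) ≤ (H ⊓ P).subgroupOf (P : Subgroup G) := by
    apply le_of_le_sup_commutator
    have h6 : (T.subgroupOf (P : Subgroup G)).map (P : Subgroup G).subtype ≤
        ((H ⊓ P).subgroupOf (P : Subgroup G) ⊔ ⁅T.subgroupOf (P : Subgroup G), ⊤⁆).map
          (P : Subgroup G).subtype := by
      rw [Subgroup.map_sup, map_commutator, map_subgroupOf_eq_of_le hTP,
        map_subgroupOf_eq_of_le inf_le_right, ← MonoidHom.range_eq_map, subtype_range]
      exact hTR'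
    exact (map_le_map_iff_of_injective (P : Subgroup G).subtype_injective).1 h6
  intro x hx
  exact (h5 (show (⟨x, hx.1⟩ : (P : Subgroup G)) ∈ T.subgroupOf (P : Subgroup G) from hx)).1

/-- **Hyperfocal subgroup theorem**, with essential subgroups: a subgroup `H` normalized by `P` and containing
`[X, g]` for `X = P` or `X` essential in `P`, `g ∈ N_G(X)` of order prime to `p`, contains `P ∩ O^p(G)`. -/
theorem hyperfocal [Finite G] (P : Sylow p G) (H : Subgroup G)
    (hHn : (P : Subgroup G) ≤ normalizer (H : Set G))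
    (h : ∀ X : Subgroup G, (X = P ∨ Ess P X) → ∀ g ∈ normalizer (X : Set G), Nat.Coprime (orderOf g) p →
      ∀ x ∈ X, g * x * g⁻¹ * x⁻¹ ∈ H) :
    (P : Subgroup G) ⊓ Cfsg.pResidual p G ≤ H := by
  refine hyperfocal_of_gen P (fun X => X = P ∨ Ess P X)
    (fun hA _ hg => gen_of_conj_ess P _ (Or.inl rfl) (fun X hX => Or.inr hX) hA hg) ?_ H hHn
    (fun X _ hX => h X hX)
  rintro X - (rfl | hX)
  · intro hd
    exact P.not_dvd_index (hd.trans (relIndex_dvd_index_of_le le_normalizer))
  · rw [← inf_relIndex_right]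
    exact hX.full

/-- **Hyperfocal subgroup theorem**, with centric subgroups. -/
theorem hyperfocal_centric [Finite G] (P : Sylow p G) (H : Subgroup G)
    (hHn : (P : Subgroup G) ≤ normalizer (H : Set G))
    (h : ∀ X : Subgroup G, X ≤ P →
      ¬ p ∣ ((P : Subgroup G) ⊓ normalizer (X : Set G)).relIndex (normalizer (X : Set G)) →
      centralizer (X : Set G) ⊓ P ≤ X → ∀ g ∈ normalizer (X : Set G), Nat.Coprime (orderOf g) p →
      ∀ x ∈ X, g * x * g⁻¹ * x⁻¹ ∈ H) :
    (P : Subgroup G) ⊓ Cfsg.pResidual p G ≤ H := by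
  refine hyperfocal P H hHn ?_
  rintro X (rfl | hX)
  · refine h _ le_rfl ?_ inf_le_right
    rw [inf_eq_left.2 le_normalizer]
    intro hd
    exact P.not_dvd_index (hd.trans (relIndex_dvd_index_of_le le_normalizer))
  · exact h X hX.lt.le hX.full hX.centric

end Cfsg.Agent.Lib.Hyperfocal
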