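import Mathlib

/-!
# Iwasawa's simplicity criterion in subgroup form

`N` a maximal subgroup (in the form: every subgroup containing `N` properly is everything), `A ≤ N` abelian, normalised
by `N`, whose conjugates generate the perfect group `G`, and `N` contains no nontrivial normal subgroup of `G`;
then `G` is simple.
-/

set_option autoImplicit false

namespace Cfsg.Agent.Lib.IwasawaCoset

variable {G : Type*} [Group G]

/-- A normal subgroup not contained in `N` contains the commutator subgroup. -/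
theorem commutator_le (N A K : Subgroup G) (hmax : ∀ K : Subgroup G, N ≤ K → K ≠ N → K = ⊤)
    (hAN : ∀ n ∈ N, ∀ a ∈ A, n * a * n⁻¹ ∈ A) (hAc : ∀ a ∈ A, ∀ b ∈ A, a * b = b * a)
    (hgen : Subgroup.normalClosure (A : Set G) = ⊤) (hK : K.Normal) (hKN : ¬ K ≤ N) :
    commutator G ≤ K := by
  have h1 : N ⊔ K = ⊤ := by
    refine hmax _ le_sup_left fun h => hKN ?_
    rw [← h]; exact le_sup_right
  -- every element is n * k
  have h2 : ∀ g : G, ∃ n ∈ N, ∃ k ∈ K, g = n * k := by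
    intro g
    have hg : g ∈ N ⊔ K := by rw [h1]; trivial
    obtain ⟨n, hn, k, hk, rfl⟩ := Subgroup.mem_sup_of_normal_right.mp hg
    exact ⟨n, hn, k, hk, rfl⟩
  -- A ⊔ K is normal
  have h3 : (A ⊔ K).Normal := by
    constructor
    intro x hx g
    obtain ⟨a, ha, k', hk', rfl⟩ := Subgroup.mem_sup_of_normal_right.mp hx
    obtain ⟨n, hn, k, hk, rfl⟩ := h2 g
    have e : n * k * (a * k') * (n * k)⁻¹ =
        (n * a * n⁻¹) * (n * ((a⁻¹ * k * a) * k⁻¹) * n⁻¹) * ((n * k) * k' * (n * k)⁻¹) := by group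
    rw [e]
    refine mul_mem (mul_mem (Subgroup.mem_sup_left (hAN n hn a ha)) (Subgroup.mem_sup_right ?_))
      (Subgroup.mem_sup_right (hK.conj_mem _ hk' _))
    refine hK.conj_mem _ (K.mul_mem ?_ (K.inv_mem hk)) n
    have := hK.conj_mem k hk a⁻¹
    rwa [inv_inv] at this
  have h4 : A ⊔ K = ⊤ := by
    rw [eq_top_iff, ← hgen]
    exact Subgroup.normalClosure_le_normal (fun a ha => Subgroup.mem_sup_left ha)
  rw [commutator_def, Subgroup.commutator_le]
  intro x _ y _
  have hx : x ∈ A ⊔ K := by rw [h4]; trivial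
  have hy : y ∈ A ⊔ K := by rw [h4]; trivial
  obtain ⟨a, ha, k, hk, rfl⟩ := Subgroup.mem_sup_of_normal_right.mp hx
  obtain ⟨b, hb, l, hl, rfl⟩ := Subgroup.mem_sup_of_normal_right.mp hy
  rw [← QuotientGroup.eq_one_iff, commutatorElement_def]
  have ek : (k : G ⧸ K) = 1 := (QuotientGroup.eq_one_iff k).mpr hk
  have el : (l : G ⧸ K) = 1 := (QuotientGroup.eq_one_iff l).mpr hl
  have eab : (a : G ⧸ K) * (b : G ⧸ K) = (b : G ⧸ K) * (a : G ⧸ K) := by
    rw [← QuotientGroup.mk_mul, hAc a ha b hb, QuotientGroup.mk_mul]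
  simp only [QuotientGroup.mk_mul, QuotientGroup.mk_inv, ek, el, mul_one]
  rw [eab]
  group

/-- Iwasawa's criterion. -/
theorem isSimpleGroup [Nontrivial G] (N A : Subgroup G) (hmax : ∀ K : Subgroup G, N ≤ K → K ≠ N → K = ⊤)
    (hAN : ∀ n ∈ N, ∀ a ∈ A, n * a * n⁻¹ ∈ A) (hAc : ∀ a ∈ A, ∀ b ∈ A, a * b = b * a)
    (hgen : Subgroup.normalClosure (A : Set G) = ⊤) (hperf : commutator G = ⊤)
    (hcore : ∀ K : Subgroup G, K.Normal → K ≤ N → K = ⊥) : IsSimpleGroup G := by
  refine ⟨fun K hK => ?_⟩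
  by_cases hKN : K ≤ N
  · exact Or.inl (hcore K hK hKN)
  · right
    rw [eq_top_iff, ← hperf]
    exact commutator_le N A K hmax hAN hAc hgen hK hKN

end Cfsg.Agent.Lib.IwasawaCoset
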