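import Mathlib

/-!
# Packed arrays of naturals, designed for evaluation in the kernel

An array of `n` entries below `2 ^ w` is one natural number `x`; the entry `i` is `fld w x i`.
All functions are written with raw recursors and raw `Nat` functions so that `decide +kernel`
evaluates them quickly.

* `fld w x i` : entry `i`
* `ones w n` : the array with all entries `1`
* `plane w n x k` : the array of the bits `k` of the entries of `x`
* `allR`, `allLt`, `sumR` : loops by binary splitting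
-/

set_option autoImplicit false

namespace Cfsg.Agent.Lib.PackArr

open Finset

/-- field `i` (of width `w`) of the packed array `x` -/
def fld (w x i : ℕ) : ℕ := Nat.mod (Nat.shiftRight x (Nat.mul w i)) (Nat.pow 2 w)

theorem fld_def (w x i : ℕ) : fld w x i = (x >>> (w * i)) % 2 ^ w := rfl

theorem fld_eq_div (w x i : ℕ) : fld w x i = x / 2 ^ (w * i) % 2 ^ w := by
  rw [fld_def, Nat.shiftRight_eq_div_pow]

theorem fld_lt (w x i : ℕ) : fld w x i < 2 ^ w := by
  rw [fld_def]; exact Nat.mod_lt _ (Nat.two_pow_pos w)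

theorem fld_xor (w x y i : ℕ) : fld w (x ^^^ y) i = fld w x i ^^^ fld w y i := by
  simp only [fld_def, Nat.shiftRight_xor_distrib, Nat.xor_mod_two_pow]

theorem fld_and (w x y i : ℕ) : fld w (x &&& y) i = fld w x i &&& fld w y i := by
  simp only [fld_def, Nat.shiftRight_and_distrib, Nat.and_mod_two_pow]

@[simp] theorem fld_zero_left (w i : ℕ) : fld w 0 i = 0 := by
  simp [fld_def]

theorem testBit_fld (w x i k : ℕ) :
    (fld w x i).testBit k = (decide (k < w) && x.testBit (w * i + k)) := by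
  rw [fld_def, Nat.testBit_mod_two_pow, Nat.testBit_shiftRight]

theorem fld_of_lt {w n x : ℕ} (hx : x < 2 ^ (w * n)) {i : ℕ} (hi : n ≤ i) : fld w x i = 0 := by
  rw [fld_eq_div, Nat.div_eq_of_lt, Nat.zero_mod]
  exact lt_of_lt_of_le hx (Nat.pow_le_pow_right (by norm_num) (Nat.mul_le_mul_left _ hi))

/-- the packed array with entries `g i`, `i < n` -/
def pkf (w n : ℕ) (g : ℕ → ℕ) : ℕ := ∑ i ∈ range n, g i * 2 ^ (w * i)

theorem pkf_succ (w n : ℕ) (g : ℕ → ℕ) : pkf w (n + 1) g = pkf w n g + g n * 2 ^ (w * n) := by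
  rw [pkf, sum_range_succ]; rfl

theorem pkf_congr {w n : ℕ} {g h : ℕ → ℕ} (H : ∀ i < n, g i = h i) : pkf w n g = pkf w n h := by
  apply sum_congr rfl
  intro i hi
  rw [H i (mem_range.1 hi)]

theorem pkf_lt {w n : ℕ} {g : ℕ → ℕ} (hg : ∀ i < n, g i < 2 ^ w) : pkf w n g < 2 ^ (w * n) := by
  induction n with
  | zero => simp [pkf]
  | succ n ih =>
    rw [pkf_succ]
    have h1 := ih (fun i hi => hg i (by omega))
    have h2 := hg n (by omega)
    have h3 : (g n + 1) * 2 ^ (w * n) ≤ 2 ^ w * 2 ^ (w * n) := Nat.mul_le_mul_right _ h2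
    have h4 : 2 ^ (w * (n + 1)) = 2 ^ w * 2 ^ (w * n) := by rw [← pow_add]; congr 1; ring
    rw [h4]
    have : (g n + 1) * 2 ^ (w * n) = g n * 2 ^ (w * n) + 2 ^ (w * n) := by ring
    omega

theorem fld_pkf {w n : ℕ} {g : ℕ → ℕ} (hg : ∀ i < n, g i < 2 ^ w) {i : ℕ} (hi : i < n) :
    fld w (pkf w n g) i = g i := by
  induction n with
  | zero => omega
  | succ n ih =>
    rw [pkf_succ, fld_eq_div]
    have hlt : pkf w n g < 2 ^ (w * n) := pkf_lt (fun j hj => hg j (by omega))
    rcases Nat.lt_or_ge i n with h | h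
    · have e : g n * 2 ^ (w * n) = 2 ^ (w * i) * (2 ^ w * (g n * 2 ^ (w * (n - i - 1)))) := by
        have : 2 ^ (w * n) = 2 ^ (w * i) * (2 ^ w * 2 ^ (w * (n - i - 1))) := by
          rw [← pow_add, ← pow_add]
          congr 1
          have : n = i + 1 + (n - i - 1) := by omega
          conv_lhs => rw [this]
          ring
        rw [this]; ring
      rw [e, Nat.add_mul_div_left _ _ (Nat.two_pow_pos _), Nat.add_mul_mod_self_left, ← fld_eq_div]
      exact ih (fun j hj => hg j (by omega)) h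
    · have hin : i = n := by omega
      subst hin
      rw [Nat.add_mul_div_right _ _ (Nat.two_pow_pos _), Nat.div_eq_of_lt hlt, zero_add,
        Nat.mod_eq_of_lt (hg i (by omega))]

theorem eq_of_fld {w n x y : ℕ} (hw : 0 < w) (hx : x < 2 ^ (w * n)) (hy : y < 2 ^ (w * n))
    (H : ∀ i < n, fld w x i = fld w y i) : x = y := by
  apply Nat.eq_of_testBit_eq
  intro b
  have hb : b = w * (b / w) + b % w := (Nat.div_add_mod b w).symm
  have hk : b % w < w := Nat.mod_lt _ hw
  have hall : fld w x (b / w) = fld w y (b / w) := by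
    rcases Nat.lt_or_ge (b / w) n with h | h
    · exact H _ h
    · rw [fld_of_lt hx h, fld_of_lt hy h]
  have h1 := congrArg (fun z => z.testBit (b % w)) hall
  simp only [testBit_fld, hk, decide_true, Bool.true_and] at h1
  rwa [← hb] at h1

theorem pkf_fld {w n x : ℕ} (hw : 0 < w) (hx : x < 2 ^ (w * n)) : pkf w n (fld w x) = x := by
  apply eq_of_fld hw (pkf_lt fun i _ => fld_lt w x i) hx
  intro i hi
  exact fld_pkf (fun j _ => fld_lt w x j) hi

/-- the sum of the entries modulo `2 ^ w - 1` -/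
theorem mod_eq_sum {w n x : ℕ} (hw : 0 < w) (hx : x < 2 ^ (w * n)) :
    x % (2 ^ w - 1) = (∑ i ∈ range n, fld w x i) % (2 ^ w - 1) := by
  conv_lhs => rw [← pkf_fld hw hx]
  have h1 : ∀ i, 2 ^ (w * i) % (2 ^ w - 1) = 1 % (2 ^ w - 1) := by
    intro i
    have h2 : 2 ^ w ≡ 1 [MOD 2 ^ w - 1] :=
      (Nat.modEq_iff_dvd' (Nat.one_le_two_pow)).2 dvd_rfl |>.symm
    have h3 := h2.pow i
    rw [← pow_mul, one_pow] at h3
    exact h3
  have h2 : ∀ m, pkf w m (fld w x) % (2 ^ w - 1) = (∑ i ∈ range m, fld w x i) % (2 ^ w - 1) := by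
    intro m
    induction m with
    | zero => simp [pkf]
    | succ m ih =>
      rw [pkf_succ, sum_range_succ, Nat.add_mod, ih, Nat.mul_mod, h1, ← Nat.mul_mod, mul_one,
        ← Nat.add_mod]
  exact h2 n

theorem sum_fld_of_mod {w n x c : ℕ} (hw : 0 < w) (hx : x < 2 ^ (w * n))
    (hb : ∑ i ∈ range n, fld w x i < 2 ^ w - 1) (h : x % (2 ^ w - 1) = c) :
    ∑ i ∈ range n, fld w x i = c := by
  rw [mod_eq_sum hw hx, Nat.mod_eq_of_lt hb] at h
  exact h

/-- the array with all entries `1` -/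
def ones (w n : ℕ) : ℕ := Nat.div (Nat.sub (Nat.pow 2 (Nat.mul w n)) 1) (Nat.sub (Nat.pow 2 w) 1)

theorem ones_eq_pkf {w : ℕ} (hw : 0 < w) (n : ℕ) : ones w n = pkf w n (fun _ => 1) := by
  have h2 : 2 ≤ 2 ^ w := by
    calc 2 = 2 ^ 1 := rfl
      _ ≤ 2 ^ w := Nat.pow_le_pow_right (by norm_num) hw
  have := Nat.geomSum_eq h2 n
  show (2 ^ (w * n) - 1) / (2 ^ w - 1) = _
  rw [pow_mul, ← this, pkf]
  apply sum_congr rfl
  intro i _
  rw [one_mul, pow_mul]

theorem ones_lt {w : ℕ} (hw : 0 < w) (n : ℕ) : ones w n < 2 ^ (w * n) := by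
  rw [ones_eq_pkf hw]
  apply pkf_lt
  intro _ _
  exact Nat.one_lt_two_pow (by omega)

theorem fld_ones {w n : ℕ} (hw : 0 < w) {i : ℕ} (hi : i < n) : fld w (ones w n) i = 1 := by
  rw [ones_eq_pkf hw]
  exact fld_pkf (g := fun _ => 1) (fun _ _ => Nat.one_lt_two_pow (by omega)) hi

/-- the array of the bits `k` of the entries of `x` -/
def plane (w n x k : ℕ) : ℕ := Nat.land (Nat.shiftRight x k) (ones w n)

theorem plane_lt {w : ℕ} (hw : 0 < w) (n x k : ℕ) : plane w n x k < 2 ^ (w * n) :=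
  lt_of_le_of_lt Nat.and_le_right (ones_lt hw n)

theorem fld_plane {w n : ℕ} (hw : 0 < w) (x : ℕ) {k i : ℕ} (hk : k < w) (hi : i < n) :
    fld w (plane w n x k) i = ((fld w x i).testBit k).toNat := by
  have : plane w n x k = (x >>> k) &&& ones w n := rfl
  rw [this, fld_and, fld_ones hw hi]
  apply Nat.eq_of_testBit_eq
  intro b
  rw [Nat.testBit_and, testBit_fld, Nat.testBit_shiftRight, testBit_fld]
  rcases Nat.eq_zero_or_pos b with rfl | hb
  · simp only [hk, hw, decide_true, Bool.true_and, add_zero, Nat.testBit_zero]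
    rw [show k + w * i = w * i + k by ring]
    cases x.testBit (w * i + k) <;> simp
  · have h1 : Nat.testBit 1 b = false := by
      rw [Nat.testBit_one_eq_true_iff_self_eq_zero.not.2 (by omega : ¬ b = 0) |> Bool.eq_false_iff.2]
    rw [h1, Bool.and_false]
    cases (decide (k < w) && x.testBit (w * i + k))
    · simp
    · simpa using h1.symm

/-! ### Loops -/

/-- `allR k lo f`: `f i = true` for all `lo ≤ i < lo + 2 ^ k` -/
noncomputable def allR (k : ℕ) : ℕ → (ℕ → Bool) → Bool :=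
  Nat.rec (motive := fun _ => ℕ → (ℕ → Bool) → Bool) (fun lo f => f lo)
    (fun k ih lo f => Bool.rec false (ih (Nat.add lo (Nat.pow 2 k)) f) (ih lo f)) k

theorem allR_zero (lo : ℕ) (f : ℕ → Bool) : allR 0 lo f = f lo := rfl

theorem allR_succ (k lo : ℕ) (f : ℕ → Bool) :
    allR (k + 1) lo f = (allR k lo f && allR k (lo + 2 ^ k) f) := by
  change (Bool.rec (motive := fun _ => Bool) false (allR k (lo + 2 ^ k) f) (allR k lo f) : Bool) = _
  cases allR k lo f <;> rfl

theorem allR_eq_true (k : ℕ) : ∀ (lo : ℕ) (f : ℕ → Bool),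
    allR k lo f = true ↔ ∀ i, lo ≤ i → i < lo + 2 ^ k → f i = true := by
  induction k with
  | zero =>
    intro lo f
    rw [allR_zero]
    constructor
    · intro h i h1 h2
      have : i = lo := by omega
      rwa [this]
    · intro h
      exact h lo le_rfl (by omega)
  | succ k ih =>
    intro lo f
    rw [allR_succ, Bool.and_eq_true, ih, ih]
    have : 2 ^ (k + 1) = 2 ^ k + 2 ^ k := by ring
    constructor
    · rintro ⟨h1, h2⟩ i h3 h4
      rcases Nat.lt_or_ge i (lo + 2 ^ k) with h | h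
      · exact h1 i h3 h
      · exact h2 i h (by omega)
    · intro h
      exact ⟨fun i h1 h2 => h i h1 (by omega), fun i h1 h2 => h i (by omega) (by omega)⟩

/-- `allLt k n f`: `f i = true` for all `i < n` (`n ≤ 2 ^ k`) -/
noncomputable def allLt (k n : ℕ) (f : ℕ → Bool) : Bool :=
  allR k 0 (fun i => Bool.rec true (f i) (Nat.blt i n))

theorem allLt_spec {k n : ℕ} {f : ℕ → Bool} (h : allLt k n f = true) (hn : n ≤ 2 ^ k) :
    ∀ i < n, f i = true := by
  intro i hi
  have := (allR_eq_true k 0 _).1 h i (Nat.zero_le _) (by omega)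
  have hb : Nat.blt i n = true := by
    rw [Nat.blt_eq]; exact hi
  simp only [hb] at this
  exact this

/-- `sumR k lo f = ∑ f i` over `lo ≤ i < lo + 2 ^ k` -/
noncomputable def sumR (k : ℕ) : ℕ → (ℕ → ℕ) → ℕ :=
  Nat.rec (motive := fun _ => ℕ → (ℕ → ℕ) → ℕ) (fun lo f => f lo)
    (fun k ih lo f => Nat.add (ih lo f) (ih (Nat.add lo (Nat.pow 2 k)) f)) k

theorem sumR_eq (k : ℕ) : ∀ (lo : ℕ) (f : ℕ → ℕ),
    sumR k lo f = ∑ i ∈ range (2 ^ k), f (lo + i) := by
  induction k with
  | zero => intro lo f; simp [sumR]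
  | succ k ih =>
    intro lo f
    have : sumR (k + 1) lo f = sumR k lo f + sumR k (lo + 2 ^ k) f := rfl
    rw [this, ih, ih, show 2 ^ (k + 1) = 2 ^ k + 2 ^ k by ring, sum_range_add]
    simp only [add_assoc]

/-- entries of a sum of arrays -/
theorem fld_sum {w n : ℕ} (hw : 0 < w) {ι : Type*} (s : Finset ι) (X : ι → ℕ)
    (hX : ∀ c ∈ s, X c < 2 ^ (w * n)) (hb : ∀ i < n, ∑ c ∈ s, fld w (X c) i < 2 ^ w)
    {i : ℕ} (hi : i < n) : fld w (∑ c ∈ s, X c) i = ∑ c ∈ s, fld w (X c) i := by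
  have h1 : ∑ c ∈ s, X c = pkf w n (fun i => ∑ c ∈ s, fld w (X c) i) := by
    calc ∑ c ∈ s, X c = ∑ c ∈ s, pkf w n (fld w (X c)) :=
          sum_congr rfl (fun c hc => (pkf_fld hw (hX c hc)).symm)
      _ = _ := by
          simp only [pkf, sum_mul]
          exact sum_comm
  rw [h1]
  exact fld_pkf (fun i hi => hb i hi) hi

theorem fld_mul {w n : ℕ} (hw : 0 < w) {x c : ℕ} (hx : x < 2 ^ (w * n))
    (hb : ∀ i < n, fld w x i * c < 2 ^ w) {i : ℕ} (hi : i < n) :
    fld w (x * c) i = fld w x i * c := by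
  have h1 : x * c = pkf w n (fun i => fld w x i * c) := by
    conv_lhs => rw [← pkf_fld hw hx]
    simp only [pkf, sum_mul]
    apply sum_congr rfl
    intro i _
    ring
  rw [h1]
  exact fld_pkf (fun i hi => hb i hi) hi

end Cfsg.Agent.Lib.PackArr
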