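import Cfsg.Agent.Lib.PackMat

/-!
# Central elements act as scalars: kernel certificates for packed matrices modulo `p`

`exists_scalar`: for `ρ : G →* GL n p`, a word `w₀` in packed generator matrices with one-dimensional fixed space
(certificate `M₁ = w₀ - 1`, `B` with `M₁ B` = identity outside row `k`), a fixed row `V₀`, and a spinning certificate
(all translates of `V₀` span), every central element of `G` acts as a scalar.
`center_eq_bot_of_perfect`: if moreover `ρ` is injective, `G` perfect and `gcd (n, p - 1) = 1`, the centre is trivial.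
-/

set_option autoImplicit false

namespace Cfsg.Agent.Lib.PackCenter

open Cfsg.Agent.Lib.PackMat Finset

/-! ### Adding a unit row -/

theorem rowVec_add {C : Cfg} {R S : ℕ} (hR : R < 2 ^ (C.s * C.n)) (hS : S < 2 ^ (C.s * C.n))
    (h : ∀ i < C.n, dg C.s R i + dg C.s S i < 2 ^ C.s) :
    rowVec C (R + S) = rowVec C R + rowVec C S := by
  have e : R + S = E C.s (fun i => dg C.s R i + dg C.s S i) C.n := by
    rw [← E_add, E_dg hR, E_dg hS]
  funext j
  have hj := j.2
  rw [Pi.add_apply, rowVec_def, rowVec_def, rowVec_def, e, dg_E h (by omega), Nat.cast_add]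

theorem dg_unitRow {C : Cfg} {c : ℕ} (hc : c < 2 ^ C.s) {i j : ℕ} (hi : i < C.n) (hj : j < C.n) :
    dg C.s (unitRow C c i) j = if j = C.n - 1 - i then c else 0 := by
  rw [unitRow_E c i hi, dg_E _ hj]
  intro l _
  split_ifs
  · exact hc
  · exact Nat.two_pow_pos _

theorem unitRow_lt {C : Cfg} {c : ℕ} (hc : c < 2 ^ C.s) {i : ℕ} (hi : i < C.n) :
    unitRow C c i < 2 ^ (C.s * C.n) := by
  rw [unitRow_E c i hi]
  apply E_lt
  intro l _
  split_ifs
  · exact hc
  · exact Nat.two_pow_pos _

theorem rowVec_unitRow {C : Cfg} {c : ℕ} (hc : c < 2 ^ C.s) {i : ℕ} (hi : i < C.n) :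
    rowVec C (unitRow C c i) = (c : ZMod C.p) • Pi.single ⟨i, hi⟩ 1 := by
  funext j
  have hj := j.2
  rw [rowVec_def, dg_unitRow hc hi (by omega)]
  rw [Pi.smul_apply, Pi.single_apply, smul_eq_mul]
  by_cases h : (j : ℕ) = i
  · have : j = ⟨i, hi⟩ := Fin.ext h
    rw [if_pos (by omega), if_pos this, mul_one]
  · have h2 : ¬ j = ⟨i, hi⟩ := fun h' => h (congrArg Fin.val h')
    rw [if_neg (by omega), if_neg h2, mul_zero, Nat.cast_zero]

/-! ### `M₁ = w₀ - 1` -/

/-- one row of the comparison `e_i M₁ + e_i = e_i w₀`. -/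
noncomputable def subRowK (p : ℕ) (R1 R2 e : ℕ) : Bool :=
  bif Nat.beq (Nat.add R2 e) R1 then true else Nat.beq (Nat.add R2 e) (Nat.add R1 (Nat.mul p e))

noncomputable def checkSubK (s p r m t nf GM FM LO HI HT : ℕ) (w₀ : List ℕ) (M₁ : ℕ) : ℕ → ℕ → Bool
  | 0, _ => true
  | cnt + 1, R =>
      bif (force (runK p r m t nf GM FM LO HI HT w₀ R) fun R1 =>
        force (stepK p r m t nf GM FM LO HI HT R M₁) fun R2 => subRowK p R1 R2 R) then
        force (Nat.shiftRight R s) fun R' => checkSubK s p r m t nf GM FM LO HI HT w₀ M₁ cnt R'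
      else false

/-- Kernel check of `w₀ = M₁ + 1`. -/
noncomputable def checkSub (C : Cfg) (w₀ : List ℕ) (M₁ : ℕ) : Bool :=
  bif Nat.ble (Nat.add (Nat.mul 2 C.p) 1) (2 ^ C.s) then
    withC C fun s p r m t nf GM FM LO HI HT => force (unitRow C 1 0) fun R =>
      checkSubK s p r m t nf GM FM LO HI HT w₀ M₁ C.n R
  else false

theorem checkSubK_spec {C : Cfg} {w₀ : List ℕ} {M₁ : ℕ} : ∀ (cnt lo : ℕ), lo + cnt ≤ C.n →
    checkSubK C.s C.p C.r C.m C.t C.nf (GMc C) (FMc C) (LOc C) (HIc C) (HTc C) w₀ M₁ cnt (unitRow C 1 lo) = true →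
    ∀ i, lo ≤ i → i < lo + cnt → step C (unitRow C 1 i) M₁ + unitRow C 1 i = run C w₀ (unitRow C 1 i) ∨
      step C (unitRow C 1 i) M₁ + unitRow C 1 i = run C w₀ (unitRow C 1 i) + unitRow C C.p i := by
  intro cnt
  induction cnt with
  | zero => intro lo _ _ i h1 h2; omega
  | succ cnt ih =>
    intro lo hle h i h1 h2
    rw [checkSubK, force_eq, force_eq] at h
    change (bif (subRowK C.p (run C w₀ (unitRow C 1 lo)) (step C (unitRow C 1 lo) M₁) (unitRow C 1 lo)) then _
      else _) = true at h
    cases hb : subRowK C.p (run C w₀ (unitRow C 1 lo)) (step C (unitRow C 1 lo) M₁) (unitRow C 1 lo) with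
    | false => rw [hb] at h; simp at h
    | true =>
      rw [hb, cond_true, force_eq] at h
      rcases Nat.eq_or_lt_of_le h1 with rfl | h3
      · unfold subRowK at hb
        cases hb2 : Nat.beq (Nat.add (step C (unitRow C 1 lo) M₁) (unitRow C 1 lo)) (run C w₀ (unitRow C 1 lo)) with
        | true => left; exact Nat.eq_of_beq_eq_true hb2
        | false =>
          rw [hb2, cond_false] at hb
          right
          have h4 := Nat.eq_of_beq_eq_true hb
          have h5 : Nat.mul C.p (unitRow C 1 lo) = unitRow C C.p lo := by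
            change C.p * unitRow C 1 lo = _
            unfold unitRow
            rw [one_mul]
          rw [h5] at h4
          exact h4
      · rw [unitRow_shift (by omega)] at h
        exact ih (lo + 1) (by omega) h i h3 (by omega)

theorem matrix_eq_of_rows {C : Cfg} {M N : Matrix (Fin C.n) (Fin C.n) (ZMod C.p)}
    (key : ∀ i : Fin C.n, Matrix.vecMul (Pi.single i 1) M = Matrix.vecMul (Pi.single i 1) N) : M = N := by
  apply Matrix.ext_iff_vecMul.mpr
  intro v
  have hv : v = ∑ i, v i • (Pi.single i 1 : Fin C.n → ZMod C.p) := by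
    funext j
    simp [Finset.sum_apply, Pi.single_apply]
  rw [hv]
  simp only [Matrix.sum_vecMul, Matrix.smul_vecMul, key]

theorem checkSub_spec {C : Cfg} (hC : Good C) (hp : 1 < C.p) {w₀ : List ℕ} {M₁ : ℕ}
    (h1 : ∀ g ∈ w₀, okG C g = true) (h2 : okG C M₁ = true) (h : checkSub C w₀ M₁ = true) :
    mat C M₁ + 1 = (w₀.map (mat C)).prod := by
  unfold checkSub at h
  cases hb : Nat.ble (Nat.add (Nat.mul 2 C.p) 1) (2 ^ C.s) with
  | false => rw [hb] at h; simp at h
  | true =>
    rw [hb, cond_true] at h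
    have hs : 2 * C.p + 1 ≤ 2 ^ C.s := Nat.le_of_ble_eq_true hb
    have hrow := checkSubK_spec (C := C) C.n 0 (by omega) h
    apply matrix_eq_of_rows
    intro i
    obtain ⟨k1, k2⟩ := unitRow_ok hC hp i.2
    rw [Nat.cast_one, one_smul] at k2
    obtain ⟨k3, k4⟩ := run_spec hC w₀ h1 k1
    obtain ⟨k5, k6⟩ := step_spec hC k1 h2
    rw [k2] at k4 k6
    rw [Matrix.vecMul_add, Matrix.vecMul_one, ← k4, ← k6]
    have e1 : rowVec C (step C (unitRow C 1 i) M₁ + unitRow C 1 i) =
        rowVec C (step C (unitRow C 1 i) M₁) + Pi.single i 1 := by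
      rw [rowVec_add k5.1 k1.1, k2]
      intro j hj
      have := k5.2 j hj
      have := k1.2 j hj
      omega
    rw [← e1]
    rcases hrow i (Nat.zero_le _) (by omega) with h3 | h3
    · rw [h3]
    · rw [h3, rowVec_add k3.1 (unitRow_lt (by omega) i.2), rowVec_unitRow (by omega) i.2]
      · simp
      · intro j hj
        have h4 := k3.2 j hj
        rw [dg_unitRow (by omega) i.2 hj]
        split_ifs <;> omega

/-! ### One-dimensional fixed space -/

/-- If `M B` is the identity outside row `k`, vectors killed by `M` are determined by coordinate `k`. -/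
theorem kernel_line {n : ℕ} {R : Type*} [Field R] {M B : Matrix (Fin n) (Fin n) R} (k : Fin n)
    (hMB : ∀ i, i ≠ k → Matrix.vecMul (Matrix.vecMul (Pi.single i 1) M) B = Pi.single i 1)
    {u v : Fin n → R} (hu : Matrix.vecMul u M = 0) (hv : Matrix.vecMul v M = 0) (hv0 : v ≠ 0) :
    ∃ c : R, u = c • v := by
  set r := Matrix.vecMul (Matrix.vecMul (Pi.single k 1) M) B with hr
  have key : ∀ w : Fin n → R, Matrix.vecMul w M = 0 → ∀ j, j ≠ k → w j = - (w k * r j) := by
    intro w hw j hj
    have hsum : w = ∑ i, w i • (Pi.single i 1 : Fin n → R) := by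
      funext j
      simp [Finset.sum_apply, Pi.single_apply]
    have h1 : Matrix.vecMul (Matrix.vecMul w M) B = 0 := by rw [hw, Matrix.zero_vecMul]
    rw [hsum, Matrix.sum_vecMul, Matrix.sum_vecMul] at h1
    have h2 := congrFun h1 j
    rw [Finset.sum_apply, Pi.zero_apply, ← Finset.add_sum_erase _ _ (Finset.mem_univ k)] at h2
    have h3 : ∑ x ∈ Finset.univ.erase k, Matrix.vecMul (Matrix.vecMul (w x • Pi.single x 1) M) B j = w j := by
      rw [Finset.sum_eq_single_of_mem j (Finset.mem_erase.mpr ⟨hj, Finset.mem_univ _⟩)]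
      · rw [Matrix.smul_vecMul, Matrix.smul_vecMul, hMB j hj]
        simp
      · intro b hb hbj
        rw [Matrix.smul_vecMul, Matrix.smul_vecMul, hMB b (Finset.mem_erase.mp hb).1]
        simp [hbj.symm]
    rw [h3, Matrix.smul_vecMul, Matrix.smul_vecMul, ← hr, Pi.smul_apply, smul_eq_mul] at h2
    linear_combination h2
  have hvk : v k ≠ 0 := by
    intro h0
    apply hv0
    funext j
    by_cases hj : j = k
    · rw [hj, h0]; rfl
    · rw [key v hv j hj, h0]; simp
  refine ⟨u k / v k, ?_⟩
  funext j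
  rw [Pi.smul_apply, smul_eq_mul]
  by_cases hj : j = k
  · rw [hj]; field_simp
  · rw [key u hu j hj, key v hv j hj]; field_simp

/-! ### Spinning -/

/-- `i`-th entry of a list of numbers, structural. -/
def get (L : List ℕ) (i : ℕ) : ℕ :=
  List.rec (motive := fun _ => ℕ → ℕ) (fun _ => 0)
    (fun a _ ih i => Nat.rec a (fun j _ => ih j) i) L i

theorem get_cons_zero (a : ℕ) (L : List ℕ) : get (a :: L) 0 = a := rfl
theorem get_cons_succ (a : ℕ) (L : List ℕ) (i : ℕ) : get (a :: L) (i + 1) = get L i := rfl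

theorem get_mem {L : List ℕ} : ∀ i < L.length, get L i ∈ L := by
  induction L with
  | nil => intro i hi; exact absurd hi (by simp)
  | cons a L ih =>
    intro i hi
    rcases i with _ | i
    · rw [get_cons_zero]; simp
    · rw [get_cons_succ]; exact List.mem_cons_of_mem _ (ih i (by simpa using hi))

noncomputable def spin (f : ℕ → ℕ → ℕ) (L : List ℕ) (st : List (ℕ × ℕ)) : List ℕ → List ℕ :=
  List.rec (motive := fun _ => List ℕ → List ℕ) (fun vs => vs)
    (fun p _ ih vs => ih (f (get vs p.1) (get L p.2) :: vs)) st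

theorem spin_nil (f : ℕ → ℕ → ℕ) (L : List ℕ) (vs : List ℕ) : spin f L [] vs = vs := rfl
theorem spin_cons (f : ℕ → ℕ → ℕ) (L : List ℕ) (p : ℕ × ℕ) (st : List (ℕ × ℕ)) (vs : List ℕ) :
    spin f L (p :: st) vs = spin f L st (f (get vs p.1) (get L p.2) :: vs) := rfl

noncomputable def spinK (f : ℕ → ℕ → ℕ) (L : List ℕ) (st : List (ℕ × ℕ)) (vs : List ℕ) (k : List ℕ → Bool) : Bool :=
  List.rec (motive := fun _ => List ℕ → Bool) k
    (fun p _ ih vs => force (f (get vs p.1) (get L p.2)) fun v => ih (v :: vs)) st vs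

theorem spinK_eq (f : ℕ → ℕ → ℕ) (L : List ℕ) (st : List (ℕ × ℕ)) (vs : List ℕ) (k : List ℕ → Bool) :
    spinK f L st vs k = k (spin f L st vs) := by
  induction st generalizing vs with
  | nil => rfl
  | cons p st ih =>
    have e1 : spinK f L (p :: st) vs k =
        force (f (get vs p.1) (get L p.2)) (fun v => spinK f L st (v :: vs) k) := rfl
    rw [e1, force_eq, ih, spin_cons]

/-- indices are in range -/
def stepsOk (m l : ℕ) (st : List (ℕ × ℕ)) : Bool :=
  List.rec (motive := fun _ => ℕ → Bool) (fun _ => true)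
    (fun p _ ih l => cond (Nat.blt p.1 l) (cond (Nat.blt p.2 m) (ih (Nat.succ l)) false) false) st l

/-- `T` maps the `j`-th vector of the list to the `j`-th unit row (the first one is `R`). -/
noncomputable def rowsK (s : ℕ) (f : ℕ → ℕ → ℕ) (T : ℕ) (vs : List ℕ) : ℕ → Bool :=
  List.rec (motive := fun _ => ℕ → Bool) (fun _ => true)
    (fun v _ ih R => bif Nat.beq (f v T) R then force (Nat.shiftRight R s) fun R' => ih R' else false) vs

/-- The complete spanning check. -/
noncomputable def spanCheck (C : Cfg) (V₀ T : ℕ) (L : List ℕ) (st : List (ℕ × ℕ)) : Bool :=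
  bif stepsOk L.length 1 st then
    bif Nat.beq (Nat.succ st.length) C.n then
      withC C fun s p r m t nf GM FM LO HI HT =>
        spinK (stepK p r m t nf GM FM LO HI HT) L st [V₀] fun vs =>
          force (unitRow C 1 0) fun R => rowsK s (stepK p r m t nf GM FM LO HI HT) T vs R
    else false
  else false

theorem spin_length (f : ℕ → ℕ → ℕ) (L : List ℕ) (st : List (ℕ × ℕ)) (vs : List ℕ) :
    (spin f L st vs).length = st.length + vs.length := by
  induction st generalizing vs with
  | nil => simp [spin_nil]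
  | cons p st ih => rw [spin_cons, ih]; simp; omega

theorem rowsK_spec {C : Cfg} {T : ℕ} (vs : List ℕ) : ∀ (lo : ℕ), lo + vs.length ≤ C.n →
    rowsK C.s (step C) T vs (unitRow C 1 lo) = true →
    ∀ j (hj : j < vs.length), step C vs[j] T = unitRow C 1 (lo + j) := by
  induction vs with
  | nil => intro lo _ _ j hj; exact absurd hj (by simp)
  | cons v vs ih =>
    intro lo hlo h j hj
    have e : rowsK C.s (step C) T (v :: vs) (unitRow C 1 lo) =
      (bif Nat.beq (step C v T) (unitRow C 1 lo) then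
        force (Nat.shiftRight (unitRow C 1 lo) C.s) fun R' => rowsK C.s (step C) T vs R' else false) := rfl
    rw [e] at h
    cases hb : Nat.beq (step C v T) (unitRow C 1 lo) with
    | false => rw [hb] at h; simp at h
    | true =>
      rw [hb, cond_true, force_eq] at h
      rcases j with _ | j
      · simpa using Nat.eq_of_beq_eq_true hb
      · have hlen : vs.length ≠ 0 := by simp at hj; omega
        simp only [List.length_cons] at hlo hj
        rw [unitRow_shift (by omega)] at h
        have h1 := ih (lo + 1) (by omega) h j (by omega)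
        simp only [List.getElem_cons_succ]
        rw [h1]
        congr 1
        omega

section group

variable {G : Type*} [Group G] {C : Cfg}

/-- Packed rows which are translates of the row `V₀`. -/
def Trans (ρ : G →* GL (Fin C.n) (ZMod C.p)) (V₀ R : ℕ) : Prop :=
  OkR C R ∧ ∃ h : G, rowVec C R = Matrix.vecMul (rowVec C V₀) (ρ h).val

theorem spin_trans (hC : Good C) {ρ : G →* GL (Fin C.n) (ZMod C.p)} {V₀ : ℕ} {L : List ℕ}
    (hL : ∀ A ∈ L, okG C A = true ∧ ∃ g : G, (ρ g).val = mat C A)
    (st : List (ℕ × ℕ)) (vs : List ℕ) (hvs : ∀ R ∈ vs, Trans ρ V₀ R)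
    (hst : stepsOk L.length vs.length st = true) : ∀ R ∈ spin (step C) L st vs, Trans ρ V₀ R := by
  induction st generalizing vs with
  | nil => exact hvs
  | cons q st ih =>
    have e3 : stepsOk L.length vs.length (q :: st) =
      cond (Nat.blt q.1 vs.length) (cond (Nat.blt q.2 L.length)
        (stepsOk L.length (Nat.succ vs.length) st) false) false := rfl
    rw [e3] at hst
    cases hb : Nat.blt q.1 vs.length with
    | false => rw [hb] at hst; exact absurd hst Bool.false_ne_true
    | true =>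
      rw [hb] at hst
      cases hb2 : Nat.blt q.2 L.length with
      | false => rw [hb2] at hst; exact absurd hst Bool.false_ne_true
      | true =>
        rw [hb2] at hst
        have hp1 : q.1 < vs.length := by simpa using hb
        have hp2 : q.2 < L.length := by simpa using hb2
        rw [spin_cons]
        apply ih
        · intro R hR
          rcases List.mem_cons.mp hR with rfl | hR
          · obtain ⟨h1, h, hh⟩ := hvs _ (get_mem q.1 hp1)
            obtain ⟨h2, g, hg⟩ := hL _ (get_mem q.2 hp2)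
            obtain ⟨h3, h4⟩ := step_spec hC h1 h2
            refine ⟨h3, h * g, ?_⟩
            rw [h4, hh, ← hg, map_mul, Units.val_mul, Matrix.vecMul_vecMul]
          · exact hvs R hR
        · exact hst

theorem spanCheck_sound (hC : Good C) (hp : 1 < C.p) {ρ : G →* GL (Fin C.n) (ZMod C.p)} {V₀ T : ℕ} {L : List ℕ}
    (hL : ∀ A ∈ L, okG C A = true ∧ ∃ g : G, (ρ g).val = mat C A) (hT : okG C T = true)
    (hV : OkR C V₀) {st : List (ℕ × ℕ)} (hc : spanCheck C V₀ T L st = true)
    (M : Matrix (Fin C.n) (Fin C.n) (ZMod C.p)) (c : ZMod C.p)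
    (hM : ∀ h : G, Matrix.vecMul (Matrix.vecMul (rowVec C V₀) (ρ h).val) M =
      c • Matrix.vecMul (rowVec C V₀) (ρ h).val) : M = c • (1 : Matrix (Fin C.n) (Fin C.n) (ZMod C.p)) := by
  unfold spanCheck at hc
  cases hb : stepsOk L.length 1 st with
  | false => rw [hb] at hc; exact absurd hc Bool.false_ne_true
  | true =>
  rw [hb, cond_true] at hc
  cases hb2 : Nat.beq (Nat.succ st.length) C.n with
  | false => rw [hb2] at hc; exact absurd hc Bool.false_ne_true
  | true =>
  rw [hb2, cond_true] at hc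
  have hlen : st.length + 1 = C.n := Nat.eq_of_beq_eq_true hb2
  change spinK (step C) L st [V₀] (fun vs => force (unitRow C 1 0) fun R => rowsK C.s (step C) T vs R) = true at hc
  rw [spinK_eq] at hc
  change rowsK C.s (step C) T (spin (step C) L st [V₀]) (unitRow C 1 0) = true at hc
  have htr : ∀ R ∈ spin (step C) L st [V₀], Trans ρ V₀ R := by
    apply spin_trans hC hL st [V₀]
    · intro R hR
      rw [List.mem_singleton] at hR
      subst hR
      refine ⟨hV, 1, ?_⟩
      rw [map_one, Units.val_one, Matrix.vecMul_one]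
    · exact hb
  set vs := spin (step C) L st [V₀] with hvs
  have hlen2 : vs.length = C.n := by rw [hvs, spin_length]; simpa using hlen
  have hrows := rowsK_spec (C := C) vs 0 (by omega) hc
  let S : Matrix (Fin C.n) (Fin C.n) (ZMod C.p) := fun i => rowVec C (vs[(i : ℕ)]'(by rw [hlen2]; exact i.2))
  have hSrow : ∀ i : Fin C.n, Matrix.vecMul (Pi.single i 1) S =
      rowVec C (vs[(i : ℕ)]'(by rw [hlen2]; exact i.2)) := by
    intro i
    rw [Matrix.single_one_vecMul]
    rfl
  have hST : S * mat C T = 1 := by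
    apply matrix_eq_of_rows
    intro i
    rw [← Matrix.vecMul_vecMul, hSrow, Matrix.vecMul_one]
    have hi : (i : ℕ) < vs.length := by rw [hlen2]; exact i.2
    obtain ⟨h1, _⟩ := htr _ (List.getElem_mem hi)
    obtain ⟨_, h4⟩ := step_spec hC h1 hT
    rw [← h4, hrows i hi, Nat.zero_add]
    obtain ⟨_, k2⟩ := unitRow_ok hC hp i.2
    rw [k2, Nat.cast_one, one_smul]
  have hTS : mat C T * S = 1 := mul_eq_one_comm.mp hST
  have hSM : S * M = c • S := by
    apply matrix_eq_of_rows
    intro i
    have hi : (i : ℕ) < vs.length := by rw [hlen2]; exact i.2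
    obtain ⟨_, h, hh⟩ := htr _ (List.getElem_mem hi)
    rw [← Matrix.vecMul_vecMul, Matrix.vecMul_smul, hSrow, hh]
    exact hM h
  calc M = 1 * M := (one_mul M).symm
    _ = mat C T * (S * M) := by rw [← mul_assoc, hTS]
    _ = c • 1 := by rw [hSM, mul_smul_comm, hTS]

/-- kernel check of a row: digits are reduced -/
noncomputable def okRow (C : Cfg) (R : ℕ) : Bool :=
  bif Nat.blt R (2 ^ (C.s * C.n)) then allBelow (fun i => Nat.blt (Nat.mod (Nat.shiftRight R (C.s * i)) (2 ^ C.s)) C.p) C.n
  else false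

theorem okRow_spec {R : ℕ} (h : okRow C R = true) : OkR C R := by
  unfold okRow at h
  cases hb : Nat.blt R (2 ^ (C.s * C.n)) with
  | false => rw [hb] at h; exact absurd h Bool.false_ne_true
  | true =>
    rw [hb, cond_true] at h
    refine ⟨by simpa using hb, fun i hi => ?_⟩
    have h1 := allBelow_spec h i hi
    have h2 : dg C.s R i = Nat.mod (Nat.shiftRight R (C.s * i)) (2 ^ C.s) := by
      rw [dg_def]
      show R / 2 ^ (C.s * i) % 2 ^ C.s = (R >>> (C.s * i)) % 2 ^ C.s
      rw [Nat.shiftRight_eq_div_pow]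
    rw [h2]
    simpa using h1

/-- **Central elements are scalars.** -/
theorem exists_scalar (hgood : C.good = true) [Fact C.p.Prime]
    (ρ : G →* GL (Fin C.n) (ZMod C.p))
    {L : List ℕ} (hL : ∀ A ∈ L, okG C A = true ∧ ∃ g : G, (ρ g).val = mat C A)
    {w₀ : List ℕ} (hw₀ : ∀ A ∈ w₀, A ∈ L) {M₁ B T V₀ k : ℕ}
    (hM₁ : okG C M₁ = true) (hB : okG C B = true) (hT : okG C T = true)
    (hV : okRow C V₀ = true) (hV0 : Nat.beq V₀ 0 = false)
    (hk : k < C.n) (hsub : checkSub C w₀ M₁ = true)
    (hB1 : checkScalar C [M₁, B] 1 0 k = true)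
    (hB2 : checkScalar C [M₁, B] 1 (k + 1) (C.n - (k + 1)) = true)
    (hfix : Nat.beq (step C V₀ M₁) 0 = true)
    {st : List (ℕ × ℕ)} (hspan : spanCheck C V₀ T L st = true)
    {z : G} (hz : z ∈ Subgroup.center G) :
    ∃ c : ZMod C.p, (ρ z).val = c • (1 : Matrix (Fin C.n) (Fin C.n) (ZMod C.p)) := by
  have hC := good_of_check hgood
  have hp : 1 < C.p := (Fact.out : C.p.Prime).one_lt
  have hVok := okRow_spec hV
  have hV0' : rowVec C V₀ ≠ 0 := by
    intro h0
    have h1 : OkR C 0 := ⟨Nat.two_pow_pos _, fun i _ => by rw [dg_def]; simpa using hC.hp⟩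
    have h2 : rowVec C 0 = 0 := by
      funext j; rw [rowVec_def, dg_def]; simp
    have h3 := rowVec_injOn hVok h1 (h0.trans h2.symm)
    rw [h3] at hV0
    exact absurd hV0 (by decide)
  have hw₀ok : ∀ g ∈ w₀, okG C g = true := fun g hg => (hL g (hw₀ g hg)).1
  have hsub' := checkSub_spec hC hp hw₀ok hM₁ hsub
  -- the group element of the word
  obtain ⟨g₀, hg₀⟩ : ∃ g₀ : G, (ρ g₀).val = (w₀.map (mat C)).prod := by
    clear hsub hsub' hw₀ok
    induction w₀ with
    | nil => exact ⟨1, by rw [map_one]; rfl⟩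
    | cons A w ih =>
      obtain ⟨g, hg⟩ := ih (fun A hA => hw₀ A (List.mem_cons_of_mem _ hA))
      obtain ⟨_, a, ha⟩ := hL A (hw₀ A List.mem_cons_self)
      exact ⟨a * g, by rw [map_mul, Units.val_mul, ha, hg, List.map_cons, List.prod_cons]⟩
  have hstep : ∀ u : Fin C.n → ZMod C.p, Matrix.vecMul u (ρ g₀).val = u ↔ Matrix.vecMul u (mat C M₁) = 0 := by
    intro u
    rw [hg₀, ← hsub', Matrix.vecMul_add, Matrix.vecMul_one]
    constructor
    · intro h; simpa using h
    · intro h; rw [h, zero_add]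
  have hMB : ∀ i : Fin C.n, i ≠ ⟨k, hk⟩ →
      Matrix.vecMul (Matrix.vecMul (Pi.single i 1) (mat C M₁)) (mat C B) = Pi.single i 1 := by
    intro i hi
    have hik : (i : ℕ) ≠ k := fun h => hi (Fin.ext h)
    have hr : run C [M₁, B] (unitRow C 1 i) = unitRow C 1 i := by
      rcases Nat.lt_or_gt_of_ne hik with h | h
      · exact checkScalar_spec hB1 i (Nat.zero_le _) (by omega)
      · exact checkScalar_spec hB2 i (by omega) (by have := i.2; omega)
    obtain ⟨k1, k2⟩ := unitRow_ok hC hp i.2
    rw [Nat.cast_one, one_smul] at k2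
    obtain ⟨_, k4⟩ := run_spec hC [M₁, B] (by
      intro g hg
      simp only [List.mem_cons, List.not_mem_nil, or_false] at hg
      rcases hg with rfl | rfl
      · exact hM₁
      · exact hB) k1
    rw [hr, k2] at k4
    rw [Matrix.vecMul_vecMul]
    simpa using k4.symm
  have hfix' : Matrix.vecMul (rowVec C V₀) (mat C M₁) = 0 := by
    obtain ⟨_, h4⟩ := step_spec hC hVok hM₁
    rw [← h4, Nat.eq_of_beq_eq_true hfix]
    funext j; rw [rowVec_def, dg_def]; simp
  have hgz : ∀ g, g * z = z * g := Subgroup.mem_center_iff.mp hz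
  have h1 : Matrix.vecMul (Matrix.vecMul (rowVec C V₀) (ρ z).val) (mat C M₁) = 0 := by
    rw [← hstep, Matrix.vecMul_vecMul, ← Units.val_mul, ← map_mul, ← hgz g₀, map_mul, Units.val_mul,
      ← Matrix.vecMul_vecMul, (hstep _).mpr hfix']
  obtain ⟨c, hc⟩ := kernel_line (⟨k, hk⟩ : Fin C.n) hMB h1 hfix' hV0'
  refine ⟨c, spanCheck_sound hC hp hL hT hVok hspan _ c ?_⟩
  intro h
  rw [Matrix.vecMul_vecMul, ← Units.val_mul, ← map_mul, hgz h, map_mul, Units.val_mul, ← Matrix.vecMul_vecMul, hc,
    Matrix.smul_vecMul]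

/-- Trivial centre of a perfect group with a faithful representation in which central elements are scalars. -/
theorem center_eq_bot_of_perfect {n p : ℕ} [Fact p.Prime] (ρ : G →* GL (Fin n) (ZMod p))
    (hinj : Function.Injective ρ) (hperf : commutator G = ⊤) (hn : n ≠ 0) (hcop : Nat.Coprime n (p - 1))
    (h : ∀ z ∈ Subgroup.center G, ∃ c : ZMod p, (ρ z).val = c • (1 : Matrix (Fin n) (Fin n) (ZMod p))) :
    Subgroup.center G = ⊥ := by
  rw [eq_bot_iff]
  intro z hz
  rw [Subgroup.mem_bot]
  obtain ⟨c, hc⟩ := h z hz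
  have hdet : Matrix.det (ρ z).val = 1 := by
    let f : G →* (ZMod p)ˣ := Matrix.GeneralLinearGroup.det.comp ρ
    have h1 : commutator G ≤ f.ker := Abelianization.commutator_subset_ker f
    have h2 : z ∈ f.ker := h1 (by rw [hperf]; exact Subgroup.mem_top z)
    have h3 : f z = 1 := h2
    have h4 := congrArg Units.val h3
    simpa [f] using h4
  rw [hc, Matrix.det_smul, Matrix.det_one, mul_one, Fintype.card_fin] at hdet
  have hc0 : c ≠ 0 := by
    rintro rfl
    rw [zero_pow hn] at hdet
    exact zero_ne_one hdet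
  have h1 : c ^ (p - 1) = 1 := ZMod.pow_card_sub_one_eq_one hc0
  have h2 : orderOf c ∣ Nat.gcd n (p - 1) :=
    Nat.dvd_gcd (orderOf_dvd_of_pow_eq_one hdet) (orderOf_dvd_of_pow_eq_one h1)
  rw [Nat.Coprime.gcd_eq_one hcop, Nat.dvd_one, orderOf_eq_one_iff] at h2
  apply hinj
  rw [map_one]
  apply Units.ext
  rw [hc, h2, one_smul, Units.val_one]

end group

end Cfsg.Agent.Lib.PackCenter
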