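import Cfsg.Agent.Lib.PackArr

/-!
# Linear algebra over the field with two elements on naturals, kernel-fast

Vectors of `F₂^m` are naturals below `2 ^ m` (addition = xor).
* `bit v k` : coordinate `k`
* `dot m v w` : the standard bilinear form, with value `0` or `1`
* `mv w m M v` : the linear map whose columns are the fields (width `w`) of `M`, applied to `v`
* `rowF w n m X v` : the packed array with entries `dot m v (fld w X i)`
* `mulF w n m X M` : the packed array with entries `mv w m M (fld w X i)`
-/

set_option autoImplicit false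

namespace Cfsg.Agent.Lib.PackF2

open Cfsg.Agent.Lib.PackArr

/-- coordinate `k` of `v` -/
def bit (v k : ℕ) : ℕ := Nat.mod (Nat.shiftRight v k) 2

theorem bit_eq (v k : ℕ) : bit v k = (v.testBit k).toNat := by
  show (v >>> k) % 2 = _
  rw [Nat.testBit_eq_decide_div_mod_eq, Nat.shiftRight_eq_div_pow]
  rcases Nat.mod_two_eq_zero_or_one (v / 2 ^ k) with h | h <;> simp [h]

theorem bit_lt (v k : ℕ) : bit v k < 2 := Nat.mod_lt _ (by norm_num)

theorem bit_zero_or_one (v k : ℕ) : bit v k = 0 ∨ bit v k = 1 := by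
  have := bit_lt v k; omega

theorem toNat_xor (a b : Bool) : (a ^^ b).toNat = a.toNat ^^^ b.toNat := by
  cases a <;> cases b <;> rfl

theorem toNat_and (a b : Bool) : (a && b).toNat = a.toNat &&& b.toNat := by
  cases a <;> cases b <;> rfl

theorem bit_xor (v w k : ℕ) : bit (v ^^^ w) k = bit v k ^^^ bit w k := by
  simp only [bit_eq, Nat.testBit_xor, toNat_xor]

@[simp] theorem bit_zero_left (k : ℕ) : bit 0 k = 0 := by simp [bit_eq]

theorem bit_two_pow (j k : ℕ) : bit (2 ^ j) k = if j = k then 1 else 0 := by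
  rw [bit_eq, Nat.testBit_two_pow]
  split_ifs with h <;> simp [h]

theorem eq_of_bit {m v w : ℕ} (hv : v < 2 ^ m) (hw : w < 2 ^ m) (h : ∀ k < m, bit v k = bit w k) :
    v = w := by
  apply Nat.eq_of_testBit_eq
  intro k
  rcases Nat.lt_or_ge k m with hk | hk
  · have := h k hk
    rw [bit_eq, bit_eq] at this
    cases h1 : v.testBit k <;> cases h2 : w.testBit k <;> simp_all
  · rw [Nat.testBit_lt_two_pow (lt_of_lt_of_le hv (Nat.pow_le_pow_right (by norm_num) hk)),
      Nat.testBit_lt_two_pow (lt_of_lt_of_le hw (Nat.pow_le_pow_right (by norm_num) hk))]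

/-- induction along the basis -/
theorem xor_ind {P : ℕ → Prop} (m : ℕ) (h0 : P 0) (h1 : ∀ k < m, P (2 ^ k))
    (h2 : ∀ a b, P a → P b → P (a ^^^ b)) : ∀ v < 2 ^ m, P v := by
  induction m with
  | zero => intro v hv; have : v = 0 := by simpa using hv
            rwa [this]
  | succ m ih =>
    intro v hv
    have ih' := ih (fun k hk => h1 k (by omega))
    rcases Nat.lt_or_ge v (2 ^ m) with h | h
    · exact ih' v h
    · have e : v = 2 ^ m ^^^ (v ^^^ 2 ^ m) := by
        rw [Nat.xor_comm v, ← Nat.xor_assoc, Nat.xor_self, Nat.zero_xor]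
      rw [e]
      apply h2 _ _ (h1 m (by omega))
      apply ih'
      apply Nat.lt_pow_two_of_testBit
      intro i hi
      rw [Nat.testBit_xor, Nat.testBit_two_pow]
      rcases Nat.eq_or_lt_of_le hi with rfl | hi'
      · have : v.testBit m = true := by
          rw [Nat.testBit_eq_decide_div_mod_eq]
          have h3 : v / 2 ^ m = 1 := by
            apply Nat.div_eq_of_lt_le
            · simpa using h
            · have : 2 ^ (m + 1) = 2 * 2 ^ m := by ring
              omega
          simp [h3]
        simp [this]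
      · have : v.testBit i = false := Nat.testBit_lt_two_pow
          (lt_of_lt_of_le hv (Nat.pow_le_pow_right (by norm_num) hi'))
        simp [this, (Nat.ne_of_lt hi')]

/-! ### The bilinear form -/

/-- the standard bilinear form on `F₂^m` -/
noncomputable def dot (m v w : ℕ) : ℕ :=
  Nat.rec (motive := fun _ => ℕ) 0 (fun k ih => Nat.xor ih (Nat.land (bit v k) (bit w k))) m

theorem dot_succ (m v w : ℕ) : dot (m + 1) v w = dot m v w ^^^ (bit v m &&& bit w m) := rfl

theorem dot_zero_dim (v w : ℕ) : dot 0 v w = 0 := rfl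

theorem dot_xor_right (m v w w' : ℕ) : dot m v (w ^^^ w') = dot m v w ^^^ dot m v w' := by
  induction m with
  | zero => simp only [dot_zero_dim, Nat.xor_self]
  | succ m ih =>
    rw [dot_succ, dot_succ, dot_succ, ih, bit_xor, Nat.and_xor_distrib_left]
    ac_rfl

theorem dot_comm (m v w : ℕ) : dot m v w = dot m w v := by
  induction m with
  | zero => rfl
  | succ m ih => rw [dot_succ, dot_succ, ih, Nat.and_comm]

theorem dot_xor_left (m v v' w : ℕ) : dot m (v ^^^ v') w = dot m v w ^^^ dot m v' w := by
  rw [dot_comm, dot_xor_right, dot_comm m w v, dot_comm m w v']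

theorem dot_zero_left (m w : ℕ) : dot m 0 w = 0 := by
  induction m with
  | zero => rfl
  | succ m ih => rw [dot_succ, ih, bit_zero_left, Nat.zero_and, Nat.xor_zero]

theorem dot_zero_right (m w : ℕ) : dot m w 0 = 0 := by rw [dot_comm, dot_zero_left]

theorem dot_lt_two (m v w : ℕ) : dot m v w < 2 := by
  induction m with
  | zero => exact Nat.zero_lt_two
  | succ m ih =>
    rw [dot_succ]
    have h1 : bit v m &&& bit w m < 2 ^ 1 := Nat.and_lt_two_pow _ (bit_lt w m)
    exact Nat.xor_lt_two_pow (n := 1) ih h1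

theorem dot_two_pow (m : ℕ) {k : ℕ} (hk : k < m) (v : ℕ) : dot m (2 ^ k) v = bit v k := by
  induction m with
  | zero => omega
  | succ m ih =>
    rw [dot_succ, bit_two_pow]
    rcases Nat.lt_or_ge k m with h | h
    · rw [ih h, if_neg (by omega), Nat.zero_and, Nat.xor_zero]
    · have : k = m := by omega
      subst this
      have h0 : ∀ l ≤ k, dot l (2 ^ k) v = 0 := by
        intro l
        induction l with
        | zero => intro _; rfl
        | succ l ihl =>
          intro hl
          rw [dot_succ, ihl (by omega), bit_two_pow, if_neg (by omega), Nat.zero_and, Nat.xor_zero]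
      rw [h0 k le_rfl, if_pos rfl, Nat.zero_xor]
      rcases bit_zero_or_one v k with h | h <;> rw [h] <;> rfl

/-! ### Linear maps -/

/-- the linear map with columns the fields of `M` -/
noncomputable def mv (w m M v : ℕ) : ℕ :=
  Nat.rec (motive := fun _ => ℕ) 0 (fun k ih => Nat.xor ih (Nat.mul (bit v k) (fld w M k))) m

theorem mv_succ (w m M v : ℕ) : mv w (m + 1) M v = mv w m M v ^^^ (bit v m * fld w M m) := rfl

theorem mv_zero_dim (w M v : ℕ) : mv w 0 M v = 0 := rfl

theorem mv_xor (w m M v v' : ℕ) : mv w m M (v ^^^ v') = mv w m M v ^^^ mv w m M v' := by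
  induction m with
  | zero => simp only [mv_zero_dim, Nat.xor_self]
  | succ m ih =>
    rw [mv_succ, mv_succ, mv_succ, ih, bit_xor]
    have : (bit v m ^^^ bit v' m) * fld w M m =
        (bit v m * fld w M m) ^^^ (bit v' m * fld w M m) := by
      rcases bit_zero_or_one v m with h | h <;> rcases bit_zero_or_one v' m with h' | h' <;>
        rw [h, h'] <;> simp
    rw [this]
    ac_rfl

theorem mv_zero (w m M : ℕ) : mv w m M 0 = 0 := by
  induction m with
  | zero => rfl
  | succ m ih => rw [mv_succ, ih, bit_zero_left, Nat.zero_mul, Nat.xor_zero]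

theorem mv_two_pow (w m M : ℕ) {k : ℕ} (hk : k < m) : mv w m M (2 ^ k) = fld w M k := by
  induction m with
  | zero => omega
  | succ m ih =>
    rw [mv_succ, bit_two_pow]
    rcases Nat.lt_or_ge k m with h | h
    · rw [ih h, if_neg (by omega), Nat.zero_mul, Nat.xor_zero]
    · have : k = m := by omega
      subst this
      have h0 : ∀ l ≤ k, mv w l M (2 ^ k) = 0 := by
        intro l
        induction l with
        | zero => intro _; rfl
        | succ l ihl =>
          intro hl
          rw [mv_succ, ihl (by omega), bit_two_pow, if_neg (by omega), Nat.zero_mul, Nat.xor_zero]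
      rw [h0 k le_rfl, if_pos rfl, Nat.zero_xor, one_mul]

theorem mv_lt (w m M v : ℕ) : mv w m M v < 2 ^ w := by
  induction m with
  | zero => exact Nat.two_pow_pos w
  | succ m ih =>
    rw [mv_succ]
    apply Nat.xor_lt_two_pow ih
    rcases bit_zero_or_one v m with h | h <;> rw [h]
    · simp
    · rw [one_mul]; exact fld_lt _ _ _

/-- two biadditive functions which agree on the basis agree -/
theorem bilin_ext {f g : ℕ → ℕ → ℕ} (m : ℕ)
    (f0l : ∀ b, f 0 b = 0) (f0r : ∀ a, f a 0 = 0) (g0l : ∀ b, g 0 b = 0) (g0r : ∀ a, g a 0 = 0)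
    (fl : ∀ a a' b, f (a ^^^ a') b = f a b ^^^ f a' b)
    (fr : ∀ a b b', f a (b ^^^ b') = f a b ^^^ f a b')
    (gl : ∀ a a' b, g (a ^^^ a') b = g a b ^^^ g a' b)
    (gr : ∀ a b b', g a (b ^^^ b') = g a b ^^^ g a b')
    (h : ∀ i < m, ∀ j < m, f (2 ^ i) (2 ^ j) = g (2 ^ i) (2 ^ j)) :
    ∀ a < 2 ^ m, ∀ b < 2 ^ m, f a b = g a b := by
  apply xor_ind (P := fun a => ∀ b < 2 ^ m, f a b = g a b) m
  · intro b _; rw [f0l, g0l]
  · intro i hi
    apply xor_ind (P := fun b => f (2 ^ i) b = g (2 ^ i) b) m
    · rw [f0r, g0r]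
    · intro j hj; exact h i hi j hj
    · intro a b ha hb; rw [fr, gr, ha, hb]
  · intro a a' ha ha' b hb
    rw [fl, gl, ha b hb, ha' b hb]

/-! ### Arrays of values -/

/-- the array with entries `dot m v (fld w X i)` -/
noncomputable def rowF (w n m X v : ℕ) : ℕ :=
  Nat.rec (motive := fun _ => ℕ) 0
    (fun k ih => Nat.rec (motive := fun _ => ℕ) ih (fun _ _ => Nat.xor ih (plane w n X k)) (bit v k)) m

theorem rowF_succ (w n m X v : ℕ) :
    rowF w n (m + 1) X v = if bit v m = 0 then rowF w n m X v else rowF w n m X v ^^^ plane w n X m := by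
  change (Nat.rec (motive := fun _ => ℕ) (rowF w n m X v)
    (fun _ _ => Nat.xor (rowF w n m X v) (plane w n X m)) (bit v m) : ℕ) = _
  rcases bit_zero_or_one v m with h | h <;> rw [h] <;> rfl

theorem rowF_lt {w : ℕ} (hw : 0 < w) (n m X v : ℕ) : rowF w n m X v < 2 ^ (w * n) := by
  induction m with
  | zero => exact Nat.two_pow_pos _
  | succ m ih =>
    rw [rowF_succ]
    split_ifs
    · exact ih
    · exact Nat.xor_lt_two_pow ih (plane_lt hw n X m)

theorem fld_rowF {w n m : ℕ} (hw : 0 < w) (X v : ℕ) (hm : m ≤ w) {i : ℕ} (hi : i < n) :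
    fld w (rowF w n m X v) i = dot m v (fld w X i) := by
  induction m with
  | zero =>
    show fld w 0 i = 0
    exact fld_zero_left w i
  | succ m ih =>
    rw [rowF_succ, dot_succ]
    rcases bit_zero_or_one v m with h | h
    · rw [if_pos h, h, Nat.zero_and, Nat.xor_zero, ih (by omega)]
    · rw [if_neg (by omega), fld_xor, ih (by omega), fld_plane hw X (by omega) hi, h, ← bit_eq]
      rcases bit_zero_or_one (fld w X i) m with h' | h' <;> rw [h'] <;> rfl

/-- the array with entries `mv w m M (fld w X i)` -/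
noncomputable def mulF (w n m X M : ℕ) : ℕ :=
  Nat.rec (motive := fun _ => ℕ) 0
    (fun k ih => Nat.xor ih (Nat.mul (plane w n X k) (fld w M k))) m

theorem mulF_succ (w n m X M : ℕ) :
    mulF w n (m + 1) X M = mulF w n m X M ^^^ (plane w n X m * fld w M m) := rfl

theorem fld_mulF {w n m : ℕ} (hw : 0 < w) (X M : ℕ) (hm : m ≤ w) {i : ℕ} (hi : i < n) :
    fld w (mulF w n m X M) i = mv w m M (fld w X i) := by
  induction m with
  | zero =>
    show fld w 0 i = 0
    exact fld_zero_left w i
  | succ m ih =>
    rw [mulF_succ, mv_succ, fld_xor, ih (by omega)]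
    congr 1
    have hp : ∀ j < n, fld w (plane w n X m) j = bit (fld w X j) m := by
      intro j hj
      rw [fld_plane hw X (by omega) hj, bit_eq]
    rw [fld_mul hw (plane_lt hw n X m) ?_ hi, hp i hi]
    intro j hj
    rw [hp j hj]
    rcases bit_zero_or_one (fld w X j) m with h | h <;> rw [h]
    · simp
    · rw [one_mul]; exact fld_lt _ _ _

end Cfsg.Agent.Lib.PackF2
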