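import Cfsg.Agent.Lib.PackMat

/-!
Orbits of row vectors under matrix groups in the kernel, on top of `Cfsg.Agent.Lib.PackMat`.

`orbB` enumerates the orbit of a packed row under a list of words (lists of codes of matrices). If it has `m` elements,
then `m * |S'|` divides the order of the group generated by the words, for every subgroup `S'` fixing the row. Chains of
such orbits give the divisibility of the order of a matrix group by large prime powers.
-/

set_option autoImplicit false

namespace Cfsg.Agent.Lib.PackOrbDvd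

open Cfsg.Agent.Lib.PackMat

/-! ### The kernel function -/

/-- membership in a list of numbers -/
noncomputable def elemK (x : ℕ) : List ℕ → Bool
  | [] => false
  | y :: l => bif Nat.beq x y then true else elemK x l

theorem elemK_spec {x : ℕ} {l : List ℕ} : elemK x l = true ↔ x ∈ l := by
  induction l with
  | nil => simp [elemK]
  | cons y l ih =>
    rw [elemK, List.mem_cons]
    cases h : Nat.beq x y with
    | true => simp [Nat.eq_of_beq_eq_true h]
    | false =>
      have : x ≠ y := by
        rintro rfl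
        rw [Nat.beq_refl] at h
        exact absurd h (by simp)
      simp [this, ih]

/-- apply all words to `t`, add the new rows to `seen` and `todo`, continue with `k`. -/
noncomputable def expand (f : List ℕ → ℕ → ℕ) (t : ℕ) :
    List (List ℕ) → List ℕ → List ℕ → (List ℕ → List ℕ → Bool) → Bool
  | [], seen, todo, k => k seen todo
  | w :: W, seen, todo, k => force (f w t) fun x =>
      bif elemK x seen then expand f t W seen todo k else expand f t W (x :: seen) (x :: todo) k

/-- the enumeration of the orbit: does it stop with exactly `m` rows? -/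
noncomputable def bfs (f : List ℕ → ℕ → ℕ) (W : List (List ℕ)) (m : ℕ) : ℕ → List ℕ → List ℕ → Bool
  | 0, _, _ => false
  | _ + 1, seen, [] => Nat.beq seen.length m
  | fuel + 1, seen, t :: todo => expand f t W seen todo (bfs f W m fuel)

/-- the state of the enumeration -/
structure Inv (f : List ℕ → ℕ → ℕ) (W : List (List ℕ)) (R : ℕ → Prop) (seen todo : List ℕ) : Prop where
  nodup : seen.Nodup
  sub : ∀ t ∈ todo, t ∈ seen
  done : ∀ t ∈ seen, t ∉ todo → ∀ w ∈ W, f w t ∈ seen
  reach : ∀ t ∈ seen, R t

theorem expand_spec {f : List ℕ → ℕ → ℕ} {W : List (List ℕ)} {R : ℕ → Prop}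
    (hR : ∀ t, R t → ∀ w ∈ W, R (f w t)) {t : ℕ} (ht : R t) {W' : List (List ℕ)} (hW' : ∀ w ∈ W', w ∈ W)
    {W₀ : List (List ℕ)} {seen todo : List ℕ} {k : List ℕ → List ℕ → Bool}
    (h : expand f t W' seen todo k = true)
    (hnd : seen.Nodup) (hsub : ∀ x ∈ todo, x ∈ seen) (hts : t ∈ seen)
    (hdone : ∀ x ∈ seen, x ∉ todo → x ≠ t → ∀ w ∈ W, f w x ∈ seen)
    (hdt : ∀ w ∈ W₀, f w t ∈ seen) (hcov : ∀ w ∈ W, w ∈ W₀ ∨ w ∈ W')
    (hreach : ∀ x ∈ seen, R x) :
    ∃ seen' todo', k seen' todo' = true ∧ Inv f W R seen' todo' ∧ (∀ x ∈ seen, x ∈ seen') := by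
  induction W' generalizing W₀ seen todo with
  | nil =>
    rw [expand] at h
    refine ⟨seen, todo, h, ⟨hnd, hsub, ?_, hreach⟩, fun x hx => hx⟩
    intro x hx hxt w hw
    by_cases hxeq : x = t
    · subst hxeq
      rcases hcov w hw with h1 | h1
      · exact hdt w h1
      · simp at h1
    · exact hdone x hx hxt hxeq w hw
  | cons w W' ih =>
    rw [expand, force_eq] at h
    cases hb : elemK (f w t) seen with
    | true =>
      rw [hb, cond_true] at h
      refine ih (W₀ := w :: W₀) (fun w' hw' => hW' w' (List.mem_cons_of_mem _ hw')) h hnd hsub hts hdone ?_ ?_ hreach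
      · intro w' hw'
        rcases List.mem_cons.1 hw' with rfl | h1
        · exact elemK_spec.1 hb
        · exact hdt w' h1
      · intro w' hw'
        rcases hcov w' hw' with h1 | h1
        · exact Or.inl (List.mem_cons_of_mem _ h1)
        · rcases List.mem_cons.1 h1 with rfl | h2
          · exact Or.inl (List.mem_cons_self ..)
          · exact Or.inr h2
    | false =>
      rw [hb, cond_false] at h
      have hnot : f w t ∉ seen := fun hc => by
        rw [elemK_spec.2 hc] at hb
        exact absurd hb (by simp)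
      obtain ⟨s', d', h1, h2, h3⟩ := ih (W₀ := w :: W₀) (fun w' hw' => hW' w' (List.mem_cons_of_mem _ hw')) h
        (List.nodup_cons.2 ⟨hnot, hnd⟩)
        (by
          intro x hx
          rcases List.mem_cons.1 hx with rfl | h1
          · exact List.mem_cons_self ..
          · exact List.mem_cons_of_mem _ (hsub x h1))
        (List.mem_cons_of_mem _ hts)
        (by
          intro x hx hxt hxne w' hw'
          rcases List.mem_cons.1 hx with rfl | h1
          · exact absurd (List.mem_cons_self ..) hxt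
          · exact List.mem_cons_of_mem _ (hdone x h1 (fun hc => hxt (List.mem_cons_of_mem _ hc)) hxne w' hw'))
        (by
          intro w' hw'
          rcases List.mem_cons.1 hw' with rfl | h1
          · exact List.mem_cons_self ..
          · exact List.mem_cons_of_mem _ (hdt w' h1))
        (by
          intro w' hw'
          rcases hcov w' hw' with h1 | h1
          · exact Or.inl (List.mem_cons_of_mem _ h1)
          · rcases List.mem_cons.1 h1 with rfl | h2
            · exact Or.inl (List.mem_cons_self ..)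
            · exact Or.inr h2)
        (by
          intro x hx
          rcases List.mem_cons.1 hx with rfl | h1
          · exact hR t ht w (hW' w (List.mem_cons_self ..))
          · exact hreach x h1)
      exact ⟨s', d', h1, h2, fun x hx => h3 x (List.mem_cons_of_mem _ hx)⟩

theorem bfs_spec {f : List ℕ → ℕ → ℕ} {W : List (List ℕ)} {R : ℕ → Prop}
    (hR : ∀ t, R t → ∀ w ∈ W, R (f w t)) {m : ℕ} (fuel : ℕ) {seen todo : List ℕ}
    (h : bfs f W m fuel seen todo = true) (hI : Inv f W R seen todo) :
    ∃ T : List ℕ, T.Nodup ∧ T.length = m ∧ (∀ x ∈ seen, x ∈ T) ∧ (∀ t ∈ T, ∀ w ∈ W, f w t ∈ T) ∧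
      ∀ t ∈ T, R t := by
  induction fuel generalizing seen todo with
  | zero => simp [bfs] at h
  | succ fuel ih =>
    cases todo with
    | nil =>
      rw [bfs] at h
      exact ⟨seen, hI.nodup, Nat.eq_of_beq_eq_true h, fun x hx => hx,
        fun t ht w hw => hI.done t ht (by simp) w hw, hI.reach⟩
    | cons t todo =>
      rw [bfs] at h
      have hts := hI.sub t (List.mem_cons_self ..)
      obtain ⟨s', d', h1, h2, h3⟩ := expand_spec hR (hI.reach t hts) (W' := W) (fun w hw => hw) (W₀ := []) h
        hI.nodup (fun x hx => hI.sub x (List.mem_cons_of_mem _ hx)) hts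
        (fun x hx hxt hxne w hw => hI.done x hx (by
          intro hc
          rcases List.mem_cons.1 hc with h4 | h4
          · exact hxne h4
          · exact hxt h4) w hw)
        (fun w hw => by simp at hw) (fun w hw => Or.inr hw) hI.reach
      obtain ⟨T, t1, t2, t3, t4, t5⟩ := ih h1 h2
      exact ⟨T, t1, t2, fun x hx => t3 x (h3 x hx), t4, t5⟩

/-- **Kernel check**: the orbit of the packed row `v` under the words `W` has exactly `m` elements. -/
noncomputable def orbB (C : Cfg) (W : List (List ℕ)) (v m : ℕ) : Bool :=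
  withC C fun _ p r mm t nf GM FM LO HI HT =>
    bfs (fun w R => runK p r mm t nf GM FM LO HI HT w R) W m (m + 1) [v] [v]

theorem orbB_eq (C : Cfg) (W : List (List ℕ)) (v m : ℕ) : orbB C W v m = bfs (run C) W m (m + 1) [v] [v] := rfl

/-- all words fix the packed row `v` -/
noncomputable def fixK (f : List ℕ → ℕ → ℕ) (v : ℕ) : List (List ℕ) → Bool
  | [] => true
  | w :: W => bif Nat.beq (f w v) v then fixK f v W else false

/-- **Kernel check**: all words fix the packed row `v`. -/
noncomputable def fixB (C : Cfg) (W : List (List ℕ)) (v : ℕ) : Bool :=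
  withC C fun _ p r mm t nf GM FM LO HI HT =>
    fixK (fun w R => runK p r mm t nf GM FM LO HI HT w R) v W

theorem fixB_spec {C : Cfg} {W : List (List ℕ)} {v : ℕ} (h : fixB C W v = true) :
    ∀ w ∈ W, run C w v = v := by
  change fixK (run C) v W = true at h
  induction W with
  | nil => intro w hw; simp at hw
  | cons w W ih =>
    rw [fixK] at h
    cases hb : Nat.beq (run C w v) v with
    | false => rw [hb] at h; simp at h
    | true =>
      rw [hb, cond_true] at h
      intro w' hw'
      rcases List.mem_cons.1 hw' with rfl | h1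
      · exact Nat.eq_of_beq_eq_true hb
      · exact ih h w' h1

/-- **Kernel check** that a packed row is valid. -/
noncomputable def okRB (C : Cfg) (R : ℕ) : Bool :=
  Nat.blt R (2 ^ (C.s * C.n)) && allBelow (fun i => Nat.blt (dg C.s R i) C.p) C.n

theorem okRB_spec {C : Cfg} {R : ℕ} (h : okRB C R = true) : OkR C R := by
  unfold okRB at h
  rw [Bool.and_eq_true] at h
  exact ⟨by simpa using h.1, fun i hi => by simpa using allBelow_spec h.2 i hi⟩

/-! ### The group theory -/

section

variable {n p : ℕ}

theorem act_one (x : Fin n → ZMod p) : Matrix.vecMul x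
    (((1 : Matrix.GeneralLinearGroup (Fin n) (ZMod p))⁻¹ : Matrix.GeneralLinearGroup (Fin n) (ZMod p)) :
      Matrix (Fin n) (Fin n) (ZMod p)) = x := by
  rw [inv_one, Units.val_one, Matrix.vecMul_one]

theorem act_mul (g h : Matrix.GeneralLinearGroup (Fin n) (ZMod p)) (x : Fin n → ZMod p) :
    Matrix.vecMul x (((g * h)⁻¹ : Matrix.GeneralLinearGroup (Fin n) (ZMod p)) : Matrix (Fin n) (Fin n) (ZMod p)) =
      Matrix.vecMul (Matrix.vecMul x
        ((h⁻¹ : Matrix.GeneralLinearGroup (Fin n) (ZMod p)) : Matrix (Fin n) (Fin n) (ZMod p)))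
        ((g⁻¹ : Matrix.GeneralLinearGroup (Fin n) (ZMod p)) : Matrix (Fin n) (Fin n) (ZMod p)) := by
  rw [mul_inv_rev, Units.val_mul, Matrix.vecMul_vecMul]

/-- Row vectors (a synonym, to carry the action). -/
def Row (n p : ℕ) : Type := Fin n → ZMod p

/-- The action of invertible matrices on row vectors, made a left action. -/
instance rowAction : MulAction (Matrix.GeneralLinearGroup (Fin n) (ZMod p)) (Row n p) where
  smul g x := Matrix.vecMul x ((g⁻¹ : Matrix.GeneralLinearGroup (Fin n) (ZMod p)) : Matrix (Fin n) (Fin n) (ZMod p))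
  one_smul x := act_one x
  mul_smul g h x := act_mul g h x

theorem smul_def (g : Matrix.GeneralLinearGroup (Fin n) (ZMod p)) (x : Row n p) :
    g • x = Matrix.vecMul x
      ((g⁻¹ : Matrix.GeneralLinearGroup (Fin n) (ZMod p)) : Matrix (Fin n) (Fin n) (ZMod p)) := rfl

/-- a row fixed by generators is fixed by the group -/
theorem vecMul_closure {s : Set (Matrix.GeneralLinearGroup (Fin n) (ZMod p))} {x : Fin n → ZMod p}
    (h : ∀ g ∈ s, Matrix.vecMul x (g : Matrix (Fin n) (Fin n) (ZMod p)) = x)
    {g : Matrix.GeneralLinearGroup (Fin n) (ZMod p)} (hg : g ∈ Subgroup.closure s) :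
    Matrix.vecMul x (g : Matrix (Fin n) (Fin n) (ZMod p)) = x := by
  induction hg using Subgroup.closure_induction with
  | mem g hg => exact h g hg
  | one => rw [Units.val_one, Matrix.vecMul_one]
  | mul g h _ _ ihg ihh => rw [Units.val_mul, ← Matrix.vecMul_vecMul, ihg, ihh]
  | inv g _ ih =>
    nth_rewrite 1 [← ih]
    rw [Matrix.vecMul_vecMul, ← Units.val_mul, mul_inv_cancel, Units.val_one, Matrix.vecMul_one]

/-- orbit-stabiliser for row vectors -/
theorem ncard_mul_dvd [NeZero p] (S S' : Subgroup (Matrix.GeneralLinearGroup (Fin n) (ZMod p))) (hS : S' ≤ S)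
    (x : Fin n → ZMod p)
    (hfix : ∀ g ∈ S', Matrix.vecMul x (g : Matrix (Fin n) (Fin n) (ZMod p)) = x) :
    {y | ∃ g ∈ S, Matrix.vecMul x (g : Matrix (Fin n) (Fin n) (ZMod p)) = y}.ncard * Nat.card S' ∣ Nat.card S := by
  let x' : Row n p := x
  have horb : {y | ∃ g ∈ S, Matrix.vecMul x (g : Matrix (Fin n) (Fin n) (ZMod p)) = y} = MulAction.orbit S x' := by
    ext y
    constructor
    · rintro ⟨g, hg, rfl⟩
      refine ⟨⟨g⁻¹, S.inv_mem hg⟩, ?_⟩
      change Matrix.vecMul x (((g⁻¹)⁻¹ : Matrix.GeneralLinearGroup (Fin n) (ZMod p)) :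
        Matrix (Fin n) (Fin n) (ZMod p)) = _
      rw [inv_inv]
    · rintro ⟨⟨g, hg⟩, rfl⟩
      exact ⟨g⁻¹, S.inv_mem hg, rfl⟩
  rw [horb]
  have h1 : Nat.card (MulAction.orbit S x') * Nat.card (MulAction.stabilizer S x') = Nat.card S := by
    rw [← Nat.card_prod]
    exact Nat.card_congr (MulAction.orbitProdStabilizerEquivGroup S x')
  rw [← h1]
  apply Nat.mul_dvd_mul
  · rfl
  · have h2 : S'.subgroupOf S ≤ MulAction.stabilizer S x' := by
      intro g hg
      rw [MulAction.mem_stabilizer_iff]
      exact hfix _ (S'.inv_mem (Subgroup.mem_subgroupOf.1 hg))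
    have h3 : Nat.card (S'.subgroupOf S) = Nat.card S' :=
      Nat.card_congr (Subgroup.subgroupOfEquivOfLe hS).toEquiv
    rw [← h3]
    exact Subgroup.card_dvd_of_le h2

end

/-- **Orbit step.** The rows of the orbit of `v` under the words `ws` (with matrices `gs`) number `m`, and `S'` is a
subgroup of the group generated by `gs` fixing `v`: then `m * |S'|` divides the order of that group. -/
theorem orbit_mul_dvd {C : Cfg} (hC : Good C) (ws : List (List ℕ))
    (gs : List (Matrix.GeneralLinearGroup (Fin C.n) (ZMod C.p)))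
    (hw : List.Forall₂ (fun (w : List ℕ) (g : Matrix.GeneralLinearGroup (Fin C.n) (ZMod C.p)) =>
      (g : Matrix (Fin C.n) (Fin C.n) (ZMod C.p)) = (w.map (mat C)).prod ∧ ∀ c ∈ w, okG C c = true) ws gs)
    (v m : ℕ) (hv : OkR C v) (hb : orbB C ws v m = true)
    (S' : Subgroup (Matrix.GeneralLinearGroup (Fin C.n) (ZMod C.p))) (hS' : S' ≤ Subgroup.closure {g | g ∈ gs})
    (hfix : ∀ g ∈ S', Matrix.vecMul (rowVec C v) (g : Matrix (Fin C.n) (Fin C.n) (ZMod C.p)) = rowVec C v) :
    m * Nat.card S' ∣ Nat.card (Subgroup.closure {g | g ∈ gs}) := by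
  have : NeZero C.p := ⟨hC.hp.ne'⟩
  have hws : ∀ w ∈ ws, ∃ g ∈ gs, (g : Matrix (Fin C.n) (Fin C.n) (ZMod C.p)) = (w.map (mat C)).prod ∧
      ∀ c ∈ w, okG C c = true := by
    clear hb hS'
    induction hw with
    | nil => intro w hw; simp at hw
    | cons h1 _ ih =>
      intro w hw
      rcases List.mem_cons.1 hw with rfl | h2
      · exact ⟨_, List.mem_cons_self .., h1⟩
      · obtain ⟨g, hg, h3⟩ := ih w h2
        exact ⟨g, List.mem_cons_of_mem _ hg, h3⟩
  have hgs : ∀ g ∈ gs, ∃ w ∈ ws, (g : Matrix (Fin C.n) (Fin C.n) (ZMod C.p)) = (w.map (mat C)).prod ∧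
      ∀ c ∈ w, okG C c = true := by
    clear hb hS' hws
    induction hw with
    | nil => intro w hw; simp at hw
    | cons h1 _ ih =>
      intro w hw
      rcases List.mem_cons.1 hw with rfl | h2
      · exact ⟨_, List.mem_cons_self .., h1⟩
      · obtain ⟨g, hg, h3⟩ := ih w h2
        exact ⟨g, List.mem_cons_of_mem _ hg, h3⟩
  set S := Subgroup.closure {g | g ∈ gs} with hSdef
  rw [orbB_eq] at hb
  obtain ⟨T, t1, t2, t3, t4, t5⟩ := bfs_spec (f := run C) (W := ws)
    (R := fun t => OkR C t ∧ ∃ g ∈ S, Matrix.vecMul (rowVec C v) (g : Matrix (Fin C.n) (Fin C.n) (ZMod C.p)) =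
      rowVec C t)
    (by
      rintro t ⟨ht, g, hg, hgt⟩ w hw
      obtain ⟨g', hg', h1, h2⟩ := hws w hw
      obtain ⟨h3, h4⟩ := run_spec hC w h2 ht
      refine ⟨h3, g * g', S.mul_mem hg (Subgroup.subset_closure hg'), ?_⟩
      rw [h4, ← h1, ← hgt, Units.val_mul, Matrix.vecMul_vecMul])
    (m + 1) hb
    ⟨by simp, fun t ht => ht, fun t ht hn => absurd ht hn, by
      intro t ht
      rw [List.mem_singleton.1 ht]
      exact ⟨hv, 1, S.one_mem, by rw [Units.val_one, Matrix.vecMul_one]⟩⟩
  have hset : {y | ∃ g ∈ S, Matrix.vecMul (rowVec C v) (g : Matrix (Fin C.n) (Fin C.n) (ZMod C.p)) = y} =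
      ((T.toFinset.image (rowVec C) : Finset (Fin C.n → ZMod C.p)) : Set (Fin C.n → ZMod C.p)) := by
    apply Set.Subset.antisymm
    · rintro y ⟨g, hg, rfl⟩
      have key : ∀ t ∈ T, Matrix.vecMul (rowVec C t) (g : Matrix (Fin C.n) (Fin C.n) (ZMod C.p)) ∈
          T.toFinset.image (rowVec C) := by
        refine Subgroup.closure_induction (p := fun (g : Matrix.GeneralLinearGroup (Fin C.n) (ZMod C.p)) _ => ∀ t ∈ T, Matrix.vecMul (rowVec C t)
          (g : Matrix (Fin C.n) (Fin C.n) (ZMod C.p)) ∈ T.toFinset.image (rowVec C)) ?_ ?_ ?_ ?_ hg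
        · intro g hg t ht
          obtain ⟨w, hw, h1, h2⟩ := hgs g hg
          obtain ⟨h3, h4⟩ := run_spec hC w h2 (t5 t ht).1
          rw [h1, ← h4]
          exact Finset.mem_image.2 ⟨_, List.mem_toFinset.2 (t4 t ht w hw), rfl⟩
        · intro t ht
          rw [Units.val_one, Matrix.vecMul_one]
          exact Finset.mem_image.2 ⟨t, List.mem_toFinset.2 ht, rfl⟩
        · intro g h _ _ ihg ihh t ht
          obtain ⟨t', ht', h1⟩ := Finset.mem_image.1 (ihg t ht)
          rw [Units.val_mul, ← Matrix.vecMul_vecMul, ← h1]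
          exact ihh t' (List.mem_toFinset.1 ht')
        · intro g _ ihg t ht
          -- multiplication by `g` is an injective self-map of a finite set
          have hinj : Set.InjOn (fun y : Fin C.n → ZMod C.p => Matrix.vecMul y
              (g : Matrix (Fin C.n) (Fin C.n) (ZMod C.p))) (T.toFinset.image (rowVec C)) := by
            intro y _ z _ hyz
            have h5 := congrArg (fun y => Matrix.vecMul y ((g⁻¹ : Matrix.GeneralLinearGroup (Fin C.n) (ZMod C.p)) :
              Matrix (Fin C.n) (Fin C.n) (ZMod C.p))) hyz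
            simpa only [Matrix.vecMul_vecMul, ← Units.val_mul, mul_inv_cancel, Units.val_one,
              Matrix.vecMul_one] using h5
          have hmaps : ∀ y ∈ T.toFinset.image (rowVec C), Matrix.vecMul y
              (g : Matrix (Fin C.n) (Fin C.n) (ZMod C.p)) ∈ T.toFinset.image (rowVec C) := by
            intro y hy
            obtain ⟨t', ht', rfl⟩ := Finset.mem_image.1 hy
            exact ihg t' (List.mem_toFinset.1 ht')
          have hsurj := Finset.surjOn_of_injOn_of_card_le _ hmaps hinj le_rfl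
          obtain ⟨y, hy, hyt⟩ := hsurj (Finset.mem_coe.2 (Finset.mem_image.2 ⟨t, List.mem_toFinset.2 ht, rfl⟩))
          have h6 : Matrix.vecMul (rowVec C t) ((g⁻¹ : Matrix.GeneralLinearGroup (Fin C.n) (ZMod C.p)) :
              Matrix (Fin C.n) (Fin C.n) (ZMod C.p)) = y := by
            rw [← hyt]
            simp only [Matrix.vecMul_vecMul, ← Units.val_mul, mul_inv_cancel, Units.val_one,
              Matrix.vecMul_one]
          rw [h6]
          exact hy
      exact key v (t3 v (List.mem_singleton.2 rfl))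
    · intro y hy
      obtain ⟨t, ht, rfl⟩ := Finset.mem_image.1 (Finset.mem_coe.1 hy)
      obtain ⟨-, g, hg, h1⟩ := t5 t (List.mem_toFinset.1 ht)
      exact ⟨g, hg, h1⟩
  have hcard : {y | ∃ g ∈ S, Matrix.vecMul (rowVec C v)
      (g : Matrix (Fin C.n) (Fin C.n) (ZMod C.p)) = y}.ncard = m := by
    rw [hset, Set.ncard_coe_finset, Finset.card_image_of_injOn, List.toFinset_card_of_nodup t1, t2]
    intro a ha b hb' hab
    exact rowVec_injOn (t5 a (List.mem_toFinset.1 (Finset.mem_coe.1 ha))).1
      (t5 b (List.mem_toFinset.1 (Finset.mem_coe.1 hb'))).1 hab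
  have := ncard_mul_dvd S S' hS' (rowVec C v) hfix
  rwa [hcard] at this

end Cfsg.Agent.Lib.PackOrbDvd
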