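import Cfsg.Agent.Lib.PackMat
import Cfsg.Agent.SporadicRecognition.CosetCert

/-!
# Orbits of row vectors under packed matrices, certified in the kernel

A certificate is a table of records `code | parent | generator | depth`, sorted strictly increasingly by the code of the
row vector.  Each record is either a root (generator field `15`, parent field = number of the root) or is obtained from
its parent (of smaller depth) by one generator.

* `Part O C lo hi s l` : result of a chunk check (`runC_sound`), chunks are glued by `Part.append`;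
* `Part.reach` : every vector of the table is (root) · (element of the group generated by the generators);
* `card_ge` : `N * |S| ≤ |T|` if `S ≤ T` fixes the root vectors … (one root version `card_ge_of_part`).
-/

set_option autoImplicit false
set_option linter.unusedVariables false

namespace Cfsg.Agent.Lib.PackOrbit

open Cfsg.Agent.Lib.PackMat
open Cfsg.Agent.SporadicRecognition.CosetCert (Tr Tr.get)

/-- Orbit certificate. -/
structure OC where
  data : Tr
  lm : ℕ
  rb : ℕ
  rm : ℕ
  cb : ℕ
  cm : ℕ
  pb : ℕ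
  pm : ℕ
  N : ℕ
  gens : Tr
  ng : ℕ
  roots : Tr
  nr : ℕ

variable (O : OC) (C : Cfg)

/-- record `i` -/
noncomputable def recO (i : ℕ) : ℕ :=
  Nat.land (Nat.shiftRight (O.data.get i) (Nat.mul (Nat.land i O.lm) O.rb)) O.rm

/-- code of the vector of a record -/
noncomputable def codeF (r : ℕ) : ℕ := Nat.land r O.cm

noncomputable def parF (r : ℕ) : ℕ := Nat.land (Nat.shiftRight r O.cb) O.pm

noncomputable def genF (r : ℕ) : ℕ := Nat.land (Nat.shiftRight r (Nat.add O.cb O.pb)) 15

noncomputable def depF (r : ℕ) : ℕ := Nat.shiftRight r (Nat.add (Nat.add O.cb O.pb) 4)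

/-- check of record `i`; result `code + 1` or `0` on failure -/
noncomputable def nodeK (s p r m t nf GM FM LO HI HT : ℕ) (prev i : ℕ) : ℕ :=
  force (recO O i) fun R =>
  force (codeF O R) fun c =>
  force (genF O R) fun g =>
  force (parF O R) fun q =>
    bif Nat.blt prev c then
      bif Nat.beq g 15 then
        bif Nat.blt q O.nr then
          bif Nat.beq (O.roots.get q) c then Nat.succ c else 0
        else 0
      else
        bif Nat.blt q O.N then
          bif Nat.blt g O.ng then
            force (recO O q) fun Q =>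
              bif Nat.blt (depF O Q) (depF O R) then
                bif Nat.beq (stepK p r m t nf GM FM LO HI HT (codeF O Q) (O.gens.get g)) c then Nat.succ c else 0
              else 0
          else 0
        else 0
    else 0

/-- check of the records `lo, …, lo + n - 1`; `s0` = code before; result `last code + 1` or `0` on failure -/
noncomputable def loopK (s p r m t nf GM FM LO HI HT : ℕ) (s0 lo : ℕ) (n : ℕ) : ℕ :=
  Nat.rec (motive := fun _ => ℕ) (Nat.succ s0)
    (fun k ih => Nat.rec (motive := fun _ => ℕ) 0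
      (fun c _ => nodeK O s p r m t nf GM FM LO HI HT c (Nat.add lo k)) ih) n

noncomputable def runC (s0 lo n : ℕ) : ℕ :=
  withC C fun s p r m t nf GM FM LO HI HT => loopK O s p r m t nf GM FM LO HI HT s0 lo n

/-- record `i` is correct -/
def NodeOK (i : ℕ) : Prop :=
  (genF O (recO O i) = 15 ∧ parF O (recO O i) < O.nr ∧ O.roots.get (parF O (recO O i)) = codeF O (recO O i)) ∨
  (parF O (recO O i) < O.N ∧ genF O (recO O i) < O.ng ∧
    depF O (recO O (parF O (recO O i))) < depF O (recO O i) ∧
    step C (codeF O (recO O (parF O (recO O i)))) (O.gens.get (genF O (recO O i))) = codeF O (recO O i))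

/-- result of the check of a range -/
structure Part (lo hi s l : ℕ) : Prop where
  le : lo ≤ hi
  sl : s ≤ l
  ok : ∀ i, lo ≤ i → i < hi → NodeOK O C i
  lb : ∀ i, lo ≤ i → i < hi → s < codeF O (recO O i) ∧ codeF O (recO O i) ≤ l
  mono : ∀ i j, lo ≤ i → i < j → j < hi → codeF O (recO O i) < codeF O (recO O j)

theorem nodeK_sound {prev i c : ℕ}
    (h : nodeK O C.s C.p C.r C.m C.t C.nf (GMc C) (FMc C) (LOc C) (HIc C) (HTc C) prev i = c + 1) :
    codeF O (recO O i) = c ∧ prev < c ∧ NodeOK O C i := by
  unfold nodeK at h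
  simp only [force_eq] at h
  cases h1 : Nat.blt prev (codeF O (recO O i)) with
  | false => rw [h1, cond_false] at h; exact absurd h (by simp)
  | true =>
    rw [h1, cond_true] at h
    have h1' : prev < codeF O (recO O i) := Nat.le_of_ble_eq_true h1
    cases h2 : Nat.beq (genF O (recO O i)) 15 with
    | true =>
      rw [h2, cond_true] at h
      have h2' : genF O (recO O i) = 15 := Nat.eq_of_beq_eq_true h2
      cases h3 : Nat.blt (parF O (recO O i)) O.nr with
      | false => rw [h3, cond_false] at h; exact absurd h (by simp)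
      | true =>
        rw [h3, cond_true] at h
        have h3' : parF O (recO O i) < O.nr := Nat.le_of_ble_eq_true h3
        cases h4 : Nat.beq (O.roots.get (parF O (recO O i))) (codeF O (recO O i)) with
        | false => rw [h4, cond_false] at h; exact absurd h (by simp)
        | true =>
          rw [h4, cond_true] at h
          have h5 : codeF O (recO O i) = c := Nat.succ.inj h
          exact ⟨h5, h5 ▸ h1', Or.inl ⟨h2', h3', Nat.eq_of_beq_eq_true h4⟩⟩
    | false =>
      rw [h2, cond_false] at h
      cases h3 : Nat.blt (parF O (recO O i)) O.N with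
      | false => rw [h3, cond_false] at h; exact absurd h (by simp)
      | true =>
        rw [h3, cond_true] at h
        have h3' : parF O (recO O i) < O.N := Nat.le_of_ble_eq_true h3
        cases h4 : Nat.blt (genF O (recO O i)) O.ng with
        | false => rw [h4, cond_false] at h; exact absurd h (by simp)
        | true =>
          rw [h4, cond_true] at h
          have h4' : genF O (recO O i) < O.ng := Nat.le_of_ble_eq_true h4
          cases h5 : Nat.blt (depF O (recO O (parF O (recO O i)))) (depF O (recO O i)) with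
          | false => rw [h5, cond_false] at h; exact absurd h (by simp)
          | true =>
            rw [h5, cond_true] at h
            have h5' : depF O (recO O (parF O (recO O i))) < depF O (recO O i) := Nat.le_of_ble_eq_true h5
            cases h6 : Nat.beq (stepK C.p C.r C.m C.t C.nf (GMc C) (FMc C) (LOc C) (HIc C) (HTc C)
                (codeF O (recO O (parF O (recO O i)))) (O.gens.get (genF O (recO O i))))
                (codeF O (recO O i)) with
            | false => rw [h6, cond_false] at h; exact absurd h (by simp)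
            | true =>
              rw [h6, cond_true] at h
              have h7 : codeF O (recO O i) = c := Nat.succ.inj h
              exact ⟨h7, h7 ▸ h1', Or.inr ⟨h3', h4', h5', Nat.eq_of_beq_eq_true h6⟩⟩

theorem loopK_sound {s0 lo : ℕ} : ∀ (n : ℕ) {c : ℕ},
    loopK O C.s C.p C.r C.m C.t C.nf (GMc C) (FMc C) (LOc C) (HIc C) (HTc C) s0 lo n = c + 1 →
    Part O C lo (lo + n) s0 c := by
  intro n
  induction n with
  | zero =>
    intro c h
    have h' : s0 = c := Nat.succ.inj h
    subst h'
    exact ⟨le_rfl, le_rfl, fun i h1 h2 => by omega, fun i h1 h2 => by omega, fun i j h1 h2 h3 => by omega⟩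
  | succ n ih =>
    intro c h
    have h' : Nat.rec (motive := fun _ => ℕ) 0
      (fun c _ => nodeK O C.s C.p C.r C.m C.t C.nf (GMc C) (FMc C) (LOc C) (HIc C) (HTc C) c (Nat.add lo n))
      (loopK O C.s C.p C.r C.m C.t C.nf (GMc C) (FMc C) (LOc C) (HIc C) (HTc C) s0 lo n) = c + 1 := h
    rcases hn : loopK O C.s C.p C.r C.m C.t C.nf (GMc C) (FMc C) (LOc C) (HIc C) (HTc C) s0 lo n with _ | c0
    · rw [hn] at h'; exact absurd h' (by simp)
    · rw [hn] at h'
      have hP := ih hn
      obtain ⟨h1, h2, h3⟩ := nodeK_sound O C h'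
      have h1' : codeF O (recO O (lo + n)) = c := h1
      have h3' : NodeOK O C (lo + n) := h3
      have hsl := hP.sl
      refine ⟨by omega, by omega, ?_, ?_, ?_⟩
      · intro i hi hi2
        rcases Nat.lt_or_ge i (lo + n) with hlt | hge
        · exact hP.ok i hi hlt
        · have : i = lo + n := by omega
          subst this; exact h3'
      · intro i hi hi2
        rcases Nat.lt_or_ge i (lo + n) with hlt | hge
        · obtain ⟨k1, k2⟩ := hP.lb i hi hlt
          exact ⟨k1, by omega⟩
        · have : i = lo + n := by omega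
          subst this
          exact ⟨by omega, by omega⟩
      · intro i j hi hij hj
        rcases Nat.lt_or_ge j (lo + n) with hlt | hge
        · exact hP.mono i j hi hij hlt
        · have : j = lo + n := by omega
          subst this
          obtain ⟨k1, k2⟩ := hP.lb i hi hij
          omega

theorem runC_sound {s0 lo n : ℕ} (c : ℕ) (h : runC O C s0 lo n = c + 1) : Part O C lo (lo + n) s0 c := by
  unfold runC withC at h
  simp only [force_eq] at h
  exact loopK_sound O C n h

variable {O C}

theorem Part.append {lo mid hi s m l : ℕ} (h1 : Part O C lo mid s m) (h2 : Part O C mid hi m l) :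
    Part O C lo hi s l := by
  refine ⟨h1.le.trans h2.le, h1.sl.trans h2.sl, ?_, ?_, ?_⟩
  · intro i hi1 hi2
    rcases Nat.lt_or_ge i mid with hlt | hge
    · exact h1.ok i hi1 hlt
    · exact h2.ok i hge hi2
  · intro i hi1 hi2
    have := h1.sl
    have := h2.sl
    rcases Nat.lt_or_ge i mid with hlt | hge
    · obtain ⟨k1, k2⟩ := h1.lb i hi1 hlt
      exact ⟨k1, by omega⟩
    · obtain ⟨k1, k2⟩ := h2.lb i hge hi2
      exact ⟨by omega, k2⟩
  · intro i j hi1 hij hj
    rcases Nat.lt_or_ge j mid with hlt | hge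
    · exact h1.mono i j hi1 hij hlt
    · rcases Nat.lt_or_ge i mid with hlt' | hge'
      · obtain ⟨k1, k2⟩ := h1.lb i hi1 hlt'
        obtain ⟨k3, k4⟩ := h2.lb j hge hj
        omega
      · exact h2.mono i j hge' hij hj

/-- code of the vector number `i` -/
noncomputable def vec (O : OC) (i : ℕ) : ℕ := codeF O (recO O i)

theorem Part.injOn {s l : ℕ} (h : Part O C 0 O.N s l) {i j : ℕ} (hi : i < O.N) (hj : j < O.N)
    (hij : vec O i = vec O j) : i = j := by
  rcases lt_trichotomy i j with h1 | h1 | h1
  · have := h.mono i j (Nat.zero_le _) h1 hj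
    unfold vec at hij
    omega
  · exact h1
  · have := h.mono j i (Nat.zero_le _) h1 hi
    unfold vec at hij
    omega

/-- Every vector of the table is reachable from a root by the group generated by the generators. -/
theorem Part.reach (hC : Good C) {s l : ℕ} (h : Part O C 0 O.N s l)
    (T : Subgroup (GL (Fin C.n) (ZMod C.p)))
    (hg : ∀ k < O.ng, okG C (O.gens.get k) = true ∧
      ∃ t ∈ T, (t : Matrix (Fin C.n) (Fin C.n) (ZMod C.p)) = mat C (O.gens.get k))
    (hr : ∀ k < O.nr, OkR C (O.roots.get k)) :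
    ∀ i < O.N, OkR C (vec O i) ∧ ∃ k < O.nr, ∃ t ∈ T,
      rowVec C (vec O i) = Matrix.vecMul (rowVec C (O.roots.get k))
        (t : Matrix (Fin C.n) (Fin C.n) (ZMod C.p)) := by
  have key : ∀ d i, i < O.N → depF O (recO O i) ≤ d → OkR C (vec O i) ∧ ∃ k < O.nr, ∃ t ∈ T,
      rowVec C (vec O i) = Matrix.vecMul (rowVec C (O.roots.get k))
        (t : Matrix (Fin C.n) (Fin C.n) (ZMod C.p)) := by
    intro d
    induction d using Nat.strong_induction_on with
    | _ d ih =>
      intro i hi hd
      rcases h.ok i (Nat.zero_le _) hi with ⟨-, h2, h3⟩ | ⟨h1, h2, h3, h4⟩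
      · refine ⟨by unfold vec; rw [← h3]; exact hr _ h2, _, h2, 1, T.one_mem, ?_⟩
        unfold vec
        rw [← h3, Units.val_one, Matrix.vecMul_one]
      · obtain ⟨h5, k, hk, t, ht, h6⟩ := ih (depF O (recO O (parF O (recO O i)))) (by omega) _ h1 le_rfl
        obtain ⟨h7, g, hgT, h8⟩ := hg _ h2
        obtain ⟨h9, h10⟩ := step_spec hC h5 h7
        have e : step C (vec O (parF O (recO O i))) (O.gens.get (genF O (recO O i))) = vec O i := h4
        rw [e] at h9 h10
        refine ⟨h9, k, hk, t * g, T.mul_mem ht hgT, ?_⟩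
        rw [h10, h6, ← h8, Matrix.vecMul_vecMul, Units.val_mul]
  intro i hi
  exact key _ i hi le_rfl

/-- `m * |S| ≤ |T|` from `m` elements of `T` with distinct values of an `S`-invariant function. -/
theorem card_ge_of_inv {G Y : Type*} [Group G] (f : G → Y) (S T : Subgroup G) (hST : S ≤ T) [Finite T]
    (hinv : ∀ s ∈ S, ∀ g, f (s * g) = f g) {m : ℕ} (t : Fin m → G) (ht : ∀ i, t i ∈ T)
    (hinj : Function.Injective fun i => f (t i)) : m * Nat.card S ≤ Nat.card T := by
  have : Finite S := Finite.of_injective _ (Subgroup.inclusion_injective hST)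
  let F : Fin m × S → T := fun x => ⟨x.2.1 * t x.1, T.mul_mem (hST x.2.2) (ht x.1)⟩
  have hF : Function.Injective F := by
    rintro ⟨i, s⟩ ⟨j, s'⟩ hij
    have h1 : s.1 * t i = s'.1 * t j := congrArg Subtype.val hij
    have h2 : f (t i) = f (t j) := by
      rw [← hinv s.1 s.2 (t i), h1, hinv s'.1 s'.2]
    have h3 : i = j := hinj h2
    subst h3
    have h4 : s.1 = s'.1 := mul_right_cancel h1
    rw [Subtype.ext h4]
  have := Nat.card_le_card_of_injective F hF
  rwa [Nat.card_prod, Nat.card_fin] at this

/-- Lower bound from an orbit table with one root. -/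
theorem Part.card_ge (hC : Good C) {s l : ℕ} (h : Part O C 0 O.N s l)
    (S T : Subgroup (GL (Fin C.n) (ZMod C.p))) (hST : S ≤ T) [Finite T]
    (hg : ∀ k < O.ng, okG C (O.gens.get k) = true ∧
      ∃ t ∈ T, (t : Matrix (Fin C.n) (Fin C.n) (ZMod C.p)) = mat C (O.gens.get k))
    (R : ℕ) (hR : ∀ k < O.nr, OkR C (O.roots.get k) ∧ ∃ t ∈ T, rowVec C (O.roots.get k) =
      Matrix.vecMul (rowVec C R) (t : Matrix (Fin C.n) (Fin C.n) (ZMod C.p)))
    (hfix : ∀ x ∈ S, Matrix.vecMul (rowVec C R) (x : Matrix (Fin C.n) (Fin C.n) (ZMod C.p)) = rowVec C R) :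
    O.N * Nat.card S ≤ Nat.card T := by
  have hreach := h.reach hC T hg (fun k hk => (hR k hk).1)
  have hex : ∀ i : Fin O.N, ∃ t ∈ T, rowVec C (vec O i) = Matrix.vecMul (rowVec C R)
      (t : Matrix (Fin C.n) (Fin C.n) (ZMod C.p)) := by
    intro i
    obtain ⟨-, k, hk, t, ht, h1⟩ := hreach i i.2
    obtain ⟨-, t', ht', h2⟩ := hR k hk
    refine ⟨t' * t, T.mul_mem ht' ht, ?_⟩
    rw [h1, h2, Matrix.vecMul_vecMul, Units.val_mul]
  choose t ht1 ht2 using hex
  refine card_ge_of_inv (fun g : GL (Fin C.n) (ZMod C.p) =>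
    Matrix.vecMul (rowVec C R) (g : Matrix (Fin C.n) (Fin C.n) (ZMod C.p))) S T hST ?_ t ht1 ?_
  · intro x hx g
    change Matrix.vecMul (rowVec C R) ((x * g : GL (Fin C.n) (ZMod C.p)) :
      Matrix (Fin C.n) (Fin C.n) (ZMod C.p)) = _
    rw [Units.val_mul, ← Matrix.vecMul_vecMul, hfix x hx]
  · intro i j hij
    have h1 : rowVec C (vec O i) = rowVec C (vec O j) := by
      rw [ht2 i, ht2 j]; exact hij
    have h2 := rowVec_injOn (hreach i i.2).1 (hreach j j.2).1 h1
    exact Fin.ext (h.injOn i.2 j.2 h2)

/-- If the bound of `card_ge_of_inv` is attained, every element of `T` is `s * t i`. -/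
theorem exists_of_card {G Y : Type*} [Group G] (f : G → Y) (S T : Subgroup G) (hST : S ≤ T) [Finite T]
    (hinv : ∀ s ∈ S, ∀ g, f (s * g) = f g) {m : ℕ} (t : Fin m → G) (ht : ∀ i, t i ∈ T)
    (hinj : Function.Injective fun i => f (t i)) (hcard : Nat.card T ≤ m * Nat.card S) :
    ∀ g ∈ T, ∃ s ∈ S, ∃ i, g = s * t i := by
  have : Finite S := Finite.of_injective _ (Subgroup.inclusion_injective hST)
  let F : Fin m × S → T := fun x => ⟨x.2.1 * t x.1, T.mul_mem (hST x.2.2) (ht x.1)⟩
  have hF : Function.Injective F := by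
    rintro ⟨i, s⟩ ⟨j, s'⟩ hij
    have h1 : s.1 * t i = s'.1 * t j := congrArg Subtype.val hij
    have h2 : f (t i) = f (t j) := by
      rw [← hinv s.1 s.2 (t i), h1, hinv s'.1 s'.2]
    have h3 : i = j := hinj h2
    subst h3
    have h4 : s.1 = s'.1 := mul_right_cancel h1
    rw [Subtype.ext h4]
  have hb : Function.Bijective F :=
    hF.bijective_of_nat_card_le (by rw [Nat.card_prod, Nat.card_fin]; exact hcard)
  intro g hg
  obtain ⟨⟨i, s⟩, hx⟩ := hb.2 ⟨g, hg⟩
  exact ⟨s.1, s.2, i, (congrArg Subtype.val hx).symm⟩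

/-- Decomposition `T = ⋃ S * w k * T'` when the table is the full orbit. -/
theorem Part.exists_rep (hC : Good C) {s l : ℕ} (h : Part O C 0 O.N s l)
    (S T T' : Subgroup (GL (Fin C.n) (ZMod C.p))) (hST : S ≤ T) (hTT : T' ≤ T) [Finite T]
    (hg : ∀ k < O.ng, okG C (O.gens.get k) = true ∧
      ∃ t ∈ T', (t : Matrix (Fin C.n) (Fin C.n) (ZMod C.p)) = mat C (O.gens.get k))
    (R : ℕ) (w : ℕ → GL (Fin C.n) (ZMod C.p))
    (hR : ∀ k < O.nr, OkR C (O.roots.get k) ∧ w k ∈ T ∧ rowVec C (O.roots.get k) =
      Matrix.vecMul (rowVec C R) (w k : Matrix (Fin C.n) (Fin C.n) (ZMod C.p)))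
    (hfix : ∀ x ∈ S, Matrix.vecMul (rowVec C R) (x : Matrix (Fin C.n) (Fin C.n) (ZMod C.p)) = rowVec C R)
    (hcard : Nat.card T ≤ O.N * Nat.card S) :
    ∀ g ∈ T, ∃ s ∈ S, ∃ k < O.nr, ∃ t ∈ T', g = s * w k * t := by
  have hreach := h.reach hC T' hg (fun k hk => (hR k hk).1)
  have hex : ∀ i : Fin O.N, ∃ k < O.nr, ∃ t ∈ T', rowVec C (vec O i) = Matrix.vecMul (rowVec C R)
      ((w k * t : GL (Fin C.n) (ZMod C.p)) : Matrix (Fin C.n) (Fin C.n) (ZMod C.p)) := by
    intro i
    obtain ⟨-, k, hk, t, ht, h1⟩ := hreach i i.2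
    obtain ⟨-, -, h2⟩ := hR k hk
    refine ⟨k, hk, t, ht, ?_⟩
    rw [h1, h2, Matrix.vecMul_vecMul, Units.val_mul]
  choose k hk t ht1 ht2 using hex
  intro g hgT
  obtain ⟨s, hs, i, hi⟩ := exists_of_card (fun g : GL (Fin C.n) (ZMod C.p) =>
    Matrix.vecMul (rowVec C R) (g : Matrix (Fin C.n) (Fin C.n) (ZMod C.p))) S T hST (by
      intro x hx g
      change Matrix.vecMul (rowVec C R) ((x * g : GL (Fin C.n) (ZMod C.p)) :
        Matrix (Fin C.n) (Fin C.n) (ZMod C.p)) = _
      rw [Units.val_mul, ← Matrix.vecMul_vecMul, hfix x hx]) (fun i => w (k i) * t i)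
    (fun i => T.mul_mem (hR _ (hk i)).2.1 (hTT (ht1 i))) (by
      intro i j hij
      have h1 : rowVec C (vec O i) = rowVec C (vec O j) := by
        rw [ht2 i, ht2 j]; exact hij
      have h2 := rowVec_injOn (hreach i i.2).1 (hreach j j.2).1 h1
      exact Fin.ext (h.injOn i.2 j.2 h2)) hcard g hgT
  exact ⟨s, hs, k i, hk i, t i, ht1 i, by rw [hi, mul_assoc]⟩

end Cfsg.Agent.Lib.PackOrbit
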