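import Mathlib

/-!
# Certified coset identities by paths ("double coset enumeration certificates")

Words are natural numbers in base 16, first letter = lowest hexadecimal digit, letter codes 1..15
(0 is not used as a letter).  `ev gen w` evaluates a word in a group, `cat`, `winv` are concatenation and
formal inverse.  A *node* is an unknown group element `g n` with `g 0 = 1`; a *frame* `(n, w)` stands for the
coset `H * g n * ev w`; a *fact* `(n1, w1, n2, w2)` is the equality of two such cosets.  A fact is proved by two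
paths from a common start frame.  Steps: right multiplication by a word, replacement of the current word by an
equal word (equality checked by an oracle), use of an earlier fact.  Everything is kernel friendly (`Nat` only).
-/

set_option autoImplicit false

namespace Cfsg.Agent.Lib.PathCheck

/-! ### words -/

/-- number of letters of a word -/
def len (w : ℕ) : ℕ := if w = 0 then 0 else w.log2 / 4 + 1

/-- concatenation of words -/
def cat (a b : ℕ) : ℕ := a + b * 16 ^ len a

/-- formal inverse, `il` inverts letters -/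
def winvAux (il : ℕ → ℕ) : ℕ → ℕ → ℕ → ℕ
  | 0, _, acc => acc
  | n + 1, w, acc => winvAux il n (w / 16) (acc * 16 + il (w % 16))

/-- formal inverse of a word -/
def winv (il : ℕ → ℕ) (w : ℕ) : ℕ := winvAux il (len w) w 0

variable {G : Type*} [Group G]

/-- evaluation of a word -/
def ev (gen : ℕ → G) (w : ℕ) : G := ((Nat.digits 16 w).map gen).prod

/-- evaluation of the first `n` letters of a word -/
def evn (gen : ℕ → G) : ℕ → ℕ → G
  | 0, _ => 1
  | n + 1, w => gen (w % 16) * evn gen n (w / 16)

theorem len_eq (w : ℕ) : len w = (Nat.digits 16 w).length := by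
  unfold len
  split_ifs with h
  · simp [h]
  · rw [Nat.length_digits 16 w (by norm_num) h]
    have h16 : Nat.log 16 w = Nat.log 2 w / 4 := by
      rw [← Nat.log_pow_left 2 4 w]
    rw [h16, Nat.log2_eq_log_two]

theorem ev_cat (gen : ℕ → G) (a b : ℕ) : ev gen (cat a b) = ev gen a * ev gen b := by
  unfold ev cat
  rw [len_eq, mul_comm b, ← Nat.digits_append_digits (by norm_num)]
  simp

@[simp] theorem ev_zero (gen : ℕ → G) : ev gen 0 = 1 := by simp [ev]

theorem ev_cons (gen : ℕ → G) (h0 : gen 0 = 1) (x w : ℕ) (hx : x < 16) :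
    ev gen (x + 16 * w) = gen x * ev gen w := by
  unfold ev
  by_cases h : x ≠ 0 ∨ w ≠ 0
  · rw [Nat.digits_add 16 (by norm_num) x w hx h]
    simp
  · push Not at h
    obtain ⟨rfl, rfl⟩ := h
    simp [h0]

theorem ev_step (gen : ℕ → G) (h0 : gen 0 = 1) (w : ℕ) :
    ev gen w = gen (w % 16) * ev gen (w / 16) := by
  conv_lhs => rw [← Nat.mod_add_div w 16]
  exact ev_cons gen h0 _ _ (Nat.mod_lt _ (by norm_num))

theorem ev_eq_evn_of_lt (gen : ℕ → G) (h0 : gen 0 = 1) (n w : ℕ) (h : w < 16 ^ n) :
    ev gen w = evn gen n w := by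
  induction n generalizing w with
  | zero =>
    have : w = 0 := by simpa using h
    simp [this, evn]
  | succ n ih =>
    rw [ev_step gen h0, evn, ih]
    rw [Nat.div_lt_iff_lt_mul (by norm_num)]
    rwa [pow_succ] at h

theorem lt_pow_len (w : ℕ) : w < 16 ^ len w := by
  rw [len_eq]
  exact Nat.lt_base_pow_length_digits (by norm_num)

theorem ev_eq_evn (gen : ℕ → G) (h0 : gen 0 = 1) (w : ℕ) : ev gen w = evn gen (len w) w :=
  ev_eq_evn_of_lt gen h0 _ _ (lt_pow_len w)

/-- the letters: `0` is trivial and `il` is the inversion -/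
structure Letters (gen : ℕ → G) (il : ℕ → ℕ) : Prop where
  zero : gen 0 = 1
  inv : ∀ l < 16, gen (il l) = (gen l)⁻¹
  lt : ∀ l < 16, il l < 16

theorem ev_winvAux {gen : ℕ → G} {il : ℕ → ℕ} (h : Letters gen il) (n w acc : ℕ) :
    ev gen (winvAux il n w acc) = (evn gen n w)⁻¹ * ev gen acc := by
  induction n generalizing w acc with
  | zero => simp [winvAux, evn]
  | succ n ih =>
    rw [winvAux, ih, evn, mul_inv_rev, mul_assoc]
    congr 1
    have hl : w % 16 < 16 := Nat.mod_lt _ (by norm_num)
    rw [show acc * 16 + il (w % 16) = il (w % 16) + 16 * acc by ring,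
      ev_cons gen h.zero _ _ (h.lt _ hl), h.inv _ hl]

theorem ev_winv {gen : ℕ → G} {il : ℕ → ℕ} (h : Letters gen il) (w : ℕ) :
    ev gen (winv il w) = (ev gen w)⁻¹ := by
  rw [winv, ev_winvAux h, ev_eq_evn gen h.zero w]
  simp

/-- remove the prefix `a` from `w` if possible; otherwise multiply on the left by the inverse of `a` -/
def unpre (il : ℕ → ℕ) (a w : ℕ) : ℕ :=
  if w % 16 ^ len a = a then w / 16 ^ len a else cat (winv il a) w

theorem ev_unpre {gen : ℕ → G} {il : ℕ → ℕ} (h : Letters gen il) (a w : ℕ) :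
    ev gen (unpre il a w) = (ev gen a)⁻¹ * ev gen w := by
  unfold unpre
  split_ifs with hw
  · have : w = cat a (w / 16 ^ len a) := by
      unfold cat
      conv_lhs => rw [← Nat.mod_add_div w (16 ^ len a), hw]
      ring
    conv_rhs => rw [this, ev_cat]
    simp
  · rw [ev_cat, ev_winv h]

/-! ### facts and paths -/

/-- a binary tree used as an array: index bits from the lowest one on -/
inductive Tree (α : Type)
  | leaf (a : α)
  | node (l r : Tree α)

/-- lookup -/
def Tree.get {α : Type} : Tree α → ℕ → α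
  | .leaf a, _ => a
  | .node l r, i => if i % 2 = 0 then l.get (i / 2) else r.get (i / 2)

/-- a coset equality `H g_{n1} w1 = H g_{n2} w2` -/
structure Fact where
  n1 : ℕ
  w1 : ℕ
  n2 : ℕ
  w2 : ℕ

/-- the coset equality as a proposition -/
def Holds (H : Subgroup G) (gen : ℕ → G) (g : ℕ → G) (f : Fact) : Prop :=
  (g f.n1 * ev gen f.w1) * (g f.n2 * ev gen f.w2)⁻¹ ∈ H

/-- state of a path: node, word, total word multiplied on the right -/
structure St where
  n : ℕ
  w : ℕ
  p : ℕ

/-- the steps of a path.  `s % 4 = 0`: multiply by the word `s / 4`; `1`: replace the current word by `s / 4`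
(checked by the oracle); `2`, `3`: use fact number `s / 4` (which must be `< k`) in one of the two directions. -/
def run (il : ℕ → ℕ) (orc : ℕ → ℕ → ℕ → Bool) (tab : ℕ → Fact) (k : ℕ) : List ℕ → St → Option St
  | [], st => some st
  | s :: l, st =>
    if s % 4 = 0 then run il orc tab k l ⟨st.n, cat st.w (s / 4), cat st.p (s / 4)⟩
    else if s % 4 = 1 then
      (if orc st.n st.w (s / 4) then run il orc tab k l ⟨st.n, s / 4, st.p⟩ else none)
    else if k ≤ s / 4 then none
    else if s % 4 = 2 then
      (if st.n = (tab (s / 4)).n1 then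
        run il orc tab k l ⟨(tab (s / 4)).n2, cat (tab (s / 4)).w2 (unpre il (tab (s / 4)).w1 st.w), st.p⟩
       else none)
    else
      (if st.n = (tab (s / 4)).n2 then
        run il orc tab k l ⟨(tab (s / 4)).n1, cat (tab (s / 4)).w1 (unpre il (tab (s / 4)).w2 st.w), st.p⟩
       else none)

/-- Same coset of `H` -/
def Rel (H : Subgroup G) (x y : G) : Prop := x * y⁻¹ ∈ H

theorem Rel.refl (H : Subgroup G) (x : G) : Rel H x x := by simp [Rel, H.one_mem]

theorem Rel.symm {H : Subgroup G} {x y : G} (h : Rel H x y) : Rel H y x := by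
  have := H.inv_mem h
  simpa [Rel] using this

theorem Rel.trans {H : Subgroup G} {x y z : G} (h : Rel H x y) (h' : Rel H y z) : Rel H x z := by
  have := H.mul_mem h h'
  simpa [Rel, mul_assoc] using this

theorem Rel.mul_right {H : Subgroup G} {x y : G} (h : Rel H x y) (z : G) : Rel H (x * z) (y * z) := by
  simpa [Rel, mul_assoc] using h

theorem rel_of_eq {H : Subgroup G} {x y : G} (h : x = y) : Rel H x y := h ▸ Rel.refl H x

theorem run_sound {H : Subgroup G} {gen : ℕ → G} {il : ℕ → ℕ} (hL : Letters gen il) {g : ℕ → G}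
    {orc : ℕ → ℕ → ℕ → Bool} (horc : ∀ n w v, orc n w v = true → ev gen w = ev gen v)
    {tab : ℕ → Fact} {k : ℕ} (htab : ∀ i < k, Holds H gen g (tab i)) (x0 : G)
    (l : List ℕ) (st st' : St) (h : run il orc tab k l st = some st')
    (hst : Rel H (g st.n * ev gen st.w) (x0 * ev gen st.p)) :
    Rel H (g st'.n * ev gen st'.w) (x0 * ev gen st'.p) := by
  induction l generalizing st with
  | nil =>
    simp only [run, Option.some.injEq] at h
    rwa [← h]
  | cons s l ih =>
    rw [run] at h
    split_ifs at h with h1 h2 h3 h4 h5 h6 h7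
    · apply ih _ h
      simpa [ev_cat, mul_assoc] using hst.mul_right (ev gen (s / 4))
    · apply ih _ h
      have := horc _ _ _ h3
      simpa [this] using hst
    · apply ih _ h
      refine Rel.trans ?_ hst
      have hf := htab (s / 4) (not_le.mp h4)
      have hf' := Rel.mul_right (Rel.symm hf) ((ev gen (tab (s / 4)).w1)⁻¹ * ev gen st.w)
      simp only [ev_cat, ev_unpre hL]
      rw [h6]
      simpa [mul_assoc] using hf'
    · apply ih _ h
      refine Rel.trans ?_ hst
      have hf := htab (s / 4) (not_le.mp h4)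
      have hf' := Rel.mul_right hf ((ev gen (tab (s / 4)).w2)⁻¹ * ev gen st.w)
      simp only [ev_cat, ev_unpre hL]
      rw [h7]
      simpa [mul_assoc] using hf'

/-- Proof of one fact: start frame, index of the relator pair, two paths. -/
structure Proof where
  n0 : ℕ
  w0 : ℕ
  /-- index in the list of pairs of words with equal value -/
  r : ℕ
  p1 : List ℕ
  p2 : List ℕ

/-- are the two end frames those of the fact (in either order)? -/
def endsOk (f : Fact) (s1 s2 : St) : Bool :=
  (s1.n == f.n1 && s1.w == f.w1 && s2.n == f.n2 && s2.w == f.w2) ||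
  (s1.n == f.n2 && s1.w == f.w2 && s2.n == f.n1 && s2.w == f.w1)

/-- `p1 = α v` and `p2 = β v` for a pair `(α, β)` of equal words and some `v` -/
def totOk (pr : ℕ × ℕ) (p1 p2 : ℕ) : Bool :=
  p1 % 16 ^ len pr.1 == pr.1 && p2 % 16 ^ len pr.2 == pr.2 && p1 / 16 ^ len pr.1 == p2 / 16 ^ len pr.2

/-- check the proof of fact number `k` -/
def checkOne (il : ℕ → ℕ) (orc : ℕ → ℕ → ℕ → Bool) (tab : ℕ → Fact) (prs : ℕ → ℕ × ℕ) (k : ℕ) (p : Proof) :
    Bool :=
  match run il orc tab k p.p1 ⟨p.n0, p.w0, 0⟩, run il orc tab k p.p2 ⟨p.n0, p.w0, 0⟩ with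
  | some s1, some s2 => endsOk (tab k) s1 s2 && totOk (prs p.r) s1.p s2.p
  | _, _ => false

theorem eq_of_totOk {gen : ℕ → G} {pr : ℕ × ℕ} (hpr : ev gen pr.1 = ev gen pr.2) {p1 p2 : ℕ}
    (h : totOk pr p1 p2 = true) : ev gen p1 = ev gen p2 := by
  simp only [totOk, Bool.and_eq_true, beq_iff_eq] at h
  obtain ⟨⟨h1, h2⟩, h3⟩ := h
  have e1 : p1 = cat pr.1 (p1 / 16 ^ len pr.1) := by
    unfold cat
    conv_lhs => rw [← Nat.mod_add_div p1 (16 ^ len pr.1), h1]
    ring
  have e2 : p2 = cat pr.2 (p2 / 16 ^ len pr.2) := by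
    unfold cat
    conv_lhs => rw [← Nat.mod_add_div p2 (16 ^ len pr.2), h2]
    ring
  rw [e1, e2, ev_cat, ev_cat, hpr, h3]

theorem checkOne_sound {H : Subgroup G} {gen : ℕ → G} {il : ℕ → ℕ} (hL : Letters gen il) {g : ℕ → G}
    {orc : ℕ → ℕ → ℕ → Bool} (horc : ∀ n w v, orc n w v = true → ev gen w = ev gen v)
    {prs : ℕ → ℕ × ℕ} (hprs : ∀ i, ev gen (prs i).1 = ev gen (prs i).2)
    {tab : ℕ → Fact} {k : ℕ} (htab : ∀ i < k, Holds H gen g (tab i)) (p : Proof)
    (h : checkOne il orc tab prs k p = true) : Holds H gen g (tab k) := by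
  unfold checkOne at h
  split at h
  · rename_i s1 s2 e1 e2
    simp only [Bool.and_eq_true] at h
    obtain ⟨he, ht⟩ := h
    have r1 := run_sound hL horc htab (g p.n0 * ev gen p.w0) _ _ _ e1 (by simpa using Rel.refl H _)
    have r2 := run_sound hL horc htab (g p.n0 * ev gen p.w0) _ _ _ e2 (by simpa using Rel.refl H _)
    have hp := eq_of_totOk (hprs p.r) ht
    rw [hp] at r1
    have r := Rel.trans r1 (Rel.symm r2)
    simp only [endsOk, Bool.or_eq_true, Bool.and_eq_true, beq_iff_eq] at he
    rcases he with ⟨⟨⟨a1, a2⟩, a3⟩, a4⟩ | ⟨⟨⟨a1, a2⟩, a3⟩, a4⟩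
    · rw [a1, a2, a3, a4] at r
      exact r
    · rw [a1, a2, a3, a4] at r
      exact Rel.symm r
  · simp at h

/-- check a list of proofs for the facts `k, k+1, …` -/
def checkFrom (il : ℕ → ℕ) (orc : ℕ → ℕ → ℕ → Bool) (tab : ℕ → Fact) (prs : ℕ → ℕ × ℕ) :
    ℕ → List Proof → Bool
  | _, [] => true
  | k, p :: l => checkOne il orc tab prs k p && checkFrom il orc tab prs (k + 1) l

theorem checkFrom_sound {H : Subgroup G} {gen : ℕ → G} {il : ℕ → ℕ} (hL : Letters gen il) {g : ℕ → G}
    {orc : ℕ → ℕ → ℕ → Bool} (horc : ∀ n w v, orc n w v = true → ev gen w = ev gen v)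
    {prs : ℕ → ℕ × ℕ} (hprs : ∀ i, ev gen (prs i).1 = ev gen (prs i).2)
    {tab : ℕ → Fact} {k : ℕ} (htab : ∀ i < k, Holds H gen g (tab i)) (l : List Proof)
    (h : checkFrom il orc tab prs k l = true) : ∀ i < k + l.length, Holds H gen g (tab i) := by
  induction l generalizing k with
  | nil => simpa using htab
  | cons p l ih =>
    simp only [checkFrom, Bool.and_eq_true] at h
    have hk := checkOne_sound hL horc hprs htab p h.1
    have := ih (k := k + 1) (fun i hi => by
      rcases Nat.lt_succ_iff_lt_or_eq.mp hi with hi | rfl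
      · exact htab i hi
      · exact hk) h.2
    intro i hi
    apply this
    simp only [List.length_cons] at hi
    omega

/-! ### definitions of the nodes -/

/-- the facts `tab i`, `a ≤ i < b`, each define a new node: the list `d` says which side is new (`true`: side 2)
and `used` is the list of the nodes defined before. -/
def defsOk (tab : ℕ → Fact) : ℕ → List Bool → List ℕ → Bool
  | _, [], _ => true
  | i, true :: l, used => (tab i).n1 ∈ used ∧ (tab i).n2 ∉ used ∧ defsOk tab (i + 1) l ((tab i).n2 :: used)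
  | i, false :: l, used => (tab i).n2 ∈ used ∧ (tab i).n1 ∉ used ∧ defsOk tab (i + 1) l ((tab i).n1 :: used)

theorem exists_nodes_aux (H : Subgroup G) (gen : ℕ → G) (tab : ℕ → Fact) (l : List Bool) (i : ℕ) (used : List ℕ)
    (h : defsOk tab i l used = true) (g : ℕ → G) :
    ∃ g' : ℕ → G, (∀ n ∈ used, g' n = g n) ∧ ∀ j < l.length, Holds H gen g' (tab (i + j)) := by
  induction l generalizing i used g with
  | nil => exact ⟨g, fun _ _ => rfl, by simp⟩
  | cons b l ih =>
    cases b with
    | true =>
      simp only [defsOk, decide_eq_true_eq] at h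
      obtain ⟨h1, h2, h3⟩ := h
      obtain ⟨g', hg', hj⟩ := ih (i + 1) ((tab i).n2 :: used) h3
        (Function.update g (tab i).n2 (g (tab i).n1 * ev gen (tab i).w1 * (ev gen (tab i).w2)⁻¹))
      refine ⟨g', ?_, ?_⟩
      · intro n hn
        rw [hg' n (List.mem_cons_of_mem _ hn), Function.update_of_ne]
        rintro rfl
        exact h2 hn
      · intro j hj'
        cases j with
        | zero =>
          have e1 : g' (tab i).n1 = g (tab i).n1 := by
            rw [hg' _ (List.mem_cons_of_mem _ h1), Function.update_of_ne]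
            rintro e
            exact h2 (e ▸ h1)
          have e2 : g' (tab i).n2 = g (tab i).n1 * ev gen (tab i).w1 * (ev gen (tab i).w2)⁻¹ := by
            rw [hg' _ (by simp), Function.update_self]
          simp only [Nat.add_zero, Holds, e1, e2]
          simp [H.one_mem]
        | succ j =>
          have := hj j (by simpa using hj')
          rwa [show i + 1 + j = i + (j + 1) by ring] at this
    | false =>
      simp only [defsOk, decide_eq_true_eq] at h
      obtain ⟨h1, h2, h3⟩ := h
      obtain ⟨g', hg', hj⟩ := ih (i + 1) ((tab i).n1 :: used) h3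
        (Function.update g (tab i).n1 (g (tab i).n2 * ev gen (tab i).w2 * (ev gen (tab i).w1)⁻¹))
      refine ⟨g', ?_, ?_⟩
      · intro n hn
        rw [hg' n (List.mem_cons_of_mem _ hn), Function.update_of_ne]
        rintro rfl
        exact h2 hn
      · intro j hj'
        cases j with
        | zero =>
          have e1 : g' (tab i).n2 = g (tab i).n2 := by
            rw [hg' _ (List.mem_cons_of_mem _ h1), Function.update_of_ne]
            rintro e
            exact h2 (e ▸ h1)
          have e2 : g' (tab i).n1 = g (tab i).n2 * ev gen (tab i).w2 * (ev gen (tab i).w1)⁻¹ := by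
            rw [hg' _ (by simp), Function.update_self]
          simp only [Nat.add_zero, Holds, e1, e2]
          simp [H.one_mem]
        | succ j =>
          have := hj j (by simpa using hj')
          rwa [show i + 1 + j = i + (j + 1) by ring] at this

end Cfsg.Agent.Lib.PathCheck
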