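import Cfsg.Agent.HN.PC

/-!
# Collection in a polycyclic 2-group

`s 0, …, s (n-1)` with `s k * s k = ∏ s i (i ∈ sq k)` and `s j * s k = (∏ s i (i ∈ cj j k)) * s j` for `k < j`.
A normal form is a decreasing list `st` (the top generator first), `val s st` its value. `collect` multiplies a normal
form by a word. If `|⟨s 0, …, s (n-1)⟩| = 2^n`, a nonempty normal form is not `1` (`val_ne_one`).
-/

set_option autoImplicit false

namespace Cfsg.Agent.Lib.PcCollect

open Subgroup Cfsg.Agent.HN.PC

variable {G : Type*} [Group G]

/-- the value of a stack -/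
def val (s : ℕ → G) : List ℕ → G
  | [] => 1
  | j :: st => val s st * s j

theorem val_eq (s : ℕ → G) (st : List ℕ) : val s st = (st.reverse.map s).prod := by
  induction st with
  | nil => rfl
  | cons j st ih => rw [val, ih]; simp

theorem val_append (s : ℕ → G) (l m : List ℕ) : val s (l ++ m) = val s m * val s l := by
  rw [val_eq, val_eq, val_eq]
  simp

theorem val_reverse (s : ℕ → G) (l : List ℕ) : val s l.reverse = (l.map s).prod := by
  rw [val_eq, List.reverse_reverse]

/-- collection: `val st * ∏ L` as a stack -/
def collect (sq : ℕ → List ℕ) (cj : ℕ → ℕ → List ℕ) : ℕ → List ℕ → List ℕ → Option (List ℕ)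
  | 0, _, _ => none
  | n + 1, st, L =>
    match L with
    | [] => some st
    | k :: L =>
      match st with
      | [] => collect sq cj n [k] L
      | j :: st =>
        match Nat.blt j k with
        | true => collect sq cj n (k :: j :: st) L
        | false =>
          match Nat.beq j k with
          | true => collect sq cj n st (sq k ++ L)
          | false => collect sq cj n st (cj j k ++ j :: L)

/-- the relations -/
structure Rel (s : ℕ → G) (n : ℕ) (sq : ℕ → List ℕ) (cj : ℕ → ℕ → List ℕ) : Prop where
  sq_eq : ∀ k < n, s k * s k = ((sq k).map s).prod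
  cj_eq : ∀ k < n, ∀ i < k, s k * s i = ((cj k i).map s).prod * s k
  sq_lt : ∀ k < n, ∀ j ∈ sq k, j < k
  cj_lt : ∀ k < n, ∀ i < k, ∀ j ∈ cj k i, j < k

variable {s : ℕ → G} {n : ℕ} {sq : ℕ → List ℕ} {cj : ℕ → ℕ → List ℕ}

theorem collect_sound (R : Rel s n sq cj) : ∀ (m : ℕ) (st L r : List ℕ), (∀ i ∈ st, i < n) → (∀ i ∈ L, i < n) →
    collect sq cj m st L = some r → val s st * (L.map s).prod = val s r ∧ ∀ i ∈ r, i < n := by
  intro m
  induction m with
  | zero => intro st L r _ _ h; exact absurd h (by simp [collect])
  | succ m ih =>
    intro st L r hst hL h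
    cases L with
    | nil =>
      simp only [collect, Option.some.injEq] at h
      subst h
      exact ⟨by simp, hst⟩
    | cons k L =>
      have hk : k < n := hL k (by simp)
      have hL' : ∀ i ∈ L, i < n := fun i hi => hL i (by simp [hi])
      cases st with
      | nil =>
        simp only [collect] at h
        obtain ⟨h1, h2⟩ := ih [k] L r (by simpa using hk) hL' h
        refine ⟨?_, h2⟩
        rw [← h1]
        simp [val]
      | cons j st =>
        have hj : j < n := hst j (by simp)
        have hst' : ∀ i ∈ st, i < n := fun i hi => hst i (by simp [hi])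
        simp only [collect] at h
        cases hb : Nat.blt j k with
        | true =>
          rw [hb] at h
          obtain ⟨h1, h2⟩ := ih (k :: j :: st) L r
            (by intro i hi
                rcases List.mem_cons.1 hi with rfl | hi
                · exact hk
                · exact hst i hi) hL' h
          refine ⟨?_, h2⟩
          rw [← h1]
          simp [val, mul_assoc]
        | false =>
          rw [hb] at h
          have hjk : ¬ j < k := by
            intro hlt
            rw [← Nat.blt_eq, hb] at hlt
            exact absurd hlt (by decide)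
          cases hc : Nat.beq j k with
          | true =>
            rw [hc] at h
            have hjk' : j = k := Nat.eq_of_beq_eq_true hc
            subst hjk'
            obtain ⟨h1, h2⟩ := ih st (sq j ++ L) r hst'
              (by intro i hi
                  rcases List.mem_append.1 hi with hi | hi
                  · exact (R.sq_lt j hj i hi).trans hj
                  · exact hL' i hi) h
            refine ⟨?_, h2⟩
            rw [← h1, List.map_append, List.prod_append, ← R.sq_eq j hj]
            simp [val, mul_assoc]
          | false =>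
            rw [hc] at h
            have hkj : k < j := by
              rcases Nat.lt_or_ge k j with h3 | h3
              · exact h3
              · have : j = k := by omega
                subst this
                rw [Nat.beq_refl] at hc
                exact absurd hc (by decide)
            obtain ⟨h1, h2⟩ := ih st (cj j k ++ j :: L) r hst'
              (by intro i hi
                  rcases List.mem_append.1 hi with hi | hi
                  · exact (R.cj_lt j hj k hkj i hi).trans hj
                  · rcases List.mem_cons.1 hi with rfl | hi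
                    · exact hj
                    · exact hL' i hi) h
            refine ⟨?_, h2⟩
            rw [← h1, List.map_append, List.prod_append, List.map_cons, List.prod_cons, List.map_cons, List.prod_cons,
              ← mul_assoc ((cj j k).map s).prod, ← R.cj_eq j hj k hkj, val]
            simp only [mul_assoc]

/-- the equation of two words -/
theorem eq_of_collect (R : Rel s n sq cj) (m : ℕ) {u v : List ℕ} (hu : ∀ i ∈ u, i < n) (hv : ∀ i ∈ v, i < n)
    {r : List ℕ} (h1 : collect sq cj m [] u = some r) (h2 : collect sq cj m [] v = some r) :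
    (u.map s).prod = (v.map s).prod := by
  have e1 := (collect_sound R m [] u r (by simp) hu h1).1
  have e2 := (collect_sound R m [] v r (by simp) hv h2).1
  rw [val, one_mul] at e1 e2
  rw [e1, e2]

theorem Rel.step (R : Rel s n sq cj) {k : ℕ} (hk : k < n) : Step s k := by
  have hp : ∀ {L : List ℕ}, (∀ i ∈ L, i < k) → (L.map s).prod ∈ Pc s k := by
    intro L h
    apply Subgroup.list_prod_mem
    intro x hx
    obtain ⟨i, hi, rfl⟩ := List.mem_map.1 hx
    exact mem_Pc (h i hi)
  refine ⟨?_, fun i hi => ?_⟩
  · rw [R.sq_eq k hk]
    exact hp (R.sq_lt k hk)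
  · rw [R.cj_eq k hk i hi, mul_inv_cancel_right]
    exact hp (R.cj_lt k hk i hi)

/-- all normal forms -/
def all : ℕ → List (List ℕ)
  | 0 => [[]]
  | n + 1 => all n ++ (all n).map (n :: ·)

theorem mem_all_succ {k : ℕ} {st : List ℕ} :
    st ∈ all (k + 1) ↔ st ∈ all k ∨ ∃ st' ∈ all k, st = k :: st' := by
  rw [all, List.mem_append, List.mem_map]
  simp [eq_comm]

/-- every element is the value of a normal form -/
theorem exists_val (R : Rel s n sq cj) : ∀ k ≤ n, ∀ x ∈ Pc s k, ∃ st ∈ all k, x = val s st := by
  intro k
  induction k with
  | zero =>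
    intro _ x hx
    rw [Pc_zero, Subgroup.mem_bot] at hx
    exact ⟨[], by simp [all], hx⟩
  | succ k ih =>
    intro hk x hx
    rcases (R.step (by omega : k < n)).mem hx with h | h
    · obtain ⟨st, h1, h2⟩ := ih (by omega) x h
      exact ⟨st, mem_all_succ.2 (Or.inl h1), h2⟩
    · obtain ⟨st, h1, h2⟩ := ih (by omega) _ h
      refine ⟨k :: st, mem_all_succ.2 (Or.inr ⟨st, h1, rfl⟩), ?_⟩
      rw [val, ← h2, inv_mul_cancel_right]

theorem lt_of_mem_all : ∀ k : ℕ, ∀ st ∈ all k, ∀ i ∈ st, i < k := by
  intro k
  induction k with
  | zero => intro st h i hi; simp [all] at h; subst h; simp at hi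
  | succ k ih =>
    intro st h i hi
    rcases mem_all_succ.1 h with h | ⟨st', h', rfl⟩
    · exact (ih st h i hi).trans (Nat.lt_succ_self k)
    · rcases List.mem_cons.1 hi with rfl | hi
      · exact Nat.lt_succ_self _
      · exact (ih st' h' i hi).trans (Nat.lt_succ_self k)

/-- the generators are independent if the order is `2^n` -/
theorem notMem_Pc (R : Rel s n sq cj) (hcard : Nat.card (Pc s n) = 2 ^ n) {k : ℕ} (hk : k < n) : s k ∉ Pc s k := by
  have key : ∀ m ≤ n, Finite (Pc s m) ∧ Nat.card (Pc s m) ≤ 2 ^ m := by
    intro m
    induction m with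
    | zero =>
      intro _
      rw [Pc_zero]
      exact ⟨inferInstance, by simp⟩
    | succ m ih =>
      intro hm
      obtain ⟨h1, h2⟩ := ih (by omega)
      obtain ⟨h3, h4⟩ := (R.step (by omega : m < n)).card_le
      exact ⟨h3, by rw [pow_succ]; omega⟩
  intro hmem
  have hle : Pc s (k + 1) ≤ Pc s k := by
    refine (Subgroup.closure_le _).2 ?_
    rintro _ ⟨i, hi, rfl⟩
    have hi' : i < k + 1 := hi
    rcases Nat.lt_succ_iff_lt_or_eq.1 hi' with h | rfl
    · exact mem_Pc h
    · exact hmem
  have key2 : ∀ m, k + 1 ≤ m → m ≤ n → 2 * Nat.card (Pc s m) ≤ 2 ^ m := by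
    intro m hm
    induction m, hm using Nat.le_induction with
    | base =>
      intro h
      have := (key k (by omega)).1
      have h1 : Nat.card (Pc s (k + 1)) ≤ Nat.card (Pc s k) := Subgroup.card_le_of_le hle
      have h2 := (key k (by omega)).2
      rw [pow_succ]
      omega
    | succ m hm ih =>
      intro h
      have := (key m (by omega)).1
      have h1 := ih (by omega)
      have h2 := (R.step (by omega : m < n)).card_le.2
      rw [pow_succ]
      omega
  have h3 := key2 n hk le_rfl
  rw [hcard] at h3
  have : 0 < 2 ^ n := by positivity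
  omega

/-- `r` is a nonempty decreasing list -/
def isNF : List ℕ → Bool
  | [] => false
  | j :: r => r.all fun i => Nat.blt i j

/-- a nonempty normal form is not `1` -/
theorem val_ne_one (R : Rel s n sq cj) (hcard : Nat.card (Pc s n) = 2 ^ n) {r : List ℕ} (hr : ∀ i ∈ r, i < n)
    (h : isNF r = true) : val s r ≠ 1 := by
  cases r with
  | nil => exact absurd h (by simp [isNF])
  | cons j r =>
    intro h1
    refine notMem_Pc R hcard (hr j (by simp)) ?_
    have h2 : val s r ∈ Pc s j := by
      rw [val_eq]
      apply Subgroup.list_prod_mem
      intro x hx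
      obtain ⟨i, hi, rfl⟩ := List.mem_map.1 hx
      refine mem_Pc ?_
      have h3 := List.all_eq_true.1 h i (List.mem_reverse.1 hi)
      rwa [Nat.blt_eq] at h3
    have h4 : s j = (val s r)⁻¹ := by
      rw [val] at h1
      exact (inv_eq_of_mul_eq_one_right h1).symm
    rw [h4]
    exact inv_mem h2

/-- test: the square of the normal form is a nonempty normal form -/
def sqNe (sq : ℕ → List ℕ) (cj : ℕ → ℕ → List ℕ) (m : ℕ) (st : List ℕ) : Bool :=
  match collect sq cj m st st.reverse with
  | none => false
  | some r => isNF r

theorem sqNe_spec (R : Rel s n sq cj) (hcard : Nat.card (Pc s n) = 2 ^ n) {m : ℕ} {st : List ℕ}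
    (hst : ∀ i ∈ st, i < n) (h : sqNe sq cj m st = true) : val s st * val s st ≠ 1 := by
  unfold sqNe at h
  cases hc : collect sq cj m st st.reverse with
  | none => rw [hc] at h; exact absurd h (by decide)
  | some r =>
    rw [hc] at h
    obtain ⟨h1, h2⟩ := collect_sound R m st st.reverse r hst (fun i hi => hst i (List.mem_reverse.1 hi)) hc
    rw [← val_eq] at h1
    rw [h1]
    exact val_ne_one R hcard h2 h

/-- test: `P * v = u * P` -/
def conjOK (sq : ℕ → List ℕ) (cj : ℕ → ℕ → List ℕ) (m : ℕ) (P u v : List ℕ) : Bool :=
  match collect sq cj m [] (P ++ v.reverse), collect sq cj m [] (u.reverse ++ P) with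
  | some r, some r' => r == r'
  | _, _ => false

theorem conjOK_spec (R : Rel s n sq cj) {m : ℕ} {P u v : List ℕ} (hP : ∀ i ∈ P, i < n) (hu : ∀ i ∈ u, i < n)
    (hv : ∀ i ∈ v, i < n) (h : conjOK sq cj m P u v = true) :
    (P.map s).prod * val s v * ((P.map s).prod)⁻¹ = val s u := by
  unfold conjOK at h
  cases h1 : collect sq cj m [] (P ++ v.reverse) with
  | none => rw [h1] at h; exact absurd h (by simp)
  | some r =>
    cases h2 : collect sq cj m [] (u.reverse ++ P) with
    | none => rw [h1, h2] at h; exact absurd h (by simp)
    | some r' =>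
      rw [h1, h2] at h
      have hr : r = r' := by simpa using h
      subst hr
      have h3 := eq_of_collect R m (u := P ++ v.reverse) (v := u.reverse ++ P)
        (by intro i hi
            rcases List.mem_append.1 hi with hi | hi
            · exact hP i hi
            · exact hv i (List.mem_reverse.1 hi))
        (by intro i hi
            rcases List.mem_append.1 hi with hi | hi
            · exact hu i (List.mem_reverse.1 hi)
            · exact hP i hi) h1 h2
      rw [List.map_append, List.prod_append, ← val_eq, List.map_append, List.prod_append, ← val_eq] at h3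
      rw [h3, mul_inv_cancel_right]

end Cfsg.Agent.Lib.PcCollect
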