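import Cfsg.Agent.Lib.PermNetFix

/-!
# Counting the points moved by some words of networks and fixed by others (kernel)

* `pat k full ws` : bit mask of the points of `full` which are moved by the words `(w, true)` of `ws` and fixed by the
  words `(w, false)`;
* `pc k m` : number of the bits of `m` below `2 ^ k`.
-/

set_option autoImplicit false

namespace Cfsg.Agent.Lib.PermNetPat

open Cfsg.Agent.Lib.PermNet Cfsg.Agent.Lib.PermNetFix

noncomputable def pat (k full : ℕ) (ws : List (List Net × Bool)) : ℕ :=
  List.rec (motive := fun _ => ℕ) full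
    (fun w _ ih => seq ih fun x => seq (moved k w.1) fun y =>
      Bool.rec (Nat.xor x (Nat.land x y)) (Nat.land x y) w.2) ws

theorem pat_cons_true (k full : ℕ) (w : List Net) (ws : List (List Net × Bool)) :
    pat k full ((w, true) :: ws) = pat k full ws &&& moved k w := by
  show seq (pat k full ws) (fun x => seq (moved k w) fun y => Nat.land x y) = _
  rw [seq_eq, seq_eq]
  rfl

theorem pat_cons_false (k full : ℕ) (w : List Net) (ws : List (List Net × Bool)) :
    pat k full ((w, false) :: ws) = pat k full ws ^^^ (pat k full ws &&& moved k w) := by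
  show seq (pat k full ws) (fun x => seq (moved k w) fun y => Nat.xor x (Nat.land x y)) = _
  rw [seq_eq, seq_eq]
  rfl

theorem testBit_pat {k full : ℕ} {ws : List (List Net × Bool)} (hws : ∀ w ∈ ws, WOk (2 ^ k) w.1) {p : ℕ}
    (hp : p < 2 ^ k) (hf : full.testBit p = true)
    (h : ∀ w ∈ ws, (wperm w.1 p ≠ p) ↔ w.2 = true) : (pat k full ws).testBit p = true := by
  induction ws with
  | nil => exact hf
  | cons w ws ih =>
    have h1 := ih (fun w hw => hws w (List.mem_cons_of_mem _ hw)) (fun w hw => h w (List.mem_cons_of_mem _ hw))
    obtain ⟨w, b⟩ := w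
    have h2 := h (w, b) List.mem_cons_self
    have h3 := testBit_moved (hws (w, b) List.mem_cons_self) hp
    cases b
    · have h4 : (moved k w).testBit p = false := by
        rw [← Bool.not_eq_true, h3]
        intro h5
        have := h2.1 h5
        exact absurd this (by simp)
      rw [pat_cons_false, Nat.testBit_xor, Nat.testBit_and, h1, h4]
      rfl
    · have h4 : (moved k w).testBit p = true := h3.2 (h2.2 rfl)
      rw [pat_cons_true, Nat.testBit_and, h1, h4]
      rfl

/-- the number of bits of `m` below `2 ^ k` -/
noncomputable def pc (k : ℕ) : ℕ → ℕ :=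
  Nat.rec (motive := fun _ => ℕ → ℕ) (fun m => Nat.mod m 2)
    (fun k ih m => seq m fun m => Bool.rec
      (Nat.add (ih (Nat.mod m (Nat.pow 2 (Nat.pow 2 k)))) (ih (Nat.div m (Nat.pow 2 (Nat.pow 2 k))))) 0
      (Nat.beq m 0)) k

theorem pc_succ (k m : ℕ) :
    pc (k + 1) m = bif Nat.beq m 0 then 0 else pc k (m % 2 ^ 2 ^ k) + pc k (m / 2 ^ 2 ^ k) := by
  show seq m (fun m => Bool.rec
      (Nat.add (pc k (Nat.mod m (Nat.pow 2 (Nat.pow 2 k)))) (pc k (Nat.div m (Nat.pow 2 (Nat.pow 2 k))))) 0
      (Nat.beq m 0)) = _
  rw [seq_eq]
  cases Nat.beq m 0 <;> rfl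

theorem card_filter_testBit (k m : ℕ) :
    ((Finset.range (2 ^ k)).filter (fun p => m.testBit p = true)).card = pc k m := by
  induction k generalizing m with
  | zero =>
    show _ = m % 2
    rw [pow_zero, Finset.range_one, Finset.filter_singleton]
    have h := Nat.mod_two_eq_zero_or_one m
    rw [Nat.testBit_zero]
    rcases h with h | h <;> simp [h]
  | succ k ih =>
    rw [pc_succ]
    by_cases hm : m = 0
    · subst hm
      simp
    · have hb : Nat.beq m 0 = false := by
        cases h : Nat.beq m 0
        · rfl
        · exact absurd (Nat.eq_of_beq_eq_true h) hm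
      rw [hb, cond_false, ← ih, ← ih]
      have h1 : (Finset.range (2 ^ (k + 1))) = Finset.range (2 ^ k) ∪ (Finset.range (2 ^ k)).map (addRightEmbedding (2 ^ k)) := by
        ext p
        simp only [Finset.mem_union, Finset.mem_map, Finset.mem_range, addRightEmbedding_apply]
        rw [pow_succ]
        constructor
        · intro hp
          by_cases h : p < 2 ^ k
          · exact Or.inl h
          · exact Or.inr ⟨p - 2 ^ k, by omega, by omega⟩
        · rintro (h | ⟨q, hq, rfl⟩) <;> omega
      have hd : Disjoint (Finset.range (2 ^ k)) ((Finset.range (2 ^ k)).map (addRightEmbedding (2 ^ k))) := by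
        rw [Finset.disjoint_left]
        intro p hp hp'
        obtain ⟨q, -, rfl⟩ := Finset.mem_map.1 hp'
        rw [Finset.mem_range, addRightEmbedding_apply] at hp
        omega
      rw [h1, Finset.filter_union, Finset.card_union_of_disjoint
        (Finset.disjoint_filter_filter hd)]
      congr 1
      · congr 1
        apply Finset.filter_congr
        intro p hp
        rw [Finset.mem_range] at hp
        rw [Nat.testBit_mod_two_pow, decide_eq_true hp, Bool.true_and]
      · rw [Finset.filter_map, Finset.card_map]
        congr 1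
        apply Finset.filter_congr
        intro p hp
        show m.testBit (p + 2 ^ k) = true ↔ _
        rw [Nat.testBit_div_two_pow]

end Cfsg.Agent.Lib.PermNetPat
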