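import Mathlib

/-!
General lemmas turning "a finite simple group with a subgroup of index `n`" into a transitive
permutation group on `Fin n`, and a nontrivial homomorphism out of a simple group into an isomorphic
copy in the target.
-/

set_option autoImplicit false

namespace Cfsg.Agent.Lib.PermRealization

variable {G : Type*} [Group G]

/-- A nontrivial homomorphism from a simple group is injective. -/
theorem injective_of_ne_one [IsSimpleGroup G] {H : Type*} [Group H] (f : G →* H)
    (hf : ∃ g, f g ≠ 1) : Function.Injective f := by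
  rw [← MonoidHom.ker_eq_bot_iff]
  rcases f.normal_ker.eq_bot_or_eq_top with h | h
  · exact h
  · exfalso
    obtain ⟨g, hg⟩ := hf
    apply hg
    have : g ∈ f.ker := by rw [h]; trivial
    exact this

/-- Simplicity passes along an isomorphism. -/
theorem isSimpleGroup_of_mulEquiv {H : Type*} [Group H] [IsSimpleGroup G] (e : G ≃* H) :
    IsSimpleGroup H := by
  have : Nontrivial H := e.injective.nontrivial
  exact IsSimpleGroup.isSimpleGroup_of_surjective e.toMonoidHom e.surjective

/-- The range of a nontrivial homomorphism from a simple group is a copy of it. -/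
theorem exists_subgroup_of_hom [IsSimpleGroup G] {H : Type*} [Group H] (f : G →* H)
    (hf : ∃ g, f g ≠ 1) :
    ∃ (K : Subgroup H) (e : G ≃* K), ∀ g, (e g : H) = f g :=
  ⟨f.range, MonoidHom.ofInjective (injective_of_ne_one f hf), fun _ => rfl⟩

/-- Version recording simplicity and order of the range. -/
theorem exists_simple_subgroup_of_hom [IsSimpleGroup G] {H : Type*} [Group H] (f : G →* H)
    (hf : ∃ g, f g ≠ 1) :
    ∃ (K : Subgroup H), IsSimpleGroup K ∧ Nat.card K = Nat.card G ∧ Nonempty (G ≃* K) := by
  obtain ⟨K, e, -⟩ := exists_subgroup_of_hom f hf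
  exact ⟨K, isSimpleGroup_of_mulEquiv e, (Nat.card_congr e.toEquiv).symm, ⟨e⟩⟩

/-- **Permutation realisation.** If `G` acts faithfully and transitively on a type `X` in bijection
with `Fin n`, then `G` is isomorphic to a transitive subgroup of `Perm (Fin n)`, the stabiliser of
`0` corresponding to the stabiliser of the given point. -/
theorem exists_perm_of_faithful {X : Type*} [MulAction G X] [FaithfulSMul G X]
    [MulAction.IsPretransitive G X] (n : ℕ) [NeZero n] (b : X ≃ Fin n) (x₀ : X) :
    ∃ (H : Subgroup (Equiv.Perm (Fin n))) (e : G ≃* H),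
      MulAction.IsPretransitive H (Fin n) ∧
      ∃ f : MulAction.stabilizer G x₀ ≃* MulAction.stabilizer H (0 : Fin n),
        ∀ k, ((f k : MulAction.stabilizer H (0 : Fin n)) : H) = e (k : G) := by
  -- relabel so that `x₀` goes to `0`
  let c : X ≃ Fin n := b.trans (Equiv.swap (b x₀) 0)
  have hc : c x₀ = 0 := by simp [c]
  let φ : G →* Equiv.Perm (Fin n) :=
    (c.permCongrHom.toMonoidHom).comp (MulAction.toPermHom G X)
  have hφ : ∀ g i, φ g i = c (g • c.symm i) := fun g i => rfl
  have hinj : Function.Injective φ := by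
    intro g h hgh
    apply MulAction.toPerm_injective (α := G) (β := X)
    ext x
    have := congrArg (fun p : Equiv.Perm (Fin n) => p (c x)) hgh
    simp only [hφ, Equiv.symm_apply_apply] at this
    exact c.injective this
  let e : G ≃* φ.range := MonoidHom.ofInjective hinj
  have he : ∀ g (i : Fin n), (e g) • i = c (g • c.symm i) := fun g i => rfl
  refine ⟨φ.range, e, ⟨fun i j => ?_⟩, ?_⟩
  · obtain ⟨g, hg⟩ := MulAction.exists_smul_eq G (c.symm i) (c.symm j)
    refine ⟨e g, ?_⟩
    rw [he, hg, Equiv.apply_symm_apply]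
  · have hstab : ∀ g : G, g ∈ MulAction.stabilizer G x₀ ↔
        e g ∈ MulAction.stabilizer φ.range (0 : Fin n) := by
      intro g
      rw [MulAction.mem_stabilizer_iff, MulAction.mem_stabilizer_iff, he, ← hc,
        Equiv.symm_apply_apply]
      exact ⟨fun h => by rw [h], fun h => c.injective h⟩
    refine ⟨{ toFun := fun k => ⟨e k, (hstab k).1 k.2⟩
              invFun := fun k => ⟨e.symm k, (hstab _).2 (by rw [e.apply_symm_apply]; exact k.2)⟩
              left_inv := fun k => Subtype.ext (e.symm_apply_apply _)
              right_inv := fun k => Subtype.ext (e.apply_symm_apply _)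
              map_mul' := fun a b => Subtype.ext (by simp) }, fun k => rfl⟩

/-- **Permutation realisation from a subgroup.** A simple group `G` with a subgroup `K` of index
`n > 1` is isomorphic to a transitive subgroup `H` of `Perm (Fin n)` whose stabiliser of `0`
corresponds to `K`. -/
theorem exists_perm_subgroup [IsSimpleGroup G] (K : Subgroup G) (n : ℕ) [NeZero n]
    (hn : 1 < n) (hK : K.index = n) :
    ∃ (H : Subgroup (Equiv.Perm (Fin n))) (e : G ≃* H),
      MulAction.IsPretransitive H (Fin n) ∧
      ∃ f : K ≃* MulAction.stabilizer H (0 : Fin n),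
        ∀ k, ((f k : MulAction.stabilizer H (0 : Fin n)) : H) = e (k : G) := by
  have hKtop : K ≠ ⊤ := by
    rintro rfl
    rw [Subgroup.index_top] at hK
    omega
  have hcore : K.normalCore = ⊥ := by
    rcases (inferInstance : K.normalCore.Normal).eq_bot_or_eq_top with h | h
    · exact h
    · exact absurd (top_le_iff.1 (h ▸ K.normalCore_le)) hKtop
  have hfin : Finite (G ⧸ K) := by
    apply (Nat.card_ne_zero.1 _).2
    show K.index ≠ 0
    rw [hK]; omega
  have hcard : Nat.card (G ⧸ K) = n := hK
  have : FaithfulSMul G (G ⧸ K) := by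
    refine ⟨fun {g h} hgh => ?_⟩
    have hk : (MulAction.toPermHom G (G ⧸ K)).ker = ⊥ := by
      rw [← Subgroup.normalCore_eq_ker, hcore]
    have : Function.Injective (MulAction.toPermHom G (G ⧸ K)) :=
      (MonoidHom.ker_eq_bot_iff _).1 hk
    exact this (Equiv.ext hgh)
  have hb : Nonempty ((G ⧸ K) ≃ Fin n) := by
    have e := Finite.equivFin (G ⧸ K)
    rw [hcard] at e
    exact ⟨e⟩
  obtain ⟨b⟩ := hb
  obtain ⟨H, e, hH, f, hf⟩ := exists_perm_of_faithful (G := G) (X := G ⧸ K) n b
    ((1 : G) : G ⧸ K)
  have hst : MulAction.stabilizer G ((1 : G) : G ⧸ K) = K := MulAction.stabilizer_quotient K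
  refine ⟨H, e, hH, (MulEquiv.subgroupCongr hst.symm).trans f, fun k => ?_⟩
  rw [MulEquiv.trans_apply, hf]
  rfl

/-- Numerical version: simple of order `N` with a subgroup `K` with `Nat.card K * n = N`. -/
theorem exists_perm_subgroup_of_card [Finite G] [IsSimpleGroup G] (K : Subgroup G) (n N : ℕ)
    [NeZero n] (hn : 1 < n) (hN : Nat.card G = N) (hK : Nat.card K * n = N) :
    ∃ (H : Subgroup (Equiv.Perm (Fin n))) (e : G ≃* H), IsSimpleGroup H ∧ Nat.card H = N ∧
      MulAction.IsPretransitive H (Fin n) ∧
      ∃ f : K ≃* MulAction.stabilizer H (0 : Fin n),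
        ∀ k, ((f k : MulAction.stabilizer H (0 : Fin n)) : H) = e (k : G) := by
  have hpos : 0 < Nat.card K := Nat.card_pos
  have hidx : K.index = n := by
    have h1 := K.card_mul_index
    rw [hN, ← hK] at h1
    exact Nat.eq_of_mul_eq_mul_left hpos h1
  obtain ⟨H, e, hH, f⟩ := exists_perm_subgroup K n hn hidx
  exact ⟨H, e, isSimpleGroup_of_mulEquiv e, by rw [← Nat.card_congr e.toEquiv, hN], hH, f⟩

end Cfsg.Agent.Lib.PermRealization
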