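import Mathlib

/-!
# Homomorphisms out of `SL(2, F)` from Bruhat / Steinberg relations
-/

set_option autoImplicit false

namespace Cfsg.Agent.Lib.SL2Lift

open Matrix

variable {F : Type*} [Field F]

/-- the upper unitriangular matrix -/
def X (t : F) : SpecialLinearGroup (Fin 2) F := ⟨!![1, t; 0, 1], by simp⟩

/-- the diagonal matrix -/
def H (a : F) (ha : a ≠ 0) : SpecialLinearGroup (Fin 2) F := ⟨!![a, 0; 0, a⁻¹], by simp [ha]⟩

/-- the Weyl element -/
def W : SpecialLinearGroup (Fin 2) F := ⟨!![0, 1; -1, 0], by simp⟩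

theorem mulX (g : SpecialLinearGroup (Fin 2) F) (t : F) :
    (g * X t).1 = !![g.1 0 0, g.1 0 0 * t + g.1 0 1; g.1 1 0, g.1 1 0 * t + g.1 1 1] := by
  show g.1 * (X t).1 = _
  ext i j
  fin_cases i <;> fin_cases j <;> simp [X, Matrix.mul_apply, Fin.sum_univ_two]

theorem mulH (g : SpecialLinearGroup (Fin 2) F) (a : F) (ha : a ≠ 0) :
    (g * H a ha).1 = !![g.1 0 0 * a, g.1 0 1 * a⁻¹; g.1 1 0 * a, g.1 1 1 * a⁻¹] := by
  show g.1 * (H a ha).1 = _
  ext i j
  fin_cases i <;> fin_cases j <;> simp [H, Matrix.mul_apply, Fin.sum_univ_two]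

theorem mulW (g : SpecialLinearGroup (Fin 2) F) :
    (g * W).1 = !![- g.1 0 1, g.1 0 0; - g.1 1 1, g.1 1 0] := by
  show g.1 * (W : SpecialLinearGroup (Fin 2) F).1 = _
  ext i j
  fin_cases i <;> fin_cases j <;> simp [W, Matrix.mul_apply, Fin.sum_univ_two]

theorem det_eq (g : SpecialLinearGroup (Fin 2) F) :
    g.1 0 0 * g.1 1 1 - g.1 0 1 * g.1 1 0 = 1 := by
  rw [← Matrix.det_fin_two]; exact g.2

theorem ext' {g g' : SpecialLinearGroup (Fin 2) F} (h00 : g.1 0 0 = g'.1 0 0)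
    (h01 : g.1 0 1 = g'.1 0 1) (h10 : g.1 1 0 = g'.1 1 0) (h11 : g.1 1 1 = g'.1 1 1) : g = g' := by
  apply Subtype.ext
  ext i j
  fin_cases i <;> fin_cases j
  · exact h00
  · exact h01
  · exact h10
  · exact h11

/-- Bruhat decomposition, the Borel subgroup. -/
theorem eq_of_zero (g : SpecialLinearGroup (Fin 2) F) (hc : g.1 1 0 = 0) :
    ∃ ha : g.1 0 0 ≠ 0, g = X (g.1 0 0 * g.1 0 1) * H (g.1 0 0) ha := by
  have hd := det_eq g
  rw [hc, mul_zero, sub_zero] at hd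
  have ha : g.1 0 0 ≠ 0 := left_ne_zero_of_mul_eq_one hd
  refine ⟨ha, ?_⟩
  apply ext' <;> rw [mulH]
  · simp [X]
  · simp only [X, Matrix.of_apply, Matrix.cons_val', Matrix.cons_val_zero, Matrix.cons_val_one,
      Matrix.cons_val_fin_one]
    field_simp
  · simp [X, hc]
  · simp only [X, Matrix.of_apply, Matrix.cons_val', Matrix.cons_val_zero, Matrix.cons_val_one,
      Matrix.cons_val_fin_one]
    rw [one_mul]
    exact eq_inv_of_mul_eq_one_right hd

/-- Bruhat decomposition, the big cell. -/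
theorem eq_of_ne_zero (g : SpecialLinearGroup (Fin 2) F) (hc : g.1 1 0 ≠ 0) :
    g = X (g.1 0 0 / g.1 1 0) * H (-(g.1 1 0)⁻¹) (neg_ne_zero.2 (inv_ne_zero hc)) * W
      * X (g.1 1 1 / g.1 1 0) := by
  have hd := det_eq g
  apply ext' <;> rw [mulX, mulW, mulH]
  · simp [X]
    field_simp
  · simp [X]
    field_simp
    linear_combination -hd
  · simp [X]
  · simp [X]
    field_simp

section

variable {G : Type*} [Group G] (x h : F → G) (w : G)

open Classical in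
/-- The candidate homomorphism. -/
noncomputable def f (g : SpecialLinearGroup (Fin 2) F) : G :=
  if g.1 1 0 = 0 then x (g.1 0 0 * g.1 0 1) * h (g.1 0 0)
  else x (g.1 0 0 / g.1 1 0) * h (-(g.1 1 0)⁻¹) * w * x (g.1 1 1 / g.1 1 0)

theorem f_zero {g : SpecialLinearGroup (Fin 2) F} (hc : g.1 1 0 = 0) :
    f x h w g = x (g.1 0 0 * g.1 0 1) * h (g.1 0 0) := if_pos hc

theorem f_ne {g : SpecialLinearGroup (Fin 2) F} (hc : g.1 1 0 ≠ 0) :
    f x h w g = x (g.1 0 0 / g.1 1 0) * h (-(g.1 1 0)⁻¹) * w * x (g.1 1 1 / g.1 1 0) := if_neg hc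

/-- The relations. -/
structure Rel : Prop where
  add : ∀ s t, x (s + t) = x s * x t
  mul : ∀ a b, a ≠ 0 → b ≠ 0 → h (a * b) = h a * h b
  conj : ∀ a t, a ≠ 0 → h a * x t = x (a ^ 2 * t) * h a
  wh : ∀ a, a ≠ 0 → w * h a = h a⁻¹ * w
  ww : w * w = h (-1)
  wx : ∀ t, t ≠ 0 → w * x t * w = x (-t⁻¹) * h (-t⁻¹) * w * x (-t⁻¹)

variable {x h w}

theorem Rel.x_zero (r : Rel x h w) : x 0 = 1 := by
  have := r.add 0 0
  rw [add_zero] at this
  exact (mul_eq_left.1 this.symm)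

theorem Rel.h_one (r : Rel x h w) : h 1 = 1 := by
  have := r.mul 1 1 one_ne_zero one_ne_zero
  rw [mul_one] at this
  exact (mul_eq_left.1 this.symm)

theorem Rel.f_X (r : Rel x h w) (t : F) : f x h w (X t) = x t := by
  rw [f_zero _ _ _ (by simp [X])]
  simp [X, r.h_one]

theorem Rel.f_H (r : Rel x h w) (a : F) (ha : a ≠ 0) : f x h w (H a ha) = h a := by
  rw [f_zero _ _ _ (by simp [H])]
  simp [H, r.x_zero]

theorem Rel.f_W (r : Rel x h w) : f x h w W = w := by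
  have hc : (W : SpecialLinearGroup (Fin 2) F).1 1 0 ≠ 0 := by simp [W]
  rw [f_ne _ _ _ hc]
  simp [W, r.x_zero, r.h_one]

theorem Rel.f_mulX (r : Rel x h w) (g : SpecialLinearGroup (Fin 2) F) (t : F) :
    f x h w (g * X t) = f x h w g * x t := by
  have hm := mulX g t
  have h00 : (g * X t).1 0 0 = g.1 0 0 := by rw [hm]; simp
  have h01 : (g * X t).1 0 1 = g.1 0 0 * t + g.1 0 1 := by rw [hm]; simp
  have h10 : (g * X t).1 1 0 = g.1 1 0 := by rw [hm]; simp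
  have h11 : (g * X t).1 1 1 = g.1 1 0 * t + g.1 1 1 := by rw [hm]; simp
  by_cases hc : g.1 1 0 = 0
  · obtain ⟨ha, -⟩ := eq_of_zero g hc
    rw [f_zero _ _ _ (by rw [h10, hc]), f_zero _ _ _ hc, h00, h01, mul_assoc, r.conj _ _ ha,
      ← mul_assoc, ← r.add]
    congr 2
    ring
  · rw [f_ne _ _ _ (by rwa [h10]), f_ne _ _ _ hc, h00, h10, h11, mul_assoc _ _ (x t), ← r.add]
    congr 2
    field_simp
    ring

theorem Rel.f_mulH (r : Rel x h w) (g : SpecialLinearGroup (Fin 2) F) (a : F) (ha : a ≠ 0) :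
    f x h w (g * H a ha) = f x h w g * h a := by
  have hm := mulH g a ha
  have h00 : (g * H a ha).1 0 0 = g.1 0 0 * a := by rw [hm]; simp
  have h01 : (g * H a ha).1 0 1 = g.1 0 1 * a⁻¹ := by rw [hm]; simp
  have h10 : (g * H a ha).1 1 0 = g.1 1 0 * a := by rw [hm]; simp
  have h11 : (g * H a ha).1 1 1 = g.1 1 1 * a⁻¹ := by rw [hm]; simp
  by_cases hc : g.1 1 0 = 0
  · obtain ⟨hg, -⟩ := eq_of_zero g hc
    rw [f_zero _ _ _ (by rw [h10, hc, zero_mul]), f_zero _ _ _ hc, h00, h01,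
      mul_assoc (x _) (h _) (h a), ← r.mul _ _ hg ha]
    congr 2
    field_simp
  · have hca : g.1 1 0 * a ≠ 0 := mul_ne_zero hc ha
    rw [f_ne _ _ _ (by rwa [h10]), f_ne _ _ _ hc, h00, h10, h11]
    have e1 : x (g.1 1 1 / g.1 1 0) * h a = h a * x (g.1 1 1 * a⁻¹ / (g.1 1 0 * a)) := by
      rw [r.conj _ _ ha]
      congr 2
      field_simp
    have e2 : h (-(g.1 1 0)⁻¹) * h a⁻¹ = h (-(g.1 1 0 * a)⁻¹) := by
      rw [← r.mul _ _ (neg_ne_zero.2 (inv_ne_zero hc)) (inv_ne_zero ha)]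
      congr 1
      field_simp
    have e3 : x (g.1 0 0 * a / (g.1 1 0 * a)) = x (g.1 0 0 / g.1 1 0) := by
      congr 1
      field_simp
    rw [e3, mul_assoc _ _ (h a), e1, ← mul_assoc _ (h a), mul_assoc _ w (h a), r.wh _ ha,
      ← mul_assoc _ (h a⁻¹) w, mul_assoc _ _ (h a⁻¹), e2]

theorem Rel.f_mulW (r : Rel x h w) (g : SpecialLinearGroup (Fin 2) F) :
    f x h w (g * W) = f x h w g * w := by
  have hm := mulW g
  have hd := det_eq g
  have h00 : (g * W).1 0 0 = - g.1 0 1 := by rw [hm]; simp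
  have h01 : (g * W).1 0 1 = g.1 0 0 := by rw [hm]; simp
  have h10 : (g * W).1 1 0 = - g.1 1 1 := by rw [hm]; simp
  have h11 : (g * W).1 1 1 = g.1 1 0 := by rw [hm]; simp
  by_cases hc : g.1 1 0 = 0
  · obtain ⟨ha, -⟩ := eq_of_zero g hc
    have hd' : g.1 0 0 * g.1 1 1 = 1 := by rw [hc, mul_zero, sub_zero] at hd; exact hd
    have h1 : g.1 1 1 ≠ 0 := right_ne_zero_of_mul_eq_one hd'
    have e1 : g.1 1 1 = (g.1 0 0)⁻¹ := eq_inv_of_mul_eq_one_right hd'
    rw [f_ne _ _ _ (by rw [h10]; exact neg_ne_zero.2 h1), f_zero _ _ _ hc, h00, h10, h11, hc,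
      zero_div, r.x_zero, mul_one, e1]
    congr 3
    · field_simp
    · field_simp
  · by_cases h1 : g.1 1 1 = 0
    · rw [f_zero _ _ _ (by rw [h10, h1, neg_zero]), f_ne _ _ _ hc, h00, h01, h1, zero_div,
        r.x_zero, mul_one, mul_assoc _ w w, r.ww, mul_assoc _ _ (h (-1)),
        ← r.mul _ _ (neg_ne_zero.2 (inv_ne_zero hc)) (neg_ne_zero.2 one_ne_zero)]
      have e : g.1 0 1 = - (g.1 1 0)⁻¹ := by
        rw [h1, mul_zero, zero_sub] at hd
        have : -g.1 0 1 = (g.1 1 0)⁻¹ := eq_inv_of_mul_eq_one_left (by linear_combination hd)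
        rw [← this, neg_neg]
      rw [e]
      congr 2
      · field_simp
      · field_simp
    · rw [f_ne _ _ _ (by rw [h10]; exact neg_ne_zero.2 h1), f_ne _ _ _ hc, h00, h10, h11]
      have hdc : g.1 1 1 / g.1 1 0 ≠ 0 := div_ne_zero h1 hc
      have e0 : x (g.1 0 0 / g.1 1 0) * h (-(g.1 1 0)⁻¹) * w * x (g.1 1 1 / g.1 1 0) * w =
          x (g.1 0 0 / g.1 1 0) * h (-(g.1 1 0)⁻¹) * (w * x (g.1 1 1 / g.1 1 0) * w) := by
        simp only [mul_assoc]
      rw [e0, r.wx _ hdc]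
      simp only [← mul_assoc]
      rw [mul_assoc (x (g.1 0 0 / g.1 1 0)) (h _) (x _),
        r.conj _ _ (neg_ne_zero.2 (inv_ne_zero hc)), ← mul_assoc,
        ← r.add, mul_assoc (x _) (h _) (h _), ← r.mul _ _ (neg_ne_zero.2 (inv_ne_zero hc))
        (neg_ne_zero.2 (inv_ne_zero hdc))]
      have e1 : -g.1 0 1 / -g.1 1 1 = g.1 0 0 / g.1 1 0 +
          (-(g.1 1 0)⁻¹) ^ 2 * -(g.1 1 1 / g.1 1 0)⁻¹ := by
        field_simp
        linear_combination -hd
      have e2 : -(-g.1 1 1)⁻¹ = -(g.1 1 0)⁻¹ * -(g.1 1 1 / g.1 1 0)⁻¹ := by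
        field_simp
      have e3 : g.1 1 0 / -g.1 1 1 = -(g.1 1 1 / g.1 1 0)⁻¹ := by
        field_simp
      rw [e1, e2, e3]

theorem Rel.f_mul (r : Rel x h w) (g k : SpecialLinearGroup (Fin 2) F) :
    f x h w (g * k) = f x h w g * f x h w k := by
  by_cases hc : k.1 1 0 = 0
  · obtain ⟨ha, hk⟩ := eq_of_zero k hc
    rw [f_zero x h w hc]
    conv_lhs => rw [hk]
    rw [← mul_assoc, r.f_mulH, r.f_mulX, mul_assoc]
  · have hk := eq_of_ne_zero k hc
    rw [f_ne x h w hc]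
    conv_lhs => rw [hk]
    simp only [← mul_assoc]
    rw [r.f_mulX, r.f_mulW, r.f_mulH, r.f_mulX]

/-- The homomorphism from `SL(2, F)` determined by elements satisfying the relations. -/
noncomputable def hom (r : Rel x h w) : SpecialLinearGroup (Fin 2) F →* G :=
  MonoidHom.mk' (f x h w) r.f_mul

theorem hom_X (r : Rel x h w) (t : F) : hom r (X t) = x t := r.f_X t

theorem hom_H (r : Rel x h w) (a : F) (ha : a ≠ 0) : hom r (H a ha) = h a := r.f_H a ha

theorem hom_W (r : Rel x h w) : hom r W = w := r.f_W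

theorem hom_zero (r : Rel x h w) {g : SpecialLinearGroup (Fin 2) F} (hc : g.1 1 0 = 0) :
    hom r g = x (g.1 0 0 * g.1 0 1) * h (g.1 0 0) := if_pos hc

theorem hom_ne (r : Rel x h w) {g : SpecialLinearGroup (Fin 2) F} (hc : g.1 1 0 ≠ 0) :
    hom r g = x (g.1 0 0 / g.1 1 0) * h (-(g.1 1 0)⁻¹) * w * x (g.1 1 1 / g.1 1 0) := if_neg hc

/-- The image of the homomorphism lies in every subgroup containing the given elements. -/
theorem hom_mem (r : Rel x h w) (K : Subgroup G) (hx : ∀ t, x t ∈ K) (hh : ∀ a, a ≠ 0 → h a ∈ K)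
    (hw : w ∈ K) (g : SpecialLinearGroup (Fin 2) F) : hom r g ∈ K := by
  by_cases hc : g.1 1 0 = 0
  · obtain ⟨ha, -⟩ := eq_of_zero g hc
    rw [hom_zero r hc]
    exact K.mul_mem (hx _) (hh _ ha)
  · rw [hom_ne r hc]
    exact K.mul_mem (K.mul_mem (K.mul_mem (hx _) (hh _ (neg_ne_zero.2 (inv_ne_zero hc)))) hw)
      (hx _)

theorem ker_eq_center (r : Rel x h w) (hm1 : h (-1) = 1)
    (hker : ∀ t a, a ≠ 0 → x t * h a = 1 → t = 0 ∧ a ^ 2 = 1)
    (hwn : ∀ t a, a ≠ 0 → x t * h a ≠ w) :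
    (hom r).ker = Subgroup.center (SpecialLinearGroup (Fin 2) F) := by
  ext g
  rw [MonoidHom.mem_ker, Matrix.SpecialLinearGroup.mem_center_iff]
  constructor
  · intro hg
    by_cases hc : g.1 1 0 = 0
    · obtain ⟨ha, -⟩ := eq_of_zero g hc
      rw [hom_zero r hc] at hg
      obtain ⟨h1, h2⟩ := hker _ _ ha hg
      have hb : g.1 0 1 = 0 := (mul_eq_zero.1 h1).resolve_left ha
      have hd := det_eq g
      rw [hc, mul_zero, sub_zero] at hd
      have hd1 : g.1 1 1 = g.1 0 0 := by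
        have : g.1 0 0 * g.1 1 1 = g.1 0 0 * g.1 0 0 := by rw [hd, ← sq, h2]
        exact mul_left_cancel₀ ha this
      refine ⟨g.1 0 0, by simpa using h2, ?_⟩
      ext i j
      fin_cases i <;> fin_cases j
      · simp
      · simp [hb]
      · simp [hc]
      · simp [hd1]
    · exfalso
      rw [hom_ne r hc] at hg
      set s := g.1 0 0 / g.1 1 0
      set t := g.1 1 1 / g.1 1 0
      set k := -(g.1 1 0)⁻¹
      have hk : k ≠ 0 := neg_ne_zero.2 (inv_ne_zero hc)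
      have hhk : h k * h k⁻¹ = 1 := by
        rw [← r.mul _ _ hk (inv_ne_zero hk), mul_inv_cancel₀ hk, r.h_one]
      have hxs : ∀ u, x (-u) = (x u)⁻¹ := fun u => by
        rw [eq_inv_iff_mul_eq_one, ← r.add, neg_add_cancel, r.x_zero]
      have hw : w = (h k)⁻¹ * (x s)⁻¹ * (x t)⁻¹ := by
        calc w = (h k)⁻¹ * (x s)⁻¹ * (x s * h k * w * x t) * (x t)⁻¹ := by group
          _ = (h k)⁻¹ * (x s)⁻¹ * (x t)⁻¹ := by rw [hg, mul_one]
      have hinv : (h k)⁻¹ = h k⁻¹ := inv_eq_of_mul_eq_one_right hhk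
      apply hwn (k⁻¹ ^ 2 * (-s + -t)) k⁻¹ (inv_ne_zero hk)
      rw [hw, hinv, ← hxs, ← hxs, mul_assoc, ← r.add, r.conj _ _ (inv_ne_zero hk)]
  · rintro ⟨a, ha, hg⟩
    have h00 : g.1 0 0 = a := by rw [← hg]; simp
    have h01 : g.1 0 1 = 0 := by rw [← hg]; simp
    have h10 : g.1 1 0 = 0 := by rw [← hg]; simp
    rw [hom_zero r h10, h00, h01, mul_zero, r.x_zero, one_mul]
    rw [Fintype.card_fin] at ha
    have ha' : a * a = 1 := by rw [← sq]; exact ha
    rcases mul_self_eq_one_iff.1 ha' with h1 | h1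
    · rw [h1, r.h_one]
    · rw [h1, hm1]

/-- The image is `PSL(2, F)`. -/
theorem psl_equiv_range (r : Rel x h w) (hm1 : h (-1) = 1)
    (hker : ∀ t a, a ≠ 0 → x t * h a = 1 → t = 0 ∧ a ^ 2 = 1)
    (hwn : ∀ t a, a ≠ 0 → x t * h a ≠ w) :
    Nonempty (ProjectiveSpecialLinearGroup (Fin 2) F ≃* (hom r).range) :=
  ⟨(QuotientGroup.quotientMulEquivOfEq (ker_eq_center r hm1 hker hwn).symm).trans
    (QuotientGroup.quotientKerEquivRange (hom r))⟩

end

end Cfsg.Agent.Lib.SL2Lift
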