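import Mathlib
import Cfsg.Prelude.Def_Characters
import Cfsg.Agent.Characters.GaloisBasic
import Cfsg.Agent.OddOrderCharacters.VChar

/-!
# Schur's bound for rational-valued faithful characters

* `dvd_sub_of_pow`: `χ g ≡ χ 1` modulo `p` for a `p`-element `g` with integral value.
* `neg_le_of_pow`: `-χ 1 ≤ (p - 1) * χ g` for a `p`-element `g ≠ 1` with rational value.
* `card_dvd`: a `p`-group with a faithful rational-valued character of degree `n` has order dividing
  `p ^ b * b!` with `b = n / (p - 1)`.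
* `card_dvd_of_subgroup`, `card_sylow_dvd`: the same for `p`-subgroups.
-/

set_option autoImplicit false

open Finset
open Cfsg
open Cfsg.Agent.Characters.GaloisBasic

namespace Cfsg.Agent.Lib.SchurBound

universe u

theorem exists_sum_pow {R ι : Type*} [CommRing R] {p : ℕ} (hp : p.Prime) (k : ℕ) (s : Finset ι)
    (f : ι → R) : ∃ r, (∑ i ∈ s, f i) ^ p ^ k = ∑ i ∈ s, f i ^ p ^ k + p * r := by
  classical
  induction s using Finset.induction_on with
  | empty =>
    refine ⟨0, ?_⟩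
    simp [zero_pow (pow_ne_zero k hp.ne_zero)]
  | insert a s ha ih =>
    obtain ⟨r, hr⟩ := ih
    obtain ⟨r', hr'⟩ := exists_add_pow_prime_pow_eq hp (f a) (∑ i ∈ s, f i) k
    refine ⟨r + f a * (∑ i ∈ s, f i) * r', ?_⟩
    rw [Finset.sum_insert ha, Finset.sum_insert ha, hr', hr]
    ring

/-- `χ g ≡ χ 1` modulo `p` for a `p`-element `g` with an integral value. -/
theorem dvd_sub_of_pow {G : Type u} [Group G] {χ : G → ℂ} (hχ : IsCharacter G χ)
    {p : ℕ} (hp : p.Prime) {k : ℕ} {g : G} (hg : g ^ p ^ k = 1) {n : ℕ} (hn : χ 1 = n) {c : ℤ}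
    (hc : χ g = c) : (p : ℤ) ∣ n - c := by
  obtain ⟨d, μ, hd, h1, h2⟩ := isCharacter_exists_fin_pow hχ g (pow_ne_zero k hp.ne_zero) hg
  have hdn : d = n := by
    have : (d : ℂ) = n := by rw [← hd, hn]
    exact_mod_cast this
  subst hdn
  let R := integralClosure ℤ ℂ
  have hμ : ∀ i, IsIntegral ℤ (μ i) := fun i =>
    IsIntegral.of_pow (pow_pos hp.pos k) (by rw [h1 i]; exact isIntegral_one)
  let ν : Fin d → R := fun i => ⟨μ i, hμ i⟩
  obtain ⟨r, hr⟩ := exists_sum_pow hp k Finset.univ ν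
  have hr' : (∑ i, μ i) ^ p ^ k = d + p * (r : ℂ) := by
    have h3 := congrArg (fun x : R => (x : ℂ)) hr
    simp only [ν] at h3
    push_cast at h3
    rw [h3]
    congr 1
    rw [Finset.sum_congr rfl fun i _ => h1 i]
    simp
  have h4 := h2 1
  simp only [pow_one] at h4
  rw [← h4, hc] at hr'
  -- Fermat
  have := Fact.mk hp
  have h5 : (p : ℤ) ∣ c ^ p ^ k - c := by
    rw [← ZMod.intCast_zmod_eq_zero_iff_dvd]
    push_cast
    rw [ZMod.pow_card_pow, sub_self]
  obtain ⟨t, ht⟩ := h5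
  -- the number `r - t` is a rational algebraic integer
  have hp0 : (p : ℂ) ≠ 0 := by exact_mod_cast hp.ne_zero
  have h6 : (p : ℂ) * ((t : ℂ) - r) = d - c := by
    have h7 : (c : ℂ) ^ p ^ k - c = p * t := by exact_mod_cast congrArg (Int.cast : ℤ → ℂ) ht
    linear_combination hr' - h7
  have h8 : IsIntegral ℤ ((t : ℂ) - r) :=
    (isIntegral_algebraMap (R := ℤ) (A := ℂ) (x := t)).sub r.2
  obtain ⟨e, he⟩ := exists_int_of_isIntegral h8 ⟨((d : ℚ) - c) / p, by
    push_cast
    field_simp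
    linear_combination h6⟩
  refine ⟨e, ?_⟩
  rw [he] at h6
  exact_mod_cast h6.symm

/-- A rational value is unchanged by prime-to-`q` powers. -/
theorem apply_pow_of_rat {G : Type u} [Group G] {χ : G → ℂ} (hχ : IsCharacter G χ) {q : ℕ}
    (hq : q ≠ 0) {g : G} (hg : g ^ q = 1) (hr : ∃ a : ℚ, χ g = a) {m : ℕ} (hm : m.Coprime q) :
    χ (g ^ m) = χ g := by
  obtain ⟨σ, hσ⟩ := exists_ringEquiv_pow hq hm
  obtain ⟨a, ha⟩ := hr
  have h1 := map_apply (σ : ℂ →+* ℂ) (m := m) (n := q) hσ hχ hq hg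
  rw [← h1, ha]
  exact map_ratCast _ _

theorem sum_range_root {q : ℕ} {z : ℂ} (hz : z ^ q = 1) :
    ∑ m ∈ range q, z ^ m = if z = 1 then (q : ℂ) else 0 := by
  split_ifs with h
  · simp [h]
  · have h1 := mul_geom_sum z q
    rw [hz, sub_self] at h1
    exact (mul_eq_zero.1 h1).resolve_left (sub_ne_zero.2 h)

/-- `-χ 1 ≤ (p - 1) * χ g` for an element `g` of `p`-power order with rational value. -/
theorem neg_le_of_pow {G : Type u} [Group G] {χ : G → ℂ} (hχ : IsCharacter G χ)
    {p : ℕ} (hp : p.Prime) {k : ℕ} {g : G} (hg : g ^ p ^ k = 1) {n : ℕ} (hn : χ 1 = n) {c : ℤ}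
    (hc : χ g = c) : -(n : ℤ) ≤ (p - 1) * c := by
  have hpk : p ^ (k + 1) ≠ 0 := pow_ne_zero _ hp.ne_zero
  have hg' : g ^ p ^ (k + 1) = 1 := by rw [pow_succ, pow_mul, hg, one_pow]
  obtain ⟨d, μ, hd, h1, h2⟩ := isCharacter_exists_fin_pow hχ g hpk hg'
  have hdn : d = n := by
    have : (d : ℂ) = n := by rw [← hd, hn]
    exact_mod_cast this
  subst hdn
  have h3 : ∑ m ∈ range (p ^ (k + 1)), χ (g ^ m) =
      (p : ℂ) ^ (k + 1) * (Finset.univ.filter fun i => μ i = 1).card := by
    rw [Finset.sum_congr rfl fun m _ => h2 m, Finset.sum_comm,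
      Finset.sum_congr rfl fun i _ => sum_range_root (h1 i), ← Finset.sum_filter,
      Finset.sum_const, nsmul_eq_mul]
    push_cast
    ring
  have h4 : ∑ m ∈ range (p ^ k), χ (g ^ (p * m)) =
      (p : ℂ) ^ k * (Finset.univ.filter fun i => μ i ^ p = 1).card := by
    have h5 : ∀ i, (μ i ^ p) ^ p ^ k = 1 := fun i => by
      rw [← pow_mul, ← pow_succ', h1]
    have h6 : ∀ m ∈ range (p ^ k), χ (g ^ (p * m)) = ∑ i, (μ i ^ p) ^ m := fun m _ => by
      rw [h2]
      exact Finset.sum_congr rfl fun i _ => pow_mul _ _ _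
    rw [Finset.sum_congr rfl h6, Finset.sum_comm,
      Finset.sum_congr rfl fun i _ => sum_range_root (h5 i), ← Finset.sum_filter,
      Finset.sum_const, nsmul_eq_mul]
    push_cast
    ring
  have h7 : (range (p ^ (k + 1))).filter (fun m => p ∣ m) = (range (p ^ k)).image (p * ·) := by
    ext m
    simp only [Finset.mem_filter, Finset.mem_range, Finset.mem_image]
    constructor
    · rintro ⟨hm, e, rfl⟩
      refine ⟨e, ?_, rfl⟩
      rw [pow_succ'] at hm
      exact Nat.lt_of_mul_lt_mul_left hm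
    · rintro ⟨e, he, rfl⟩
      exact ⟨by rw [pow_succ']; exact Nat.mul_lt_mul_of_pos_left he hp.pos, dvd_mul_right _ _⟩
  have hinj : Set.InjOn (p * ·) (range (p ^ k) : Set ℕ) := fun a _ b _ h =>
    Nat.eq_of_mul_eq_mul_left hp.pos h
  have h8 : ∑ m ∈ (range (p ^ (k + 1))).filter (fun m => p ∣ m), χ (g ^ m) =
      ∑ m ∈ range (p ^ k), χ (g ^ (p * m)) := by
    rw [h7, Finset.sum_image hinj]
  have h9 : ((range (p ^ (k + 1))).filter (fun m => p ∣ m)).card = p ^ k := by
    rw [h7, Finset.card_image_of_injOn hinj, Finset.card_range]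
  have h10 : ((range (p ^ (k + 1))).filter (fun m => ¬ p ∣ m)).card + p ^ k = p ^ (k + 1) := by
    rw [← h9, add_comm, Finset.card_filter_add_card_filter_not, Finset.card_range]
  have h11 : ∑ m ∈ (range (p ^ (k + 1))).filter (fun m => ¬ p ∣ m), χ (g ^ m) =
      ((range (p ^ (k + 1))).filter (fun m => ¬ p ∣ m)).card * (c : ℂ) := by
    rw [← nsmul_eq_mul, ← Finset.sum_const]
    refine Finset.sum_congr rfl fun m hm => ?_
    rw [Finset.mem_filter] at hm
    rw [apply_pow_of_rat hχ hpk hg' ⟨c, by simpa using hc⟩, hc]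
    exact (Nat.Coprime.pow_right _ ((hp.coprime_iff_not_dvd.2 hm.2).symm))
  have h12 := Finset.sum_filter_add_sum_filter_not (range (p ^ (k + 1))) (fun m => p ∣ m)
    (fun m => χ (g ^ m))
  rw [h8, h4, h11, h3] at h12
  set a := (Finset.univ.filter fun i => μ i = 1).card
  set b := (Finset.univ.filter fun i => μ i ^ p = 1).card
  set N := ((range (p ^ (k + 1))).filter (fun m => ¬ p ∣ m)).card
  have hb : b ≤ d := by
    have := Finset.card_le_univ (Finset.univ.filter fun i => μ i ^ p = 1)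
    simpa using this
  have h13 : (p : ℤ) ^ k * b + N * c = p ^ (k + 1) * a := by exact_mod_cast h12
  have h14 : (N : ℤ) = p ^ k * (p - 1) := by
    have : (N : ℤ) + p ^ k = p ^ (k + 1) := by exact_mod_cast h10
    rw [pow_succ] at this
    linear_combination this
  rw [h14, pow_succ] at h13
  have hpk0 : (0 : ℤ) < (p : ℤ) ^ k := by
    have := pow_pos hp.pos k
    exact_mod_cast this
  have h15 : (p : ℤ) ^ k * (b + (p - 1) * c) = p ^ k * (p * a) := by linear_combination h13
  have h16 := mul_left_cancel₀ hpk0.ne' h15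
  have h17 : (0 : ℤ) ≤ (p : ℤ) * a := by positivity
  have h18 : (b : ℤ) ≤ d := by exact_mod_cast hb
  linarith

/-- A value is at most the degree. -/
theorem le_degree {G : Type u} [Group G] {χ : G → ℂ} (hχ : IsCharacter G χ) {g : G} {q : ℕ}
    (hq : q ≠ 0) (hg : g ^ q = 1) {n : ℕ} (hn : χ 1 = n) {c : ℤ} (hc : χ g = c) : c ≤ n := by
  obtain ⟨d, μ, hd, h1, h2⟩ := isCharacter_exists_fin_pow hχ g hq hg
  have hdn : d = n := by
    have : (d : ℂ) = n := by rw [← hd, hn]
    exact_mod_cast this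
  subst hdn
  have h3 := h2 1
  simp only [pow_one] at h3
  have h4 : ‖χ g‖ ≤ d := by
    rw [h3]
    refine (norm_sum_le _ _).trans ?_
    have h5 : ∀ i, ‖μ i‖ = 1 := fun i => by
      have h6 := congrArg norm (h1 i)
      rw [norm_pow, norm_one] at h6
      exact (pow_eq_one_iff_of_nonneg (norm_nonneg _) hq).1 h6
    rw [Finset.sum_congr rfl fun i _ => h5 i]
    simp
  rw [hc] at h4
  have h5 : ‖(c : ℂ)‖ = |(c : ℝ)| := by
    rw [Complex.norm_intCast]
  rw [h5] at h4
  have h6 := (le_abs_self (c : ℝ)).trans h4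
  exact_mod_cast h6

/-- **Schur's bound.** A `p`-group with a faithful rational-valued character of degree `n` has order
dividing `p ^ b * b!`, where `b = n / (p - 1)`. -/
theorem card_dvd {P : Type u} [Group P] [Finite P] {p : ℕ} (hp : p.Prime) (hP : IsPGroup p P)
    {χ : P → ℂ} (hχ : IsCharacter P χ) (hr : ∀ g, ∃ a : ℚ, χ g = a)
    (hf : ∀ g, χ g = χ 1 → g = 1) {n : ℕ} (hn : χ 1 = n) :
    Nat.card P ∣ p ^ (n / (p - 1)) * (n / (p - 1)).factorial := by
  classical
  have := Fintype.ofFinite P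
  set b := n / (p - 1) with hb
  have hp1 : 0 < p - 1 := by have := hp.two_le; omega
  -- the product
  let f : P → ℂ := ∏ j ∈ range b, (χ - fun _ => ((n : ℂ) - p * (j + 1)))
  have hconst : ∀ z : ℤ, IsGeneralizedCharacter P (fun _ => (z : ℂ)) := fun z => by
    have h := OddOrderCharacters.VChar.gen_zsmul z
      (OddOrderCharacters.VChar.gen_one (G := P))
    have h' : (z • (1 : P → ℂ)) = fun _ => (z : ℂ) := by
      funext x
      simp
    rwa [h'] at h
  have hfg : IsGeneralizedCharacter P f := by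
    show IsGeneralizedCharacter P (∏ j ∈ range b, (χ - fun _ => ((n : ℂ) - p * (j + 1))))
    refine Finset.prod_induction _ (IsGeneralizedCharacter P)
      (fun φ ψ hφ hψ => OddOrderCharacters.VChar.gen_mul hφ hψ)
      OddOrderCharacters.VChar.gen_one fun j _ => ?_
    refine OddOrderCharacters.VChar.gen_sub (OddOrderCharacters.VChar.gen_of_char hχ) ?_
    have := hconst ((n : ℤ) - p * (j + 1))
    push_cast at this
    exact this
  have hf1 : f 1 = (p ^ b * b.factorial : ℕ) := by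
    show (∏ j ∈ range b, (χ - fun _ => ((n : ℂ) - p * (j + 1))) : P → ℂ) 1 = _
    rw [Finset.prod_apply]
    have h1 : ∀ j ∈ range b, (χ - fun _ => ((n : ℂ) - p * (j + 1)) : P → ℂ) 1 =
        (p : ℂ) * (j + 1) :=
      fun j _ => by
        show χ 1 - ((n : ℂ) - p * (j + 1)) = _
        rw [hn]
        ring
    rw [Finset.prod_congr rfl h1, Finset.prod_mul_distrib, Finset.prod_const, Finset.card_range,
      ← Finset.prod_range_add_one_eq_factorial]
    push_cast
    rfl
  have hf0 : ∀ g, g ≠ 1 → f g = 0 := by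
    intro g hg
    obtain ⟨k, hk⟩ := hP g
    obtain ⟨c, hc⟩ := exists_int_of_rat hχ g (hr g)
    obtain ⟨e, he⟩ := dvd_sub_of_pow hχ hp hk hn hc
    have h1 := neg_le_of_pow hχ hp hk hn hc
    have h2 := le_degree hχ (pow_ne_zero k hp.ne_zero) hk hn hc
    have h3 : c ≠ n := by
      intro h
      exact hg (hf g (by rw [hc, hn, h]; simp))
    have hp0 : (0 : ℤ) < p := by exact_mod_cast hp.pos
    have hp2 : (2 : ℤ) ≤ p := by exact_mod_cast hp.two_le
    have he1 : 1 ≤ e := by
      by_contra h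
      push Not at h
      have h4 : e ≤ 0 := by omega
      have h5 : (p : ℤ) * e ≤ 0 := mul_nonpos_of_nonneg_of_nonpos hp0.le h4
      have h6 : (n : ℤ) ≤ c := by linarith
      exact h3 (le_antisymm h2 h6)
    have he2 : e * (p - 1) ≤ n := by
      -- `(p-1) * (n - c) ≤ p n`, `n - c = p e`
      have h4 : ((p : ℤ) - 1) * (n - c) ≤ p * n := by nlinarith
      rw [he] at h4
      have h5 : (p : ℤ) * (e * (p - 1)) ≤ p * n := by
        linarith [mul_comm ((p : ℤ) - 1) ((p : ℤ) * e), mul_assoc (p : ℤ) e (p - 1)]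
      exact le_of_mul_le_mul_left h5 hp0
    obtain ⟨e', rfl⟩ : ∃ e' : ℕ, e = e' + 1 := ⟨(e - 1).toNat, by omega⟩
    have he3 : e' < b := by
      have h6 : (e' + 1) * (p - 1) ≤ n := by
        have h7 : (((e' + 1) * (p - 1) : ℕ) : ℤ) ≤ n := by
          push_cast [Nat.cast_sub hp.one_lt.le]
          exact he2
        exact_mod_cast h7
      have := (Nat.le_div_iff_mul_le hp1).2 h6
      omega
    show (∏ j ∈ range b, (χ - fun _ => ((n : ℂ) - p * (j + 1))) : P → ℂ) g = 0
    rw [Finset.prod_apply]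
    refine Finset.prod_eq_zero (Finset.mem_range.2 he3) ?_
    show χ g - ((n : ℂ) - p * (e' + 1)) = 0
    have h8 : ((n : ℤ) : ℂ) - c = p * (e' + 1) := by exact_mod_cast congrArg (Int.cast : ℤ → ℂ) he
    rw [hc]
    push_cast at h8
    linear_combination -h8
  obtain ⟨z, hz⟩ := OddOrderCharacters.VChar.gen_inner hfg (OddOrderCharacters.VChar.gen_one (G := P))
  have h1 : classInner f 1 = (Nat.card P : ℂ)⁻¹ * f 1 := by
    rw [Characters.Core.classInner_def]
    congr 1
    rw [Finset.sum_eq_single 1]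
    · simp
    · intro g _ hg
      rw [hf0 g hg, zero_mul]
    · simp
  have hcard : (Nat.card P : ℂ) ≠ 0 := by exact_mod_cast Nat.card_pos.ne'
  have h2 : ((p ^ b * b.factorial : ℕ) : ℂ) = (Nat.card P : ℂ) * z := by
    rw [← hf1, ← hz, h1, mul_inv_cancel_left₀ hcard]
  have h3 : ((p ^ b * b.factorial : ℕ) : ℤ) = (Nat.card P : ℤ) * z := by exact_mod_cast h2
  exact Int.natCast_dvd_natCast.1 ⟨z, h3⟩

/-- Schur's bound for a `p`-subgroup. -/
theorem card_dvd_of_subgroup {G : Type u} [Group G] [Finite G] {p : ℕ} (hp : p.Prime)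
    {P : Subgroup G} (hP : IsPGroup p P) {χ : G → ℂ} (hχ : IsCharacter G χ)
    (hr : ∀ g ∈ P, ∃ a : ℚ, χ g = a) (hf : ∀ g ∈ P, χ g = χ 1 → g = 1) {n : ℕ} (hn : χ 1 = n) :
    Nat.card P ∣ p ^ (n / (p - 1)) * (n / (p - 1)).factorial := by
  refine card_dvd hp hP (Characters.Core.isCharacter_comp P.subtype hχ) (fun g => hr g g.2)
    (fun g hg => ?_) (n := n) ?_
  · have := hf g g.2 (by simpa using hg)
    exact Subtype.ext this
  · simpa using hn

/-- Schur's bound for the `p`-part of the group order. -/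
theorem pow_factorization_dvd {G : Type u} [Group G] [Finite G] {p : ℕ} (hp : p.Prime)
    {χ : G → ℂ} (hχ : IsCharacter G χ)
    (hr : ∀ g : G, (∃ k, g ^ p ^ k = 1) → ∃ a : ℚ, χ g = a)
    (hf : ∀ g : G, (∃ k, g ^ p ^ k = 1) → χ g = χ 1 → g = 1) {n : ℕ} (hn : χ 1 = n) :
    p ^ (Nat.card G).factorization p ∣ p ^ (n / (p - 1)) * (n / (p - 1)).factorial := by
  have := Fact.mk hp
  obtain ⟨P⟩ : Nonempty (Sylow p G) := inferInstance
  have h1 : ∀ g ∈ (P : Subgroup G), ∃ k, g ^ p ^ k = 1 := fun g hg => by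
    obtain ⟨k, hk⟩ := P.isPGroup' ⟨g, hg⟩
    exact ⟨k, by simpa using congrArg Subtype.val hk⟩
  have h := card_dvd_of_subgroup hp P.isPGroup' hχ (fun g hg => hr g (h1 g hg))
    (fun g hg => hf g (h1 g hg)) hn
  rwa [P.card_eq_multiplicity] at h

end Cfsg.Agent.Lib.SchurBound
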