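import Mathlib
import Cfsg.Prelude.Def_Characters
import Cfsg.Agent.Characters.GaloisBasic
import Cfsg.Agent.Characters.Brauer

/-!
# Blichfeldt's lemma and Schur's theorem on rational-valued characters

* `blichfeldt`: if the generalized character `χ` takes on the non-identity elements only values in
  the finite set `A` of integers, then `|G|` divides `∏ a ∈ A, (χ 1 - a)`.
* `value_of_pGroup`: a rational value of a character of a `p`-group is `χ 1 - p e` with
  `(p - 1) e ≤ χ 1`.
* `schur_rational`: if `G` has a faithful rational-valued character of degree `n`, then the order of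
  a `p`-subgroup of `G` divides `p ^ N * N!`, `N = n / (p - 1)`.
-/

set_option autoImplicit false

open scoped ComplexConjugate
open Cfsg

namespace Cfsg.Agent.Lib.SchurRational

open Cfsg.Agent.Characters

section Blichfeldt

variable {G : Type*} [Group G]

theorem isGeneralizedCharacter_one : IsGeneralizedCharacter G 1 :=
  Brauer.isGeneralizedCharacter_of_isCharacter Core.isCharacter_one

theorem isGeneralizedCharacter_nsmul {χ : G → ℂ} (hχ : IsGeneralizedCharacter G χ) (k : ℕ) :
    IsGeneralizedCharacter G (k • χ) := by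
  induction k with
  | zero => rw [zero_smul]; exact Brauer.isGeneralizedCharacter_zero
  | succ k ih => rw [succ_nsmul]; exact Brauer.isGeneralizedCharacter_add ih hχ

theorem isGeneralizedCharacter_zsmul {χ : G → ℂ} (hχ : IsGeneralizedCharacter G χ) (k : ℤ) :
    IsGeneralizedCharacter G (k • χ) := by
  cases k with
  | ofNat k => simpa using isGeneralizedCharacter_nsmul hχ k
  | negSucc k =>
    rw [negSucc_zsmul]
    exact Brauer.isGeneralizedCharacter_neg (isGeneralizedCharacter_nsmul hχ (k + 1))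

theorem isGeneralizedCharacter_prod {ι : Type*} (s : Finset ι) {f : ι → G → ℂ}
    (hf : ∀ i ∈ s, IsGeneralizedCharacter G (f i)) : IsGeneralizedCharacter G (∏ i ∈ s, f i) := by
  classical
  induction s using Finset.induction_on with
  | empty => simpa using isGeneralizedCharacter_one
  | insert a s ha ih =>
    rw [Finset.prod_insert ha]
    exact Brauer.isGeneralizedCharacter_mul (hf a (Finset.mem_insert_self a s))
      (ih fun i hi => hf i (Finset.mem_insert_of_mem hi))

/-- **Blichfeldt's lemma.** -/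
theorem blichfeldt [Finite G] {χ : G → ℂ} (hχ : IsGeneralizedCharacter G χ) {n : ℤ}
    (hn : χ 1 = n) (A : Finset ℤ) (hA : ∀ g : G, g ≠ 1 → ∃ a ∈ A, χ g = a) :
    (Nat.card G : ℤ) ∣ ∏ a ∈ A, (n - a) := by
  classical
  have : Fintype G := Fintype.ofFinite G
  set f : G → ℂ := ∏ a ∈ A, (χ - a • (1 : G → ℂ)) with hf
  have hfg : IsGeneralizedCharacter G f := isGeneralizedCharacter_prod A fun a _ =>
    Brauer.isGeneralizedCharacter_sub hχ
      (isGeneralizedCharacter_zsmul isGeneralizedCharacter_one a)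
  have hf1 : f 1 = ((∏ a ∈ A, (n - a) : ℤ) : ℂ) := by
    rw [hf, Finset.prod_apply]
    push_cast
    refine Finset.prod_congr rfl fun a _ => ?_
    simp [hn]
  have hf0 : ∀ g : G, g ≠ 1 → f g = 0 := by
    intro g hg
    obtain ⟨a, ha, hga⟩ := hA g hg
    rw [hf, Finset.prod_apply]
    refine Finset.prod_eq_zero ha ?_
    simp [hga]
  obtain ⟨α, β, hα, hβ, hαβ⟩ := hfg
  obtain ⟨k, hk⟩ := Core.classInner_isNat hα (Core.isCharacter_one (G := G))
  obtain ⟨l, hl⟩ := Core.classInner_isNat hβ (Core.isCharacter_one (G := G))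
  have hG : (Nat.card G : ℂ) ≠ 0 := Core.card_ne_zero_complex
  have h1 : classInner f 1 = (k : ℂ) - l := by
    rw [hαβ, sub_eq_add_neg, Core.classInner_add_left, Core.classInner_neg_left, hk, hl]
    ring
  have h2 : classInner f 1 = (Nat.card G : ℂ)⁻¹ * f 1 := by
    rw [Core.classInner_def]
    congr 1
    rw [Finset.sum_eq_single (1 : G)]
    · simp
    · intro g _ hg
      rw [hf0 g hg, zero_mul]
    · intro h; exact absurd (Finset.mem_univ _) h
  refine ⟨(k : ℤ) - l, ?_⟩
  have h3 : ((∏ a ∈ A, (n - a) : ℤ) : ℂ) = ((Nat.card G * ((k : ℤ) - l) : ℤ) : ℂ) := by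
    rw [← hf1]
    push_cast
    rw [← h1, h2, mul_inv_cancel_left₀ hG]
  exact_mod_cast h3

end Blichfeldt

section Value

/-- Freshman's dream modulo `p` in the algebraic integers. -/
theorem exists_sum_pow {ι : Type*} (s : Finset ι) (μ : ι → ℂ) (hμ : ∀ i ∈ s, IsIntegral ℤ (μ i))
    {p : ℕ} (hp : p.Prime) (k : ℕ) :
    ∃ z : ℂ, IsIntegral ℤ z ∧ (∑ i ∈ s, μ i) ^ p ^ k = ∑ i ∈ s, μ i ^ p ^ k + p * z := by
  classical
  let O := integralClosure ℤ ℂ
  have key : ∀ (s : Finset ι) (ν : ι → O), ∃ z : O,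
      (∑ i ∈ s, ν i) ^ p ^ k = ∑ i ∈ s, ν i ^ p ^ k + p * z := by
    intro s ν
    induction s using Finset.induction_on with
    | empty => exact ⟨0, by simp [hp.ne_zero]⟩
    | insert a s ha ih =>
      obtain ⟨z, hz⟩ := ih
      obtain ⟨r, hr⟩ := exists_add_pow_prime_pow_eq hp (ν a) (∑ i ∈ s, ν i) k
      refine ⟨z + ν a * (∑ i ∈ s, ν i) * r, ?_⟩
      rw [Finset.sum_insert ha, Finset.sum_insert ha, hr, hz]
      ring
  let ν : ι → O := fun i => if h : IsIntegral ℤ (μ i) then ⟨μ i, h⟩ else 0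
  have hν : ∀ i ∈ s, ((ν i : O) : ℂ) = μ i := by
    intro i hi
    simp only [ν, dif_pos (hμ i hi)]
  obtain ⟨z, hz⟩ := key s ν
  refine ⟨z, z.2, ?_⟩
  have h := congrArg (fun w : O => (w : ℂ)) hz
  have h1 : (((∑ i ∈ s, ν i) ^ p ^ k : O) : ℂ) = (∑ i ∈ s, μ i) ^ p ^ k := by
    push_cast
    rw [Finset.sum_congr rfl hν]
  have h2 : ((∑ i ∈ s, ν i ^ p ^ k + p * z : O) : ℂ) = ∑ i ∈ s, μ i ^ p ^ k + p * z := by
    push_cast
    rw [Finset.sum_congr rfl (fun i hi => by rw [hν i hi])]
  rw [← h1, ← h2]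
  exact h

theorem sum_range_pow {z : ℂ} {m : ℕ} (hz : z ^ m = 1) :
    ∑ j ∈ Finset.range m, z ^ j = if z = 1 then (m : ℂ) else 0 := by
  split_ifs with h
  · simp [h]
  · have := geom_sum_mul z m
    rw [hz, sub_self] at this
    exact (mul_eq_zero.1 this).resolve_right (sub_ne_zero.2 h)

theorem sum_range_mul (f : ℕ → ℂ) {p m : ℕ} (hp : 0 < p) :
    ∑ j ∈ Finset.range (p * m), f j =
      ∑ j ∈ (Finset.range (p * m)).filter (fun j => ¬ p ∣ j), f j +
        ∑ j ∈ Finset.range m, f (p * j) := by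
  classical
  rw [← Finset.sum_filter_add_sum_filter_not (Finset.range (p * m)) (fun j => ¬ p ∣ j)]
  congr 1
  simp only [not_not]
  have : (Finset.range (p * m)).filter (fun j => p ∣ j) =
      (Finset.range m).image (fun j => p * j) := by
    ext j
    simp only [Finset.mem_filter, Finset.mem_range, Finset.mem_image]
    constructor
    · rintro ⟨h1, k, rfl⟩
      exact ⟨k, lt_of_mul_lt_mul_left h1 (Nat.zero_le p), rfl⟩
    · rintro ⟨k, hk, rfl⟩
      exact ⟨Nat.mul_lt_mul_of_pos_left hk hp, dvd_mul_right p k⟩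
  rw [this, Finset.sum_image]
  intro a _ b _ h
  exact Nat.eq_of_mul_eq_mul_left hp h

theorem card_filter_not_dvd {p m : ℕ} (hp : 0 < p) :
    (((Finset.range (p * m)).filter (fun j => ¬ p ∣ j)).card : ℂ) = p * m - m := by
  have h := sum_range_mul (fun _ => (1 : ℂ)) (m := m) hp
  simp only [Finset.sum_const, Finset.card_range, nsmul_eq_mul, mul_one] at h
  rw [eq_sub_iff_add_eq, ← h]
  push_cast
  ring

/-- The value of a rational-valued character of a `p`-group. -/
theorem value_of_pGroup {P : Type*} [Group P] [Finite P] {p : ℕ} (hp : p.Prime)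
    (hP : IsPGroup p P) {χ : P → ℂ} (hχ : IsCharacter P χ) {x : P} (hx : x ≠ 1)
    (hrat : ∃ q : ℚ, χ x = q) {n : ℕ} (hn : χ 1 = n) :
    ∃ e : ℕ, χ x = (n : ℂ) - p * e ∧ (p - 1) * e ≤ n := by
  classical
  have hF : Fact p.Prime := ⟨hp⟩
  obtain ⟨k, hk⟩ := (IsPGroup.iff_orderOf.1 hP) x
  have hk0 : k ≠ 0 := by
    rintro rfl
    rw [pow_zero, orderOf_eq_one_iff] at hk
    exact hx hk
  obtain ⟨l, rfl⟩ := Nat.exists_eq_succ_of_ne_zero hk0
  have hxp : x ^ p ^ (l + 1) = 1 := by rw [← hk, pow_orderOf_eq_one]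
  obtain ⟨c, hc⟩ := GaloisBasic.exists_int_of_rat hχ x hrat
  obtain ⟨d, μ, hd, hμ, hs⟩ := GaloisBasic.isCharacter_exists_fin_pow hχ x
    (pow_ne_zero (l + 1) hp.ne_zero) hxp
  have hdn : d = n := by
    have : (d : ℂ) = n := by rw [← hd, hn]
    exact_mod_cast this
  subst hdn
  -- values at the powers of `x`
  have hval : ∀ j : ℕ, ¬ p ∣ j → χ (x ^ j) = χ x := by
    intro j hj
    obtain ⟨r, hr⟩ := IsPGroup.iff_card.1 hP
    refine (GaloisBasic.exists_rat_iff hχ x).1 hrat j ?_
    rw [hr]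
    exact Nat.Coprime.pow_right r ((Nat.Prime.coprime_iff_not_dvd hp).2 hj).symm
  -- the two geometric sums
  set a := (Finset.univ.filter (fun i : Fin d => μ i = 1)).card with ha
  set b := (Finset.univ.filter (fun i : Fin d => μ i ^ p = 1)).card with hb
  have hsum1 : ∑ j ∈ Finset.range (p * p ^ l), χ (x ^ j) = (p * p ^ l : ℂ) * a := by
    simp_rw [hs]
    rw [Finset.sum_comm]
    have : ∀ i : Fin d, ∑ j ∈ Finset.range (p * p ^ l), μ i ^ j =
        if μ i = 1 then ((p * p ^ l : ℕ) : ℂ) else 0 := fun i => sum_range_pow (by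
      rw [← pow_succ']; exact hμ i)
    simp_rw [this]
    rw [Finset.sum_ite, Finset.sum_const_zero, add_zero, Finset.sum_const, nsmul_eq_mul]
    push_cast
    ring
  have hsum2 : ∑ j ∈ Finset.range (p ^ l), χ (x ^ (p * j)) = (p ^ l : ℂ) * b := by
    simp_rw [hs]
    rw [Finset.sum_comm]
    have : ∀ i : Fin d, ∑ j ∈ Finset.range (p ^ l), μ i ^ (p * j) =
        if μ i ^ p = 1 then ((p ^ l : ℕ) : ℂ) else 0 := by
      intro i
      simp_rw [pow_mul]
      exact sum_range_pow (by rw [← pow_mul, ← pow_succ']; exact hμ i)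
    simp_rw [this]
    rw [Finset.sum_ite, Finset.sum_const_zero, add_zero, Finset.sum_const, nsmul_eq_mul]
    push_cast
    ring
  have hsplit := sum_range_mul (fun j => χ (x ^ j)) (p := p) (m := p ^ l) hp.pos
  rw [Finset.sum_congr rfl (fun j hj => hval j (Finset.mem_filter.1 hj).2), Finset.sum_const,
    nsmul_eq_mul, card_filter_not_dvd hp.pos, hsum1, hsum2, hc] at hsplit
  have hpl : ((p : ℂ) ^ l) ≠ 0 := pow_ne_zero l (by exact_mod_cast hp.ne_zero)
  have hkey : (p : ℂ) * a = (p - 1) * c + b := by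
    have : (p : ℂ) ^ l * (p * a) = p ^ l * ((p - 1) * c + b) := by
      push_cast at hsplit
      linear_combination hsplit
    exact mul_left_cancel₀ hpl this
  have hkey' : (p : ℤ) * a = (p - 1) * c + b := by exact_mod_cast hkey
  have hbd : b ≤ d := by
    calc b ≤ (Finset.univ : Finset (Fin d)).card := Finset.card_filter_le _ _
    _ = d := by simp
  have hab : a ≤ b := by
    apply Finset.card_le_card
    intro i hi
    rw [Finset.mem_filter] at hi ⊢
    exact ⟨hi.1, by rw [hi.2, one_pow]⟩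
  -- the congruence
  have hcong : (p : ℤ) ∣ d - c := by
    obtain ⟨z, hz, hpow⟩ := exists_sum_pow Finset.univ μ (fun i _ => by
      refine ⟨Polynomial.X ^ p ^ (l + 1) - 1, Polynomial.monic_X_pow_sub_C 1
        (pow_ne_zero _ hp.ne_zero), ?_⟩
      simp [hμ i]) hp (l + 1)
    have h1 := hs 1
    rw [pow_one, hc] at h1
    simp only [pow_one] at h1
    rw [← h1] at hpow
    have h2 : ∑ i : Fin d, μ i ^ p ^ (l + 1) = d := by simp [hμ]
    rw [h2] at hpow
    have hp0 : (p : ℂ) ≠ 0 := by exact_mod_cast hp.ne_zero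
    obtain ⟨w, hw⟩ := GaloisBasic.exists_int_of_isIntegral hz
      ⟨((c : ℚ) ^ p ^ (l + 1) - d) / p, by
        push_cast
        rw [hpow]
        field_simp
        ring⟩
    have h3 : (c : ℤ) ^ p ^ (l + 1) = d + p * w := by
      rw [hw] at hpow
      exact_mod_cast hpow
    have h4 : ((c ^ p ^ (l + 1) : ℤ) : ZMod p) = c := by
      push_cast
      exact ZMod.pow_card_pow _
    have h5 : ((d - c : ℤ) : ZMod p) = 0 := by
      rw [h3] at h4
      push_cast at h4 ⊢
      rw [← h4]
      simp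
    exact (ZMod.intCast_zmod_eq_zero_iff_dvd _ _).1 h5
  obtain ⟨e, he⟩ := hcong
  have hp1 : (1 : ℤ) ≤ p := by exact_mod_cast hp.one_lt.le
  have hp2 : (2 : ℤ) ≤ p := by exact_mod_cast hp.two_le
  have hab' : (a : ℤ) ≤ b := by exact_mod_cast hab
  have hbd' : (b : ℤ) ≤ d := by exact_mod_cast hbd
  have ha0 : (0 : ℤ) ≤ a := by positivity
  have h6 : ((p : ℤ) - 1) * (p * e) = (p - 1) * d - p * a + b := by
    rw [← he, hkey']; ring
  have he0 : 0 ≤ e := by
    by_contra hneg
    push Not at hneg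
    have h7 : ((p : ℤ) - 1) * (p * e) < 0 := by
      apply mul_neg_of_pos_of_neg (by linarith)
      exact mul_neg_of_pos_of_neg (by linarith) hneg
    nlinarith
  have he1 : ((p : ℤ) - 1) * e ≤ d := by
    have h8 : (p : ℤ) * (((p : ℤ) - 1) * e) ≤ p * d := by nlinarith
    exact le_of_mul_le_mul_left h8 (by linarith)
  obtain ⟨e', rfl⟩ := Int.eq_ofNat_of_zero_le he0
  refine ⟨e', ?_, ?_⟩
  · rw [hc]
    have : (c : ℤ) = d - p * e' := by linarith
    rw [this]
    push_cast
    ring
  · zify [hp.one_lt.le]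
    exact he1

end Value

/-- **Schur's theorem**: the order of a `p`-subgroup of a finite group with a faithful
rational-valued character of degree `n` divides `p ^ N * N!`, where `N = n / (p - 1)`. -/
theorem schur_rational {G : Type*} [Group G] [Finite G] {p : ℕ} (hp : p.Prime) {χ : G → ℂ}
    (hχ : IsCharacter G χ) (hfaith : ∀ g : G, χ g = χ 1 → g = 1)
    (hrat : ∀ g : G, ∃ q : ℚ, χ g = q) {n : ℕ} (hn : χ 1 = n) (P : Subgroup G)
    (hP : IsPGroup p P) :
    Nat.card P ∣ p ^ (n / (p - 1)) * (n / (p - 1)).factorial := by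
  classical
  set N := n / (p - 1) with hN
  have hp1 : 0 < p - 1 := Nat.sub_pos_of_lt hp.one_lt
  have hχP : IsCharacter P (fun h : P => χ h) := Brauer.isCharacter_restrict hχ P
  let A : Finset ℤ := (Finset.Icc 1 N).image (fun e : ℕ => (n : ℤ) - p * e)
  have hA : ∀ g : P, g ≠ 1 → ∃ a ∈ A, (fun h : P => χ h) g = a := by
    intro g hg
    obtain ⟨e, he1, he2⟩ := value_of_pGroup hp hP hχP hg (hrat g) (n := n) hn
    refine ⟨(n : ℤ) - p * e, Finset.mem_image.2 ⟨e, Finset.mem_Icc.2 ⟨?_, ?_⟩, rfl⟩, ?_⟩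
    · rcases Nat.eq_zero_or_pos e with h | h
      · exfalso
        apply hg
        apply Subtype.ext
        apply hfaith
        have h9 : χ (g : G) = (n : ℂ) - p * e := he1
        rw [h9, h, hn]
        simp
      · exact h
    · rw [hN, Nat.le_div_iff_mul_le hp1, mul_comm]
      exact he2
    · show χ (g : G) = _
      rw [he1]
      push_cast
      ring
  have h1 := blichfeldt (Brauer.isGeneralizedCharacter_of_isCharacter hχP) (n := n)
    (by show χ ((1 : P) : G) = _; rw [Subgroup.coe_one, hn]; simp) A hA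
  have h2 : ∏ a ∈ A, ((n : ℤ) - a) = ((p ^ N * N.factorial : ℕ) : ℤ) := by
    rw [Finset.prod_image]
    · simp only [sub_sub_cancel]
      rw [Finset.prod_mul_distrib, Finset.prod_const, Nat.card_Icc, Nat.add_sub_cancel]
      push_cast
      congr 1
      have : ∀ M : ℕ, ∏ e ∈ Finset.Icc 1 M, (e : ℤ) = (M.factorial : ℤ) := by
        intro M
        induction M with
        | zero => simp
        | succ M ih =>
          rw [Finset.prod_Icc_succ_top (by omega), ih, Nat.factorial_succ]
          push_cast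
          ring
      exact this N
    · intro a _ b _ h
      have hp0 : (p : ℤ) ≠ 0 := by exact_mod_cast hp.ne_zero
      have h' : (p : ℤ) * a = p * b := by
        simp only at h
        linarith
      exact_mod_cast mul_left_cancel₀ hp0 h'
  rw [h2] at h1
  exact_mod_cast h1

end Cfsg.Agent.Lib.SchurRational
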