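import Mathlib
import Cfsg.Prelude.Def_SporadicB
import Cfsg.Agent.SporadicB.ThreeTrans
import Cfsg.Agent.Lib.HallTriple

/-!
# Fischer's rank three theorem for primitive classes of 3-transpositions

`D` is a class of 3-transpositions generating the finite group `G`.  `IsPrim D` says that `G` is
primitive on `D` (every invariant equivalence relation on `D` that relates two different members
is universal).

* `conj_noncommuting`: if `G` is primitive on `D`, the centralizer of `x ∈ D` is transitive on the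
  members of `D` not commuting with `x`.
* `conj_commuting`: the members of `D \ {x}` commuting with `x` are conjugate under the subgroup
  they generate.
* `isPrim_of_simple`: if the commutator subgroup is simple and nonabelian, `G` is primitive on `D`.
-/

set_option autoImplicit false

namespace Cfsg.Agent.Lib.ThreeTransRank

open Cfsg Cfsg.Agent.SporadicB.ThreeTrans
open scoped commutatorElement

variable {G : Type*} [Group G] {D : Set G}

/-- The group acts primitively on `D` by conjugation. -/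
def IsPrim (D : Set G) : Prop :=
  ∀ R : G → G → Prop, (∀ x ∈ D, R x x) → (∀ x ∈ D, ∀ y ∈ D, R x y → R y x) →
    (∀ x ∈ D, ∀ y ∈ D, ∀ z ∈ D, R x y → R y z → R x z) →
    (∀ g : G, ∀ x ∈ D, ∀ y ∈ D, R x y → R (g * x * g⁻¹) (g * y * g⁻¹)) →
    (∃ x ∈ D, ∃ y ∈ D, x ≠ y ∧ R x y) → ∀ x ∈ D, ∀ y ∈ D, R x y

/-- The members of `D` different from `x` and commuting with `x`. -/
def Dc (D : Set G) (x : G) : Set G := {d | d ∈ D ∧ d ≠ x ∧ Commute x d}

section basic

theorem conj_mem (hD : IsThreeTranspositionClass D) (g : G) {d : G} (hd : d ∈ D) :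
    g * d * g⁻¹ ∈ D := by
  obtain ⟨-, ⟨e, he, hDe⟩, -⟩ := hD
  rw [hDe] at hd ⊢
  rw [conjugatesOf, Set.mem_ofPred_eq] at hd ⊢
  exact hd.trans (isConj_iff.2 ⟨g, rfl⟩)

theorem exists_conj (hD : IsThreeTranspositionClass D) {d e : G} (hd : d ∈ D) (he : e ∈ D) :
    ∃ g : G, g * d * g⁻¹ = e := by
  obtain ⟨-, ⟨f, hf, hDf⟩, -⟩ := hD
  rw [hDf, conjugatesOf, Set.mem_ofPred_eq] at hd he
  exact isConj_iff.1 (hd.symm.trans he)

theorem commute_conj_iff (g x y : G) :
    Commute (g * x * g⁻¹) (g * y * g⁻¹) ↔ Commute x y := by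
  constructor
  · intro h
    have h' : (g * x * g⁻¹) * (g * y * g⁻¹) = (g * y * g⁻¹) * (g * x * g⁻¹) := h
    show x * y = y * x
    calc x * y = g⁻¹ * ((g * x * g⁻¹) * (g * y * g⁻¹)) * g := by group
      _ = y * x := by rw [h']; group
  · intro h
    have h' : x * y = y * x := h
    show (g * x * g⁻¹) * (g * y * g⁻¹) = (g * y * g⁻¹) * (g * x * g⁻¹)
    calc (g * x * g⁻¹) * (g * y * g⁻¹) = g * (x * y) * g⁻¹ := by group
      _ = _ := by rw [h']; group

theorem mem_Dc_conj (hD : IsThreeTranspositionClass D) (g : G) {x d : G} (h : d ∈ Dc D x) :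
    g * d * g⁻¹ ∈ Dc D (g * x * g⁻¹) := by
  obtain ⟨h1, h2, h3⟩ := h
  refine ⟨conj_mem hD g h1, ?_, (commute_conj_iff g x d).2 h3⟩
  intro h
  apply h2
  have : g⁻¹ * (g * d * g⁻¹) * g = g⁻¹ * (g * x * g⁻¹) * g := by rw [h]
  simpa [mul_assoc] using this

/-- Conjugating `u` by `u v u` gives `v`, for non-commuting `u`, `v`. -/
theorem conj_braid (hD : IsThreeTranspositionClass D) {u v : G} (hu : u ∈ D) (hv : v ∈ D)
    (h : ¬ Commute u v) : (u * v * u) * u * (u * v * u)⁻¹ = v := by
  have hu2 := mul_self hD.1 hu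
  have hv2 := mul_self hD.1 hv
  have hui := inv_eq hD.1 hu
  have hvi := inv_eq hD.1 hv
  have hb := braid hD.1 hu hv h
  rw [mul_inv_rev, mul_inv_rev, hui, hvi]
  calc u * v * u * u * (u * (v * u)) = u * v * (u * u) * u * v * u := by simp only [mul_assoc]
    _ = u * (v * u * v) * u := by rw [hu2, mul_one]; simp only [mul_assoc]
    _ = (u * u) * v * (u * u) := by rw [← hb]; simp only [mul_assoc]
    _ = v := by rw [hu2, one_mul, mul_one]

/-- The `A₃` computation: commuting `a`, `b`, both not commuting with `x`, are conjugate under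
the centralizer of `x`. -/
theorem conj_of_commute (hD : IsThreeTranspositionClass D) {x a b : G} (hx : x ∈ D) (ha : a ∈ D)
    (hb : b ∈ D) (hxa : ¬ Commute x a) (hxb : ¬ Commute x b) (hab : Commute a b) :
    ∃ g : G, Commute g x ∧ g * a * g⁻¹ = b := by
  have hx2 := mul_self hD.1 hx
  have ha2 := mul_self hD.1 ha
  have hb2 := mul_self hD.1 hb
  have hxi := inv_eq hD.1 hx
  have hai := inv_eq hD.1 ha
  have hbi := inv_eq hD.1 hb
  have h1 := braid hD.1 hx ha hxa
  have h2 := braid hD.1 hx hb hxb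
  have hab' : a * b = b * a := hab
  have haba : a * b * a = b := by rw [hab', mul_assoc, ha2, mul_one]
  have hbab : b * a * b = a := by rw [← hab', mul_assoc, hb2, mul_one]
  -- `w = a b x b a`
  set w : G := a * b * x * b * a with hw
  have hwi : w⁻¹ = w := by
    rw [hw]
    simp only [mul_inv_rev, hxi, hai, hbi, mul_assoc]
  have hxwx : x * w * x = w := by
    calc x * w * x = x * a * (b * x * b) * a * x := by rw [hw]; simp only [mul_assoc]
      _ = (x * a * x) * b * (x * a * x) := by rw [← h2]; simp only [mul_assoc]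
      _ = a * x * (a * b * a) * x * a := by rw [h1]; simp only [mul_assoc]
      _ = a * (x * b * x) * a := by rw [haba]; simp only [mul_assoc]
      _ = w := by rw [h2, hw]; simp only [mul_assoc]
  have hwx : Commute w x := by
    show w * x = x * w
    calc w * x = (x * x) * w * x := by rw [hx2, one_mul]
      _ = x * (x * w * x) := by simp only [mul_assoc]
      _ = x * w := by rw [hxwx]
  have hwaw : w * a * w = x * b * x := by
    calc w * a * w = a * b * x * (b * (a * a) * a * b) * x * b * a := by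
          rw [hw]; simp only [mul_assoc]
      _ = a * b * x * (b * a * b) * x * b * a := by rw [ha2, mul_one]
      _ = a * b * (x * a * x) * b * a := by rw [hbab]; simp only [mul_assoc]
      _ = (a * b * a) * x * (a * b * a) := by rw [h1]; simp only [mul_assoc]
      _ = x * b * x := by rw [haba, h2]
  refine ⟨x * w, (Commute.refl x).mul_left hwx, ?_⟩
  rw [mul_inv_rev, hwi, hxi]
  calc x * w * a * (w * x) = x * (w * a * w) * x := by simp only [mul_assoc]
    _ = (x * x) * b * (x * x) := by rw [hwaw]; simp only [mul_assoc]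
    _ = b := by rw [hx2, one_mul, mul_one]

end basic

section prim

/-- Two non-commuting pairs with the same first member are conjugate. -/
def SameCol (x a b : G) : Prop := ∃ g : G, Commute g x ∧ g * a * g⁻¹ = b

theorem sameCol_symm {x a b : G} (h : SameCol x a b) : SameCol x b a := by
  obtain ⟨g, hg, rfl⟩ := h
  exact ⟨g⁻¹, hg.inv_left, by group⟩

theorem sameCol_trans {x a b c : G} (h : SameCol x a b) (h' : SameCol x b c) : SameCol x a c := by
  obtain ⟨g, hg, rfl⟩ := h
  obtain ⟨k, hk, rfl⟩ := h'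
  exact ⟨k * g, hk.mul_left hg, by group⟩

theorem fact (hD : IsThreeTranspositionClass D) {x a b : G} (hx : x ∈ D) (ha : a ∈ D)
    (hb : b ∈ D) (hxa : ¬ Commute x a) (hxb : ¬ Commute x b) (hn : ¬ SameCol x a b) :
    ¬ Commute a b ∧ Dc D a ∩ Dc D b ⊆ Dc D x := by
  refine ⟨fun hab => hn (conj_of_commute hD hx ha hb hxa hxb hab), ?_⟩
  rintro d ⟨⟨hd, hda, hca⟩, ⟨-, hdb, hcb⟩⟩
  refine ⟨hd, ?_, ?_⟩
  · rintro rfl
    exact hxa hca.symm
  · by_contra hxd
    exact hn (sameCol_trans (conj_of_commute hD hx ha hd hxa hxd hca)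
      (conj_of_commute hD hx hd hb hxd hxb hcb.symm))

theorem card_inter_conj (hD : IsThreeTranspositionClass D) (g x a : G) :
    (Dc D (g * x * g⁻¹) ∩ Dc D (g * a * g⁻¹)).ncard = (Dc D x ∩ Dc D a).ncard := by
  have h : Dc D (g * x * g⁻¹) ∩ Dc D (g * a * g⁻¹) =
      (fun d => g * d * g⁻¹) '' (Dc D x ∩ Dc D a) := by
    ext d
    constructor
    · rintro ⟨h1, h2⟩
      refine ⟨g⁻¹ * d * g, ⟨?_, ?_⟩, by group⟩
      · have := mem_Dc_conj hD g⁻¹ h1
        simpa [mul_assoc] using this
      · have := mem_Dc_conj hD g⁻¹ h2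
        simpa [mul_assoc] using this
    · rintro ⟨d, ⟨h1, h2⟩, rfl⟩
      exact ⟨mem_Dc_conj hD g h1, mem_Dc_conj hD g h2⟩
  rw [h]
  apply Set.ncard_image_of_injective
  intro u v huv
  simpa using huv

theorem card_inter_sameCol (hD : IsThreeTranspositionClass D) {x a b : G}
    (h : SameCol x a b) : (Dc D x ∩ Dc D a).ncard = (Dc D x ∩ Dc D b).ncard := by
  obtain ⟨g, hg, rfl⟩ := h
  have hgx : g * x * g⁻¹ = x := by rw [hg.eq, mul_assoc, mul_inv_cancel, mul_one]
  conv_rhs => rw [← hgx]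
  rw [card_inter_conj hD]

variable [Finite G]

/-- **Fischer**: if `G` is primitive on `D` and there are commuting pairs, the centralizer of
`x ∈ D` is transitive on the members of `D` that do not commute with `x`. -/
theorem conj_noncommuting (hD : IsThreeTranspositionClass D) (hprim : IsPrim D)
    (hne : ∃ x ∈ D, ∃ y ∈ D, x ≠ y ∧ Commute x y) {x a b : G} (hx : x ∈ D)
    (ha : a ∈ D) (hb : b ∈ D) (hxa : ¬ Commute x a) (hxb : ¬ Commute x b) :
    ∃ g : G, Commute g x ∧ g * a * g⁻¹ = b := by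
  classical
  by_contra hn
  have hn' : ¬ SameCol x a b := hn
  -- the maximal value of `m`
  let m : G → G → ℕ := fun x a => (Dc D x ∩ Dc D a).ncard
  have hm_symm : ∀ x a, m x a = m a x := fun x a => by
    show (Dc D x ∩ Dc D a).ncard = (Dc D a ∩ Dc D x).ncard
    rw [Set.inter_comm]
  let S : Set (G × G) := {p | p.1 ∈ D ∧ p.2 ∈ D ∧ ¬ Commute p.1 p.2}
  have hSne : S.Nonempty := ⟨(x, a), hx, ha, hxa⟩
  obtain ⟨⟨u, v⟩, ⟨hu, hv, huv⟩, hmax⟩ :=
    Set.exists_max_image S (fun p => m p.1 p.2) (Set.toFinite S) hSne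
  have hmax' : ∀ p ∈ D, ∀ q ∈ D, ¬ Commute p q → m p q ≤ m u v := fun p hp q hq hpq =>
    hmax (p, q) ⟨hp, hq, hpq⟩
  set M := m u v with hM
  -- Claim 1
  have claim1 : ∀ p ∈ D, ∀ q ∈ D, ∀ r ∈ D, ¬ Commute p q → m p q = M → ¬ Commute p r →
      m p r < M → ¬ Commute q r ∧ m q r < M := by
    intro p hp q hq r hr hpq hpqM hpr hprM
    have hcol : ¬ SameCol p q r := by
      intro h
      have := card_inter_sameCol hD h
      have h2 : m p q = m p r := this
      omega
    obtain ⟨h1, h2⟩ := fact hD hp hq hr hpq hpr hcol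
    refine ⟨h1, ?_⟩
    by_contra h3
    have h4 : m q r = M := le_antisymm (hmax' q hq r hr h1) (not_lt.1 h3)
    have hcol2 : ¬ SameCol r p q := by
      intro h
      have := card_inter_sameCol hD h
      have h5 : m r p = m r q := this
      rw [hm_symm r p, hm_symm r q] at h5
      omega
    obtain ⟨-, h6⟩ := fact hD hr hp hq (fun h => hpr h.symm) (fun h => h1 h.symm) hcol2
    have h7 : Dc D p ∩ Dc D q ⊆ Dc D p ∩ Dc D r := fun d hd => ⟨hd.1, h6 hd⟩
    have h8 : m p q ≤ m p r := Set.ncard_le_ncard h7 (Set.toFinite _)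
    omega
  -- Claim 2: all values are maximal
  let N : G → Set G := fun p => {r | r ∈ D ∧ ¬ Commute p r ∧ m p r < M}
  have hN1 : ∀ p ∈ D, ∀ q ∈ D, ¬ Commute p q → m p q = M → N p = N q := by
    intro p hp q hq hpq hpqM
    apply Set.Subset.antisymm
    · rintro r ⟨hr, h1, h2⟩
      obtain ⟨h3, h4⟩ := claim1 p hp q hq r hr hpq hpqM h1 h2
      exact ⟨hr, h3, h4⟩
    · rintro r ⟨hr, h1, h2⟩
      obtain ⟨h3, h4⟩ := claim1 q hq p hp r hr (fun h => hpq h.symm)
        (by rw [hm_symm]; exact hpqM) h1 h2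
      exact ⟨hr, h3, h4⟩
  have hNconj : ∀ (g p : G), N (g * p * g⁻¹) = (fun d => g * d * g⁻¹) '' N p := by
    intro g p
    ext r
    constructor
    · rintro ⟨h1, h2, h3⟩
      refine ⟨g⁻¹ * r * g, ⟨?_, ?_, ?_⟩, by group⟩
      · have := conj_mem hD g⁻¹ h1
        simpa using this
      · intro h
        apply h2
        have := (commute_conj_iff g p (g⁻¹ * r * g)).2 h
        have e : g * (g⁻¹ * r * g) * g⁻¹ = r := by group
        rwa [e] at this
      · have e : g * (g⁻¹ * r * g) * g⁻¹ = r := by group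
        have := card_inter_conj hD g p (g⁻¹ * r * g)
        rw [e] at this
        show (Dc D p ∩ Dc D (g⁻¹ * r * g)).ncard < M
        rw [← this]
        exact h3
    · rintro ⟨r, ⟨h1, h2, h3⟩, rfl⟩
      refine ⟨conj_mem hD g h1, fun h => h2 ((commute_conj_iff g p r).1 h), ?_⟩
      show (Dc D (g * p * g⁻¹) ∩ Dc D (g * r * g⁻¹)).ncard < M
      rw [card_inter_conj hD]
      exact h3
  have hNuniv := hprim (fun p q => N p = N q) (fun _ _ => rfl) (fun _ _ _ _ h => h.symm)
    (fun _ _ _ _ _ _ h h' => h.trans h')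
    (fun g p _ q _ h => by rw [hNconj, hNconj, h])
    ⟨u, hu, v, hv, fun h => huv (h ▸ Commute.refl u), hN1 u hu v hv huv rfl⟩
  have claim2 : ∀ p ∈ D, ∀ q ∈ D, ¬ Commute p q → m p q = M := by
    intro p hp q hq hpq
    by_contra h
    have h1 : q ∈ N p := ⟨hq, hpq, lt_of_le_of_ne (hmax' p hp q hq hpq) h⟩
    have h2 : N p = N q := hNuniv p hp q hq
    rw [h2] at h1
    exact h1.2.1 (Commute.refl q)
  -- Claim 3: `Dc x ∩ Dc a` does not depend on `a`
  have claim3 : ∀ p ∈ D, ∀ q ∈ D, ∀ r ∈ D, ¬ Commute p q → ¬ Commute p r → ¬ SameCol p q r →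
      Dc D p ∩ Dc D q = Dc D p ∩ Dc D r := by
    intro p hp q hq r hr hpq hpr hcol
    obtain ⟨h1, h2⟩ := fact hD hp hq hr hpq hpr hcol
    have e1 : Dc D q ∩ Dc D r = Dc D p ∩ Dc D q := by
      have hs : Dc D q ∩ Dc D r ⊆ Dc D p ∩ Dc D q := fun d hd => ⟨h2 hd, hd.1⟩
      apply Set.eq_of_subset_of_ncard_le hs _ (Set.toFinite _)
      show m p q ≤ m q r
      rw [claim2 p hp q hq hpq, claim2 q hq r hr h1]
    have e2 : Dc D q ∩ Dc D r = Dc D p ∩ Dc D r := by
      have hs : Dc D q ∩ Dc D r ⊆ Dc D p ∩ Dc D r := fun d hd => ⟨h2 hd, hd.2⟩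
      apply Set.eq_of_subset_of_ncard_le hs _ (Set.toFinite _)
      show m p r ≤ m q r
      rw [claim2 p hp r hr hpr, claim2 q hq r hr h1]
    rw [← e1, e2]
  have claim4 : ∀ p ∈ D, ∀ q ∈ D, ∀ r ∈ D, ¬ Commute p q → ¬ Commute p r →
      Dc D p ∩ Dc D q = Dc D p ∩ Dc D r := by
    intro p hp q hq r hr hpq hpr
    by_cases hcol : SameCol p q r
    · -- some `s` with a different colour
      obtain ⟨s, hs, hps, hcs⟩ : ∃ s ∈ D, ¬ Commute p s ∧ ¬ SameCol p q s := by
        obtain ⟨g, hg⟩ := exists_conj hD hx hp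
        have key : ∀ c ∈ D, ¬ Commute x c → g * c * g⁻¹ ∈ D ∧ ¬ Commute p (g * c * g⁻¹) := by
          intro c hc hxc
          refine ⟨conj_mem hD g hc, ?_⟩
          rw [← hg]
          exact fun h => hxc ((commute_conj_iff g x c).1 h)
        by_cases h1 : SameCol p q (g * a * g⁻¹)
        · refine ⟨g * b * g⁻¹, (key b hb hxb).1, (key b hb hxb).2, fun h2 => hn' ?_⟩
          obtain ⟨k, hk, hk2⟩ := sameCol_trans (sameCol_symm h1) h2
          refine ⟨g⁻¹ * k * g, ?_, ?_⟩
          · have := (commute_conj_iff g (g⁻¹ * k * g) x).1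
            apply this
            rw [hg]
            have e : g * (g⁻¹ * k * g) * g⁻¹ = k := by group
            rw [e]
            exact hk
          · calc g⁻¹ * k * g * a * (g⁻¹ * k * g)⁻¹ = g⁻¹ * (k * (g * a * g⁻¹) * k⁻¹) * g := by
                  group
              _ = b := by rw [hk2]; group
        · exact ⟨g * a * g⁻¹, (key a ha hxa).1, (key a ha hxa).2, h1⟩
      rw [claim3 p hp q hq s hs hpq hps hcs]
      refine (claim3 p hp r hr s hs hpr hps ?_).symm
      intro h
      exact hcs (sameCol_trans hcol h)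
    · exact claim3 p hp q hq r hr hpq hpr hcol
  -- the set `Y p`
  let Y : G → Set G := fun p => {d | ∃ q ∈ D, ¬ Commute p q ∧ d ∈ Dc D p ∩ Dc D q}
  have hY : ∀ p ∈ D, ∀ q ∈ D, ¬ Commute p q → Y p = Dc D p ∩ Dc D q := by
    intro p hp q hq hpq
    apply Set.Subset.antisymm
    · rintro d ⟨r, hr, hpr, hd⟩
      rwa [claim4 p hp r hr q hq hpr hpq] at hd
    · intro d hd
      exact ⟨q, hq, hpq, hd⟩
  have hYconj : ∀ (g p : G), Y (g * p * g⁻¹) = (fun d => g * d * g⁻¹) '' Y p := by
    intro g p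
    ext r
    constructor
    · rintro ⟨q, h1, h2, h3, h4⟩
      refine ⟨g⁻¹ * r * g, ⟨g⁻¹ * q * g, ?_, ?_, ?_, ?_⟩, by group⟩
      · have := conj_mem hD g⁻¹ h1
        simpa using this
      · intro h
        apply h2
        have := (commute_conj_iff g p (g⁻¹ * q * g)).2 h
        have e : g * (g⁻¹ * q * g) * g⁻¹ = q := by group
        rwa [e] at this
      · have := mem_Dc_conj hD g⁻¹ h3
        simpa [mul_assoc] using this
      · have := mem_Dc_conj hD g⁻¹ h4
        simpa [mul_assoc] using this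
    · rintro ⟨r, ⟨q, h1, h2, h3, h4⟩, rfl⟩
      exact ⟨g * q * g⁻¹, conj_mem hD g h1, fun h => h2 ((commute_conj_iff g p q).1 h),
        mem_Dc_conj hD g h3, mem_Dc_conj hD g h4⟩
  have hYuniv := hprim (fun p q => Y p = Y q) (fun _ _ => rfl) (fun _ _ _ _ h => h.symm)
    (fun _ _ _ _ _ _ h h' => h.trans h')
    (fun g p _ q _ h => by rw [hYconj, hYconj, h])
    ⟨u, hu, v, hv, fun h => huv (h ▸ Commute.refl u), by
      rw [hY u hu v hv huv, hY v hv u hu (fun h => huv h.symm), Set.inter_comm]⟩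
  have hYempty : ∀ p ∈ D, ∀ q ∈ D, ∀ d ∈ D, ¬ Commute p q → Commute p d → Commute q d →
      False := by
    intro p hp q hq d hd hpq hpd hqd
    have h1 : d ∈ Y p := by
      refine ⟨q, hq, hpq, ⟨hd, ?_, hpd⟩, ⟨hd, ?_, hqd⟩⟩
      · rintro rfl; exact hpq hqd.symm
      · rintro rfl; exact hpq hpd
    have h2 : Y p = Y d := hYuniv p hp d hd
    rw [h2] at h1
    obtain ⟨r, hr, hdr, h3, h4⟩ := h1
    exact h3.2.1 rfl
  -- commuting is an equivalence relation
  obtain ⟨c, hc, d, hd, hcd, hcd'⟩ := hne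
  have huniv := hprim (fun p q => Commute p q) (fun p _ => Commute.refl p)
    (fun _ _ _ _ h => h.symm)
    (fun p hp q hq r hr h h' => by
      by_contra hpr
      exact hYempty p hp r hr q hq hpr h h'.symm)
    (fun g p _ q _ h => (commute_conj_iff g p q).2 h)
    ⟨c, hc, d, hd, hcd, hcd'⟩
  exact hxa (huniv x hx a ha)

omit [Finite G] in
/-- One step of a path in the non-commuting graph on `D_x`. -/
def Stp (D : Set G) (x u v : G) : Prop := v ∈ Dc D x ∧ ¬ Commute u v

/-- The connected component of `y` in the non-commuting graph on `D_x`. -/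
def Cmp (D : Set G) (x y : G) : Set G := {z | Relation.ReflTransGen (Stp D x) y z}

omit [Finite G] in
theorem cmp_subset {x y : G} (hy : y ∈ Dc D x) : Cmp D x y ⊆ Dc D x := by
  intro z hz
  rcases Relation.ReflTransGen.cases_tail hz with rfl | ⟨c, -, hc⟩
  · exact hy
  · exact hc.1

omit [Finite G] in
theorem mem_cmp_self (x y : G) : y ∈ Cmp D x y := Relation.ReflTransGen.refl

omit [Finite G] in
theorem cmp_conj (hD : IsThreeTranspositionClass D) (g x : G) {y z : G} (hz : z ∈ Cmp D x y) :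
    g * z * g⁻¹ ∈ Cmp D (g * x * g⁻¹) (g * y * g⁻¹) := by
  have hz' : Relation.ReflTransGen (Stp D x) y z := hz
  show Relation.ReflTransGen _ _ _
  induction hz' with
  | refl => exact Relation.ReflTransGen.refl
  | tail hb hc ih =>
    exact (ih hb).tail ⟨mem_Dc_conj hD g hc.1, fun h => hc.2 ((commute_conj_iff g _ _).1 h)⟩

omit [Finite G] in
theorem cmp_symm {x y z : G} (hy : y ∈ Dc D x) (hz : z ∈ Cmp D x y) : y ∈ Cmp D x z := by
  have hz' : Relation.ReflTransGen (Stp D x) y z := hz
  show Relation.ReflTransGen _ _ _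
  induction hz' with
  | refl => exact Relation.ReflTransGen.refl
  | @tail b c hb hc ih =>
    have hb' : b ∈ Dc D x := cmp_subset hy hb
    exact (Relation.ReflTransGen.single ⟨hb', fun h => hc.2 h.symm⟩).trans (ih hb)

omit [Finite G] in
/-- Members of the same component are conjugate under `⟨D_x⟩`. -/
theorem conj_of_mem_cmp (hD : IsThreeTranspositionClass D) {x y z : G} (hy : y ∈ Dc D x)
    (hz : z ∈ Cmp D x y) : ∃ g ∈ Subgroup.closure (Dc D x), g * y * g⁻¹ = z := by
  have hz' : Relation.ReflTransGen (Stp D x) y z := hz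
  induction hz' with
  | refl => exact ⟨1, one_mem _, by simp⟩
  | @tail b c hb hc ih =>
    have hb' : b ∈ Dc D x := cmp_subset hy hb
    obtain ⟨g, hg, hg2⟩ := ih hb
    refine ⟨(b * c * b) * g, mul_mem (mul_mem (mul_mem (Subgroup.subset_closure hb')
      (Subgroup.subset_closure hc.1)) (Subgroup.subset_closure hb')) hg, ?_⟩
    calc b * c * b * g * y * (b * c * b * g)⁻¹ = (b * c * b) * (g * y * g⁻¹) * (b * c * b)⁻¹ := by
          group
      _ = c := by rw [hg2, conj_braid hD hb'.1 hc.1.1 hc.2]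

/-- **Fischer**: if `G` is primitive on `D`, the members of `D \ {x}` commuting with `x` are
conjugate under the subgroup they generate. -/
theorem conj_commuting (hD : IsThreeTranspositionClass D) (hprim : IsPrim D)
    (hnc : ∃ x ∈ D, ∃ y ∈ D, ¬ Commute x y) {x a b : G} (hx : x ∈ D)
    (ha : a ∈ Dc D x) (hb : b ∈ Dc D x) :
    ∃ g ∈ Subgroup.closure (Dc D x), g * a * g⁻¹ = b := by
  classical
  suffices h : ∃ u ∈ D, ∃ v ∈ Dc D u, Dc D u ⊆ Cmp D u v by
    obtain ⟨u, hu, v, hv, huv⟩ := h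
    obtain ⟨g, hg⟩ := exists_conj hD hu hx
    have hmem : ∀ c ∈ Dc D x, c ∈ Cmp D x (g * v * g⁻¹) := by
      intro c hc
      have h1 : g⁻¹ * c * g ∈ Dc D u := by
        have := mem_Dc_conj hD g⁻¹ hc
        rw [← hg] at this
        have e : g⁻¹ * (g * u * g⁻¹) * g⁻¹⁻¹ = u := by group
        rw [e, inv_inv] at this
        exact this
      have h2 := cmp_conj hD g u (huv h1)
      rw [hg] at h2
      have e : g * (g⁻¹ * c * g) * g⁻¹ = c := by group
      rwa [e] at h2
    have hv' : g * v * g⁻¹ ∈ Dc D x := by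
      rw [← hg]; exact mem_Dc_conj hD g hv
    have h3 : b ∈ Cmp D x a :=
      Relation.ReflTransGen.trans (cmp_symm hv' (hmem a ha)) (hmem b hb)
    exact conj_of_mem_cmp hD ha h3
  -- a pair with a component of maximal size
  let S : Set (G × G) := {p | p.1 ∈ D ∧ p.2 ∈ Dc D p.1}
  have hSne : S.Nonempty := ⟨(x, a), hx, ha⟩
  obtain ⟨⟨u, v⟩, ⟨hu, hv⟩, hmax⟩ :=
    Set.exists_max_image S (fun p => (Cmp D p.1 p.2).ncard) (Set.toFinite S) hSne
  dsimp only at hu hv hmax
  refine ⟨u, hu, v, hv, ?_⟩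
  by_contra hcon
  rw [Set.not_subset] at hcon
  obtain ⟨z₀, hz₀, hz₀T⟩ := hcon
  set T := Cmp D u v with hT
  have hTu : T ⊆ Dc D u := cmp_subset hv
  have hvT : v ∈ T := mem_cmp_self u v
  -- elements commuting with all of `T`
  let Z : Set G := {w | w ∈ D ∧ w ∉ T ∧ ∀ t ∈ T, Commute w t}
  have hZT : ∀ w ∈ Z, T ⊆ Dc D w := by
    rintro w ⟨hw, hwT, hwc⟩ t ht
    refine ⟨(hTu ht).1, ?_, hwc t ht⟩
    rintro rfl
    exact hwT ht
  have hZc : ∀ w ∈ Z, Cmp D w v = T := by
    intro w hw
    have h1 : T ⊆ Cmp D w v := by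
      intro t ht
      have ht' : Relation.ReflTransGen (Stp D u) v t := ht
      show Relation.ReflTransGen _ _ _
      induction ht' with
      | refl => exact Relation.ReflTransGen.refl
      | @tail b c hb hc ih => exact (ih hb).tail ⟨hZT w hw (hb.tail hc), hc.2⟩
    have h2 := hmax (w, v) ⟨hw.1, hZT w hw hvT⟩
    exact (Set.eq_of_subset_of_ncard_le h1 h2 (Set.toFinite _)).symm
  have hDcZ : ∀ w ∈ Z, ∀ d ∈ Dc D w, d ∉ T → d ∈ Z := by
    intro w hw d hd hdT
    refine ⟨hd.1, hdT, fun t ht => ?_⟩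
    by_contra h
    apply hdT
    rw [← hZc w hw] at ht ⊢
    exact Relation.ReflTransGen.tail ht ⟨hd, fun h' => h h'.symm⟩
  have huZ : u ∈ Z := ⟨hu, fun h => (hTu h).2.1 rfl, fun t ht => (hTu ht).2.2⟩
  have hz₀Z : z₀ ∈ Z := hDcZ u huZ z₀ hz₀ hz₀T
  -- elements outside `T ∪ Z` do not commute with elements of `Z`
  have hR : ∀ r ∈ D, r ∉ T → r ∉ Z → ∀ w ∈ Z, ¬ Commute w r := by
    intro r hr hrT hrZ w hw h
    apply hrZ
    refine hDcZ w hw r ⟨hr, ?_, h⟩ hrT
    rintro rfl
    exact hrZ hw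
  -- there is one
  obtain ⟨r, hr, hrT, hrZ⟩ : ∃ r ∈ D, r ∉ T ∧ r ∉ Z := by
    by_contra hcon
    push Not at hcon
    -- `T` is invariant under conjugation by `D`
    have h1 : ∀ d ∈ D, ∀ t ∈ T, d * t * d⁻¹ ∈ T := by
      intro d hd t ht
      by_cases hdT : d ∈ T
      · by_contra h
        have h2 : d * t * d⁻¹ ∈ Z := hcon _ (conj_mem hD d (hTu ht).1) h
        have h3 : Commute (d * t * d⁻¹) d := h2.2.2 d hdT
        have h4 : Commute t d := by
          have e : d * d * d⁻¹ = d := by group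
          have := (commute_conj_iff d t d).1
          rw [e] at this
          exact this h3
        apply h
        rw [h4.symm.eq, mul_assoc, mul_inv_cancel, mul_one]
        exact ht
      · have h2 : d ∈ Z := hcon d hd hdT
        rw [(h2.2.2 t ht).eq, mul_assoc, mul_inv_cancel, mul_one]
        exact ht
    have h2 : ∀ g : G, ∀ t ∈ T, g * t * g⁻¹ ∈ T := by
      intro g
      have hg : g ∈ Subgroup.closure D := by rw [hD.2.2]; exact Subgroup.mem_top g
      induction hg using Subgroup.closure_induction'' with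
      | mem x hx => exact h1 x hx
      | inv_mem x hx => rw [inv_eq hD.1 hx]; exact h1 x hx
      | one => intro t ht; simpa using ht
      | mul x y _ _ hx hy =>
        intro t ht
        have := hx _ (hy t ht)
        have e : x * (y * t * y⁻¹) * x⁻¹ = x * y * t * (x * y)⁻¹ := by group
        rwa [e] at this
    obtain ⟨g, hg⟩ := exists_conj hD hv.1 hu
    have h3 := h2 g v hvT
    rw [hg] at h3
    exact huZ.2.1 h3
  -- `Z` is a commuting set
  have hcommpair : ∃ x ∈ D, ∃ y ∈ D, x ≠ y ∧ Commute x y :=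
    ⟨u, hu, v, hv.1, fun h => hv.2.1 h.symm, hv.2.2⟩
  have hZZ : ∀ w ∈ Z, ∀ z ∈ Z, Commute w z := by
    intro w hw z hz
    by_contra h
    have hwr := hR r hr hrT hrZ w hw
    obtain ⟨g, hg, hgz⟩ := conj_noncommuting hD hprim hcommpair hw.1 hz.1 hr h hwr
    have hgw : g * w * g⁻¹ = w := by rw [hg.eq, mul_assoc, mul_inv_cancel, mul_one]
    have h1 : Commute r (g * v * g⁻¹) := by
      rw [← hgz]
      exact (commute_conj_iff g z v).2 (hz.2.2 v hvT)
    have h2 : g * v * g⁻¹ ∈ Dc D w := by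
      have := mem_Dc_conj hD g (hZT w hw hvT)
      rwa [hgw] at this
    by_cases h3 : g * v * g⁻¹ ∈ T
    · apply hrZ
      refine ⟨hr, hrT, fun t ht => ?_⟩
      -- `t` lies in the component of `g v g⁻¹`
      have h4 : t ∈ Cmp D w (g * v * g⁻¹) := by
        rw [← hZc w hw] at h3 ht
        exact Relation.ReflTransGen.trans (cmp_symm (hZT w hw hvT) h3) ht
      have h5 : g⁻¹ * t * g ∈ T := by
        have := cmp_conj hD g⁻¹ w h4
        have e1 : g⁻¹ * w * g⁻¹⁻¹ = w := by
          rw [hg.inv_left.eq, mul_assoc, mul_inv_cancel, mul_one]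
        have e2 : g⁻¹ * (g * v * g⁻¹) * g⁻¹⁻¹ = v := by group
        rw [e1, e2, hZc w hw, inv_inv] at this
        exact this
      have h6 := hz.2.2 _ h5
      have h7 := (commute_conj_iff g z (g⁻¹ * t * g)).2 h6
      have e : g * (g⁻¹ * t * g) * g⁻¹ = t := by group
      rwa [hgz, e] at h7
    · have h4 : g * v * g⁻¹ ∈ Z := hDcZ w hw _ h2 h3
      exact hR r hr hrT hrZ _ h4 h1.symm
  -- `u` and `z₀` are twins
  have htwin : ∀ d ∈ D, Commute u d ↔ Commute z₀ d := by
    have key : ∀ w ∈ Z, ∀ w' ∈ Z, ∀ d ∈ D, Commute w d → Commute w' d := by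
      intro w hw w' hw' d hd h
      by_cases hdw : d = w
      · rw [hdw]; exact hZZ w' hw' w hw
      · by_cases hdT : d ∈ T
        · exact hw'.2.2 d hdT
        · exact hZZ w' hw' d (hDcZ w hw d ⟨hd, hdw, h⟩ hdT)
    exact fun d hd => ⟨key u huZ z₀ hz₀Z d hd, key z₀ hz₀Z u huZ d hd⟩
  have huniv := hprim (fun p q => ∀ d ∈ D, Commute p d ↔ Commute q d)
    (fun _ _ _ _ => Iff.rfl) (fun _ _ _ _ h d hd => (h d hd).symm)
    (fun _ _ _ _ _ _ h h' d hd => (h d hd).trans (h' d hd))
    (fun g p _ q _ h d hd => by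
      have h1 := h (g⁻¹ * d * g) (by simpa using conj_mem hD g⁻¹ hd)
      have e : g * (g⁻¹ * d * g) * g⁻¹ = d := by group
      rw [← commute_conj_iff g p, ← commute_conj_iff g q, e] at h1
      exact h1)
    ⟨u, hu, z₀, hz₀.1, fun h => hz₀.2.1 h.symm, htwin⟩
  obtain ⟨c, hc, d, hd, hcd⟩ := hnc
  exact hcd ((huniv c hc d hd d hd).2 (Commute.refl d))

end prim

section simple

/-- The product of two members lies in the commutator subgroup. -/
theorem mul_mem_commutator (hD : IsThreeTranspositionClass D) {x y : G} (hx : x ∈ D)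
    (hy : y ∈ D) : x * y ∈ commutator G := by
  obtain ⟨g, rfl⟩ := exists_conj hD hx hy
  have h : x * (g * x * g⁻¹) = ⁅x, g⁆ := by
    rw [commutatorElement_def, inv_eq hD.1 hx]
    simp only [mul_assoc]
  rw [h, commutator_def]
  exact Subgroup.commutator_mem_commutator (Subgroup.mem_top _) (Subgroup.mem_top _)

/-- If a normal subgroup `K` contains all products of two members, every element of `G` is a
power of `x` modulo `K`. -/
theorem mem_zpowers_of_mul_mem (hD : IsThreeTranspositionClass D) {K : Subgroup G} [K.Normal]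
    (hK : ∀ x ∈ D, ∀ y ∈ D, x * y ∈ K) {x : G} (hx : x ∈ D) (g : G) :
    (QuotientGroup.mk' K g) ∈ Subgroup.zpowers (QuotientGroup.mk' K x) := by
  have h : (⊤ : Subgroup G) ≤ (Subgroup.zpowers (QuotientGroup.mk' K x)).comap
      (QuotientGroup.mk' K) := by
    rw [← hD.2.2, Subgroup.closure_le]
    intro d hd
    have h1 : QuotientGroup.mk' K d = QuotientGroup.mk' K x := by
      show (QuotientGroup.mk d : G ⧸ K) = QuotientGroup.mk x
      rw [QuotientGroup.eq, inv_eq hD.1 hd]
      exact hK d hd x hx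
    show QuotientGroup.mk' K d ∈ Subgroup.zpowers (QuotientGroup.mk' K x)
    rw [h1]
    exact Subgroup.mem_zpowers _
  exact h (Subgroup.mem_top g)

theorem rel_key (hD : IsThreeTranspositionClass D) {R : G → G → Prop} (hr : ∀ x ∈ D, R x x)
    (hs : ∀ x ∈ D, ∀ y ∈ D, R x y → R y x)
    (ht : ∀ x ∈ D, ∀ y ∈ D, ∀ z ∈ D, R x y → R y z → R x z)
    (hc : ∀ g : G, ∀ x ∈ D, ∀ y ∈ D, R x y → R (g * x * g⁻¹) (g * y * g⁻¹))
    {x y d : G} (hx : x ∈ D) (hy : y ∈ D) (hd : d ∈ D) (hxy : R x y) :
    R (y * d * y) (x * d * x) := by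
  have hcD : ∀ u ∈ D, ∀ v ∈ D, u * v * u ∈ D := by
    intro u hu v hv
    have := conj_mem hD u hv
    rwa [inv_eq hD.1 hu] at this
  have hc' : ∀ u ∈ D, ∀ v ∈ D, ∀ w ∈ D, R v w → R (u * v * u) (u * w * u) := by
    intro u hu v hv w hw h
    have := hc u v hv w hw h
    rwa [inv_eq hD.1 hu] at this
  have hfix : ∀ u ∈ D, ∀ v ∈ D, Commute u v → u * v * u = v := by
    intro u hu v hv h
    rw [h.eq, mul_assoc, mul_self hD.1 hu, mul_one]
  -- the mixed case
  have mixed : ∀ x ∈ D, ∀ y ∈ D, R x y → Commute x d → ¬ Commute y d → R (y * d * y) d := by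
    intro x hx y hy hxy h1 h2
    have h3 : R x (y * d * y) := by
      have := hc' d hd x hx y hy hxy
      rwa [hfix d hd x hx h1.symm, ← braid hD.1 hy hd h2] at this
    have h4 : R y (y * d * y) := ht y hy x hx _ (hcD y hy d hd) (hs x hx y hy hxy) h3
    have h5 : R y d := by
      have := hc' y hy y hy _ (hcD y hy d hd) h4
      rw [hfix y hy y hy (Commute.refl y)] at this
      have e : y * (y * d * y) * y = d := by
        calc y * (y * d * y) * y = (y * y) * d * (y * y) := by simp only [mul_assoc]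
          _ = d := by rw [mul_self hD.1 hy, one_mul, mul_one]
      rwa [e] at this
    exact ht _ (hcD y hy d hd) y hy d hd (hs y hy _ (hcD y hy d hd) h4) h5
  by_cases h1 : Commute x d <;> by_cases h2 : Commute y d
  · rw [hfix x hx d hd h1, hfix y hy d hd h2]
    exact hr d hd
  · rw [hfix x hx d hd h1]
    exact mixed x hx y hy hxy h1 h2
  · rw [hfix y hy d hd h2]
    exact hs _ (hcD x hx d hd) d hd (mixed y hy x hx (hs x hx y hy hxy) h2 h1)
  · rw [braid hD.1 hx hd h1, braid hD.1 hy hd h2]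
    exact hc' d hd y hy x hx (hs x hx y hy hxy)

/-- If the commutator subgroup is simple, `G` acts primitively on `D`. -/
theorem isPrim_of_simple (hD : IsThreeTranspositionClass D)
    (hsimple : IsSimpleGroup (commutator G)) : IsPrim D := by
  rintro R hr hs ht hc ⟨x, hx, y, hy, hxy, hR⟩
  -- the kernel of the action on the classes
  let K : Subgroup G :=
    { carrier := {g | ∀ d ∈ D, R (g * d * g⁻¹) d}
      one_mem' := fun d hd => by simpa using hr d hd
      mul_mem' := by
        intro g h hg hh d hd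
        have h1 := hg (h * d * h⁻¹) (conj_mem hD h hd)
        have e : g * (h * d * h⁻¹) * g⁻¹ = g * h * d * (g * h)⁻¹ := by group
        rw [e] at h1
        exact ht _ (conj_mem hD _ hd) _ (conj_mem hD h hd) d hd h1 (hh d hd)
      inv_mem' := by
        intro g hg d hd
        have h1 := hg (g⁻¹ * d * g⁻¹⁻¹) (conj_mem hD g⁻¹ hd)
        have e : g * (g⁻¹ * d * g⁻¹⁻¹) * g⁻¹ = d := by group
        rw [e] at h1
        exact hs d hd _ (conj_mem hD g⁻¹ hd) h1 }
  have hKn : K.Normal := by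
    constructor
    intro n hn g d hd
    have h1 := hn (g⁻¹ * d * g⁻¹⁻¹) (conj_mem hD g⁻¹ hd)
    have h2 := hc g _ (conj_mem hD n (conj_mem hD g⁻¹ hd)) _ (conj_mem hD g⁻¹ hd) h1
    have e1 : g * (n * (g⁻¹ * d * g⁻¹⁻¹) * n⁻¹) * g⁻¹ = g * n * g⁻¹ * d * (g * n * g⁻¹)⁻¹ := by
      group
    have e2 : g * (g⁻¹ * d * g⁻¹⁻¹) * g⁻¹ = d := by group
    rwa [e1, e2] at h2
  have hxyK : x * y ∈ K := by
    intro d hd
    have hcD : ∀ u ∈ D, ∀ v ∈ D, u * v * u ∈ D := by
      intro u hu v hv
      have := conj_mem hD u hv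
      rwa [inv_eq hD.1 hu] at this
    have h1 := rel_key hD hr hs ht hc hx hy hd hR
    have h2 := hc x _ (hcD y hy d hd) _ (hcD x hx d hd) h1
    have e1 : x * (y * d * y) * x⁻¹ = x * y * d * (x * y)⁻¹ := by
      rw [mul_inv_rev, inv_eq hD.1 hx, inv_eq hD.1 hy]
      simp only [mul_assoc]
    have e2 : x * (x * d * x) * x⁻¹ = d := by
      calc x * (x * d * x) * x⁻¹ = (x * x) * d := by group
        _ = d := by rw [mul_self hD.1 hx, one_mul]
    rwa [e1, e2] at h2
  have hcomm : commutator G ≤ K := by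
    have hn : (K.subgroupOf (commutator G)).Normal := inferInstance
    rcases hsimple.eq_bot_or_eq_top_of_normal _ hn with h | h
    · exfalso
      have h1 : (⟨x * y, mul_mem_commutator hD hx hy⟩ : commutator G) ∈
          K.subgroupOf (commutator G) := hxyK
      rw [h, Subgroup.mem_bot] at h1
      have h2 : x * y = 1 := congrArg Subtype.val h1
      apply hxy
      rw [eq_inv_of_mul_eq_one_left h2, inv_eq hD.1 hy]
    · exact Subgroup.subgroupOf_eq_top.1 h
  have hall : ∀ z ∈ D, R z x := by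
    intro z hz
    obtain ⟨g, rfl⟩ := exists_conj hD hx hz
    obtain ⟨n, hn⟩ := mem_zpowers_of_mul_mem hD
      (fun u hu v hv => hcomm (mul_mem_commutator hD hu hv)) hx g
    have h1 : g * (x ^ n)⁻¹ ∈ K := by
      have h2 : QuotientGroup.mk' K (g * (x ^ n)⁻¹) = 1 := by
        rw [map_mul, map_inv, map_zpow, mul_inv_eq_one]
        exact hn.symm
      exact (QuotientGroup.eq_one_iff _).1 h2
    have h3 := h1 x hx
    have e : g * (x ^ n)⁻¹ * x * (g * (x ^ n)⁻¹)⁻¹ = g * x * g⁻¹ := by
      have : (x ^ n)⁻¹ * x * x ^ n = x := by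
        rw [mul_assoc, ← zpow_one_add, add_comm, zpow_add, zpow_one]
        group
      calc g * (x ^ n)⁻¹ * x * (g * (x ^ n)⁻¹)⁻¹ = g * ((x ^ n)⁻¹ * x * x ^ n) * g⁻¹ := by group
        _ = _ := by rw [this]
    rwa [e] at h3
  intro u hu v hv
  exact ht u hu x hx v hv (hall u hu) (hs v hv x hx (hall v hv))

/-- If the commutator subgroup of the finite group `G` is simple and nonabelian, there are two
different commuting members. -/
theorem exists_commuting [Finite G] (hD : IsThreeTranspositionClass D)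
    (hsimple : IsSimpleGroup (commutator G)) (hna : ∃ x y : commutator G, x * y ≠ y * x) :
    ∃ x ∈ D, ∃ y ∈ D, x ≠ y ∧ Commute x y := by
  by_contra hcon
  push Not at hcon
  have h3 : ∀ a ∈ D, ∀ b ∈ D, (a * b) ^ 3 = 1 := by
    intro a ha b hb
    by_cases hab : a = b
    · rw [hab, mul_self hD.1 hb, one_pow]
    · rcases hD.1.2 a ha b hb with h | h
      · exfalso
        apply hcon a ha b hb hab
        have h1 : a * b * (a * b) = 1 := by rw [← pow_two]; exact h
        show a * b = b * a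
        have h2 : a * b = (a * b)⁻¹ := eq_inv_of_mul_eq_one_left h1
        rw [h2, mul_inv_rev, inv_eq hD.1 ha, inv_eq hD.1 hb]
      · exact h
  have hp := HallTriple.isPGroup_closure_mul_of_normal (T := D) (fun a ha => mul_self hD.1 ha)
    (fun g a ha => conj_mem hD g ha) h3
  set E : Subgroup G := Subgroup.closure {x : G | ∃ a ∈ D, ∃ b ∈ D, x = a * b} with hE
  have hEn : E.Normal := by
    constructor
    intro n hn g
    rw [hE] at hn ⊢
    induction hn using Subgroup.closure_induction with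
    | mem x hx =>
      obtain ⟨a, ha, b, hb, rfl⟩ := hx
      exact Subgroup.subset_closure ⟨g * a * g⁻¹, conj_mem hD g ha, g * b * g⁻¹,
        conj_mem hD g hb, by group⟩
    | one => simp
    | mul x y _ _ hx hy =>
      have e : g * (x * y) * g⁻¹ = (g * x * g⁻¹) * (g * y * g⁻¹) := by group
      rw [e]; exact mul_mem hx hy
    | inv x _ hx =>
      have e : g * x⁻¹ * g⁻¹ = (g * x * g⁻¹)⁻¹ := by group
      rw [e]; exact inv_mem hx
  obtain ⟨x, hx, -⟩ := hD.2.1
  have hle : commutator G ≤ E := by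
    rw [commutator_def, Subgroup.commutator_le]
    intro g _ h _
    have hmul : ∀ x ∈ D, ∀ y ∈ D, x * y ∈ E := fun a ha b hb =>
      Subgroup.subset_closure ⟨a, ha, b, hb, rfl⟩
    obtain ⟨m, hm⟩ := mem_zpowers_of_mul_mem hD hmul hx g
    obtain ⟨n, hn⟩ := mem_zpowers_of_mul_mem hD hmul hx h
    rw [← QuotientGroup.eq_one_iff]
    show QuotientGroup.mk' E ⁅g, h⁆ = 1
    rw [map_commutatorElement, ← hm, ← hn, commutatorElement_eq_one_iff_mul_comm]
    exact ((Commute.refl _).zpow_zpow m n).eq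
  have : Fact (Nat.Prime 3) := ⟨Nat.prime_three⟩
  have hpc : IsPGroup 3 (commutator G) := hp.to_le hle
  have : Nontrivial (commutator G) := hsimple.toNontrivial
  have hcn := hpc.center_nontrivial
  rcases hsimple.eq_bot_or_eq_top_of_normal (Subgroup.center (commutator G)) inferInstance with
    h | h
  · rw [h] at hcn
    exact absurd hcn (by
      rw [not_nontrivial_iff_subsingleton]
      infer_instance)
  · obtain ⟨u, v, huv⟩ := hna
    apply huv
    have hu : u ∈ Subgroup.center (commutator G) := by rw [h]; exact Subgroup.mem_top u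
    exact (Subgroup.mem_center_iff.1 hu v).symm

/-- There are non-commuting members, if the commutator subgroup is nonabelian. -/
theorem exists_noncommuting (hD : IsThreeTranspositionClass D)
    (hna : ∃ x y : commutator G, x * y ≠ y * x) {a : G} (ha : a ∈ D) :
    ∃ c ∈ D, ¬ Commute a c := by
  by_contra hcon
  push Not at hcon
  have hall : ∀ b ∈ D, ∀ c ∈ D, Commute b c := by
    intro b hb c hc
    obtain ⟨g, rfl⟩ := exists_conj hD ha hb
    have h1 := hcon (g⁻¹ * c * g) (by simpa using conj_mem hD g⁻¹ hc)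
    have h2 := (commute_conj_iff g a (g⁻¹ * c * g)).2 h1
    have e : g * (g⁻¹ * c * g) * g⁻¹ = c := by group
    rwa [e] at h2
  have hD1 : ∀ g : G, ∀ c ∈ D, Commute g c := by
    intro g c hc
    have hg : g ∈ Subgroup.closure D := by rw [hD.2.2]; exact Subgroup.mem_top g
    induction hg using Subgroup.closure_induction with
    | mem x hx => exact hall x hx c hc
    | one => exact Commute.one_left c
    | mul x y _ _ hx hy => exact hx.mul_left hy
    | inv x _ hx => exact hx.inv_left
  have hG : ∀ g h : G, Commute g h := by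
    intro g h
    have hh : h ∈ Subgroup.closure D := by rw [hD.2.2]; exact Subgroup.mem_top h
    induction hh using Subgroup.closure_induction with
    | mem x hx => exact hD1 g x hx
    | one => exact Commute.one_right g
    | mul x y _ _ hx hy => exact hx.mul_right hy
    | inv x _ hx => exact hx.inv_right
  obtain ⟨u, v, huv⟩ := hna
  exact huv (Subtype.ext (hG u v))

end simple

end Cfsg.Agent.Lib.ThreeTransRank
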